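import Mathlib
import Cfsg.Prelude.Def_Blocks
import Cfsg.Agent.Lib.Helper01.CD3Defs
import Cfsg.Agent.Lib.Helper83.Linear
import Cfsg.Agent.Lib.Helper84.CliffordDegree

/-!
# K-CD3 pack (S4460), leaf VAN (446029)
-/

set_option autoImplicit false
set_option linter.unusedSectionVars false
set_option linter.style.haveILetI false
set_option linter.unusedVariables false

namespace Cfsg.Agent.Lib.Helper98.CD3

open Cfsg Cfsg.Agent.Lib.Helper01.CD3
open scoped ComplexConjugate

universe u

section TwelveFour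

variable {G : Type u} [Group G] [Finite G] (K N : Subgroup G) [hK : K.Normal] [hN : N.Normal]

/-- a class function of `N` fixed by all twists by linear characters of `N/K` vanishes off `K` -/
theorem vanish_off (hNK : ∀ x ∈ N, ∀ y ∈ N, x * y * x⁻¹ * y⁻¹ ∈ K) {ψ : N → ℂ}
    (hinv : ∀ μ : N → ℂ, IsIrrCharacter N μ → μ 1 = 1 → (∀ k : N, (k : G) ∈ K → μ k = 1) → ψ * μ = ψ)
    (x : N) (hx : (x : G) ∉ K) : ψ x = 0 := by
  classical
  haveI : (K.subgroupOf N).Normal := hK.subgroupOf N
  have hcomm : ∀ a b : N ⧸ K.subgroupOf N, a * b = b * a := by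
    intro a b
    induction a using QuotientGroup.induction_on with
    | H a =>
      induction b using QuotientGroup.induction_on with
      | H b =>
        rw [← QuotientGroup.mk_mul, ← QuotientGroup.mk_mul, QuotientGroup.eq, Subgroup.mem_subgroupOf]
        have h := hNK (b⁻¹ : N) (b⁻¹ : N).2 (a⁻¹ : N) (a⁻¹ : N).2
        have e : (((a * b)⁻¹ * (b * a) : N) : G) =
            ((b⁻¹ : N) : G) * ((a⁻¹ : N) : G) * ((b⁻¹ : N) : G)⁻¹ * ((a⁻¹ : N) : G)⁻¹ := by
          push_cast
          group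
        rw [e]
        exact h
  letI : CommGroup (N ⧸ K.subgroupOf N) :=
    { (inferInstance : Group (N ⧸ K.subgroupOf N)) with mul_comm := hcomm }
  have hne : (QuotientGroup.mk x : N ⧸ K.subgroupOf N) ≠ 1 := by
    intro h
    rw [QuotientGroup.eq_one_iff] at h
    exact hx (Subgroup.mem_subgroupOf.mp h)
  obtain ⟨φ, hφ⟩ := CommGroup.exists_apply_ne_one_of_hasEnoughRootsOfUnity (N ⧸ K.subgroupOf N) ℂ hne
  let μh : N →* ℂˣ := φ.comp (QuotientGroup.mk' (K.subgroupOf N))
  have hμ := Cfsg.Agent.Lib.Helper83.isIrrCharacter_of_hom μh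
  have h1 := hinv _ hμ (by simp) (by
    intro k hk
    have hk' : k ∈ K.subgroupOf N := Subgroup.mem_subgroupOf.mpr hk
    have : (QuotientGroup.mk' (K.subgroupOf N)) k = 1 := by
      rw [QuotientGroup.mk'_apply, QuotientGroup.eq_one_iff]
      exact hk'
    simp only [μh, MonoidHom.comp_apply, this, map_one, Units.val_one])
  have h2 := congrFun h1 x
  rw [Pi.mul_apply] at h2
  have h3 : ((μh x : ℂˣ) : ℂ) ≠ 1 := by
    intro h
    apply hφ
    have : μh x = 1 := Units.ext h
    exact this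
  have h4 : ψ x * (((μh x : ℂˣ) : ℂ) - 1) = 0 := by
    rw [mul_sub, mul_one, h2, sub_self]
  rcases mul_eq_zero.mp h4 with h | h
  · exact h
  · exact absurd (sub_eq_zero.mp h) h3

set_option maxHeartbeats 1600000 in
/-- 446029 K-CD3-VAN -/
theorem dvd_degree_of_twist_invariant (hKN : K ≤ N)
    (hNK : ∀ x ∈ N, ∀ y ∈ N, x * y * x⁻¹ * y⁻¹ ∈ K) {r : ℕ} (hr : r.Prime)
    (hidx : ∃ a : ℕ, 0 < a ∧ K.relIndex N = r ^ a)
    {ψ : N → ℂ} (hψ : IsIrrCharacter N ψ)
    (hinv : ∀ μ : N → ℂ, IsIrrCharacter N μ → μ 1 = 1 → (∀ k : N, (k : G) ∈ K → μ k = 1) → ψ * μ = ψ) :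
    r ∣ charDegree ψ := by
  classical
  obtain ⟨a, ha, hidx⟩ := hidx
  have hK' : (K.subgroupOf N).Normal := hK.subgroupOf N
  haveI : Fintype N := Fintype.ofFinite N
  haveI : Fintype (K.subgroupOf N) := Fintype.ofFinite _
  have hvan := vanish_off K N hNK hinv
  have hψc : IsCharacter N ψ := Cfsg.Agent.Lib.Helper83.isCharacter_of_irr hψ
  have hψcl : IsClassFunction N ψ := Cfsg.Agent.Lib.Helper83.char_isClassFunction hψc
  -- the norm of `ψ`
  have hnorm : classInner ψ ψ = 1 := by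
    have h := Cfsg.Agent.Lib.Helper83.irr_orthonormal (⟨ψ, hψ⟩ : IrrCharacter N) ⟨ψ, hψ⟩
    simpa using h
  have hcardN : (Nat.card N : ℂ) ≠ 0 := Cfsg.Agent.Lib.Helper83.card_ne_zero_complex
  have hcardK : (Nat.card (K.subgroupOf N) : ℂ) ≠ 0 := Cfsg.Agent.Lib.Helper83.card_ne_zero_complex
  have hsumN : ∑ x : N, ψ x * conj (ψ x) = (Nat.card N : ℂ) := by
    rw [Cfsg.Agent.Lib.Helper83.classInner_def] at hnorm
    field_simp at hnorm
    exact hnorm
  -- restrict the sum to `K`
  have hsumK : ∑ k : K.subgroupOf N, ψ (k : N) * conj (ψ (k : N)) = (Nat.card N : ℂ) := by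
    rw [← hsumN]
    have h1 : ∑ x : N, ψ x * conj (ψ x) =
        ∑ x ∈ Finset.univ.filter (fun x : N => x ∈ K.subgroupOf N), ψ x * conj (ψ x) := by
      symm
      apply Finset.sum_filter_of_ne
      intro x _ hx
      by_contra hxK
      apply hx
      rw [hvan x (fun h => hxK (Subgroup.mem_subgroupOf.mpr h)), zero_mul]
    rw [h1]
    symm
    exact Finset.sum_subtype (Finset.univ.filter (fun x : N => x ∈ K.subgroupOf N))
      (fun x => by simp) (fun x => ψ x * conj (ψ x))
  have hres : classInner (fun k : K.subgroupOf N => ψ (k : N)) (fun k : K.subgroupOf N => ψ (k : N)) =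
      ((r ^ a : ℕ) : ℂ) := by
    rw [Cfsg.Agent.Lib.Helper83.classInner_def, hsumK]
    have h2 : Nat.card (K.subgroupOf N) * (K.subgroupOf N).index = Nat.card N :=
      Subgroup.card_mul_index (K.subgroupOf N)
    have h3 : (K.subgroupOf N).index = r ^ a := hidx
    rw [← h2, h3]
    push_cast
    field_simp
  -- an irreducible constituent of the restriction
  have hresc : IsCharacter (K.subgroupOf N) (fun k : K.subgroupOf N => ψ (k : N)) :=
    Cfsg.Agent.Lib.Helper83.isCharacter_restrict (K.subgroupOf N) hψc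
  have hres1 : (fun k : K.subgroupOf N => ψ (k : N)) 1 ≠ 0 := by
    intro h0
    have hz := Cfsg.Agent.Lib.Helper85.char_eq_zero_of_apply_one hresc h0
    rw [hz] at hres
    rw [Cfsg.Agent.Lib.Helper83.classInner_zero_left] at hres
    have : (r ^ a : ℕ) = 0 := by exact_mod_cast hres.symm
    exact (pow_ne_zero a hr.ne_zero) this
  obtain ⟨θ, hθ, hconst⟩ := Cfsg.Agent.Lib.Helper85.exists_irr_constituent hresc hres1
  obtain ⟨m, hm⟩ := Cfsg.Agent.Lib.Helper83.classInner_char_nat hresc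
    (Cfsg.Agent.Lib.Helper83.isCharacter_of_irr hθ)
  have hm0 : m ≠ 0 := by
    rintro rfl
    apply hconst
    rw [hm, Nat.cast_zero]
  -- Clifford
  have hcl := Cfsg.Agent.Lib.Helper85.clifford_finset hK' hψ hθ hconst
  have hdeg := Cfsg.Agent.Lib.Helper84.clifford_degree hK' (⟨ψ, hψ⟩ : IrrCharacter N)
    (⟨θ, hθ⟩ : IrrCharacter (K.subgroupOf N)) m hm hm0
  have hcard := Cfsg.Agent.Lib.Helper85.card_conj_orbit_eq_index hK' θ
  set S := Finset.univ.image (fun g : N => Cfsg.Agent.Lib.Helper85.conjFun hK' θ g) with hS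
  -- the norm of the restriction via Clifford
  have hres' : classInner (fun k : K.subgroupOf N => ψ (k : N)) (fun k : K.subgroupOf N => ψ (k : N)) =
      (m : ℂ) * ((S.card : ℂ) * (m : ℂ)) := by
    have hcl' : (fun k : K.subgroupOf N => ψ (k : N)) = (m : ℂ) • ∑ θ' ∈ S, θ' := by
      rw [hm] at hcl
      exact hcl
    have h4 : classInner (fun k : K.subgroupOf N => ψ (k : N)) (fun k : K.subgroupOf N => ψ (k : N)) =
        classInner ((m : ℂ) • ∑ θ' ∈ S, θ') (fun k : K.subgroupOf N => ψ (k : N)) :=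
      congrArg (fun f => classInner f (fun k : K.subgroupOf N => ψ (k : N))) hcl'
    rw [h4, Cfsg.Agent.Lib.Helper83.classInner_smul_left, Cfsg.Agent.Lib.Helper83.classInner_sum_left]
    congr 1
    have h5 : ∀ θ' ∈ S, classInner θ' (fun k : K.subgroupOf N => ψ (k : N)) = (m : ℂ) := by
      intro θ' hθ'
      rw [hS, Finset.mem_image] at hθ'
      obtain ⟨g, -, rfl⟩ := hθ'
      rw [← Cfsg.Agent.Lib.Helper83.classInner_conj_symm,
        Cfsg.Agent.Lib.Helper85.classInner_restrict_conjFun hK' hψcl θ g, hm, Complex.conj_natCast]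
    rw [Finset.sum_congr rfl h5, Finset.sum_const, nsmul_eq_mul]
  have hnat : m * (S.card * m) = r ^ a := by
    have h6 : ((m * (S.card * m) : ℕ) : ℂ) = ((r ^ a : ℕ) : ℂ) := by
      rw [← hres, hres']
      push_cast
      ring
    exact_mod_cast h6
  have hdvd : r ∣ m * (S.card * m) := by
    rw [hnat]
    exact dvd_pow_self r ha.ne'
  rw [hdeg, ← hcard]
  rcases (Nat.Prime.dvd_mul hr).mp hdvd with h | h
  · exact Dvd.dvd.mul_right h _
  · rcases (Nat.Prime.dvd_mul hr).mp h with h' | h'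
    · exact Dvd.dvd.mul_left (Dvd.dvd.mul_right h' _) _
    · exact Dvd.dvd.mul_right h' _

end TwelveFour

end Cfsg.Agent.Lib.Helper98.CD3
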