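import Mathlib
import Cfsg.Prelude.Def_Blocks
import Cfsg.Agent.Lib.Helper70.IPDefs
import Cfsg.Agent.Lib.Helper22.BlockRegular

/-!
# K-IP-SUB (keystone 446303, pack S4463): degrees of a subgroup

`degLE_subgroup`: if every irreducible character degree of `G` is at most `b`, then the same
holds for every subgroup `H` (every `ψ ∈ Irr(H)` lies under some `χ ∈ Irr(G)`, and
`ψ(1) ≤ χ(1)`).
-/

set_option autoImplicit false

namespace Cfsg.Agent.Lib.Helper98.IP

open Cfsg Cfsg.Agent.Lib.Helper70.IP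

universe u

theorem degLE_subgroup {G : Type u} [Group G] [Finite G] (b : ℕ) (hb : DegLE G b)
    (H : Subgroup G) : DegLE H b := by
  classical
  let _ : Fintype G := Fintype.ofFinite G
  let _ : Fintype H := Fintype.ofFinite H
  intro θ
  obtain ⟨χ, hχ⟩ := Cfsg.Agent.Lib.Helper22.exists_irr_over H θ
  have hχc : IsCharacter G (χ : G → ℂ) := Cfsg.Agent.Lib.Helper83.isCharacter_of_irr χ.2
  have hres : IsCharacter H (fun h : H => (χ : G → ℂ) h) :=
    Cfsg.Agent.Lib.Helper83.isCharacter_restrict H hχc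
  have hle := Cfsg.Agent.Lib.Helper33.degree_le_of_constituent hres θ.2 hχ
  have hc1 : (χ : G → ℂ) 1 = (charDegree (χ : G → ℂ) : ℂ) :=
    (Cfsg.Agent.Lib.Helper83.charDegree_cast hχc).symm
  have hd1 : (θ : H → ℂ) 1 = (charDegree (θ : H → ℂ) : ℂ) :=
    (Cfsg.Agent.Lib.Helper83.charDegree_cast
      (Cfsg.Agent.Lib.Helper83.isCharacter_of_irr θ.2)).symm
  have h1 : ((χ : G → ℂ) ((1 : H) : G)) = (χ : G → ℂ) 1 := by
    rw [Subgroup.coe_one]
  simp only [h1] at hle
  rw [hc1, hd1] at hle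
  simp only [Complex.natCast_re] at hle
  have hle' : charDegree (θ : H → ℂ) ≤ charDegree (χ : G → ℂ) := by exact_mod_cast hle
  exact hle'.trans (hb χ)

end Cfsg.Agent.Lib.Helper98.IP
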