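import Cfsg.Agent.Lib.Helper98.Ti9

set_option autoImplicit false
set_option linter.unusedSimpArgs false
set_option linter.unusedSectionVars false
set_option linter.unusedVariables false
set_option linter.style.haveILetI false

/-!
# S5956 (helper98): generic lemmas: kernels of powers on invariant direct sums, multiset selection
-/

namespace Cfsg.Agent.Lib.Helper98.Nd

open Module Cfsg.Agent.Lib.Helper98.Elus Cfsg.Agent.Lib.Helper98.Sy

universe u
variable {F : Type u} [Field F] {V : Type u} [AddCommGroup V] [Module F V]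

theorem inv_sub_one (y : V →ₗ[F] V) (W : Submodule F V) (hW : Inv y W) : Inv (y - 1) W := by
  intro v hv
  rw [LinearMap.sub_apply, Module.End.one_apply]
  exact Submodule.sub_mem _ (hW v hv) hv

theorem inv_of_inv_sub_one (y : V →ₗ[F] V) (W : Submodule F V) (hW : Inv (y - 1) W) : Inv y W := by
  intro v hv
  have h := hW v hv
  rw [LinearMap.sub_apply, Module.End.one_apply] at h
  have : y v = (y v - v) + v := by abel
  rw [this]
  exact Submodule.add_mem _ h hv

/-- kernels of powers on an invariant direct sum -/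
theorem finrank_sup_inf_ker [FiniteDimensional F V] (N : V →ₗ[F] V) (P Q : Submodule F V)
    (hP : Inv N P) (hQ : Inv N Q) (hPQ : P ⊓ Q = ⊥) (k : ℕ) :
    finrank F ↥((P ⊔ Q) ⊓ LinearMap.ker (N ^ k)) =
      finrank F ↥(P ⊓ LinearMap.ker (N ^ k)) + finrank F ↥(Q ⊓ LinearMap.ker (N ^ k)) := by
  have h1 : (P ⊔ Q) ⊓ LinearMap.ker (N ^ k) =
      (P ⊓ LinearMap.ker (N ^ k)) ⊔ (Q ⊓ LinearMap.ker (N ^ k)) := by
    apply le_antisymm
    · intro x hx
      obtain ⟨hx1, hx2⟩ := Submodule.mem_inf.mp hx
      obtain ⟨a, ha, b, hb, rfl⟩ := Submodule.mem_sup.mp hx1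
      rw [LinearMap.mem_ker, map_add] at hx2
      have ha' : (N ^ k) a ∈ P := hP.pow_mem k a ha
      have hb' : (N ^ k) b ∈ Q := hQ.pow_mem k b hb
      have hab : (N ^ k) a = - (N ^ k) b := eq_neg_of_add_eq_zero_left hx2
      have ha0 : (N ^ k) a ∈ P ⊓ Q :=
        Submodule.mem_inf.mpr ⟨ha', by rw [hab]; exact Submodule.neg_mem _ hb'⟩
      rw [hPQ, Submodule.mem_bot] at ha0
      have hb0 : (N ^ k) b = 0 := by
        rw [ha0] at hab
        exact neg_eq_zero.mp hab.symm
      exact Submodule.add_mem_sup (Submodule.mem_inf.mpr ⟨ha, ha0⟩)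
        (Submodule.mem_inf.mpr ⟨hb, hb0⟩)
    · exact sup_le (inf_le_inf_right _ le_sup_left) (inf_le_inf_right _ le_sup_right)
  have h2 : (P ⊓ LinearMap.ker (N ^ k)) ⊓ (Q ⊓ LinearMap.ker (N ^ k)) = ⊥ := by
    rw [eq_bot_iff, ← hPQ]
    exact inf_le_inf inf_le_left inf_le_left
  have h3 := Submodule.finrank_sup_add_finrank_inf_eq (P ⊓ LinearMap.ker (N ^ k))
    (Q ⊓ LinearMap.ker (N ^ k))
  rw [h2, finrank_bot, add_zero, ← h1] at h3
  exact h3

/-- selection in a multiset: one part -/
theorem le_cons_cases (μ ν : Multiset ℕ) (a : ℕ) (h : ν ≤ a ::ₘ μ) :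
    ν ≤ μ ∨ (a ∈ ν ∧ ν.erase a ≤ μ) := by
  by_cases hc : ν.count a ≤ μ.count a
  · left
    rw [Multiset.le_iff_count]
    intro b
    by_cases hb : b = a
    · rw [hb]; exact hc
    · have := Multiset.le_iff_count.mp h b
      rwa [Multiset.count_cons_of_ne hb] at this
  · right
    push Not at hc
    have ha : a ∈ ν := by
      rw [← Multiset.count_pos]
      omega
    refine ⟨ha, ?_⟩
    have := Multiset.erase_le_erase a h
    rwa [Multiset.erase_cons_head] at this

/-- selection in a multiset: a pair of equal parts -/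
theorem le_cons_cons_cases (μ ν : Multiset ℕ) (a : ℕ) (h : ν ≤ a ::ₘ a ::ₘ μ)
    (hν : Even (ν.count a)) (hμ : Even (μ.count a)) :
    ν ≤ μ ∨ (∃ ν' : Multiset ℕ, ν = a ::ₘ a ::ₘ ν' ∧ ν' ≤ μ) := by
  by_cases hc : ν.count a ≤ μ.count a
  · left
    rw [Multiset.le_iff_count]
    intro b
    by_cases hb : b = a
    · rw [hb]; exact hc
    · have := Multiset.le_iff_count.mp h b
      rwa [Multiset.count_cons_of_ne hb, Multiset.count_cons_of_ne hb] at this
  · right
    push Not at hc
    have hle := Multiset.le_iff_count.mp h a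
    rw [Multiset.count_cons_self, Multiset.count_cons_self] at hle
    have hcount : ν.count a = μ.count a + 2 := by
      obtain ⟨x, hx⟩ := hν
      obtain ⟨y, hy⟩ := hμ
      omega
    have ha : a ∈ ν := by
      rw [← Multiset.count_pos]
      omega
    have ha' : a ∈ ν.erase a := by
      rw [← Multiset.count_pos, Multiset.count_erase_self]
      omega
    refine ⟨(ν.erase a).erase a, ?_, ?_⟩
    · rw [Multiset.cons_erase ha', Multiset.cons_erase ha]
    · have h1 := Multiset.erase_le_erase a (Multiset.erase_le_erase a h)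
      rwa [Multiset.erase_cons_head, Multiset.erase_cons_head] at h1

end Cfsg.Agent.Lib.Helper98.Nd
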