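import Cfsg.Agent.Lib.Helper98.Ti1

set_option autoImplicit false
set_option linter.unusedSimpArgs false
set_option linter.unusedSectionVars false
set_option linter.unusedVariables false
set_option linter.style.haveILetI false

/-!
# S5955 (helper98): common isotropic vectors of several quadrics (Chevalley-Warning)
-/

namespace Cfsg.Agent.Lib.Helper98.Ti

open Module Cfsg.Agent.Lib.Helper98.Elus Cfsg.Agent.Lib.Helper98.Sy

universe u

/-- Chevalley-Warning: `l` quadrics on a space of dimension `> 2 l` have a common nonzero zero -/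
theorem exists_common_isotropic {F : Type u} [Field F] [Fintype F] {V : Type u} [AddCommGroup V]
    [Module F V] [FiniteDimensional F V] (U : Submodule F V) (l : ℕ)
    (β : Fin l → LinearMap.BilinForm F V) (h : 2 * l < finrank F U) :
    ∃ u ∈ U, u ≠ 0 ∧ ∀ s, β s u u = 0 := by
  classical
  set n := finrank F U with hn
  let b : Basis (Fin n) F U := Module.finBasis F U
  let P : Fin l → MvPolynomial (Fin n) F := fun s =>
    ∑ a, ∑ c, MvPolynomial.C (β s (b a : V) (b c : V)) * MvPolynomial.X a * MvPolynomial.X c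
  have heval : ∀ (s : Fin l) (x : Fin n → F), MvPolynomial.eval x (P s) =
      β s (∑ a, x a • (b a : V)) (∑ c, x c • (b c : V)) := by
    intro s x
    simp only [P, map_sum, LinearMap.sum_apply, map_smul, LinearMap.smul_apply, smul_eq_mul,
      map_mul, MvPolynomial.eval_C, MvPolynomial.eval_X, Finset.mul_sum]
    rw [Finset.sum_comm]
    refine Finset.sum_congr rfl fun i _ => Finset.sum_congr rfl fun j _ => ?_
    ring
  have hdeg : ∀ s, (P s).totalDegree ≤ 2 := by
    intro s
    refine MvPolynomial.totalDegree_finsetSum_le fun i _ => ?_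
    refine MvPolynomial.totalDegree_finsetSum_le fun j _ => ?_
    refine (MvPolynomial.totalDegree_mul _ _).trans ?_
    have h1 := MvPolynomial.totalDegree_mul (MvPolynomial.C (β s (b i : V) (b j : V)))
      (MvPolynomial.X i : MvPolynomial (Fin n) F)
    rw [MvPolynomial.totalDegree_C, MvPolynomial.totalDegree_X] at h1
    rw [MvPolynomial.totalDegree_X]
    omega
  obtain ⟨p, hp⟩ := CharP.exists F
  have hpprime : p.Prime := CharP.char_is_prime F p
  have hsum : (∑ s, (P s).totalDegree) < Fintype.card (Fin n) := by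
    rw [Fintype.card_fin]
    calc (∑ s, (P s).totalDegree) ≤ ∑ _s : Fin l, 2 := Finset.sum_le_sum fun s _ => hdeg s
      _ = l * 2 := by rw [Finset.sum_const, Finset.card_univ, Fintype.card_fin, smul_eq_mul]
      _ < n := by omega
  have hdvd0 := char_dvd_card_solutions_of_fintype_sum_lt p hsum
  have h0 : ∀ s, MvPolynomial.eval (0 : Fin n → F) (P s) = 0 := by
    intro s
    rw [heval]
    simp
  have hdvd : p ∣ Nat.card {x : Fin n → F // ∀ s, MvPolynomial.eval x (P s) = 0} := by
    rw [Nat.card_eq_fintype_card]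
    convert hdvd0
  have hcard : 1 < Nat.card {x : Fin n → F // ∀ s, MvPolynomial.eval x (P s) = 0} := by
    have hpos : 0 < Nat.card {x : Fin n → F // ∀ s, MvPolynomial.eval x (P s) = 0} :=
      Nat.card_pos_iff.mpr ⟨⟨⟨0, h0⟩⟩, inferInstance⟩
    have h1 := Nat.le_of_dvd hpos hdvd
    have h2 := hpprime.two_le
    omega
  haveI : Nontrivial {x : Fin n → F // ∀ s, MvPolynomial.eval x (P s) = 0} :=
    Finite.one_lt_card_iff_nontrivial.mp hcard
  obtain ⟨⟨x, hx⟩, hne⟩ := exists_ne (⟨0, h0⟩ : {x : Fin n → F // ∀ s, MvPolynomial.eval x (P s) = 0})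
  have hx0 : x ≠ 0 := fun h => hne (Subtype.ext h)
  have hcoe : (∑ a, x a • (b a : V)) = ((∑ a, x a • b a : U) : V) := by
    rw [Submodule.coe_sum]
    rfl
  refine ⟨∑ a, x a • (b a : V), ?_, ?_, ?_⟩
  · rw [hcoe]
    exact Submodule.coe_mem _
  · intro hv
    apply hx0
    rw [hcoe] at hv
    have hv' : (∑ a, x a • b a : U) = 0 := Subtype.ext hv
    have h1 : b.equivFun.symm x = 0 := by rw [Basis.equivFun_symm_apply]; exact hv'
    exact b.equivFun.symm.map_eq_zero_iff.mp h1
  · intro s
    rw [← heval]
    exact hx s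

end Cfsg.Agent.Lib.Helper98.Ti
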