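import Cfsg.Agent.Lib.Helper98.Nd7

set_option autoImplicit false
set_option linter.unusedSimpArgs false
set_option linter.unusedSectionVars false
set_option linter.unusedVariables false
set_option linter.style.haveILetI false

/-!
# S5996/S5995 (helper98): reflexive forms: nondegenerate subspaces and orthogonal complements
-/

namespace Cfsg.Agent.Lib.Helper98.Os

open Module Cfsg.Agent.Lib.Helper98.Elus Cfsg.Agent.Lib.Helper98.Sy

universe u
variable {F : Type u} [Field F] {V : Type u} [AddCommGroup V] [Module F V]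
variable {B : LinearMap.BilinForm F V} (hR : B.IsRefl)
include hR

theorem refl_eq_zero {u v : V} (h : B u v = 0) : B v u = 0 := hR u v h

theorem nonDeg_iff_disjoint (W : Submodule F V) : NonDeg B W ↔ Disjoint W (B.orthogonal W) := by
  rw [Submodule.disjoint_def]
  constructor
  · intro h u hu hu'
    apply h u hu
    intro v hv
    exact refl_eq_zero hR (LinearMap.BilinForm.mem_orthogonal_iff.mp hu' v hv)
  · intro h u hu hu'
    apply h u hu
    rw [LinearMap.BilinForm.mem_orthogonal_iff]
    intro v hv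
    exact refl_eq_zero hR (hu' v hv)

theorem isCompl_orth [FiniteDimensional F V] (W : Submodule F V) (hW : NonDeg B W) :
    IsCompl W (B.orthogonal W) :=
  (LinearMap.BilinForm.isCompl_orthogonal_iff_disjoint hR).mpr
    ((nonDeg_iff_disjoint hR W).mp hW)

/-- the orthogonal complement of a nondegenerate subspace inside a nondegenerate subspace -/
theorem compl_props [FiniteDimensional F V] (W' W : Submodule F V) (hW' : NonDeg B W')
    (hle : W' ≤ W) (hW : NonDeg B W) :
    W' ⊔ (B.orthogonal W' ⊓ W) = W ∧ W' ⊓ (B.orthogonal W' ⊓ W) = ⊥ ∧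
      NonDeg B (B.orthogonal W' ⊓ W) ∧
      finrank F W' + finrank F ↥(B.orthogonal W' ⊓ W) = finrank F W := by
  have hc := isCompl_orth hR W' hW'
  have h1 : W' ⊔ (B.orthogonal W' ⊓ W) = W := by
    rw [← sup_inf_assoc_of_le _ hle, hc.sup_eq_top, top_inf_eq]
  have h2 : W' ⊓ (B.orthogonal W' ⊓ W) = ⊥ := by
    rw [eq_bot_iff, ← hc.inf_eq_bot]
    exact inf_le_inf le_rfl inf_le_left
  refine ⟨h1, h2, ?_, ?_⟩
  · intro u hu hu'
    obtain ⟨hu1, hu2⟩ := Submodule.mem_inf.mp hu
    apply hW u hu2
    intro w hw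
    rw [← h1] at hw
    obtain ⟨a, ha, b, hb, rfl⟩ := Submodule.mem_sup.mp hw
    rw [map_add, hu' b hb, add_zero]
    exact refl_eq_zero hR (LinearMap.BilinForm.mem_orthogonal_iff.mp hu1 a ha)
  · have h := Submodule.finrank_sup_add_finrank_inf_eq W' (B.orthogonal W' ⊓ W)
    rw [h1, h2, finrank_bot] at h
    omega

/-- orthogonal sum of nondegenerate subspaces -/
theorem nonDeg_sup (W1 W2 : Submodule F V) (h1 : NonDeg B W1) (h2 : NonDeg B W2)
    (h12 : Ort B W1 W2) : NonDeg B (W1 ⊔ W2) ∧ W1 ⊓ W2 = ⊥ := by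
  constructor
  · intro u hu hu'
    obtain ⟨a, ha, b, hb, rfl⟩ := Submodule.mem_sup.mp hu
    have ha0 : a = 0 := by
      apply h1 a ha
      intro x hx
      have := hu' x (Submodule.mem_sup_left hx)
      rw [map_add, LinearMap.add_apply, refl_eq_zero hR (h12 x hx b hb), add_zero] at this
      exact this
    have hb0 : b = 0 := by
      apply h2 b hb
      intro x hx
      have := hu' x (Submodule.mem_sup_right hx)
      rw [map_add, LinearMap.add_apply, h12 a ha x hx, zero_add] at this
      exact this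
    rw [ha0, hb0, add_zero]
  · rw [eq_bot_iff]
    intro u hu
    obtain ⟨hu1, hu2⟩ := Submodule.mem_inf.mp hu
    rw [Submodule.mem_bot]
    apply h1 u hu1
    intro v hv
    exact refl_eq_zero hR (h12 v hv u hu2)

theorem finrank_sup_of_ort [FiniteDimensional F V] (W1 W2 : Submodule F V) (h1 : NonDeg B W1)
    (h2 : NonDeg B W2) (h12 : Ort B W1 W2) :
    finrank F ↥(W1 ⊔ W2) = finrank F W1 + finrank F W2 := by
  have h := Submodule.finrank_sup_add_finrank_inf_eq W1 W2
  rw [(nonDeg_sup hR W1 W2 h1 h2 h12).2, finrank_bot] at h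
  omega

omit hR in
theorem nonDeg_bot : NonDeg B (⊥ : Submodule F V) := by
  intro u hu _
  exact (Submodule.mem_bot F).mp hu

end Cfsg.Agent.Lib.Helper98.Os
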