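import Cfsg.Agent.Lib.Helper98.Sy1
import Cfsg.Agent.Lib.Helper20.SympEmbed

set_option autoImplicit false
set_option linter.unusedSimpArgs false
set_option linter.unusedSectionVars false
set_option linter.unusedVariables false
set_option linter.style.haveILetI false

/-!
# S5961 (helper98): the standard alternating form, symplectic matrices as isometries, transport of
an abstract isometry to a symplectic matrix
-/

namespace Cfsg.Agent.Lib.Helper98.Sy

open Module Cfsg.Agent.Lib.Helper98.Elus

universe u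
variable {F : Type u} [Field F]

/-- the standard alternating form -/
noncomputable def stdForm (d : ℕ) : LinearMap.BilinForm F (Fin d ⊕ Fin d → F) :=
  Matrix.toBilin' (Matrix.J (Fin d) F)

theorem stdForm_apply (d : ℕ) (u v : Fin d ⊕ Fin d → F) :
    stdForm d u v = u ⬝ᵥ (Matrix.J (Fin d) F).mulVec v := Matrix.toBilin'_apply' _ u v

theorem stdForm_apply' (d : ℕ) (u v : Fin d ⊕ Fin d → F) :
    stdForm d u v = ∑ i, (u (Sum.inr i) * v (Sum.inl i) - u (Sum.inl i) * v (Sum.inr i)) := by
  rw [stdForm_apply]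
  simp [Matrix.J, dotProduct, Matrix.mulVec, Fintype.sum_sum_type, Matrix.one_apply]
  ring

theorem stdForm_alt (d : ℕ) : (stdForm (F := F) d).IsAlt := by
  intro v
  rw [stdForm_apply']
  apply Finset.sum_eq_zero
  intro i _
  ring

theorem stdForm_nonDeg (d : ℕ) : NonDeg (stdForm (F := F) d) ⊤ := by
  classical
  intro u _ h
  funext a
  rcases a with i | i
  · have := h (Pi.single (Sum.inr i) 1) Submodule.mem_top
    rw [stdForm_apply'] at this
    simpa [Pi.single_apply] using this
  · have := h (Pi.single (Sum.inl i) 1) Submodule.mem_top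
    rw [stdForm_apply'] at this
    simpa [Pi.single_apply] using this

/-- symplectic matrices are isometries of the standard form -/
theorem iso_of_mem (d : ℕ) (M : Matrix (Fin d ⊕ Fin d) (Fin d ⊕ Fin d) F)
    (hM : M ∈ Matrix.symplecticGroup (Fin d) F) : Iso (stdForm d) (Matrix.toLin' M) := by
  intro u v
  rw [stdForm_apply, stdForm_apply, Matrix.toLin'_apply, Matrix.toLin'_apply]
  rw [SymplecticGroup.mem_iff'] at hM
  rw [Matrix.mulVec_mulVec]
  conv_lhs => rw [← Matrix.vecMul_transpose M u]
  rw [← Matrix.dotProduct_mulVec, Matrix.mulVec_mulVec, ← Matrix.mul_assoc, hM]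

/-- isometries of the standard form are symplectic matrices -/
theorem mem_of_iso (d : ℕ) (g : (Fin d ⊕ Fin d → F) →ₗ[F] (Fin d ⊕ Fin d → F))
    (hg : Iso (stdForm d) g) : LinearMap.toMatrix' g ∈ Matrix.symplecticGroup (Fin d) F := by
  rw [SymplecticGroup.mem_iff']
  have h1 : (stdForm (F := F) d).comp g g = stdForm d :=
    LinearMap.ext fun u => LinearMap.ext fun v => hg u v
  have h2 := LinearMap.BilinForm.toMatrix'_comp (stdForm (F := F) d) g g
  rw [h1] at h2
  have h3 : LinearMap.BilinForm.toMatrix' (stdForm (F := F) d) = Matrix.J (Fin d) F :=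
    LinearMap.BilinForm.toMatrix'_toBilin' _
  rw [h3] at h2
  exact h2.symm

/-- transport of an abstract isometry of finite order to a symplectic matrix -/
theorem transport_symp {V' : Type u} [AddCommGroup V'] [Module F V'] [FiniteDimensional F V']
    (B' : LinearMap.BilinForm F V') (hA : B'.IsAlt) (hnd : NonDeg B' ⊤) (d : ℕ)
    (hV : finrank F V' = 2 * d) (y' : V' →ₗ[F] V') (hiso : Iso B' y') (r : ℕ) (hy : y' ^ r = 1)
    (hns : ∀ z : F, y' ≠ z • 1) :
    ∃ x : ↥(Matrix.symplecticGroup (Fin d) F),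
      ((x ^ r : ↥(Matrix.symplecticGroup (Fin d) F)) : Matrix (Fin d ⊕ Fin d) (Fin d ⊕ Fin d) F) =
        (1 : F) • (1 : Matrix (Fin d ⊕ Fin d) (Fin d ⊕ Fin d) F) ∧
      (∀ z : F, (x : Matrix (Fin d ⊕ Fin d) (Fin d ⊕ Fin d) F) ≠
        z • (1 : Matrix (Fin d ⊕ Fin d) (Fin d ⊕ Fin d) F)) ∧
      ∃ e' : (Fin d ⊕ Fin d → F) ≃ₗ[F] V',
        (∀ w, e' (Matrix.toLin' (x : Matrix (Fin d ⊕ Fin d) (Fin d ⊕ Fin d) F) w) = y' (e' w)) ∧
        ∀ u v, B' (e' u) (e' v) = stdForm d u v := by
  classical
  have hB : B'.Nondegenerate :=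
    ⟨fun u hu => hnd u Submodule.mem_top (fun v _ => hu v),
      fun v hv => hnd v Submodule.mem_top (fun u _ => alt_eq_zero hA (hv u))⟩
  obtain ⟨b, hb⟩ := Cfsg.Agent.Lib.Helper20.exists_symplectic_basis B' hA hB d hV
  set M := LinearMap.toMatrix b b y' with hM
  have hform : ∀ u v : Fin d ⊕ Fin d → F,
      B' (b.equivFun.symm u) (b.equivFun.symm v) = stdForm d u v := by
    intro u v
    rw [stdForm_apply, ← hb, LinearMap.BilinForm.dotProduct_toMatrix_mulVec]
  have hinter : ∀ w : Fin d ⊕ Fin d → F,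
      b.equivFun.symm (Matrix.toLin' M w) = y' (b.equivFun.symm w) := by
    intro w
    apply b.equivFun.injective
    rw [LinearEquiv.apply_symm_apply, Matrix.toLin'_apply]
    have h1 := LinearMap.toMatrix_mulVec_repr b b y' (b.equivFun.symm w)
    have h2 : (b.repr (b.equivFun.symm w) : Fin d ⊕ Fin d → F) = w := by
      have := b.equivFun.apply_symm_apply w
      exact this
    rw [h2] at h1
    rw [← hM] at h1
    rw [h1]
    rfl
  have hMiso : Iso (stdForm d) (Matrix.toLin' M) := by
    intro u v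
    rw [← hform, ← hform, hinter, hinter, hiso]
  have hMmem : M ∈ Matrix.symplecticGroup (Fin d) F := by
    have := mem_of_iso d (Matrix.toLin' M) hMiso
    rwa [LinearMap.toMatrix'_toLin'] at this
  refine ⟨⟨M, hMmem⟩, ?_, ?_, b.equivFun.symm, hinter, hform⟩
  · rw [SubmonoidClass.coe_pow]
    show M ^ r = _
    rw [hM, LinearMap.toMatrix_pow, hy, LinearMap.toMatrix_one, one_smul]
  · intro z hz
    change M = z • 1 at hz
    apply hns z
    apply (LinearMap.toMatrix b b).injective
    rw [← hM, hz, map_smul, LinearMap.toMatrix_one]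

end Cfsg.Agent.Lib.Helper98.Sy
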