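import Cfsg.Agent.Lib.Helper98.Sy4
import Cfsg.Agent.Lib.Helper98.Sy5
import Cfsg.Agent.Lib.Helper07.SpCardD

set_option autoImplicit false
set_option linter.unusedSimpArgs false
set_option linter.unusedSectionVars false
set_option linter.unusedVariables false
set_option linter.style.haveILetI false
set_option maxHeartbeats 1000000

/-!
# S5961 (helper98): model isometries of prime order with prescribed fixed space
-/

namespace Cfsg.Agent.Lib.Helper98.Sy

open Module Cfsg.Agent.Lib.Helper98.Elus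

universe u
variable {F : Type u} [Field F]

/-- an isometry of order `r` without fixed vectors on a space of the minimal dimension -/
theorem exists_block [Fintype F] (p f : ℕ) [Fact p.Prime] (hF : Fintype.card F = p ^ f)
    (r : ℕ) [Fact r.Prime] (hpr : p ≠ r) (hr2 : r ≠ 2) (hrF : (r : F) ≠ 0) (c' : ℕ)
    (hc : cOf (orderOf ((Fintype.card F : ℕ) : ZMod r)) = 2 * c') :
    ∃ y0 : (Fin c' ⊕ Fin c' → F) →ₗ[F] (Fin c' ⊕ Fin c' → F),
      Iso (stdForm c') y0 ∧ y0 ^ r = 1 ∧ y0 ≠ 1 ∧ ∀ w, gsum r y0 w = 0 := by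
  classical
  have hr : r.Prime := Fact.out
  set q := Fintype.card F with hq
  set i := orderOf ((q : ℕ) : ZMod r) with hi
  have hi1 : 1 ≤ i := orderOf_card_pos p f hF r hpr
  have hc1 : 1 ≤ c' := by
    have := cOf_pos i hi1
    omega
  have hic : i ∣ 2 * c' := by
    rw [← hc]
    unfold cOf
    split_ifs
    · exact dvd_rfl
    · exact Dvd.intro_left 2 rfl
  have hq1 : 1 ≤ q := Fintype.card_pos
  have hrq : r ∣ q ^ (2 * c') - 1 := by
    rw [← ZMod.natCast_eq_zero_iff, Nat.cast_sub (Nat.one_le_pow _ _ hq1)]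
    push_cast
    rw [sub_eq_zero]
    exact orderOf_dvd_iff_pow_eq_one.mp hic
  have hcard := Cfsg.Agent.Lib.Helper07.card_symplecticGroup (F := F) (q := q) rfl c'
  have hdvd : r ∣ Nat.card (Matrix.symplecticGroup (Fin c') F) := by
    rw [hcard]
    apply Dvd.dvd.mul_left
    have hmem : c' - 1 ∈ Finset.range c' := Finset.mem_range.mpr (by omega)
    have h1 : c' - 1 + 1 = c' := by omega
    have := Finset.dvd_prod_of_mem (fun s => q ^ (2 * (s + 1)) - 1) hmem
    simp only [h1] at this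
    exact dvd_trans hrq this
  obtain ⟨g, hg⟩ := exists_prime_orderOf_dvd_card' r hdvd
  have hgmem : (g : Matrix (Fin c' ⊕ Fin c') (Fin c' ⊕ Fin c') F) ∈
      Matrix.symplecticGroup (Fin c') F := g.2
  set y0 : (Fin c' ⊕ Fin c' → F) →ₗ[F] (Fin c' ⊕ Fin c' → F) :=
    Matrix.toLin' (g : Matrix (Fin c' ⊕ Fin c') (Fin c' ⊕ Fin c') F) with hy0
  have hiso : Iso (stdForm c') y0 := iso_of_mem c' _ hgmem
  have hy : y0 ^ r = 1 := by
    rw [hy0, ← Matrix.toLin'_pow, ← SubmonoidClass.coe_pow, ← hg, pow_orderOf_eq_one]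
    simp
    rfl
  have hne : y0 ≠ 1 := by
    intro h
    have h1 : (g : Matrix (Fin c' ⊕ Fin c') (Fin c' ⊕ Fin c') F) = 1 := by
      apply Matrix.toLin'.injective
      rw [← hy0, h, Matrix.toLin'_one]
      rfl
    have h2 : g = 1 := Subtype.ext h1
    rw [h2, orderOf_one] at hg
    have := hr.two_le
    omega
  refine ⟨y0, hiso, hy, hne, ?_⟩
  have hA := stdForm_alt (F := F) c'
  have hV := stdForm_nonDeg (F := F) c'
  have hnd1 : NonDeg (stdForm c') (V1 r y0) := by
    have := (nonDeg_inf_parts hA r hrF y0 hy hiso ⊤ hV (fun _ _ => Submodule.mem_top)).2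
    rwa [top_inf_eq] at this
  obtain ⟨k, hk⟩ := cOf_dvd_finrank hA hV p f hF r hpr hr2 hrF y0 hy hiso (V1 r y0) le_rfl
    (inv_V1 r y0) hnd1
  rw [← hq, ← hi, hc] at hk
  have hfin : finrank F (Fin c' ⊕ Fin c' → F) = 2 * c' := by
    rw [Module.finrank_pi, Fintype.card_sum, Fintype.card_fin]
    ring
  have hle : finrank F (V1 r y0) ≤ 2 * c' := by
    rw [← hfin]
    exact Submodule.finrank_le _
  have hk0 : k ≠ 0 := by
    rintro rfl
    rw [mul_zero] at hk
    have hbot : V1 r y0 = ⊥ := Submodule.finrank_eq_zero.mp hk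
    have htop := V0_sup_V1 r hrF y0 hy
    rw [hbot, sup_bot_eq] at htop
    apply hne
    apply LinearMap.ext
    intro w
    have : w ∈ V0 y0 := by rw [htop]; exact Submodule.mem_top
    rw [(mem_V0 y0 w).mp this]
    rfl
  have hk1 : k = 1 := by
    by_contra h
    have : 2 ≤ k := by omega
    have : 2 * c' * 2 ≤ 2 * c' * k := Nat.mul_le_mul_left _ this
    omega
  have htop : V1 r y0 = ⊤ := by
    apply Submodule.eq_top_of_finrank_eq
    rw [hk, hk1, mul_one, hfin]
  intro w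
  have : w ∈ V1 r y0 := by rw [htop]; exact Submodule.mem_top
  exact (mem_V1 r y0 w).mp this

section Model

variable (c' e' j : ℕ)

/-- the model space: `j` blocks and a trivial part -/
abbrev VS : Type u := (Fin j → (Fin c' ⊕ Fin c' → F)) × (Fin e' ⊕ Fin e' → F)

/-- the form on the model space -/
noncomputable def BS : LinearMap.BilinForm F (VS (F := F) c' e' j) :=
  ∑ s : Fin j, (stdForm (F := F) c').compl₁₂
      ((LinearMap.proj s).comp (LinearMap.fst F (Fin j → (Fin c' ⊕ Fin c' → F)) _))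
      ((LinearMap.proj s).comp (LinearMap.fst F (Fin j → (Fin c' ⊕ Fin c' → F)) _)) +
    (stdForm (F := F) e').compl₁₂ (LinearMap.snd F _ _) (LinearMap.snd F _ _)

theorem BS_apply (u v : VS (F := F) c' e' j) :
    BS c' e' j u v = ∑ s, stdForm c' (u.1 s) (v.1 s) + stdForm e' u.2 v.2 := by
  simp [BS, LinearMap.sum_apply, LinearMap.add_apply, LinearMap.compl₁₂_apply]

variable {c' e' j}

/-- the model isometry -/
noncomputable def yS (y0 : (Fin c' ⊕ Fin c' → F) →ₗ[F] (Fin c' ⊕ Fin c' → F)) :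
    VS (F := F) c' e' j →ₗ[F] VS (F := F) c' e' j :=
  LinearMap.prodMap (LinearMap.pi (fun s => y0.comp (LinearMap.proj s))) LinearMap.id

theorem yS_apply (y0 : (Fin c' ⊕ Fin c' → F) →ₗ[F] (Fin c' ⊕ Fin c' → F))
    (v : VS (F := F) c' e' j) : yS y0 v = (fun s => y0 (v.1 s), v.2) := rfl

theorem yS_pow (y0 : (Fin c' ⊕ Fin c' → F) →ₗ[F] (Fin c' ⊕ Fin c' → F)) (k : ℕ)
    (v : VS (F := F) c' e' j) : (yS y0 ^ k) v = (fun s => (y0 ^ k) (v.1 s), v.2) := by
  induction k generalizing v with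
  | zero => simp
  | succ k ih =>
    rw [pow_succ, Module.End.mul_apply, ih, yS_apply]
    ext s
    · simp [pow_succ, Module.End.mul_apply]
    · rfl

theorem gsum_yS (r : ℕ) (y0 : (Fin c' ⊕ Fin c' → F) →ₗ[F] (Fin c' ⊕ Fin c' → F))
    (hG0 : ∀ w, gsum r y0 w = 0) (v : VS (F := F) c' e' j) :
    gsum r (yS y0) v = (0, (r : F) • v.2) := by
  rw [gsum_apply]
  simp only [yS_pow]
  ext s
  · rw [Prod.fst_sum, Finset.sum_apply]
    have := hG0 (v.1 s)
    rw [gsum_apply] at this
    simp only [Pi.zero_apply]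
    exact congrFun this _
  · rw [Prod.snd_sum]
    simp [Finset.sum_const, Finset.card_range, nsmul_eq_mul]

theorem BS_alt : (BS (F := F) c' e' j).IsAlt := by
  intro v
  rw [BS_apply]
  have h1 : ∀ s, stdForm c' (v.1 s) (v.1 s) = 0 := fun s => stdForm_alt c' _
  rw [Finset.sum_eq_zero (fun s _ => h1 s), stdForm_alt e' v.2, add_zero]

theorem BS_nonDeg : NonDeg (BS (F := F) c' e' j) ⊤ := by
  classical
  intro u _ h
  have h1 : ∀ s, u.1 s = 0 := by
    intro s
    apply stdForm_nonDeg c' (u.1 s) Submodule.mem_top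
    intro w _
    have := h (Pi.single s w, 0) Submodule.mem_top
    rw [BS_apply] at this
    simp only [map_zero, add_zero] at this
    rw [Finset.sum_eq_single s] at this
    · simpa using this
    · intro s' _ hs'
      rw [Pi.single_eq_of_ne hs', map_zero]
    · intro hs
      exact absurd (Finset.mem_univ s) hs
  have h2 : u.2 = 0 := by
    apply stdForm_nonDeg e' u.2 Submodule.mem_top
    intro w _
    have := h (0, w) Submodule.mem_top
    rw [BS_apply] at this
    simpa using this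
  ext
  · rw [h1]; rfl
  · rw [h2]; rfl

theorem yS_iso (y0 : (Fin c' ⊕ Fin c' → F) →ₗ[F] (Fin c' ⊕ Fin c' → F))
    (h0 : Iso (stdForm c') y0) : Iso (BS (F := F) c' e' j) (yS y0) := by
  intro u v
  rw [BS_apply, BS_apply, yS_apply, yS_apply]
  simp only [h0 _ _]

theorem yS_pow_eq_one (r : ℕ) (y0 : (Fin c' ⊕ Fin c' → F) →ₗ[F] (Fin c' ⊕ Fin c' → F))
    (h0 : y0 ^ r = 1) : (yS (e' := e') (j := j) y0) ^ r = 1 := by
  apply LinearMap.ext
  intro v
  rw [yS_pow, h0]
  rfl

theorem finrank_VS : finrank F (VS (F := F) c' e' j) = j * (2 * c') + 2 * e' := by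
  rw [Module.finrank_prod, Module.finrank_pi_fintype, Module.finrank_pi, Module.finrank_pi]
  simp [Fintype.card_sum]
  ring

theorem finrank_range_gsum_yS (r : ℕ) (hrF : (r : F) ≠ 0)
    (y0 : (Fin c' ⊕ Fin c' → F) →ₗ[F] (Fin c' ⊕ Fin c' → F)) (hG0 : ∀ w, gsum r y0 w = 0) :
    finrank F (LinearMap.range (gsum r (yS (e' := e') (j := j) y0))) = 2 * e' := by
  have h1 : LinearMap.range (gsum r (yS (e' := e') (j := j) y0)) =
      LinearMap.range (LinearMap.inr F (Fin j → (Fin c' ⊕ Fin c' → F)) (Fin e' ⊕ Fin e' → F)) := by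
    apply le_antisymm
    · rintro _ ⟨w, rfl⟩
      rw [gsum_yS r y0 hG0]
      exact ⟨(r : F) • w.2, rfl⟩
    · rintro _ ⟨u, rfl⟩
      refine ⟨(0, (r : F)⁻¹ • u), ?_⟩
      rw [gsum_yS r y0 hG0]
      simp only [LinearMap.inr_apply, smul_smul, mul_inv_cancel₀ hrF, one_smul]
  rw [h1, LinearMap.finrank_range_of_inj LinearMap.inr_injective, Module.finrank_pi,
    Fintype.card_sum, Fintype.card_fin]
  ring

theorem finrank_ker_gsum_yS (r : ℕ) (hrF : (r : F) ≠ 0)
    (y0 : (Fin c' ⊕ Fin c' → F) →ₗ[F] (Fin c' ⊕ Fin c' → F)) (hG0 : ∀ w, gsum r y0 w = 0) :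
    finrank F (LinearMap.ker (gsum r (yS (e' := e') (j := j) y0))) = j * (2 * c') := by
  have h1 := LinearMap.finrank_range_add_finrank_ker (gsum r (yS (e' := e') (j := j) y0))
  rw [finrank_range_gsum_yS r hrF y0 hG0, finrank_VS] at h1
  omega

theorem yS_not_scalar (r : ℕ) (hr : Odd r) (hj : 1 ≤ j) (hc1 : 1 ≤ c')
    (y0 : (Fin c' ⊕ Fin c' → F) →ₗ[F] (Fin c' ⊕ Fin c' → F)) (h0 : Iso (stdForm c') y0)
    (hy0 : y0 ^ r = 1) (hne : y0 ≠ 1) : ∀ z : F, yS (e' := e') (j := j) y0 ≠ z • 1 := by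
  classical
  intro z hz
  have h1 : ∀ w, y0 w = z • w := by
    intro w
    have := congrArg (fun g => (g (Pi.single ⟨0, hj⟩ w, 0)).1 ⟨0, hj⟩) hz
    simpa [yS_apply] using this
  -- `z ^ 2 = 1`
  obtain ⟨u, hu0⟩ : ∃ u : Fin c' ⊕ Fin c' → F, u ≠ 0 := by
    refine ⟨Pi.single (Sum.inl ⟨0, hc1⟩) 1, ?_⟩
    intro h
    have := congrFun h (Sum.inl ⟨0, hc1⟩)
    simp at this
  have : ∃ v, stdForm c' u v ≠ 0 := by
    by_contra h
    push Not at h
    exact hu0 (stdForm_nonDeg c' u Submodule.mem_top (fun v _ => h v))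
  obtain ⟨v, huv⟩ := this
  have h2 := h0 u v
  rw [h1, h1] at h2
  simp only [map_smul, LinearMap.smul_apply, smul_eq_mul] at h2
  rw [← mul_assoc] at h2
  have hz2 : z * z = 1 := by
    have : (z * z - 1) * stdForm c' u v = 0 := by rw [sub_mul, h2, one_mul, sub_self]
    rcases mul_eq_zero.mp this with h | h
    · exact sub_eq_zero.mp h
    · exact absurd h huv
  -- `z ^ r = 1`
  have hk : ∀ k : ℕ, ∀ w, (y0 ^ k) w = z ^ k • w := by
    intro k
    induction k with
    | zero => intro w; simp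
    | succ k ih =>
      intro w
      rw [pow_succ', Module.End.mul_apply, ih, map_smul, h1, smul_smul, pow_succ]
  have hzr : z ^ r = 1 := by
    have h3 := hk r u
    rw [hy0, Module.End.one_apply] at h3
    have : (z ^ r - 1) • u = 0 := by rw [sub_smul, ← h3, one_smul, sub_self]
    rcases smul_eq_zero.mp this with h | h
    · exact sub_eq_zero.mp h
    · exact absurd h hu0
  obtain ⟨s, hs⟩ := hr
  have hz1 : z = 1 := by
    rw [hs, pow_succ, pow_mul, pow_two, hz2, one_pow, one_mul] at hzr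
    exact hzr
  apply hne
  apply LinearMap.ext
  intro w
  rw [h1, hz1, one_smul]
  rfl

end Model

end Cfsg.Agent.Lib.Helper98.Sy
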