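import Cfsg.Agent.Lib.Helper98.Os2

set_option autoImplicit false
set_option linter.unusedSimpArgs false
set_option linter.unusedSectionVars false
set_option linter.unusedVariables false
set_option linter.style.haveILetI false
set_option maxHeartbeats 1600000

/-!
# S5996/S5995 (helper98): the Jordan type of a unipotent isometry of a symmetric form
-/

namespace Cfsg.Agent.Lib.Helper98.Os

open Module Cfsg.Agent.Lib.Helper98.Elus Cfsg.Agent.Lib.Helper98.Sy Cfsg.Agent.Lib.Helper98.Nd

universe u
variable {F : Type u} [Field F] {V : Type u} [AddCommGroup V] [Module F V]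

theorem isRefl_of_symm {B : LinearMap.BilinForm F V} (hS : ∀ x y, B x y = B y x) : B.IsRefl := by
  intro x y h
  rw [hS]
  exact h

/-- the Jordan type on a nondegenerate invariant subspace -/
theorem exists_type_symm [FiniteDimensional F V] (hchain : ChainStatement F V)
    {B : LinearMap.BilinForm F V} (hS : ∀ x y, B x y = B y x)
    (h2 : (2 : F) ≠ 0) (p : ℕ) (hp : 0 < p) (u : V →ₗ[F] V) (hu : u ^ p = 1)
    (hNp : (u - 1) ^ p = 0) (hiso : Iso B u) :
    ∀ n : ℕ, ∀ U : Submodule F V, Inv u U → NonDeg B U → finrank F U = n →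
      ∃ μ : Multiset ℕ, (∀ a ∈ μ, 0 < a ∧ a ≤ p) ∧ (∀ a : ℕ, Even a → Even (μ.count a)) ∧
        μ.sum = n ∧
        (∀ k, finrank F ↥(U ⊓ LinearMap.ker ((u - 1) ^ k)) = (μ.map (fun a => min a k)).sum) := by
  have hR := isRefl_of_symm hS
  intro n
  induction n using Nat.strong_induction_on with
  | _ n ih =>
    intro U hU hUnd hUn
    by_cases hne : U = ⊥
    · subst hne
      rw [finrank_bot] at hUn
      refine ⟨0, by simp, by simp, by simpa using hUn, ?_⟩
      intro k
      rw [bot_inf_eq, finrank_bot]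
      simp
    obtain ⟨P, a, e, hPU, hPinv, hPnd, ha0, hap, hcase, hPd, hPk⟩ :=
      exists_piece_symm hchain hS h2 p hp u hu hNp hiso U hU hUnd hne
    obtain ⟨c1, c2, c3, c4⟩ := compl_props hR P U hPnd hPU hUnd
    set U' := B.orthogonal P ⊓ U with hU'
    have hU'inv : Inv u U' := (inv_orth p hp u hu hiso P hPinv).inf hU
    have he1 : 1 ≤ e := by rcases hcase with ⟨h, -⟩ | ⟨h, -⟩ <;> omega
    have hea : 1 ≤ e * a := Nat.mul_pos he1 ha0
    obtain ⟨μ', m1, m2, m3, m4⟩ := ih (n - e * a) (by omega) U' hU'inv c3 (by omega)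
    have hNP : Inv (u - 1) P := inv_sub_one u P hPinv
    have hNU' : Inv (u - 1) U' := inv_sub_one u U' hU'inv
    have hker : ∀ k, finrank F ↥(U ⊓ LinearMap.ker ((u - 1) ^ k)) =
        e * min a k + (μ'.map (fun a => min a k)).sum := by
      intro k
      have := finrank_sup_inf_ker (u - 1) P U' hNP hNU' c2 k
      rw [c1, hPk k, m4 k] at this
      exact this
    rcases hcase with ⟨rfl, hao⟩ | ⟨rfl, hae⟩
    · -- a single odd block
      rw [one_mul] at hPd hea
      refine ⟨a ::ₘ μ', ?_, ?_, ?_, ?_⟩
      · intro b hb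
        rcases Multiset.mem_cons.mp hb with rfl | hb
        · exact ⟨ha0, hap⟩
        · exact m1 b hb
      · intro b hb
        have hba : b ≠ a := by
          rintro rfl
          exact (Nat.not_even_iff_odd.mpr hao) hb
        rw [Multiset.count_cons_of_ne hba]
        exact m2 b hb
      · rw [Multiset.sum_cons, m3]
        omega
      · intro k
        rw [hker k, Multiset.map_cons, Multiset.sum_cons, one_mul]
    · -- a pair of even blocks
      refine ⟨a ::ₘ a ::ₘ μ', ?_, ?_, ?_, ?_⟩
      · intro b hb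
        rcases Multiset.mem_cons.mp hb with rfl | hb
        · exact ⟨ha0, hap⟩
        rcases Multiset.mem_cons.mp hb with rfl | hb
        · exact ⟨ha0, hap⟩
        · exact m1 b hb
      · intro b hb
        by_cases hba : b = a
        · subst hba
          rw [Multiset.count_cons_self, Multiset.count_cons_self]
          obtain ⟨t, ht⟩ := m2 b hb
          exact ⟨t + 1, by omega⟩
        · rw [Multiset.count_cons_of_ne hba, Multiset.count_cons_of_ne hba]
          exact m2 b hb
      · rw [Multiset.sum_cons, Multiset.sum_cons, m3]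
        omega
      · intro k
        rw [hker k, Multiset.map_cons, Multiset.sum_cons, Multiset.map_cons, Multiset.sum_cons]
        ring

/-- the type of a fixed nondegenerate subspace is a sub-multiset of the type of the space -/
theorem exists_sub_type_symm [FiniteDimensional F V] (hchain : ChainStatement F V)
    (huniq : UniqStatement) {B : LinearMap.BilinForm F V}
    (hS : ∀ x y, B x y = B y x) (hV : NonDeg B ⊤) (h2 : (2 : F) ≠ 0) (p : ℕ) (hp : 0 < p)
    (u : V →ₗ[F] V) (hu : u ^ p = 1) (hNp : (u - 1) ^ p = 0) (hiso : Iso B u) (μ : Multiset ℕ)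
    (hμ : ∀ a ∈ μ, 0 < a)
    (hker : ∀ k, finrank F (LinearMap.ker ((u - 1) ^ k)) = (μ.map (fun a => min a k)).sum)
    (W : Submodule F V) (hW : Inv u W) (hWnd : NonDeg B W) :
    ∃ ν : Multiset ℕ, ν ≤ μ ∧ ν.sum = finrank F W ∧ ∀ a : ℕ, Even a → Even (ν.count a) := by
  have hR := isRefl_of_symm hS
  obtain ⟨ν, n1, n2, n3, n4⟩ := exists_type_symm hchain hS h2 p hp u hu hNp hiso (finrank F W) W hW
    hWnd rfl
  obtain ⟨c1, c2, c3, c4⟩ := compl_props hR W ⊤ hWnd le_top hV
  set W' := B.orthogonal W ⊓ ⊤ with hW'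
  have hW'inv : Inv u W' := (inv_orth p hp u hu hiso W hW).inf (inv_top u)
  obtain ⟨ν', n1', n2', n3', n4'⟩ := exists_type_symm hchain hS h2 p hp u hu hNp hiso
    (finrank F W') W' hW'inv c3 rfl
  have hsum : ∀ k, (μ.map (fun a => min a k)).sum = ((ν + ν').map (fun a => min a k)).sum := by
    intro k
    have := finrank_sup_inf_ker (u - 1) W W' (inv_sub_one u W hW) (inv_sub_one u W' hW'inv) c2 k
    rw [c1, top_inf_eq, hker k, n4 k, n4' k] at this
    rw [this, Multiset.map_add, Multiset.sum_add]
  have heq := huniq μ (ν + ν') hμ (by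
    intro a ha
    rcases Multiset.mem_add.mp ha with h | h
    · exact (n1 a h).1
    · exact (n1' a h).1) hsum
  refine ⟨ν, ?_, n3, n2⟩
  rw [heq]
  exact Multiset.le_add_right ν ν'

end Cfsg.Agent.Lib.Helper98.Os
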