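import Cfsg.Agent.Lib.Helper98.Sy3

set_option autoImplicit false
set_option linter.unusedSimpArgs false
set_option linter.unusedSectionVars false
set_option linter.unusedVariables false
set_option linter.style.haveILetI false
set_option maxHeartbeats 1000000

/-!
# S5961 (helper98): orthogonal decompositions into nondegenerate invariant subspaces
-/

namespace Cfsg.Agent.Lib.Helper98.Sy

open Module Polynomial Cfsg.Agent.Lib.Helper98.Elus

universe u
variable {F : Type u} [Field F] {V : Type u} [AddCommGroup V] [Module F V]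

/-- the minimal dimension `c` of a nondegenerate invariant subspace -/
def cOf (i : ℕ) : ℕ := if Even i then i else 2 * i

theorem cOf_even (i : ℕ) : Even (cOf i) := by
  unfold cOf
  split_ifs with h
  · exact h
  · exact even_two_mul i

theorem cOf_pos (i : ℕ) (hi : 1 ≤ i) : 1 ≤ cOf i := by
  unfold cOf
  split_ifs <;> omega

theorem cOf_dvd (i n : ℕ) (h1 : i ∣ n) (h2 : Even n) : cOf i ∣ n := by
  unfold cOf
  split_ifs with h
  · exact h1
  · have hodd : Odd i := Nat.not_even_iff_odd.mp h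
    have hcop : Nat.Coprime 2 i := by
      rw [Nat.coprime_two_left]
      exact hodd
    exact Nat.Coprime.mul_dvd_of_dvd_of_dvd hcop (even_iff_two_dvd.mp h2) h1

section Main

variable [Fintype F] [FiniteDimensional F V] {B : LinearMap.BilinForm F V}
  (hA : B.IsAlt) (hV : NonDeg B ⊤) (p f : ℕ) [Fact p.Prime] (hF : Fintype.card F = p ^ f)
  (r : ℕ) [Fact r.Prime] (hpr : p ≠ r) (hr2 : r ≠ 2) (hrF : (r : F) ≠ 0) (y : V →ₗ[F] V)
  (hy : y ^ r = 1) (hiso : Iso B y)
include hA hV hF hpr hr2 hrF hy hiso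

theorem cOf_dvd_finrank (U : Submodule F V) (hUV1 : U ≤ V1 r y) (hU : Inv y U)
    (hUnd : NonDeg B U) : cOf (orderOf ((Fintype.card F : ℕ) : ZMod r)) ∣ finrank F U :=
  cOf_dvd _ _ (dvd_finrank_of_le_V1 r hrF y hy U hU hUV1) (even_finrank hA _ U hUnd rfl)

/-- nondegenerate invariant subspaces of every admissible dimension -/
theorem exists_nonDeg_inv (U : Submodule F V) (hUV1 : U ≤ V1 r y) (hU : Inv y U)
    (hUnd : NonDeg B U) :
    ∀ b : ℕ, cOf (orderOf ((Fintype.card F : ℕ) : ZMod r)) * b ≤ finrank F U →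
      ∃ W : Submodule F V, W ≤ U ∧ Inv y W ∧ NonDeg B W ∧
        finrank F W = cOf (orderOf ((Fintype.card F : ℕ) : ZMod r)) * b := by
  have hr : r.Prime := Fact.out
  set c := cOf (orderOf ((Fintype.card F : ℕ) : ZMod r)) with hc
  have hc1 : 1 ≤ c := cOf_pos _ (orderOf_card_pos p f hF r hpr)
  intro b
  induction b with
  | zero =>
    intro _
    exact ⟨⊥, bot_le, inv_bot y, nonDeg_bot hA, by simp⟩
  | succ b ih =>
    intro hb
    obtain ⟨W, hWU, hW, hWnd, hWd⟩ := ih (by nlinarith)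
    obtain ⟨h1, h2, h3, h4⟩ := compl_props hA W U hWnd hWU hUnd
    have hU'inv : Inv y (B.orthogonal W ⊓ U) := (inv_orth r hr.pos y hy hiso W hW).inf hU
    have hU'ne : B.orthogonal W ⊓ U ≠ ⊥ := by
      intro h
      rw [h, finrank_bot] at h4
      rw [Nat.mul_succ] at hb
      omega
    obtain ⟨Z, hZle, hZ, hZnd, hZd⟩ := exists_min_nonDeg hA hV p f hF r hpr hr2 hrF y hy hiso
      (B.orthogonal W ⊓ U) (le_trans inf_le_right hUV1) hU'inv h3 hU'ne
    have hort : Ort B W Z := by
      intro a ha z hz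
      exact LinearMap.BilinForm.mem_orthogonal_iff.mp (Submodule.mem_inf.mp (hZle hz)).1 a ha
    refine ⟨W ⊔ Z, sup_le hWU (le_trans hZle inf_le_right), hW.sup hZ,
      (nonDeg_sup hA W Z hWnd hZnd hort).1, ?_⟩
    rw [finrank_sup_of_ort hA W Z hWnd hZnd hort, hWd, hZd, Nat.mul_succ]
    rfl

/-- orthogonal decomposition of an invariant nondegenerate subspace into invariant nondegenerate
subspaces of dimension `a` -/
theorem symp_decomp (a : ℕ) (hae : Even a) :
    ∀ t' : ℕ, ∀ U : Submodule F V, Inv y U → NonDeg B U → finrank F U = t' * a →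
      finrank F ↥(U ⊓ V1 r y) ≤ t' * (cOf (orderOf ((Fintype.card F : ℕ) : ZMod r)) *
        (a / cOf (orderOf ((Fintype.card F : ℕ) : ZMod r)))) →
      ∃ D : Fin t' → Submodule F V, (∀ j, Inv y (D j)) ∧ (∀ j, NonDeg B (D j)) ∧
        (∀ j, finrank F (D j) = a) ∧ iSupIndep D ∧ iSup D = U ∧
        (∀ j j', j ≠ j' → Ort B (D j) (D j')) := by
  have hr : r.Prime := Fact.out
  set c := cOf (orderOf ((Fintype.card F : ℕ) : ZMod r)) with hc
  have hc1 : 1 ≤ c := cOf_pos _ (orderOf_card_pos p f hF r hpr)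
  have hce : Even c := cOf_even _
  intro t'
  induction t' with
  | zero =>
    intro U hU _ hUd _
    rw [Nat.zero_mul] at hUd
    have hU0 : U = ⊥ := Submodule.finrank_eq_zero.mp hUd
    refine ⟨fun j => j.elim0, fun j => j.elim0, fun j => j.elim0, fun j => j.elim0,
      iSupIndep_subsingleton _, ?_, fun j => j.elim0⟩
    rw [hU0]
    simp
  | succ t' ih =>
    intro U hU hUnd hUd hU1
    have hInv1 : Inv y (U ⊓ V1 r y) := hU.inf (inv_V1 r y)
    obtain ⟨hnd0, hnd1⟩ := nonDeg_inf_parts hA r hrF y hy hiso U hUnd hU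
    obtain ⟨j', hj'⟩ := cOf_dvd_finrank hA hV p f hF r hpr hr2 hrF y hy hiso (U ⊓ V1 r y)
      inf_le_right hInv1 hnd1
    rw [← hc] at hj'
    have hsum := finrank_inf_V0_add_inf_V1 r hrF y hy U hU
    set A := a / c with hAdef
    have hX : c * A ≤ a := Nat.mul_div_le a c
    set b := min A j' with hb
    have hbA : b ≤ A := min_le_left _ _
    have hbj : b ≤ j' := min_le_right _ _
    have hZX : c * b ≤ c * A := Nat.mul_le_mul_left c hbA
    have hZY : c * b ≤ c * j' := Nat.mul_le_mul_left c hbj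
    have hZ : c * b = c * A ∨ c * b = c * j' := by
      rcases le_total A j' with h | h
      · left; rw [hb, min_eq_left h]
      · right; rw [hb, min_eq_right h]
    have hmul1 : (t' + 1) * (c * A) = t' * (c * A) + c * A := by ring
    have hmul2 : (t' + 1) * a = t' * a + a := by ring
    have hmul3 : t' * (c * A) ≤ t' * a := Nat.mul_le_mul_left t' hX
    rw [hmul1] at hU1
    rw [hmul2] at hUd
    -- the `V1`-part
    obtain ⟨W1, hW1V, hW1, hW1nd, hW1d⟩ := exists_nonDeg_inv hA hV p f hF r hpr hr2 hrF y hy hiso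
      (U ⊓ V1 r y) inf_le_right hInv1 hnd1 b (by rw [← hc, hj']; exact hZY)
    rw [← hc] at hW1d
    -- the `V0`-part
    have hev : Even (a - c * b) := by
      obtain ⟨a', ha'⟩ := hae
      obtain ⟨c', hc'⟩ := hce
      refine ⟨a' - c' * b, ?_⟩
      have : c * b = c' * b + c' * b := by rw [hc']; ring
      omega
    obtain ⟨s, hs⟩ := hev
    obtain ⟨W0, hW0V, hW0nd, hW0d⟩ := exists_nonDeg_of_even hA (U ⊓ V0 y) hnd0 s (by omega)
    have hW0 : Inv y W0 := by
      intro w hw
      have := (mem_V0 y w).mp (Submodule.mem_inf.mp (hW0V hw)).2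
      rw [this]
      exact hw
    have hort01 : Ort B W0 W1 := by
      intro u hu v hv
      exact ort_V0_V1 r hrF y hy hiso u (Submodule.mem_inf.mp (hW0V hu)).2 v
        (Submodule.mem_inf.mp (hW1V hv)).2
    have hWnd : NonDeg B (W0 ⊔ W1) := (nonDeg_sup hA W0 W1 hW0nd hW1nd hort01).1
    have hWd : finrank F ↥(W0 ⊔ W1) = a := by
      rw [finrank_sup_of_ort hA W0 W1 hW0nd hW1nd hort01, hW0d, hW1d]
      omega
    have hWU : W0 ⊔ W1 ≤ U := sup_le (le_trans hW0V inf_le_left) (le_trans hW1V inf_le_left)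
    have hWinv : Inv y (W0 ⊔ W1) := hW0.sup hW1
    obtain ⟨hsupU, hinfU, hU'nd, hU'd⟩ := compl_props hA (W0 ⊔ W1) U hWnd hWU hUnd
    have hU'inv : Inv y (B.orthogonal (W0 ⊔ W1) ⊓ U) :=
      (inv_orth r hr.pos y hy hiso _ hWinv).inf hU
    have hU'1 : finrank F ↥((B.orthogonal (W0 ⊔ W1) ⊓ U) ⊓ V1 r y) ≤ t' * (c * A) := by
      have h := Submodule.finrank_sup_add_finrank_inf_eq W1
        ((B.orthogonal (W0 ⊔ W1) ⊓ U) ⊓ V1 r y)
      have hdis : W1 ⊓ ((B.orthogonal (W0 ⊔ W1) ⊓ U) ⊓ V1 r y) = ⊥ := by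
        rw [eq_bot_iff, ← hinfU]
        exact inf_le_inf le_sup_right inf_le_left
      have hle : W1 ⊔ ((B.orthogonal (W0 ⊔ W1) ⊓ U) ⊓ V1 r y) ≤ U ⊓ V1 r y :=
        sup_le hW1V (inf_le_inf inf_le_right le_rfl)
      have h2 := Submodule.finrank_mono hle
      rw [hdis, finrank_bot, hW1d] at h
      omega
    obtain ⟨D', hD'inv, hD'nd, hD'd, hD'ind, hD'sup, hD'ort⟩ :=
      ih (B.orthogonal (W0 ⊔ W1) ⊓ U) hU'inv hU'nd (by omega) hU'1
    have hD'le : ∀ j, D' j ≤ B.orthogonal (W0 ⊔ W1) ⊓ U := fun j => hD'sup ▸ le_iSup D' j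
    refine ⟨Fin.cons (W0 ⊔ W1) D', ?_, ?_, ?_, ?_, ?_, ?_⟩
    · intro j
      cases j using Fin.cases with
      | zero => rw [Fin.cons_zero]; exact hWinv
      | succ j => rw [Fin.cons_succ]; exact hD'inv j
    · intro j
      cases j using Fin.cases with
      | zero => rw [Fin.cons_zero]; exact hWnd
      | succ j => rw [Fin.cons_succ]; exact hD'nd j
    · intro j
      cases j using Fin.cases with
      | zero => rw [Fin.cons_zero]; exact hWd
      | succ j => rw [Fin.cons_succ]; exact hD'd j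
    · apply indep_cons _ _ hD'ind
      have : (⨆ i, D' i) = B.orthogonal (W0 ⊔ W1) ⊓ U := hD'sup
      rw [this, disjoint_iff, hinfU]
    · have : (⨆ i, D' i) = B.orthogonal (W0 ⊔ W1) ⊓ U := hD'sup
      show (⨆ i, (Fin.cons (W0 ⊔ W1) D' : Fin (t' + 1) → Submodule F V) i) = U
      rw [iSup_cons, this, hsupU]
    · have hW_D' : ∀ j, Ort B (W0 ⊔ W1) (D' j) := by
        intro j u hu v hv
        exact LinearMap.BilinForm.mem_orthogonal_iff.mp (Submodule.mem_inf.mp (hD'le j hv)).1 u hu
      intro j j' hjj'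
      cases j using Fin.cases with
      | zero =>
        cases j' using Fin.cases with
        | zero => exact absurd rfl hjj'
        | succ j' =>
          rw [Fin.cons_zero, Fin.cons_succ]
          exact hW_D' j'
      | succ j =>
        cases j' using Fin.cases with
        | zero =>
          rw [Fin.cons_zero, Fin.cons_succ]
          exact Ort.symm hA (hW_D' j)
        | succ j' =>
          rw [Fin.cons_succ, Fin.cons_succ]
          exact hD'ort j j' (fun h => hjj' (by rw [h]))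

end Main

end Cfsg.Agent.Lib.Helper98.Sy
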