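import Cfsg.Agent.Lib.Helper98.Os3
import Cfsg.Agent.Lib.Helper98.Sy4

set_option autoImplicit false
set_option linter.unusedSimpArgs false
set_option linter.unusedSectionVars false
set_option linter.unusedVariables false
set_option linter.style.haveILetI false
set_option maxHeartbeats 1000000

/-!
# S5992 / S5993 (helper98): plus type of a subspace for a symmetric form, basic facts
-/

namespace Cfsg.Agent.Lib.Helper98.Oh

open Module Cfsg.Agent.Lib.Helper98.Elus Cfsg.Agent.Lib.Helper98.Sy

universe u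
variable {F : Type u} [Field F] {V : Type u} [AddCommGroup V] [Module F V]

/-- `W` contains a totally isotropic (`B u u = 0`) subspace of half its dimension -/
def Plus (B : LinearMap.BilinForm F V) (W : Submodule F V) : Prop :=
  ∃ U : Submodule F V, U ≤ W ∧ (∀ u ∈ U, B u u = 0) ∧ 2 * finrank F U = finrank F W

theorem plus_bot (B : LinearMap.BilinForm F V) : Plus B (⊥ : Submodule F V) :=
  ⟨⊥, le_rfl, fun u hu => by rw [(Submodule.mem_bot F).mp hu]; simp, by simp⟩

/-- the parts of a nondegenerate invariant subspace (reflexive forms) -/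
theorem nonDeg_inf_parts_refl {B : LinearMap.BilinForm F V} (hR : B.IsRefl) (r : ℕ)
    (hrF : (r : F) ≠ 0) (y : V →ₗ[F] V) (hy : y ^ r = 1)
    (hiso : Iso B y) (W : Submodule F V) (hW : NonDeg B W) (hWinv : Inv y W) :
    NonDeg B (W ⊓ V0 y) ∧ NonDeg B (W ⊓ V1 r y) := by
  have hort := ort_V0_V1 r hrF y hy hiso
  have hdec : ∀ w ∈ W, ∃ a ∈ W ⊓ V0 y, ∃ b ∈ W ⊓ V1 r y, w = a + b := by
    intro w hw
    have hG : gsum r y w ∈ W := gsum_mem_of_inv r y W hWinv w hw
    refine ⟨(r : F)⁻¹ • gsum r y w, ?_, w - (r : F)⁻¹ • gsum r y w, ?_, by abel⟩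
    · exact Submodule.smul_mem _ _ (Submodule.mem_inf.mpr ⟨hG, gsum_mem_V0 r y hy w⟩)
    · refine Submodule.mem_inf.mpr ⟨Submodule.sub_mem _ hw (Submodule.smul_mem _ _ hG), ?_⟩
      rw [mem_V1, map_sub, map_smul]
      have := congrArg (fun g => g w) (gsum_mul_gsum r y hy)
      simp only [Module.End.mul_apply, LinearMap.smul_apply] at this
      rw [this, smul_smul, inv_mul_cancel₀ hrF, one_smul, sub_self]
  constructor
  · intro u hu hu'
    apply hW u (Submodule.mem_inf.mp hu).1
    intro w hw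
    obtain ⟨a, ha, b, hb, rfl⟩ := hdec w hw
    rw [map_add, hu' a ha, zero_add]
    exact hort u (Submodule.mem_inf.mp hu).2 b (Submodule.mem_inf.mp hb).2
  · intro u hu hu'
    apply hW u (Submodule.mem_inf.mp hu).1
    intro w hw
    obtain ⟨a, ha, b, hb, rfl⟩ := hdec w hw
    rw [map_add, hu' b hb, add_zero]
    exact hR _ _ (hort a (Submodule.mem_inf.mp ha).2 u (Submodule.mem_inf.mp hu).2)

end Cfsg.Agent.Lib.Helper98.Oh
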