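import Cfsg.Agent.Lib.Helper98.Elus18

set_option autoImplicit false
set_option linter.unusedSimpArgs false
set_option linter.unusedSectionVars false
set_option linter.unusedVariables false
set_option linter.style.haveILetI false

/-!
# S5958 (helper98): numerical data of a permuted decomposition, the model element, transport
-/

namespace Cfsg.Agent.Lib.Helper98.Elus

open Module Polynomial

universe u
variable {F : Type u} [Field F]

section Model

variable {P : F[X]} (e t : ℕ) (r : ℕ) [Fact r.Prime] (hP : P ∣ cyclotomic r F)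
include hP

theorem finrank_range_gsum_yB (hrF : (r : F) ≠ 0) :
    finrank F (LinearMap.range (gsum r (yB P e t))) = e := by
  have h1 : LinearMap.range (gsum r (yB P e t)) =
      LinearMap.range (LinearMap.inl F (Fin e → F) (Fin t → AdjoinRoot P)) := by
    apply le_antisymm
    · rintro _ ⟨w, rfl⟩
      rw [gsum_yB e t r hP]
      exact ⟨(r : F) • w.1, rfl⟩
    · rintro _ ⟨u, rfl⟩
      refine ⟨((r : F)⁻¹ • u, 0), ?_⟩
      rw [gsum_yB e t r hP]
      simp only [LinearMap.inl_apply, smul_smul, mul_inv_cancel₀ hrF, one_smul]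
  rw [h1, LinearMap.finrank_range_of_inj LinearMap.inl_injective, Module.finrank_fin_fun]

theorem finrank_ker_gsum_yB [Fintype F] (hrF : (r : F) ≠ 0) (hPm : P.Monic) :
    finrank F (LinearMap.ker (gsum r (yB P e t))) = t * P.natDegree := by
  haveI := hPm.finite_adjoinRoot
  have h1 := LinearMap.finrank_range_add_finrank_ker (gsum r (yB P e t))
  rw [finrank_range_gsum_yB e t r hP hrF, finrank_VB e t r hP hPm] at h1
  omega

end Model

/-- transport of an abstract endomorphism to a matrix in `SL_n`, with an intertwining linear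
equivalence -/
theorem transport2 {V : Type*} [AddCommGroup V] [Module F V] [FiniteDimensional F V] (n : ℕ)
    (hV : finrank F V = n) (f : V →ₗ[F] V) (hdet : LinearMap.det f = 1) (r : ℕ) (c : F)
    (hf : f ^ r = c • 1) (hns : ∀ d : F, f ≠ d • 1) :
    ∃ x : Matrix.SpecialLinearGroup (Fin n) F,
      ((x ^ r : Matrix.SpecialLinearGroup (Fin n) F) : Matrix (Fin n) (Fin n) F) =
          c • (1 : Matrix (Fin n) (Fin n) F) ∧
      (∀ d : F, (x : Matrix (Fin n) (Fin n) F) ≠ d • (1 : Matrix (Fin n) (Fin n) F)) ∧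
      ∃ e : (Fin n → F) ≃ₗ[F] V, ∀ w : Fin n → F,
        e (Matrix.toLin' (x : Matrix (Fin n) (Fin n) F) w) = f (e w) := by
  classical
  have e : V ≃ₗ[F] (Fin n → F) := LinearEquiv.ofFinrankEq _ _ (by rw [hV, Module.finrank_fin_fun])
  set g : (Fin n → F) →ₗ[F] (Fin n → F) := e.conj f with hg
  set M : Matrix (Fin n) (Fin n) F := LinearMap.toMatrix' g with hM
  have hMdet : M.det = 1 := by
    rw [hM, LinearMap.det_toMatrix', hg, LinearEquiv.conj_apply, LinearMap.comp_assoc,
      LinearMap.det_conj]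
    exact hdet
  have hgM : Matrix.toLin' M = g := by rw [hM, Matrix.toLin'_toMatrix']
  have hgk : ∀ k : ℕ, ∀ v, (g ^ k) v = e ((f ^ k) (e.symm v)) := by
    intro k
    induction k with
    | zero => intro v; simp
    | succ k ih =>
      intro v
      rw [pow_succ', Module.End.mul_apply, ih, pow_succ', Module.End.mul_apply, hg]
      simp [LinearEquiv.conj_apply]
  have hgr : g ^ r = c • 1 := by
    apply LinearMap.ext
    intro v
    rw [hgk, hf]
    simp
  let x : Matrix.SpecialLinearGroup (Fin n) F := ⟨M, hMdet⟩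
  refine ⟨x, ?_, ?_, e.symm, ?_⟩
  · rw [Matrix.SpecialLinearGroup.coe_pow]
    show M ^ r = _
    apply Matrix.toLin'.injective
    rw [Matrix.toLin'_pow, hgM, hgr]
    ext v
    simp
  · intro d hd
    change M = d • 1 at hd
    apply hns d
    have h1 : g = d • 1 := by
      rw [← hgM, hd]
      ext v
      simp
    have h2 : f = e.symm.conj g := by
      rw [hg]
      ext v
      simp [LinearEquiv.conj_apply]
    rw [h2, h1]
    ext v
    simp [LinearEquiv.conj_apply]
  · intro w
    change e.symm (Matrix.toLin' M w) = f (e.symm w)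
    rw [hgM, hg]
    simp [LinearEquiv.conj_apply]

/-- numerical data of a decomposition permuted by an element of order `r` -/
theorem perm_dec_numeric [Fintype F] {V : Type u} [AddCommGroup V] [Module F V]
    [FiniteDimensional F V] (r : ℕ) [Fact r.Prime] (hrF : (r : F) ≠ 0) (y : V →ₗ[F] V)
    (hy : y ^ r = 1) {t a : ℕ} (D : Fin t → Submodule F V) (hDd : ∀ j, finrank F (D j) = a)
    (ha : 1 ≤ a) (hind : iSupIndep D) (hsup : iSup D = ⊤) (σ : Equiv.Perm (Fin t))
    (hσ : ∀ j, (D j).map y = D (σ j)) :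
    (∀ s, σ s ≠ s → a ≤ finrank F (LinearMap.range (gsum r y)) ∧
      r * a ≤ finrank F (LinearMap.ker (gsum r y)) + a) ∧
    ((∀ s, σ s = s) → ∃ gs : Fin t → ℕ,
      (∀ s, ∃ b, a = gs s + orderOf ((Fintype.card F : ℕ) : ZMod r) * b) ∧
      ∑ s, gs s = finrank F (LinearMap.range (gsum r y))) ∧
    (a = 1 → 2 ≤ orderOf ((Fintype.card F : ℕ) : ZMod r) →
      t ≤ r * finrank F (LinearMap.range (gsum r y))) := by
  have hdata : ∀ s, σ s = s → ∃ b, a = finrank F ↥((D s).map (gsum r y)) +
      orderOf ((Fintype.card F : ℕ) : ZMod r) * b := by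
    intro s hs
    have hinv : Inv y (D s) := by
      intro v hv
      have : y v ∈ (D s).map y := ⟨v, hv, rfl⟩
      rwa [hσ, hs] at this
    have h1 := finrank_eq_inf_ker_add_map (gsum r y) (D s)
    have hInv : Inv y (D s ⊓ V1 r y) := hinv.inf (inv_V1 r y)
    obtain ⟨b, hb⟩ := dvd_finrank_of_le_V1 r hrF y hy _ hInv inf_le_right
    refine ⟨b, ?_⟩
    rw [← hDd s, h1, ← hb, add_comm]
    rfl
  refine ⟨?_, ?_, ?_⟩
  · intro s hs
    exact ⟨pd_le_range r y hy D hDd ha hind σ hσ s hs, pd_cycle_bound r y hy D hDd ha hind σ hσ s hs⟩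
  · intro hfix
    refine ⟨fun s => finrank F ↥((D s).map (gsum r y)), fun s => hdata s (hfix s), ?_⟩
    exact pd_sum_fixed r y hy D hind σ hσ hsup hfix
  · intro ha1 hc2
    subst ha1
    apply pd_lines_bound r y hy D hind σ hσ hDd
    intro i hi d hd hG
    obtain ⟨b, hb⟩ := hdata i hi
    have hb0 : b = 0 := by
      by_contra h
      have h1 : 1 ≤ b := Nat.one_le_iff_ne_zero.mpr h
      have := Nat.mul_le_mul_left (orderOf ((Fintype.card F : ℕ) : ZMod r)) h1
      omega
    rw [hb0, mul_zero, add_zero] at hb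
    have h1 := finrank_eq_inf_ker_add_map (gsum r y) (D i)
    rw [hDd i, ← hb] at h1
    have h2 : D i ⊓ LinearMap.ker (gsum r y) = ⊥ := by
      apply Submodule.finrank_eq_zero.mp
      omega
    have h3 : d ∈ D i ⊓ LinearMap.ker (gsum r y) :=
      Submodule.mem_inf.mpr ⟨hd, LinearMap.mem_ker.mpr hG⟩
    rw [h2, Submodule.mem_bot] at h3
    exact h3

end Cfsg.Agent.Lib.Helper98.Elus
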