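import Cfsg.Agent.Lib.Helper98.Sy7
import Cfsg.Agent.Lib.Helper98.Elus20

set_option autoImplicit false
set_option linter.unusedSimpArgs false
set_option linter.unusedSectionVars false
set_option linter.unusedVariables false
set_option linter.style.haveILetI false
set_option maxHeartbeats 1000000

/-!
# S5961 (helper98): numerical data of an orthogonal decomposition permuted by an isometry of
prime order
-/

namespace Cfsg.Agent.Lib.Helper98.Sy

open Module Cfsg.Agent.Lib.Helper98.Elus

universe u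
variable {F : Type u} [Field F] {V : Type u} [AddCommGroup V] [Module F V]

theorem perm_dec_numeric_symp [Fintype F] [FiniteDimensional F V] {B : LinearMap.BilinForm F V}
    (hA : B.IsAlt) (hV : NonDeg B ⊤) (p f : ℕ) [Fact p.Prime] (hF : Fintype.card F = p ^ f)
    (r : ℕ) [Fact r.Prime] (hpr : p ≠ r) (hr2 : r ≠ 2) (hrF : (r : F) ≠ 0) (y : V →ₗ[F] V)
    (hy : y ^ r = 1) (hiso : Iso B y) {t a : ℕ} (D : Fin t → Submodule F V)
    (hDd : ∀ j, finrank F (D j) = a) (ha : 1 ≤ a) (hind : iSupIndep D) (hsup : iSup D = ⊤)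
    (hnd : ∀ j, NonDeg B (D j)) (σ : Equiv.Perm (Fin t)) (hσ : ∀ j, (D j).map y = D (σ j)) :
    (∀ s, σ s ≠ s → a ≤ finrank F (LinearMap.range (gsum r y)) ∧
      r * a ≤ finrank F (LinearMap.ker (gsum r y)) + a) ∧
    ((∀ s, σ s = s) → ∃ gs : Fin t → ℕ,
      (∀ s, ∃ b, a = gs s + cOf (orderOf ((Fintype.card F : ℕ) : ZMod r)) * b) ∧
      ∑ s, gs s = finrank F (LinearMap.range (gsum r y))) := by
  refine ⟨?_, ?_⟩
  · intro s hs
    exact ⟨pd_le_range r y hy D hDd ha hind σ hσ s hs, pd_cycle_bound r y hy D hDd ha hind σ hσ s hs⟩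
  · intro hfix
    refine ⟨fun s => finrank F ↥((D s).map (gsum r y)), ?_, ?_⟩
    · intro s
      have hinv : Inv y (D s) := by
        intro v hv
        have : y v ∈ (D s).map y := ⟨v, hv, rfl⟩
        rwa [hσ, hfix] at this
      have h1 := finrank_eq_inf_ker_add_map (gsum r y) (D s)
      have hInv : Inv y (D s ⊓ V1 r y) := hinv.inf (inv_V1 r y)
      have hnd1 := (nonDeg_inf_parts hA r hrF y hy hiso (D s) (hnd s) hinv).2
      obtain ⟨b, hb⟩ := cOf_dvd_finrank hA hV p f hF r hpr hr2 hrF y hy hiso _ inf_le_right hInv hnd1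
      refine ⟨b, ?_⟩
      rw [← hDd s, h1, ← hb, add_comm]
      rfl
    · exact pd_sum_fixed r y hy D hind σ hσ hsup hfix

end Cfsg.Agent.Lib.Helper98.Sy
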