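import Cfsg.Agent.Lib.Helper98.Ti5
import Cfsg.Agent.Lib.Helper49.PrimeOrderGL

set_option autoImplicit false
set_option linter.unusedSimpArgs false
set_option linter.unusedSectionVars false
set_option linter.unusedVariables false
set_option linter.style.haveILetI false
set_option maxHeartbeats 800000

/-!
# S5955 (helper98): multiplicity-free isometries have no totally isotropic invariant subspaces
inside `V1` (case `i` even)
-/

namespace Cfsg.Agent.Lib.Helper98.Ti

open Module Polynomial Cfsg.Agent.Lib.Helper98.Elus Cfsg.Agent.Lib.Helper98.Sy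

universe u
variable {F : Type u} [Field F] {V : Type u} [AddCommGroup V] [Module F V]
variable {B : LinearMap.BilinForm F V}

/-- general bound: the `V0`-part of a totally isotropic invariant subspace -/
theorem ti_bound_V0 [Fintype F] [FiniteDimensional F V] (hA : B.IsAlt) (hV : NonDeg B ⊤)
    (r : ℕ) [Fact r.Prime] (hrF : (r : F) ≠ 0) (y : V →ₗ[F] V) (hy : y ^ r = 1) (hiso : Iso B y)
    (W : Submodule F V) (hW : Inv y W) (hWti : Ort B W W) :
    2 * (finrank F W % orderOf ((Fintype.card F : ℕ) : ZMod r)) ≤ finrank F (V0 y) := by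
  obtain ⟨hnd0, hnd1⟩ := nonDeg_inf_parts hA r hrF y hy hiso ⊤ hV (fun _ _ => Submodule.mem_top)
  rw [top_inf_eq] at hnd0 hnd1
  have hsum := finrank_inf_V0_add_inf_V1 r hrF y hy W hW
  obtain ⟨c, hc⟩ := dvd_finrank_of_le_V1 r hrF y hy (W ⊓ V1 r y) (hW.inf (inv_V1 r y)) inf_le_right
  have h1 := two_mul_finrank_le hA hV (V0 y) (W ⊓ V0 y) hnd0 inf_le_right
    (fun a ha b hb => hWti a (Submodule.mem_inf.mp ha).1 b (Submodule.mem_inf.mp hb).1)
  have h2 : finrank F W % orderOf ((Fintype.card F : ℕ) : ZMod r) =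
      finrank F ↥(W ⊓ V0 y) % orderOf ((Fintype.card F : ℕ) : ZMod r) := by
    rw [← hsum, hc, Nat.add_mul_mod_self_left]
  have h3 := Nat.mod_le (finrank F ↥(W ⊓ V0 y)) (orderOf ((Fintype.card F : ℕ) : ZMod r))
  omega

theorem finrank_le_of_ti_mult_free [Fintype F] [FiniteDimensional F V] (hA : B.IsAlt)
    (hV : NonDeg B ⊤) (p f : ℕ) [Fact p.Prime] (hF : Fintype.card F = p ^ f)
    (r : ℕ) [Fact r.Prime] (hpr : p ≠ r) (hr2 : r ≠ 2) (hrF : (r : F) ≠ 0) (y : V →ₗ[F] V)
    (hy : y ^ r = 1) (hiso : Iso B y)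
    (heven : Even (orderOf ((Fintype.card F : ℕ) : ZMod r))) (PP : Finset F[X])
    (D : Cfsg.Agent.Lib.Helper49.FactorData F r (orderOf ((Fintype.card F : ℕ) : ZMod r)) PP)
    (a : PP → ℕ) (ha : ∀ P, a P ≤ 1)
    (hk : ∀ P : PP, Cfsg.Agent.Lib.Helper49.kdim y (P : F[X]) =
      orderOf ((Fintype.card F : ℕ) : ZMod r) * a P) :
    finrank F (V1 r y) = orderOf ((Fintype.card F : ℕ) : ZMod r) * ∑ P, a P ∧
    ∀ W : Submodule F V, Inv y W → Ort B W W → 2 * finrank F W ≤ finrank F (V0 y) := by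
  classical
  have hr : r.Prime := Fact.out
  set i := orderOf ((Fintype.card F : ℕ) : ZMod r) with hi
  have hi1 : 1 ≤ i := orderOf_card_pos p f hF r hpr
  have hci : cOf i = i := by
    unfold cOf
    rw [if_pos heven]
  obtain ⟨hnd0, hnd1⟩ := nonDeg_inf_parts hA r hrF y hy hiso ⊤ hV (fun _ _ => Submodule.mem_top)
  rw [top_inf_eq] at hnd0 hnd1
  -- dimensions
  have hV0 : V0 y = LinearMap.ker (aeval y (X - 1 : F[X])) := by
    unfold V0
    simp
  have hφ : aeval y (X ^ r - 1 : F[X]) = 0 := by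
    rw [map_sub, map_pow, aeval_X, hy, map_one, sub_self]
  have hsumk := D.finrank_eq y hφ
  have hk0 : Cfsg.Agent.Lib.Helper49.kdim y (X - 1 : F[X]) = finrank F (V0 y) := by
    unfold Cfsg.Agent.Lib.Helper49.kdim
    rw [hV0]
  have hsum := finrank_V0_add_V1 r hrF y hy
  have hV1d : finrank F (V1 r y) = i * ∑ P, a P := by
    have h1 : ∑ P ∈ PP, Cfsg.Agent.Lib.Helper49.kdim y P = ∑ P : PP, i * a P := by
      rw [← Finset.sum_coe_sort PP (fun P => Cfsg.Agent.Lib.Helper49.kdim y P)]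
      exact Finset.sum_congr rfl (fun P _ => hk P)
    rw [Finset.mul_sum, ← h1]
    omega
  refine ⟨hV1d, ?_⟩
  set o := ∑ P, a P with ho
  -- every nonzero invariant subspace of `V1` contains a full kernel
  have hBC : ∀ W' : Submodule F V, W' ≤ V1 r y → Inv y W' → W' ≠ ⊥ →
      ∃ P : PP, a P = 1 ∧ LinearMap.ker (aeval y (P : F[X])) ≤ W' := by
    intro W' hW'V1 hW'inv hW'ne
    obtain ⟨u, hu, hu0⟩ := Submodule.exists_mem_ne_zero_of_ne_bot hW'ne
    have hprod0 : aeval y (PP.toList.prod) u = 0 := by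
      have h1 : PP.toList.prod = ∏ P ∈ PP, P := Finset.prod_toList PP
      rw [h1]
      have h2 : aeval y ((X - 1 : F[X]) * ∏ P ∈ PP, P) = 0 := by rw [D.prod, hφ]
      have h3 : aeval y (∏ P ∈ PP, P) u ∈ V0 y := by
        rw [hV0, LinearMap.mem_ker, ← Module.End.mul_apply, ← map_mul, h2, LinearMap.zero_apply]
      have h4 : aeval y (∏ P ∈ PP, P) u ∈ V1 r y := (inv_V1 r y).aeval_mem _ u (hW'V1 hu)
      have h5 : aeval y (∏ P ∈ PP, P) u ∈ V0 y ⊓ V1 r y := Submodule.mem_inf.mpr ⟨h3, h4⟩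
      rw [V0_inf_V1 r hrF y] at h5
      exact (Submodule.mem_bot F).mp h5
    obtain ⟨g, hg, v, hv, hv0, hgv⟩ := exists_step y W' ⊥ hW'inv PP.toList u hu
      (fun h => hu0 ((Submodule.mem_bot F).mp h))
      (by rw [hprod0]; exact Submodule.zero_mem _)
    have hgPP : g ∈ PP := Finset.mem_toList.mp hg
    set K : Submodule F V := W' ⊓ LinearMap.ker (aeval y g) with hK
    have hKinv : Inv y K := hW'inv.inf (inv_ker_aeval y g)
    have hvK : v ∈ K :=
      Submodule.mem_inf.mpr ⟨hv, LinearMap.mem_ker.mpr ((Submodule.mem_bot F).mp hgv)⟩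
    have hKne : K ≠ ⊥ := by
      intro h
      rw [h] at hvK
      exact hv0 hvK
    obtain ⟨c, hc⟩ := dvd_finrank_of_le_V1 r hrF y hy K hKinv (le_trans inf_le_left hW'V1)
    rw [← hi] at hc
    have hpos : 0 < finrank F K :=
      Nat.pos_of_ne_zero (fun h => hKne (Submodule.finrank_eq_zero.mp h))
    have hKi : i ≤ finrank F K := by
      rw [hc]
      rcases Nat.eq_zero_or_pos c with h0 | h0
      · rw [h0, mul_zero] at hc
        omega
      · exact Nat.le_mul_of_pos_right _ h0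
    have hkerd : finrank F (LinearMap.ker (aeval y g)) = i * a ⟨g, hgPP⟩ := hk ⟨g, hgPP⟩
    have hKle : finrank F K ≤ finrank F (LinearMap.ker (aeval y g)) :=
      Submodule.finrank_mono inf_le_right
    have ha1 : a ⟨g, hgPP⟩ = 1 := by
      have := ha ⟨g, hgPP⟩
      rcases Nat.eq_zero_or_pos (a ⟨g, hgPP⟩) with h0 | h0
      · rw [h0, mul_zero] at hkerd
        omega
      · omega
    refine ⟨⟨g, hgPP⟩, ha1, ?_⟩
    rw [ha1, mul_one] at hkerd
    have hKeq : K = LinearMap.ker (aeval y g) :=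
      Submodule.eq_of_le_of_finrank_le inf_le_right (by omega)
    rw [← hKeq]
    exact inf_le_left
  -- decomposition of `V1`
  obtain ⟨Dc, hDinv, hDnd, hDd, hDind, hDsup, hDort⟩ :=
    symp_decomp hA hV p f hF r hpr hr2 hrF y hy hiso (cOf i) (cOf_even i) o (V1 r y)
      (inv_V1 r y) hnd1 (by rw [hci, hV1d, mul_comm])
      (by
        rw [← hi, hci, Nat.div_self (by omega), mul_one, mul_comm, ← hV1d]
        exact Submodule.finrank_mono inf_le_left)
  have hDV : ∀ s, Dc s ≤ V1 r y := fun s => by rw [← hDsup]; exact le_iSup Dc s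
  have hDne : ∀ s, Dc s ≠ ⊥ := by
    intro s h
    have := hDd s
    rw [h, finrank_bot, hci] at this
    omega
  have hsel : ∀ s, ∃ P : PP, a P = 1 ∧ LinearMap.ker (aeval y (P : F[X])) = Dc s := by
    intro s
    obtain ⟨P, hP1, hPle⟩ := hBC (Dc s) (hDV s) (hDinv s) (hDne s)
    refine ⟨P, hP1, ?_⟩
    apply Submodule.eq_of_le_of_finrank_le hPle
    have := hk P
    unfold Cfsg.Agent.Lib.Helper49.kdim at this
    rw [this, hP1, mul_one, hDd s, hci]
  choose Pf hPf1 hPfk using hsel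
  have hinj : Function.Injective (fun s => (⟨Pf s, hPf1 s⟩ : {P : PP // a P = 1})) := by
    intro s s' h
    have h1 : Pf s = Pf s' := congrArg Subtype.val h
    by_contra hne
    have hdis := hDind.pairwiseDisjoint hne
    have h2 : Dc s = Dc s' := by rw [← hPfk s, ← hPfk s', h1]
    rw [Function.onFun, ← h2, disjoint_self] at hdis
    exact hDne s hdis
  have hcardT : Fintype.card {P : PP // a P = 1} = o := by
    rw [Fintype.card_subtype, ho, Finset.card_filter]
    apply Finset.sum_congr rfl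
    intro P _
    have := ha P
    by_cases h1 : a P = 1
    · rw [if_pos h1, h1]
    · rw [if_neg h1]
      omega
  have hbij : Function.Bijective (fun s => (⟨Pf s, hPf1 s⟩ : {P : PP // a P = 1})) := by
    rw [Fintype.bijective_iff_injective_and_card]
    exact ⟨hinj, by rw [Fintype.card_fin, hcardT]⟩
  -- the conclusion
  intro W hW hWti
  have hW1 : W ⊓ V1 r y = ⊥ := by
    by_contra hne
    obtain ⟨P, hP1, hPle⟩ := hBC (W ⊓ V1 r y) inf_le_right (hW.inf (inv_V1 r y)) hne
    obtain ⟨s, hs⟩ := hbij.2 ⟨P, hP1⟩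
    have hPs : Pf s = P := congrArg Subtype.val hs
    have hDW : Dc s ≤ W := by
      rw [← hPfk s, hPs]
      exact le_trans hPle inf_le_left
    apply hDne s
    rw [eq_bot_iff]
    intro u hu
    rw [Submodule.mem_bot]
    apply hDnd s u hu
    intro v hv
    exact hWti u (hDW hu) v (hDW hv)
  have hsumW := finrank_inf_V0_add_inf_V1 r hrF y hy W hW
  rw [hW1, finrank_bot, add_zero] at hsumW
  have h1 := two_mul_finrank_le hA hV (V0 y) (W ⊓ V0 y) hnd0 inf_le_right
    (fun a ha b hb => hWti a (Submodule.mem_inf.mp ha).1 b (Submodule.mem_inf.mp hb).1)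
  omega

end Cfsg.Agent.Lib.Helper98.Ti
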