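import Cfsg.Agent.Lib.Helper98.Elus15

set_option autoImplicit false
set_option linter.unusedSimpArgs false
set_option linter.unusedSectionVars false
set_option linter.unusedVariables false
set_option linter.style.haveILetI false

/-!
# S5961 (helper98): alternating forms: nondegenerate subspaces, orthogonal complements,
isometries of prime order
-/

namespace Cfsg.Agent.Lib.Helper98.Sy

open Module Cfsg.Agent.Lib.Helper98.Elus

universe u
variable {F : Type u} [Field F] {V : Type u} [AddCommGroup V] [Module F V]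

/-- nondegenerate subspace -/
def NonDeg (B : LinearMap.BilinForm F V) (W : Submodule F V) : Prop :=
  ∀ u ∈ W, (∀ v ∈ W, B u v = 0) → u = 0

/-- orthogonal subspaces -/
def Ort (B : LinearMap.BilinForm F V) (W W' : Submodule F V) : Prop :=
  ∀ u ∈ W, ∀ v ∈ W', B u v = 0

/-- isometries -/
def Iso (B : LinearMap.BilinForm F V) (y : V →ₗ[F] V) : Prop := ∀ u v, B (y u) (y v) = B u v

variable {B : LinearMap.BilinForm F V} (hA : B.IsAlt)
include hA

theorem alt_swap (u v : V) : B u v = - B v u := (hA.neg_eq v u).symm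

theorem alt_eq_zero {u v : V} (h : B u v = 0) : B v u = 0 := by
  rw [alt_swap hA, h, neg_zero]

theorem Ort.symm {W W' : Submodule F V} (h : Ort B W W') : Ort B W' W :=
  fun u hu v hv => alt_eq_zero hA (h v hv u hu)

theorem nonDeg_iff_disjoint (W : Submodule F V) : NonDeg B W ↔ Disjoint W (B.orthogonal W) := by
  rw [Submodule.disjoint_def]
  constructor
  · intro h u hu hu'
    apply h u hu
    intro v hv
    exact alt_eq_zero hA (LinearMap.BilinForm.mem_orthogonal_iff.mp hu' v hv)
  · intro h u hu hu'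
    apply h u hu
    rw [LinearMap.BilinForm.mem_orthogonal_iff]
    intro v hv
    exact alt_eq_zero hA (hu' v hv)

theorem ort_iff_le_orthogonal (W W' : Submodule F V) : Ort B W W' ↔ W' ≤ B.orthogonal W := by
  constructor
  · intro h v hv
    rw [LinearMap.BilinForm.mem_orthogonal_iff]
    intro n hn
    exact h n hn v hv
  · intro h u hu v hv
    exact LinearMap.BilinForm.mem_orthogonal_iff.mp (h hv) u hu

theorem isCompl_orth [FiniteDimensional F V] (W : Submodule F V) (hW : NonDeg B W) :
    IsCompl W (B.orthogonal W) :=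
  (LinearMap.BilinForm.isCompl_orthogonal_iff_disjoint hA.isRefl).mpr
    ((nonDeg_iff_disjoint hA W).mp hW)

/-- the orthogonal complement of a nondegenerate subspace inside a nondegenerate subspace -/
theorem compl_props [FiniteDimensional F V] (W' W : Submodule F V) (hW' : NonDeg B W')
    (hle : W' ≤ W) (hW : NonDeg B W) :
    W' ⊔ (B.orthogonal W' ⊓ W) = W ∧ W' ⊓ (B.orthogonal W' ⊓ W) = ⊥ ∧
      NonDeg B (B.orthogonal W' ⊓ W) ∧
      finrank F W' + finrank F ↥(B.orthogonal W' ⊓ W) = finrank F W := by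
  have hc := isCompl_orth hA W' hW'
  have h1 : W' ⊔ (B.orthogonal W' ⊓ W) = W := by
    rw [← sup_inf_assoc_of_le _ hle, hc.sup_eq_top, top_inf_eq]
  have h2 : W' ⊓ (B.orthogonal W' ⊓ W) = ⊥ := by
    rw [eq_bot_iff, ← hc.inf_eq_bot]
    exact inf_le_inf le_rfl inf_le_left
  refine ⟨h1, h2, ?_, ?_⟩
  · intro u hu hu'
    obtain ⟨hu1, hu2⟩ := Submodule.mem_inf.mp hu
    apply hW u hu2
    intro w hw
    rw [← h1] at hw
    obtain ⟨a, ha, b, hb, rfl⟩ := Submodule.mem_sup.mp hw
    rw [map_add, hu' b hb, add_zero]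
    exact alt_eq_zero hA (LinearMap.BilinForm.mem_orthogonal_iff.mp hu1 a ha)
  · have h := Submodule.finrank_sup_add_finrank_inf_eq W' (B.orthogonal W' ⊓ W)
    rw [h1, h2, finrank_bot] at h
    omega

/-- orthogonal sum of nondegenerate subspaces -/
theorem nonDeg_sup (W1 W2 : Submodule F V) (h1 : NonDeg B W1) (h2 : NonDeg B W2)
    (h12 : Ort B W1 W2) : NonDeg B (W1 ⊔ W2) ∧ W1 ⊓ W2 = ⊥ := by
  constructor
  · intro u hu hu'
    obtain ⟨a, ha, b, hb, rfl⟩ := Submodule.mem_sup.mp hu
    have ha0 : a = 0 := by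
      apply h1 a ha
      intro x hx
      have := hu' x (Submodule.mem_sup_left hx)
      rw [map_add, LinearMap.add_apply, alt_eq_zero hA (h12 x hx b hb), add_zero] at this
      exact this
    have hb0 : b = 0 := by
      apply h2 b hb
      intro x hx
      have := hu' x (Submodule.mem_sup_right hx)
      rw [map_add, LinearMap.add_apply, h12 a ha x hx, zero_add] at this
      exact this
    rw [ha0, hb0, add_zero]
  · rw [eq_bot_iff]
    intro u hu
    obtain ⟨hu1, hu2⟩ := Submodule.mem_inf.mp hu
    rw [Submodule.mem_bot]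
    apply h1 u hu1
    intro v hv
    exact alt_eq_zero hA (h12 v hv u hu2)

theorem finrank_sup_of_ort [FiniteDimensional F V] (W1 W2 : Submodule F V) (h1 : NonDeg B W1)
    (h2 : NonDeg B W2) (h12 : Ort B W1 W2) :
    finrank F ↥(W1 ⊔ W2) = finrank F W1 + finrank F W2 := by
  have h := Submodule.finrank_sup_add_finrank_inf_eq W1 W2
  rw [(nonDeg_sup hA W1 W2 h1 h2 h12).2, finrank_bot] at h
  omega

/-- a hyperbolic plane inside a nonzero nondegenerate subspace -/
theorem exists_plane [FiniteDimensional F V] (W : Submodule F V) (hW : NonDeg B W) (hne : W ≠ ⊥) :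
    ∃ H : Submodule F V, H ≤ W ∧ NonDeg B H ∧ finrank F H = 2 := by
  obtain ⟨u, hu, hu0⟩ := Submodule.exists_mem_ne_zero_of_ne_bot hne
  have : ∃ v ∈ W, B u v ≠ 0 := by
    by_contra h
    push Not at h
    exact hu0 (hW u hu h)
  obtain ⟨v, hv, huv⟩ := this
  have huu : B u u = 0 := hA u
  have hvv : B v v = 0 := hA v
  have hvu : B v u ≠ 0 := by
    rw [alt_swap hA]
    exact neg_ne_zero.mpr huv
  have hli : LinearIndependent F ![u, v] := by
    rw [LinearIndependent.pair_iff]
    intro s t hst
    have h1 := congrArg (fun w => B u w) hst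
    simp only [map_add, map_smul, huu, smul_eq_mul, mul_zero, zero_add, map_zero] at h1
    have ht : t = 0 := by
      rcases mul_eq_zero.mp h1 with h | h
      · exact h
      · exact absurd h huv
    have h2 := congrArg (fun w => B v w) hst
    simp only [map_add, map_smul, hvv, smul_eq_mul, mul_zero, add_zero, map_zero] at h2
    have hs : s = 0 := by
      rcases mul_eq_zero.mp h2 with h | h
      · exact h
      · exact absurd h hvu
    exact ⟨hs, ht⟩
  refine ⟨Submodule.span F (Set.range ![u, v]), ?_, ?_, ?_⟩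
  · apply Submodule.span_le.mpr
    rintro _ ⟨k, rfl⟩
    fin_cases k
    · exact hu
    · exact hv
  · intro w hw hw'
    have hrange : Set.range ![u, v] = {u, v} := by
      ext x
      simp only [Matrix.range_cons, Matrix.range_empty, Set.union_empty, Set.mem_union,
        Set.mem_singleton_iff, Set.mem_insert_iff]
    rw [hrange] at hw hw'
    obtain ⟨a, b, rfl⟩ := Submodule.mem_span_pair.mp hw
    have h1 := hw' u (Submodule.subset_span (by simp))
    have h2 := hw' v (Submodule.subset_span (by simp))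
    simp only [LinearMap.add_apply, LinearMap.smul_apply, map_add, map_smul, huu, hvv, smul_eq_mul,
      mul_zero, zero_add, add_zero] at h1 h2
    have hb : b = 0 := by
      rcases mul_eq_zero.mp h1 with h | h
      · exact h
      · exact absurd h hvu
    have ha : a = 0 := by
      rcases mul_eq_zero.mp h2 with h | h
      · exact h
      · exact absurd h huv
    rw [ha, hb, zero_smul, zero_smul, add_zero]
  · rw [finrank_span_eq_card hli]
    simp

theorem nonDeg_bot : NonDeg B (⊥ : Submodule F V) := by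
  intro u hu _
  exact (Submodule.mem_bot F).mp hu

/-- nondegenerate subspaces of every even dimension -/
theorem exists_nonDeg_of_even [FiniteDimensional F V] (W : Submodule F V) (hW : NonDeg B W) :
    ∀ s : ℕ, 2 * s ≤ finrank F W →
      ∃ W' : Submodule F V, W' ≤ W ∧ NonDeg B W' ∧ finrank F W' = 2 * s := by
  intro s
  induction s with
  | zero =>
    intro _
    exact ⟨⊥, bot_le, nonDeg_bot hA, by simp⟩
  | succ s ih =>
    intro hs
    obtain ⟨W', hW'W, hW', hW'd⟩ := ih (by omega)
    obtain ⟨h1, h2, h3, h4⟩ := compl_props hA W' W hW' hW'W hW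
    have hne : B.orthogonal W' ⊓ W ≠ ⊥ := by
      intro h
      rw [h, finrank_bot] at h4
      omega
    obtain ⟨H, hHle, hH, hHd⟩ := exists_plane hA _ h3 hne
    have hort : Ort B W' H := by
      intro a ha b hb
      exact LinearMap.BilinForm.mem_orthogonal_iff.mp (Submodule.mem_inf.mp (hHle hb)).1 a ha
    refine ⟨W' ⊔ H, sup_le hW'W (le_trans hHle inf_le_right), (nonDeg_sup hA W' H hW' hH hort).1, ?_⟩
    rw [finrank_sup_of_ort hA W' H hW' hH hort, hW'd, hHd]
    ring

/-- nondegenerate subspaces have even dimension -/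
theorem even_finrank [FiniteDimensional F V] :
    ∀ (n : ℕ) (W : Submodule F V), NonDeg B W → finrank F W = n → Even n := by
  intro n
  induction n using Nat.strong_induction_on with
  | _ n ih =>
    intro W hW hn
    by_cases hne : W = ⊥
    · rw [hne, finrank_bot] at hn
      rw [← hn]
      exact Even.zero
    · obtain ⟨H, hHle, hH, hHd⟩ := exists_plane hA W hW hne
      obtain ⟨h1, h2, h3, h4⟩ := compl_props hA H W hH hHle hW
      have := ih (n - 2) (by omega) _ h3 (by omega)
      obtain ⟨k, hk⟩ := this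
      exact ⟨k + 1, by omega⟩

omit hA in
/-- invertibility of an element of finite order -/
theorem pow_pred_mul (r : ℕ) (hr : 0 < r) (y : V →ₗ[F] V) (hy : y ^ r = 1) (v : V) :
    y ((y ^ (r - 1)) v) = v := by
  rw [← Module.End.mul_apply, ← pow_succ', Nat.sub_add_cancel hr, hy, Module.End.one_apply]

omit hA in
/-- the orthogonal complement of an invariant subspace is invariant -/
theorem inv_orth (r : ℕ) (hr : 0 < r) (y : V →ₗ[F] V) (hy : y ^ r = 1) (hiso : Iso B y)
    (W : Submodule F V) (hW : Inv y W) : Inv y (B.orthogonal W) := by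
  intro v hv
  rw [LinearMap.BilinForm.mem_orthogonal_iff] at hv ⊢
  intro n hn
  have h1 : n = y ((y ^ (r - 1)) n) := (pow_pred_mul r hr y hy n).symm
  rw [h1, hiso]
  exact hv _ (hW.pow_mem _ n hn)

omit hA in
theorem iso_pow (y : V →ₗ[F] V) (hiso : Iso B y) (k : ℕ) : Iso B (y ^ k) := by
  induction k with
  | zero => intro u v; simp
  | succ k ih =>
    intro u v
    rw [pow_succ', Module.End.mul_apply, Module.End.mul_apply, hiso, ih]

omit hA in
/-- the fixed space is orthogonal to the kernel of the geometric sum -/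
theorem ort_V0_V1 (r : ℕ) (hrF : (r : F) ≠ 0) (y : V →ₗ[F] V) (hy : y ^ r = 1) (hiso : Iso B y) :
    Ort B (V0 y) (V1 r y) := by
  intro u hu v hv
  have h1 : ∀ k : ℕ, B u ((y ^ k) v) = B u v := by
    intro k
    have h2 := iso_pow y hiso k u v
    rw [pow_apply_of_mem_V0 y u hu k] at h2
    have h3 : (y ^ (r - 1)) ((y ^ 1) ((y ^ k) v)) = (y ^ (r - 1 + 1)) ((y ^ k) v) := by
      rw [← Module.End.mul_apply, ← pow_add]
    exact h2
  have h2 : B u (gsum r y v) = (r : F) * B u v := by
    rw [gsum_apply, map_sum]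
    simp only [h1, Finset.sum_const, Finset.card_range, nsmul_eq_mul]
  rw [(mem_V1 r y v).mp hv, map_zero] at h2
  rcases mul_eq_zero.mp h2.symm with h | h
  · exact absurd h hrF
  · exact h

/-- the parts of a nondegenerate invariant subspace -/
theorem nonDeg_inf_parts (r : ℕ) (hrF : (r : F) ≠ 0) (y : V →ₗ[F] V) (hy : y ^ r = 1)
    (hiso : Iso B y) (W : Submodule F V) (hW : NonDeg B W) (hWinv : Inv y W) :
    NonDeg B (W ⊓ V0 y) ∧ NonDeg B (W ⊓ V1 r y) := by
  have hort := ort_V0_V1 r hrF y hy hiso
  have hdec : ∀ w ∈ W, ∃ a ∈ W ⊓ V0 y, ∃ b ∈ W ⊓ V1 r y, w = a + b := by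
    intro w hw
    have hG : gsum r y w ∈ W := gsum_mem_of_inv r y W hWinv w hw
    refine ⟨(r : F)⁻¹ • gsum r y w, ?_, w - (r : F)⁻¹ • gsum r y w, ?_, by abel⟩
    · exact Submodule.smul_mem _ _ (Submodule.mem_inf.mpr ⟨hG, gsum_mem_V0 r y hy w⟩)
    · refine Submodule.mem_inf.mpr ⟨Submodule.sub_mem _ hw (Submodule.smul_mem _ _ hG), ?_⟩
      rw [mem_V1, map_sub, map_smul]
      have := congrArg (fun g => g w) (gsum_mul_gsum r y hy)
      simp only [Module.End.mul_apply, LinearMap.smul_apply] at this
      rw [this, smul_smul, inv_mul_cancel₀ hrF, one_smul, sub_self]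
  constructor
  · intro u hu hu'
    apply hW u (Submodule.mem_inf.mp hu).1
    intro w hw
    obtain ⟨a, ha, b, hb, rfl⟩ := hdec w hw
    rw [map_add, hu' a ha, zero_add]
    exact hort u (Submodule.mem_inf.mp hu).2 b (Submodule.mem_inf.mp hb).2
  · intro u hu hu'
    apply hW u (Submodule.mem_inf.mp hu).1
    intro w hw
    obtain ⟨a, ha, b, hb, rfl⟩ := hdec w hw
    rw [map_add, hu' b hb, add_zero]
    exact alt_eq_zero hA (hort a (Submodule.mem_inf.mp ha).2 u (Submodule.mem_inf.mp hu).2)

end Cfsg.Agent.Lib.Helper98.Sy
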