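import Cfsg.Agent.Lib.Helper98.Elus2

set_option autoImplicit false
set_option linter.unusedSimpArgs false
set_option linter.unusedSectionVars false
set_option linter.unusedVariables false
set_option linter.style.haveILetI false

/-!
# S5949 (helper98): existence of invariant subspaces of prescribed dimension
-/

namespace Cfsg.Agent.Lib.Helper98.Elus

open Module Polynomial

universe u
variable {F : Type*} [Field F] {V : Type u} [AddCommGroup V] [Module F V]

/-- the geometric sum `1 + y + ... + y^(r-1)` -/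
noncomputable def gsum (r : ℕ) (y : V →ₗ[F] V) : V →ₗ[F] V := ∑ k ∈ Finset.range r, y ^ k

theorem gsum_apply (r : ℕ) (y : V →ₗ[F] V) (v : V) :
    gsum r y v = ∑ k ∈ Finset.range r, (y ^ k) v := by
  simp [gsum, LinearMap.sum_apply]

theorem aeval_cyclotomic_eq_gsum (r : ℕ) [Fact r.Prime] (y : V →ₗ[F] V) :
    aeval y (cyclotomic r F) = gsum r y := by
  rw [cyclotomic_prime, gsum]
  simp

theorem sub_one_mul_gsum (r : ℕ) (y : V →ₗ[F] V) (hy : y ^ r = 1) : (y - 1) * gsum r y = 0 := by
  rw [gsum, mul_geom_sum, hy, sub_self]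

theorem mul_gsum (r : ℕ) (y : V →ₗ[F] V) (hy : y ^ r = 1) : y * gsum r y = gsum r y := by
  have := sub_one_mul_gsum r y hy
  rw [sub_mul, one_mul, sub_eq_zero] at this
  exact this

theorem pow_mul_gsum (r : ℕ) (y : V →ₗ[F] V) (hy : y ^ r = 1) (k : ℕ) :
    y ^ k * gsum r y = gsum r y := by
  induction k with
  | zero => simp
  | succ k ih => rw [pow_succ, mul_assoc, mul_gsum r y hy, ih]

theorem gsum_mul_gsum (r : ℕ) (y : V →ₗ[F] V) (hy : y ^ r = 1) :
    gsum r y * gsum r y = (r : F) • gsum r y := by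
  have h : gsum r y * gsum r y = ∑ k ∈ Finset.range r, y ^ k * gsum r y := by
    rw [← Finset.sum_mul]; rfl
  rw [h]
  simp only [pow_mul_gsum r y hy, Finset.sum_const, Finset.card_range]
  rw [Nat.cast_smul_eq_nsmul]

theorem gsum_comm (r : ℕ) (y : V →ₗ[F] V) : gsum r y * y = y * gsum r y := by
  rw [gsum, Finset.sum_mul, Finset.mul_sum]
  apply Finset.sum_congr rfl
  intro k _
  rw [← pow_succ, ← pow_succ']

/-- the fixed space -/
def V0 (y : V →ₗ[F] V) : Submodule F V := LinearMap.ker (y - 1)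
/-- the kernel of the geometric sum -/
noncomputable def V1 (r : ℕ) (y : V →ₗ[F] V) : Submodule F V := LinearMap.ker (gsum r y)

theorem mem_V0 (y : V →ₗ[F] V) (v : V) : v ∈ V0 y ↔ y v = v := by
  simp [V0, LinearMap.mem_ker, sub_eq_zero]

theorem mem_V1 (r : ℕ) (y : V →ₗ[F] V) (v : V) : v ∈ V1 r y ↔ gsum r y v = 0 := by
  simp [V1, LinearMap.mem_ker]

theorem inv_V0 (y : V →ₗ[F] V) : Inv y (V0 y) := by
  intro v hv
  rw [mem_V0] at hv ⊢
  rw [hv, hv]

theorem inv_V1 (r : ℕ) (y : V →ₗ[F] V) : Inv y (V1 r y) := by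
  intro v hv
  rw [mem_V1] at hv ⊢
  have := congrArg (fun g => g v) (gsum_comm r y)
  simp only [Module.End.mul_apply] at this
  rw [this, hv, map_zero]

theorem pow_apply_of_mem_V0 (y : V →ₗ[F] V) (v : V) (hv : v ∈ V0 y) (k : ℕ) : (y ^ k) v = v := by
  rw [mem_V0] at hv
  induction k with
  | zero => simp
  | succ k ih => rw [pow_succ, Module.End.mul_apply, hv, ih]

theorem gsum_apply_of_mem_V0 (r : ℕ) (y : V →ₗ[F] V) (v : V) (hv : v ∈ V0 y) :
    gsum r y v = (r : F) • v := by
  rw [gsum_apply]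
  simp only [pow_apply_of_mem_V0 y v hv, Finset.sum_const, Finset.card_range]
  rw [Nat.cast_smul_eq_nsmul]

theorem V0_inf_V1 (r : ℕ) (hrF : (r : F) ≠ 0) (y : V →ₗ[F] V) : V0 y ⊓ V1 r y = ⊥ := by
  rw [eq_bot_iff]
  intro v hv
  obtain ⟨h0, h1⟩ := Submodule.mem_inf.mp hv
  rw [mem_V1, gsum_apply_of_mem_V0 r y v h0, smul_eq_zero] at h1
  rcases h1 with h1 | h1
  · exact absurd h1 hrF
  · rw [h1]; exact Submodule.zero_mem _

theorem V0_sup_V1 (r : ℕ) (hrF : (r : F) ≠ 0) (y : V →ₗ[F] V) (hy : y ^ r = 1) :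
    V0 y ⊔ V1 r y = ⊤ := by
  rw [eq_top_iff]
  intro v _
  have hv : v = (r : F)⁻¹ • gsum r y v + (v - (r : F)⁻¹ • gsum r y v) := by abel
  rw [hv]
  apply Submodule.add_mem
  · apply Submodule.mem_sup_left
    apply Submodule.smul_mem
    rw [mem_V0]
    have := congrArg (fun g => g v) (mul_gsum r y hy)
    simpa [Module.End.mul_apply] using this
  · apply Submodule.mem_sup_right
    rw [mem_V1, map_sub, map_smul]
    have := congrArg (fun g => g v) (gsum_mul_gsum r y hy)
    simp only [Module.End.mul_apply, LinearMap.smul_apply] at this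
    rw [this, smul_smul, inv_mul_cancel₀ hrF, one_smul, sub_self]

theorem finrank_V0_add_V1 [FiniteDimensional F V] (r : ℕ) (hrF : (r : F) ≠ 0) (y : V →ₗ[F] V)
    (hy : y ^ r = 1) : finrank F (V0 y) + finrank F (V1 r y) = finrank F V := by
  have h := Submodule.finrank_sup_add_finrank_inf_eq (V0 y) (V1 r y)
  rw [V0_inf_V1 r hrF y, V0_sup_V1 r hrF y hy, finrank_bot, finrank_top] at h
  omega

theorem dvd_finrank_of_le_V1 [Fintype F] [FiniteDimensional F V] (r : ℕ) [Fact r.Prime]
    (hrF : (r : F) ≠ 0) (y : V →ₗ[F] V) (hy : y ^ r = 1) (W : Submodule F V) (hW : Inv y W)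
    (hWV : W ≤ V1 r y) : orderOf ((Fintype.card F : ℕ) : ZMod r) ∣ finrank F W := by
  apply orderOf_dvd_finrank r hrF y W hW
  · intro v _; rw [hy]; rfl
  · intro v hv
    have := hWV hv
    rw [mem_V1, gsum_apply] at this
    exact this


theorem orderOf_card_pos [Fintype F] (p f : ℕ) [Fact p.Prime] (hF : Fintype.card F = p ^ f)
    (r : ℕ) [Fact r.Prime] (hpr : p ≠ r) : 1 ≤ orderOf ((Fintype.card F : ℕ) : ZMod r) := by
  have hr : r.Prime := Fact.out
  have hp : p.Prime := Fact.out
  have hne : ((Fintype.card F : ℕ) : ZMod r) ≠ 0 := by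
    rw [Ne, ZMod.natCast_eq_zero_iff, hF]
    intro h
    have := hr.dvd_of_dvd_pow h
    rw [Nat.prime_dvd_prime_iff_eq hr hp] at this
    exact hpr this.symm
  apply orderOf_pos_iff.mpr
  rw [isOfFinOrder_iff_pow_eq_one]
  exact ⟨r - 1, by have := hr.two_le; omega, ZMod.pow_card_sub_one_eq_one hne⟩

theorem cyclo_factors [Fintype F] (p f : ℕ) [Fact p.Prime] (hF : Fintype.card F = p ^ f)
    (r : ℕ) [Fact r.Prime] (hpr : p ≠ r) :
    ∃ fs : List F[X], (∀ g ∈ fs, g.Monic) ∧
      (∀ g ∈ fs, g.natDegree = orderOf ((Fintype.card F : ℕ) : ZMod r)) ∧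
      fs.prod = cyclotomic r F := by
  classical
  have hr : r.Prime := Fact.out
  have hp : p.Prime := Fact.out
  have hcop : p.Coprime r := (Nat.coprime_primes hp hr).mpr hpr
  refine ⟨(UniqueFactorizationMonoid.normalizedFactors (cyclotomic r F)).toList, ?_, ?_, ?_⟩
  · intro g hg
    rw [Multiset.mem_toList] at hg
    have h1 := UniqueFactorizationMonoid.normalize_normalized_factor g hg
    have h2 := UniqueFactorizationMonoid.irreducible_of_normalized_factor g hg
    rw [← h1]
    exact Polynomial.monic_normalize h2.ne_zero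
  · intro g hg
    rw [Multiset.mem_toList] at hg
    rw [natDegree_of_mem_normalizedFactors_cyclotomic hF hcop hg, ← orderOf_units,
      ZMod.coe_unitOfCoprime, hF]
  · rw [Multiset.prod_toList, UniqueFactorizationMonoid.prod_normalizedFactors_eq
      (cyclotomic_ne_zero r F)]
    exact (cyclotomic.monic r F).normalize_eq_self



/-- existence of invariant subspaces for `y` with `y ^ r = 1` -/
theorem exists_inv_of_pow_eq_one [Fintype F] [FiniteDimensional F V] (p f : ℕ) [Fact p.Prime]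
    (hF : Fintype.card F = p ^ f) (r : ℕ) [Fact r.Prime] (hpr : p ≠ r) (hrF : (r : F) ≠ 0)
    (y : V →ₗ[F] V) (hy : y ^ r = 1) (m : ℕ) (hm : m ≤ finrank F V)
    (hmod : m % orderOf ((Fintype.card F : ℕ) : ZMod r) ≤
      finrank F V % orderOf ((Fintype.card F : ℕ) : ZMod r)) :
    ∃ W : Submodule F V, Inv y W ∧ finrank F W = m := by
  set i := orderOf ((Fintype.card F : ℕ) : ZMod r) with hi
  have hi1 : 1 ≤ i := orderOf_card_pos p f hF r hpr
  obtain ⟨fs, hmonic, hdeg, hprod⟩ := cyclo_factors (F := F) p f hF r hpr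
  have hsum := finrank_V0_add_V1 r hrF y hy
  obtain ⟨t', ht'⟩ := dvd_finrank_of_le_V1 r hrF y hy (V1 r y) (inv_V1 r y) le_rfl
  rw [← hi] at ht'
  set e := finrank F (V0 y) with he
  set n := finrank F V with hn
  set b' := min (m / i) t' with hb'
  have hb1 : b' ≤ t' := min_le_right _ _
  have hb2 : b' ≤ m / i := min_le_left _ _
  have hib : i * b' ≤ m := le_trans (Nat.mul_le_mul_left i hb2) (Nat.mul_div_le m i)
  have hib1 : i * b' ≤ i * t' := Nat.mul_le_mul_left i hb1
  have ha : m - i * b' ≤ e := by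
    rcases le_or_gt (m / i) t' with h | h
    · have hbb : b' = m / i := min_eq_left h
      have h1 : m - i * b' = m % i := by
        rw [hbb]
        have := Nat.div_add_mod m i
        omega
      have h2 : n % i = e % i := by
        rw [← hsum, ht', Nat.add_mul_mod_self_left]
      rw [h1]
      calc m % i ≤ n % i := hmod
        _ = e % i := h2
        _ ≤ e := Nat.mod_le _ _
    · have hbb : b' = t' := min_eq_right (le_of_lt h)
      rw [hbb]
      omega
  -- the V1 part
  obtain ⟨W1, hW1V, hW1, hW1d⟩ := greedy y (V1 r y) (inv_V1 r y) i hi1 fs hmonic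
    (fun g hg => le_of_eq (hdeg g hg))
    (by
      intro v hv
      rw [hprod, aeval_cyclotomic_eq_gsum]
      exact (mem_V1 r y v).mp hv)
    (fun W hWV hW => dvd_finrank_of_le_V1 r hrF y hy W hW hWV) b' (by rw [ht']; exact hib1)
  -- the V0 part
  obtain ⟨W0, hW0V, hW0, hW0d⟩ := greedy y (V0 y) (inv_V0 y) 1 le_rfl [X - C 1]
    (by intro g hg; rw [List.mem_singleton] at hg; rw [hg]; exact monic_X_sub_C 1)
    (by intro g hg; rw [List.mem_singleton] at hg; rw [hg, natDegree_X_sub_C])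
    (by
      intro v hv
      rw [mem_V0] at hv
      simp [hv])
    (fun W _ _ => one_dvd _) (m - i * b') (by rw [one_mul]; exact ha)
  refine ⟨W0 ⊔ W1, hW0.sup hW1, ?_⟩
  have h := Submodule.finrank_sup_add_finrank_inf_eq W0 W1
  have hinf : W0 ⊓ W1 = ⊥ := by
    rw [eq_bot_iff, ← V0_inf_V1 r hrF y]
    exact inf_le_inf hW0V hW1V
  rw [hinf, finrank_bot, hW0d, hW1d] at h
  omega

/-- existence of invariant subspaces when `c` is not an `r`-th power -/
theorem exists_inv_of_not_pow [FiniteDimensional F V] (r : ℕ) [Fact r.Prime] (c : F)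
    (hc : ∀ d : F, d ^ r ≠ c) (f : V →ₗ[F] V) (hf : f ^ r = c • 1) (m : ℕ)
    (hm : m ≤ finrank F V) (hrm : r ∣ m) : ∃ W : Submodule F V, Inv f W ∧ finrank F W = m := by
  have hr : r.Prime := Fact.out
  obtain ⟨b, rfl⟩ := hrm
  obtain ⟨W, -, hW, hWd⟩ := greedy f ⊤ (fun _ _ => Submodule.mem_top) r hr.one_le [X ^ r - C c]
    (by intro g hg; rw [List.mem_singleton] at hg; rw [hg]; exact monic_X_pow_sub_C c hr.ne_zero)
    (by intro g hg; rw [List.mem_singleton] at hg; rw [hg, natDegree_X_pow_sub_C])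
    (by
      intro v _
      simp [hf, Algebra.algebraMap_eq_smul_one])
    (fun W _ hW => dvd_finrank_of_not_pow r c hc f hf W hW) b (by rw [finrank_top]; exact hm)
  exact ⟨W, hW, hWd⟩

end Cfsg.Agent.Lib.Helper98.Elus

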