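import Cfsg.Agent.Lib.Helper98.Elus3

set_option autoImplicit false
set_option linter.unusedSimpArgs false
set_option linter.unusedSectionVars false
set_option linter.unusedVariables false
set_option linter.style.haveILetI false

/-!
# S5949 (helper98): the semisimple element with fixed space of dimension `e` and blocks of degree `i`
-/

namespace Cfsg.Agent.Lib.Helper98.Elus

open Module Polynomial

universe u
variable {F : Type u} [Field F]

theorem finrank_eq_inf_ker_add_map {V : Type*} [AddCommGroup V] [Module F V] [FiniteDimensional F V]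
    (S : V →ₗ[F] V) (W : Submodule F V) :
    finrank F W = finrank F ↥(W ⊓ LinearMap.ker S) + finrank F ↥(W.map S) := by
  have h := LinearMap.finrank_range_add_finrank_ker (S ∘ₗ W.subtype)
  rw [LinearMap.range_comp, Submodule.range_subtype, LinearMap.ker_comp] at h
  have h2 : finrank F ↥(Submodule.comap W.subtype (LinearMap.ker S)) =
      finrank F ↥(W ⊓ LinearMap.ker S) := by
    rw [← Submodule.map_comap_subtype, Submodule.finrank_map_subtype_eq]
  omega

theorem Inv.inf {V : Type*} [AddCommGroup V] [Module F V] {y : V →ₗ[F] V} {W W' : Submodule F V}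
    (hW : Inv y W) (hW' : Inv y W') : Inv y (W ⊓ W') := by
  intro v hv
  obtain ⟨h1, h2⟩ := Submodule.mem_inf.mp hv
  exact Submodule.mem_inf.mpr ⟨hW v h1, hW' v h2⟩

section B2

variable (P : F[X]) (e t : ℕ)

/-- the space `F^e × A^t`, `A = F[X]/(P)` -/
abbrev VB : Type u := (Fin e → F) × (Fin t → AdjoinRoot P)

/-- identity on `F^e`, multiplication by the root on `A^t` -/
noncomputable def yB : VB P e t →ₗ[F] VB P e t where
  toFun v := (v.1, fun j => AdjoinRoot.root P * v.2 j)
  map_add' := by
    intro v w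
    ext <;> simp [mul_add]
  map_smul' := by
    intro c v
    ext <;> simp [mul_smul_comm]

theorem yB_pow (k : ℕ) (v : VB P e t) :
    (yB P e t ^ k) v = (v.1, fun j => AdjoinRoot.root P ^ k * v.2 j) := by
  induction k with
  | zero => simp
  | succ k ih =>
    rw [pow_succ', Module.End.mul_apply, ih]
    simp only [yB, LinearMap.coe_mk, AddHom.coe_mk]
    congr 1
    funext j
    rw [pow_succ', mul_assoc]

variable {P} (r : ℕ) [Fact r.Prime] (hP : P ∣ cyclotomic r F)
include hP

theorem root_gsum : ∑ k ∈ Finset.range r, AdjoinRoot.root P ^ k = 0 := by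
  obtain ⟨Q, hQ⟩ := hP
  have h1 : aeval (AdjoinRoot.root P) (cyclotomic r F) = 0 := by
    rw [hQ, map_mul, AdjoinRoot.aeval_eq, AdjoinRoot.mk_self, zero_mul]
  rw [cyclotomic_prime] at h1
  simpa using h1

theorem root_pow : AdjoinRoot.root P ^ r = 1 := by
  have := mul_geom_sum (AdjoinRoot.root P) r
  rw [root_gsum r hP, mul_zero] at this
  exact (sub_eq_zero.mp this.symm)

theorem yB_pow_r : yB P e t ^ r = 1 := by
  ext v <;> simp [yB_pow, root_pow r hP]

theorem gsum_yB (v : VB P e t) : gsum r (yB P e t) v = ((r : F) • v.1, 0) := by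
  rw [gsum_apply]
  simp only [yB_pow]
  rw [Prod.ext_iff]
  constructor
  · simp [Prod.fst_sum, Nat.cast_smul_eq_nsmul]
  · simp only [Prod.snd_sum]
    funext j
    rw [Finset.sum_apply]
    simp only [← Finset.sum_mul, root_gsum r hP, zero_mul]
    rfl

theorem finrank_VB [Fintype F] (hPm : P.Monic) : finrank F (VB P e t) = e + t * P.natDegree := by
  haveI := hPm.finite_adjoinRoot
  haveI := hPm.free_adjoinRoot
  have hA : finrank F (AdjoinRoot P) = P.natDegree := by
    rw [(AdjoinRoot.powerBasis' hPm).finrank, AdjoinRoot.powerBasis'_dim]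
  rw [Module.finrank_prod, Module.finrank_fin_fun, Module.finrank_pi_fintype]
  simp [hA]

theorem constr_ge_two [Fintype F] (hrF : (r : F) ≠ 0) (hPm : P.Monic)
    (hPd : P.natDegree = orderOf ((Fintype.card F : ℕ) : ZMod r))
    (hi2 : 2 ≤ orderOf ((Fintype.card F : ℕ) : ZMod r)) (ht : 1 ≤ t) :
    (∀ c : F, yB P e t ≠ c • 1) ∧
    ∀ W : Submodule F (VB P e t), Inv (yB P e t) W →
      ∃ a b, finrank F W = a + orderOf ((Fintype.card F : ℕ) : ZMod r) * b ∧ a ≤ e := by
  haveI := hPm.finite_adjoinRoot
  haveI := hPm.free_adjoinRoot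
  have hA : finrank F (AdjoinRoot P) = P.natDegree := by
    rw [(AdjoinRoot.powerBasis' hPm).finrank, AdjoinRoot.powerBasis'_dim]
  haveI : Nontrivial (AdjoinRoot P) := Module.nontrivial_of_finrank_pos (R := F) (by omega)
  have hyr := yB_pow_r (e := e) (t := t) r hP
  constructor
  · intro c hc
    let v0 : VB P e t := (0, fun _ => 1)
    have hv0 : v0 ≠ 0 := by
      intro h
      have h2 := congrArg (fun v : VB P e t => v.2 ⟨0, ht⟩) h
      simp [v0] at h2
    have hInv : Inv (yB P e t) (Submodule.span F {v0}) := by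
      intro v hv
      obtain ⟨a, rfl⟩ := Submodule.mem_span_singleton.mp hv
      rw [hc]
      simp only [LinearMap.smul_apply, Module.End.one_apply]
      exact Submodule.smul_mem _ _ (Submodule.smul_mem _ _ (Submodule.mem_span_singleton_self _))
    have hle : Submodule.span F {v0} ≤ V1 r (yB P e t) := by
      intro v hv
      obtain ⟨a, rfl⟩ := Submodule.mem_span_singleton.mp hv
      rw [mem_V1, map_smul, gsum_yB e t r hP]
      simp [v0]
    have hdvd := dvd_finrank_of_le_V1 r hrF (yB P e t) hyr _ hInv hle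
    rw [finrank_span_singleton hv0, Nat.dvd_one] at hdvd
    omega
  · intro W hW
    have h1 := finrank_eq_inf_ker_add_map (gsum r (yB P e t)) W
    have hInv : Inv (yB P e t) (W ⊓ V1 r (yB P e t)) := hW.inf (inv_V1 r _)
    obtain ⟨b, hb⟩ := dvd_finrank_of_le_V1 r hrF (yB P e t) hyr _ hInv inf_le_right
    refine ⟨finrank F ↥(W.map (gsum r (yB P e t))), b, ?_, ?_⟩
    · rw [h1, ← hb, add_comm]; rfl
    · have hle : W.map (gsum r (yB P e t)) ≤
          LinearMap.range (LinearMap.inl F (Fin e → F) (Fin t → AdjoinRoot P)) := by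
        rintro _ ⟨w, _, rfl⟩
        rw [gsum_yB e t r hP]
        exact ⟨(r : F) • w.1, rfl⟩
      have h2 := Submodule.finrank_mono hle
      rw [LinearMap.finrank_range_of_inj LinearMap.inl_injective, Module.finrank_fin_fun] at h2
      exact h2

end B2

end Cfsg.Agent.Lib.Helper98.Elus
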