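import Cfsg.Agent.Lib.Helper98.Elus14

set_option autoImplicit false
set_option linter.unusedSimpArgs false
set_option linter.unusedSectionVars false
set_option linter.unusedVariables false
set_option linter.style.haveILetI false

/-!
# S5958 (helper98): decomposition into invariant subspaces of equal dimension
-/

namespace Cfsg.Agent.Lib.Helper98.Elus

open Module Polynomial

universe u
variable {F : Type u} [Field F] {V : Type u} [AddCommGroup V] [Module F V]

theorem gsum_mem_of_inv (r : ℕ) (y : V →ₗ[F] V) (U : Submodule F V) (hU : Inv y U) :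
    ∀ u ∈ U, gsum r y u ∈ U := by
  intro u hu
  rw [gsum_apply]
  exact Submodule.sum_mem _ fun k _ => hU.pow_mem k u hu

theorem gsum_mem_V0 (r : ℕ) (y : V →ₗ[F] V) (hy : y ^ r = 1) (v : V) : gsum r y v ∈ V0 y := by
  rw [mem_V0]
  have := congrArg (fun g => g v) (mul_gsum r y hy)
  simpa [Module.End.mul_apply] using this

theorem finrank_inf_V0_add_inf_V1 [FiniteDimensional F V] (r : ℕ) (hrF : (r : F) ≠ 0)
    (y : V →ₗ[F] V) (hy : y ^ r = 1) (U : Submodule F V) (hU : Inv y U) :
    finrank F ↥(U ⊓ V0 y) + finrank F ↥(U ⊓ V1 r y) = finrank F U := by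
  have h := Submodule.finrank_sup_add_finrank_inf_eq (U ⊓ V0 y) (U ⊓ V1 r y)
  have hinf : (U ⊓ V0 y) ⊓ (U ⊓ V1 r y) = ⊥ := by
    rw [eq_bot_iff, ← V0_inf_V1 r hrF y]
    exact inf_le_inf inf_le_right inf_le_right
  have hsup : (U ⊓ V0 y) ⊔ (U ⊓ V1 r y) = U := by
    apply le_antisymm (sup_le inf_le_left inf_le_left)
    intro v hv
    have hv' : v = (r : F)⁻¹ • gsum r y v + (v - (r : F)⁻¹ • gsum r y v) := by abel
    rw [hv']
    have hG : gsum r y v ∈ U := gsum_mem_of_inv r y U hU v hv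
    apply Submodule.add_mem
    · apply Submodule.mem_sup_left
      apply Submodule.smul_mem
      exact Submodule.mem_inf.mpr ⟨hG, gsum_mem_V0 r y hy v⟩
    · apply Submodule.mem_sup_right
      refine Submodule.mem_inf.mpr ⟨Submodule.sub_mem _ hv (Submodule.smul_mem _ _ hG), ?_⟩
      rw [mem_V1, map_sub, map_smul]
      have := congrArg (fun g => g v) (gsum_mul_gsum r y hy)
      simp only [Module.End.mul_apply, LinearMap.smul_apply] at this
      rw [this, smul_smul, inv_mul_cancel₀ hrF, one_smul, sub_self]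
  rw [hinf, hsup, finrank_bot] at h
  omega

/-- decomposition of an invariant subspace into invariant subspaces of dimension `a` -/
theorem inv_decomp [Fintype F] [FiniteDimensional F V] (p f : ℕ) [Fact p.Prime]
    (hF : Fintype.card F = p ^ f) (r : ℕ) [Fact r.Prime] (hpr : p ≠ r) (hrF : (r : F) ≠ 0)
    (y : V →ₗ[F] V) (hy : y ^ r = 1) (a : ℕ) :
    ∀ t' : ℕ, ∀ U : Submodule F V, Inv y U → finrank F U = t' * a →
      finrank F ↥(U ⊓ V1 r y) ≤ t' * (orderOf ((Fintype.card F : ℕ) : ZMod r) *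
        (a / orderOf ((Fintype.card F : ℕ) : ZMod r))) →
      ∃ D : Fin t' → Submodule F V, (∀ j, Inv y (D j)) ∧ (∀ j, finrank F (D j) = a) ∧
        iSupIndep D ∧ iSup D = U := by
  set c := orderOf ((Fintype.card F : ℕ) : ZMod r) with hc
  have hc1 : 1 ≤ c := orderOf_card_pos p f hF r hpr
  obtain ⟨fs, hmonic, hdeg, hprod⟩ := cyclo_factors (F := F) p f hF r hpr
  intro t'
  induction t' with
  | zero =>
    intro U hU hUd _
    rw [Nat.zero_mul] at hUd
    have hU0 : U = ⊥ := Submodule.finrank_eq_zero.mp hUd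
    refine ⟨fun j => j.elim0, fun j => j.elim0, fun j => j.elim0, iSupIndep_subsingleton _, ?_⟩
    rw [hU0]
    simp
  | succ t' ih =>
    intro U hU hUd hU1
    have hInv1 : Inv y (U ⊓ V1 r y) := hU.inf (inv_V1 r y)
    have hInv0 : Inv y (U ⊓ V0 y) := hU.inf (inv_V0 y)
    obtain ⟨j', hj'⟩ := dvd_finrank_of_le_V1 r hrF y hy _ hInv1 inf_le_right
    rw [← hc] at hj'
    have hsum := finrank_inf_V0_add_inf_V1 r hrF y hy U hU
    set A := a / c with hA
    have hX : c * A ≤ a := Nat.mul_div_le a c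
    set b := min A j' with hb
    have hbA : b ≤ A := min_le_left _ _
    have hbj : b ≤ j' := min_le_right _ _
    have hZX : c * b ≤ c * A := Nat.mul_le_mul_left c hbA
    have hZY : c * b ≤ c * j' := Nat.mul_le_mul_left c hbj
    have hZ : c * b = c * A ∨ c * b = c * j' := by
      rcases le_total A j' with h | h
      · left; rw [hb, min_eq_left h]
      · right; rw [hb, min_eq_right h]
    have hmul1 : (t' + 1) * (c * A) = t' * (c * A) + c * A := by ring
    have hmul2 : (t' + 1) * a = t' * a + a := by ring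
    have hmul3 : t' * (c * A) ≤ t' * a := Nat.mul_le_mul_left t' hX
    rw [hmul1] at hU1
    rw [hmul2] at hUd
    -- the `V1`-part
    obtain ⟨W1, hW1V, hW1, hW1d⟩ := greedy y (U ⊓ V1 r y) hInv1 c hc1 fs hmonic
      (fun g hg => le_of_eq (hdeg g hg))
      (by
        intro v hv
        rw [hprod, aeval_cyclotomic_eq_gsum]
        exact (mem_V1 r y v).mp (Submodule.mem_inf.mp hv).2)
      (fun W hWV hW => dvd_finrank_of_le_V1 r hrF y hy W hW (le_trans hWV inf_le_right)) b
      (by rw [hj']; exact hZY)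
    -- the `V0`-part
    obtain ⟨W0, hW0V, hW0, hW0d⟩ := greedy y (U ⊓ V0 y) hInv0 1 le_rfl [X - C 1]
      (by intro g hg; rw [List.mem_singleton] at hg; rw [hg]; exact monic_X_sub_C 1)
      (by intro g hg; rw [List.mem_singleton] at hg; rw [hg, natDegree_X_sub_C])
      (by
        intro v hv
        have hv0 := (Submodule.mem_inf.mp hv).2
        rw [mem_V0] at hv0
        simp [hv0])
      (fun W _ _ => one_dvd _) (a - c * b) (by rw [one_mul]; omega)
    rw [one_mul] at hW0d
    have hdis01 : W0 ⊓ W1 = ⊥ := by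
      rw [eq_bot_iff, ← V0_inf_V1 r hrF y]
      exact inf_le_inf (le_trans hW0V inf_le_right) (le_trans hW1V inf_le_right)
    have hWd : finrank F ↥(W0 ⊔ W1) = a := by
      have h := Submodule.finrank_sup_add_finrank_inf_eq W0 W1
      rw [hdis01, finrank_bot, hW0d, hW1d] at h
      omega
    have hWU : W0 ⊔ W1 ≤ U := sup_le (le_trans hW0V inf_le_left) (le_trans hW1V inf_le_left)
    have hWinv : Inv y (W0 ⊔ W1) := hW0.sup hW1
    obtain ⟨C, hC, hWC⟩ := exists_inv_compl r hrF 1 one_ne_zero y (by rw [hy, one_smul])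
      (W0 ⊔ W1) hWinv
    have hU'inv : Inv y (C ⊓ U) := hC.inf hU
    have hsupU : (W0 ⊔ W1) ⊔ (C ⊓ U) = U := by
      rw [← sup_inf_assoc_of_le C hWU, hWC.sup_eq_top, top_inf_eq]
    have hinfU : (W0 ⊔ W1) ⊓ (C ⊓ U) = ⊥ := by
      rw [eq_bot_iff, ← hWC.inf_eq_bot]
      exact inf_le_inf le_rfl inf_le_left
    have hU'd : finrank F ↥(C ⊓ U) = t' * a := by
      have h := Submodule.finrank_sup_add_finrank_inf_eq (W0 ⊔ W1) (C ⊓ U)
      rw [hsupU, hinfU, finrank_bot, hWd] at h
      omega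
    have hU'1 : finrank F ↥((C ⊓ U) ⊓ V1 r y) ≤ t' * (c * A) := by
      have h := Submodule.finrank_sup_add_finrank_inf_eq W1 ((C ⊓ U) ⊓ V1 r y)
      have hdis : W1 ⊓ ((C ⊓ U) ⊓ V1 r y) = ⊥ := by
        rw [eq_bot_iff, ← hinfU]
        exact inf_le_inf le_sup_right inf_le_left
      have hle : W1 ⊔ ((C ⊓ U) ⊓ V1 r y) ≤ U ⊓ V1 r y :=
        sup_le hW1V (inf_le_inf inf_le_right le_rfl)
      have h2 := Submodule.finrank_mono hle
      rw [hdis, finrank_bot, hW1d] at h
      omega
    obtain ⟨D', hD'inv, hD'd, hD'ind, hD'sup⟩ := ih (C ⊓ U) hU'inv hU'd hU'1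
    refine ⟨Fin.cons (W0 ⊔ W1) D', ?_, ?_, ?_, ?_⟩
    · intro j
      cases j using Fin.cases with
      | zero => rw [Fin.cons_zero]; exact hWinv
      | succ j => rw [Fin.cons_succ]; exact hD'inv j
    · intro j
      cases j using Fin.cases with
      | zero => rw [Fin.cons_zero]; exact hWd
      | succ j => rw [Fin.cons_succ]; exact hD'd j
    · apply indep_cons _ _ hD'ind
      have : (⨆ i, D' i) = C ⊓ U := hD'sup
      rw [this, disjoint_iff, hinfU]
    · have : (⨆ i, D' i) = C ⊓ U := hD'sup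
      show (⨆ i, (Fin.cons (W0 ⊔ W1) D' : Fin (t' + 1) → Submodule F V) i) = U
      rw [iSup_cons, this, hsupU]

end Cfsg.Agent.Lib.Helper98.Elus
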