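import Cfsg.Agent.Lib.Helper98.Oh0
import Cfsg.Agent.Lib.Helper68.OhC2
import Cfsg.Agent.Lib.Helper96.OhC0
import Cfsg.Agent.Lib.Helper26.OhC1
import Cfsg.Agent.Lib.Helper63.OhA

set_option autoImplicit false
set_option linter.unusedSimpArgs false
set_option linter.unusedSectionVars false
set_option linter.unusedVariables false
set_option linter.style.haveILetI false
set_option maxHeartbeats 1000000

/-!
# S5992 / S5993 (helper98): nondegenerate invariant subspaces of the nontrivial part of a semisimple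
isometry of a symmetric form: dimensions and types
-/

namespace Cfsg.Agent.Lib.Helper98.Oh

open Module Cfsg.Agent.Lib.Helper98.Elus Cfsg.Agent.Lib.Helper98.Sy

universe u
variable {F : Type u} [Field F] {V : Type u} [AddCommGroup V] [Module F V]

section Main

variable [Fintype F] (h2 : (2 : F) ≠ 0) [FiniteDimensional F V]
  (B : LinearMap.BilinForm F V) (hS : ∀ a b, B a b = B b a) (hV : NonDeg B ⊤)
  (p f : ℕ) [Fact p.Prime] (hF : Fintype.card F = p ^ f)
  (r : ℕ) [Fact r.Prime] (hpr : p ≠ r) (hr2 : r ≠ 2) (hrF : (r : F) ≠ 0) (y : V →ₗ[F] V)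
  (hy : y ^ r = 1) (hiso : Iso B y)
include h2 hS hV hF hpr hr2 hrF hy hiso

theorem hodd_all : ∀ M : Submodule F V, M ≤ V1 r y → Inv y M → NonDeg B M → Even (finrank F M) :=
  fun M hM1 hM hMnd => Cfsg.Agent.Lib.Helper96.Oh.even_finrank_of_le_V1 h2 B hS r hr2 hrF y hy hiso M hM1 hM hMnd

/-- dimension and type of an invariant nondegenerate subspace of `V1` -/
theorem type_of_le_V1 : ∀ n : ℕ, ∀ U : Submodule F V, finrank F U = n → U ≤ V1 r y → Inv y U →
    NonDeg B U →
    cOf (orderOf ((Fintype.card F : ℕ) : ZMod r)) ∣ n ∧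
      (Plus B U ↔ (Odd (orderOf ((Fintype.card F : ℕ) : ZMod r)) ∨
        Even (n / cOf (orderOf ((Fintype.card F : ℕ) : ZMod r))))) := by
  have hr : r.Prime := Fact.out
  have hR := Os.isRefl_of_symm hS
  set i := orderOf ((Fintype.card F : ℕ) : ZMod r) with hi
  set c := cOf i with hc
  have hc1 : 1 ≤ c := cOf_pos _ (orderOf_card_pos p f hF r hpr)
  have hce : Even c := cOf_even _
  have hodd := hodd_all h2 B hS hV p f hF r hpr hr2 hrF y hy hiso
  intro n
  induction n using Nat.strong_induction_on with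
  | _ n ih =>
    intro U hUd hUV1 hU hUnd
    by_cases hU0 : U = ⊥
    · rw [hU0, finrank_bot] at hUd
      subst hUd
      refine ⟨dvd_zero _, ?_⟩
      rw [hU0]
      constructor
      · intro _
        right
        simp
      · intro _
        exact plus_bot B
    · obtain ⟨W, hWU, hW, hWnd, hWd⟩ := Cfsg.Agent.Lib.Helper26.Oh.exists_min_nonDeg_symm h2 B hS hV p f hF r hpr hr2
        hrF y hy hiso hodd U hUV1 hU hUnd hU0
      rw [← hi, ← hc] at hWd
      have hWV1 : W ≤ V1 r y := le_trans hWU hUV1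
      have hWtype := Cfsg.Agent.Lib.Helper68.Oh.plus_iff_of_min h2 B hS hV p f hF r hpr hr2 hrF y hy hiso hodd W hWV1 hW
        hWnd (by rw [← hi, ← hc]; exact hWd)
      rw [← hi] at hWtype
      obtain ⟨h1, h2', h3, h4⟩ := Os.compl_props hR W U hWnd hWU hUnd
      have hU'inv : Inv y (B.orthogonal W ⊓ U) := (inv_orth r hr.pos y hy hiso W hW).inf hU
      have hU'V1 : B.orthogonal W ⊓ U ≤ V1 r y := le_trans inf_le_right hUV1
      have hU'd : finrank F ↥(B.orthogonal W ⊓ U) = n - c := by omega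
      have hcn : c ≤ n := by omega
      obtain ⟨hdvd, htype⟩ := ih (n - c) (by omega) _ hU'd hU'V1 hU'inv h3
      obtain ⟨j, hj⟩ := hdvd
      have hn : n = c * (j + 1) := by
        rw [Nat.mul_succ]
        omega
      refine ⟨⟨j + 1, hn⟩, ?_⟩
      have hort : Ort B W (B.orthogonal W ⊓ U) := by
        intro a ha z hz
        exact LinearMap.BilinForm.mem_orthogonal_iff.mp (Submodule.mem_inf.mp hz).1 a ha
      have hadd := Cfsg.Agent.Lib.Helper63.Oh.plus_sup_iff h2 B hS W (B.orthogonal W ⊓ U) hWnd h3 hort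
        (by rw [hWd]; exact hce) (by rw [hU'd, hj]; exact hce.mul_right j)
      rw [h1] at hadd
      rw [hadd, hWtype, htype]
      have hq1 : (n - c) / c = j := by
        rw [hj]
        exact Nat.mul_div_cancel_left j (by omega)
      have hq2 : n / c = j + 1 := by
        rw [hn]
        exact Nat.mul_div_cancel_left (j + 1) (by omega)
      rw [hq1, hq2]
      by_cases hio : Odd i
      · simp [hio]
      · simp only [hio, false_or, false_iff]
        rw [Nat.even_add_one]

/-- nondegenerate invariant subspaces of every admissible dimension -/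
theorem exists_nonDeg_inv_symm (U : Submodule F V) (hUV1 : U ≤ V1 r y) (hU : Inv y U)
    (hUnd : NonDeg B U) :
    ∀ b : ℕ, cOf (orderOf ((Fintype.card F : ℕ) : ZMod r)) * b ≤ finrank F U →
      ∃ W : Submodule F V, W ≤ U ∧ Inv y W ∧ NonDeg B W ∧
        finrank F W = cOf (orderOf ((Fintype.card F : ℕ) : ZMod r)) * b := by
  have hr : r.Prime := Fact.out
  have hR := Os.isRefl_of_symm hS
  set c := cOf (orderOf ((Fintype.card F : ℕ) : ZMod r)) with hc
  have hc1 : 1 ≤ c := cOf_pos _ (orderOf_card_pos p f hF r hpr)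
  have hodd := hodd_all h2 B hS hV p f hF r hpr hr2 hrF y hy hiso
  intro b
  induction b with
  | zero =>
    intro _
    exact ⟨⊥, bot_le, inv_bot y, Os.nonDeg_bot, by simp⟩
  | succ b ih =>
    intro hb
    obtain ⟨W, hWU, hW, hWnd, hWd⟩ := ih (by nlinarith)
    obtain ⟨h1, h2', h3, h4⟩ := Os.compl_props hR W U hWnd hWU hUnd
    have hU'inv : Inv y (B.orthogonal W ⊓ U) := (inv_orth r hr.pos y hy hiso W hW).inf hU
    have hU'ne : B.orthogonal W ⊓ U ≠ ⊥ := by
      intro h
      rw [h, finrank_bot] at h4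
      rw [Nat.mul_succ] at hb
      omega
    obtain ⟨Z, hZle, hZ, hZnd, hZd⟩ := Cfsg.Agent.Lib.Helper26.Oh.exists_min_nonDeg_symm h2 B hS hV p f hF r hpr hr2
      hrF y hy hiso hodd (B.orthogonal W ⊓ U) (le_trans inf_le_right hUV1) hU'inv h3 hU'ne
    have hort : Ort B W Z := by
      intro a ha z hz
      exact LinearMap.BilinForm.mem_orthogonal_iff.mp (Submodule.mem_inf.mp (hZle hz)).1 a ha
    refine ⟨W ⊔ Z, sup_le hWU (le_trans hZle inf_le_right), hW.sup hZ,
      (Os.nonDeg_sup hR W Z hWnd hZnd hort).1, ?_⟩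
    rw [Os.finrank_sup_of_ort hR W Z hWnd hZnd hort, hWd, hZd, Nat.mul_succ]

end Main

end Cfsg.Agent.Lib.Helper98.Oh
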