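import Cfsg.Agent.Lib.Helper98.Ti6

set_option autoImplicit false
set_option linter.unusedSimpArgs false
set_option linter.unusedSectionVars false
set_option linter.unusedVariables false
set_option linter.style.haveILetI false
set_option maxHeartbeats 800000

/-!
# S5955 (helper98): arithmetic consequences of the count of totally isotropic subspaces
-/

namespace Cfsg.Agent.Lib.Helper98.Ti

open Module Cfsg.Agent.Lib.Helper98.Elus Cfsg.Agent.Lib.Helper98.Sy

universe u
variable {F : Type u} [Field F] {V : Type u} [AddCommGroup V] [Module F V]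
variable {B : LinearMap.BilinForm F V}

theorem prod_split1 (q d m : ℕ) (hq : 1 ≤ q) (hmd : m ≤ d) :
    ∏ j ∈ Finset.range m, (q ^ (2 * d - j) - q ^ j) =
      (∏ j ∈ Finset.range m, q ^ j) * ∏ j ∈ Finset.range m, (q ^ (2 * (d - j)) - 1) := by
  rw [← Finset.prod_mul_distrib]
  apply Finset.prod_congr rfl
  intro j hj
  have hj' : j < m := Finset.mem_range.mp hj
  rw [Nat.mul_sub, mul_one, ← pow_add]
  congr 2
  omega

theorem prod_split2 (q m : ℕ) (hq : 1 ≤ q) :
    ∏ j ∈ Finset.range m, (q ^ m - q ^ j) =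
      (∏ j ∈ Finset.range m, q ^ j) * ∏ j ∈ Finset.range m, (q ^ (m - j) - 1) := by
  rw [← Finset.prod_mul_distrib]
  apply Finset.prod_congr rfl
  intro j hj
  have hj' : j < m := Finset.mem_range.mp hj
  rw [Nat.mul_sub, mul_one, ← pow_add]
  congr 2
  omega

section Count

variable [Fintype F] [FiniteDimensional F V]

theorem card_ti_mul' (hA : B.IsAlt) (hV : NonDeg B ⊤) (d m : ℕ) (hd : finrank F V = 2 * d)
    (hmd : m ≤ d) :
    Nat.card {W : Submodule F V // finrank F W = m ∧ Ort B W W} *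
        ∏ j ∈ Finset.range m, (Fintype.card F ^ (m - j) - 1) =
      ∏ j ∈ Finset.range m, (Fintype.card F ^ (2 * (d - j)) - 1) := by
  have hq : 1 ≤ Fintype.card F := Fintype.card_pos
  have h := card_ti_mul hA hV m
  rw [hd, prod_split1 _ d m hq hmd, prod_split2 _ m hq] at h
  have hpos : 0 < ∏ j ∈ Finset.range m, Fintype.card F ^ j :=
    Finset.prod_pos fun j _ => pow_pos hq j
  apply Nat.eq_of_mul_eq_mul_left hpos
  rw [← h]
  ring

/-- the number of totally isotropic subspaces is prime to the characteristic -/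
theorem not_char_dvd_card_ti (hA : B.IsAlt) (hV : NonDeg B ⊤) (p f : ℕ) [Fact p.Prime]
    (hF : Fintype.card F = p ^ f) (hf : 1 ≤ f) (d m : ℕ) (hd : finrank F V = 2 * d)
    (hmd : m ≤ d) :
    ¬ p ∣ Nat.card {W : Submodule F V // finrank F W = m ∧ Ort B W W} := by
  have hp : p.Prime := Fact.out
  intro h
  have h1 := card_ti_mul' hA hV d m hd hmd
  have h2 : p ∣ ∏ j ∈ Finset.range m, (Fintype.card F ^ (2 * (d - j)) - 1) := by
    rw [← h1]
    exact dvd_mul_of_dvd_left h _
  obtain ⟨j, hj, hdvd⟩ := (Prime.dvd_finsetProd_iff hp.prime _).mp h2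
  have hj' : j < m := Finset.mem_range.mp hj
  have hq : 1 ≤ Fintype.card F := Fintype.card_pos
  have hpq : p ∣ Fintype.card F ^ (2 * (d - j)) := by
    rw [hF, ← pow_mul]
    apply dvd_pow_self
    have : 1 ≤ f * (2 * (d - j)) := Nat.mul_pos hf (by omega)
    omega
  have hone : 1 ≤ Fintype.card F ^ (2 * (d - j)) := Nat.one_le_pow _ _ hq
  have h3 := Nat.dvd_sub hpq hdvd
  rw [Nat.sub_sub_self hone] at h3
  exact hp.one_lt.ne' (Nat.dvd_one.mp h3)

/-- primes dividing the number of totally isotropic subspaces -/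
theorem exists_of_dvd_card_ti (hA : B.IsAlt) (hV : NonDeg B ⊤) (d m : ℕ)
    (hd : finrank F V = 2 * d) (hmd : m ≤ d) (r : ℕ) [Fact r.Prime]
    (h : r ∣ Nat.card {W : Submodule F V // finrank F W = m ∧ Ort B W W}) :
    ∃ j, j < m ∧ orderOf ((Fintype.card F : ℕ) : ZMod r) ∣ 2 * (d - j) := by
  have hr : r.Prime := Fact.out
  have h1 := card_ti_mul' hA hV d m hd hmd
  have h2 : r ∣ ∏ j ∈ Finset.range m, (Fintype.card F ^ (2 * (d - j)) - 1) := by
    rw [← h1]
    exact dvd_mul_of_dvd_left h _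
  obtain ⟨j, hj, hdvd⟩ := (Prime.dvd_finsetProd_iff hr.prime _).mp h2
  have hj' : j < m := Finset.mem_range.mp hj
  refine ⟨j, hj', ?_⟩
  apply orderOf_dvd_of_pow_eq_one
  have hq : 1 ≤ Fintype.card F := Fintype.card_pos
  have hone : 1 ≤ Fintype.card F ^ (2 * (d - j)) := Nat.one_le_pow _ _ hq
  have h3 := (ZMod.natCast_eq_zero_iff _ _).mpr hdvd
  rw [Nat.cast_sub hone, Nat.cast_pow, Nat.cast_one, sub_eq_zero] at h3
  exact h3

end Count

end Cfsg.Agent.Lib.Helper98.Ti
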