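import Cfsg.Agent.Lib.Helper98.UNdSB0

set_option autoImplicit false
set_option linter.unusedSimpArgs false
set_option linter.unusedSectionVars false
set_option linter.unusedVariables false
set_option linter.style.haveILetI false
set_option maxHeartbeats 1000000

/-!
# K-UNd-SB (helper98): a nonzero nondegenerate invariant subspace of `V1` contains a nondegenerate
invariant subspace of the minimal dimension `cU i` (hermitian port of `Sy.exists_min_nonDeg`)
-/

namespace Cfsg.Agent.Lib.Helper98.UNd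

open Module Polynomial Cfsg.Agent.Lib.Helper99.HermONB Cfsg.Agent.Lib.Helper98.Elus
  Cfsg.Agent.Lib.Helper73.UNd Cfsg.Agent.Lib.Helper65.UNd

universe u
variable {F : Type u} [Field F] {V : Type u} [AddCommGroup V] [Module F V]
variable {q : ℕ} {h : V → V → F}

/-- core of S-B, with the three other leaves it uses (S-A Lagrange, AR1 `cU_eq`, BA2
`exists_nonisotropic`) as hypotheses -/
theorem exists_min_nd_u_of [Fintype F] [FiniteDimensional F V] (hF : Fintype.card F = q ^ 2)
    (hh : HForm q h) (p f : ℕ) [Fact p.Prime] (hFp : Fintype.card F = p ^ f) (r : ℕ)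
    [Fact r.Prime] (hpr : p ≠ r) (hr2 : r ≠ 2) (hrF : (r : F) ≠ 0) (y : V →ₗ[F] V)
    (hy : y ^ r = 1) (hiso : Isom h y) (U : Submodule F V) (hUV1 : U ≤ V1 r y) (hU : Inv y U)
    (hUnd : ND h U) (hUne : U ≠ ⊥)
    (hSA : ∀ W : Submodule F V, Inv y W → ND h W → W ≤ V1 r y → W ≠ ⊥ →
      cU (orderOf (q : ZMod r)) ≤ finrank F W)
    (hcU : (orderOf (q : ZMod r) % 4 = 2 ∧
        cU (orderOf (q : ZMod r)) = orderOf ((q ^ 2 : ℕ) : ZMod r)) ∨
      (orderOf (q : ZMod r) % 4 ≠ 2 ∧
        cU (orderOf (q : ZMod r)) = 2 * orderOf ((q ^ 2 : ℕ) : ZMod r)))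
    (hni : ∀ W : Submodule F V, ND h W → W ≠ ⊥ → ∃ v ∈ W, h v v ≠ 0) :
    ∃ W : Submodule F V, W ≤ U ∧ Inv y W ∧ ND h W ∧ finrank F W = cU (orderOf (q : ZMod r)) := by
  classical
  have hr : r.Prime := Fact.out
  obtain ⟨hchar, e, hqe⟩ := exists_char_pow hF p f hFp
  set b := orderOf ((Fintype.card F : ℕ) : ZMod r) with hb
  have hbq : orderOf ((q ^ 2 : ℕ) : ZMod r) = b := by rw [hb, hF]
  rw [hbq] at hcU
  set c := cU (orderOf (q : ZMod r)) with hc
  have hb1 : 1 ≤ b := orderOf_card_pos p f hFp r hpr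
  obtain ⟨fs, hmonic, hdeg, hprod⟩ := cyclo_factors (F := F) p f hFp r hpr
  have hdivU : ∀ W : Submodule F V, W ≤ U → Inv y W → b ∣ finrank F W := fun W hWU hW =>
    dvd_finrank_of_le_V1 r hrF y hy W hW (le_trans hWU hUV1)
  have hkillU : ∀ v ∈ U, aeval y fs.prod v = 0 := by
    intro v hv
    rw [hprod, aeval_cyclotomic_eq_gsum]
    exact (mem_V1 r y v).mp (hUV1 hv)
  have hUpos : b ≤ finrank F U := by
    obtain ⟨k, hk⟩ := hdivU U le_rfl hU
    have hk0 : k ≠ 0 := by
      rintro rfl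
      rw [mul_zero] at hk
      exact hUne (Submodule.finrank_eq_zero.mp hk)
    rw [hk]
    exact Nat.le_mul_of_pos_right b (Nat.pos_of_ne_zero hk0)
  obtain ⟨M, hMU, hM, hMd⟩ := greedy y U hU b hb1 fs hmonic (fun g hg => le_of_eq (hdeg g hg))
    hkillU hdivU 1 (by rw [mul_one]; exact hUpos)
  rw [mul_one] at hMd
  have hMne : M ≠ ⊥ := by
    intro h0
    rw [h0, finrank_bot] at hMd
    omega
  -- irreducibility of subspaces of dimension `b`
  have hirr : ∀ M0 : Submodule F V, M0 ≤ U → finrank F M0 = b → ∀ Z : Submodule F V, Z ≤ M0 →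
      Inv y Z → Z = ⊥ ∨ Z = M0 := by
    intro M0 hM0U hM0d Z hZM hZ
    obtain ⟨k, hk⟩ := hdivU Z (le_trans hZM hM0U) hZ
    have hle := Submodule.finrank_mono hZM
    rw [hM0d] at hle
    rcases Nat.lt_or_ge k 1 with h1 | h1
    · left
      have : k = 0 := by omega
      rw [this, mul_zero] at hk
      exact Submodule.finrank_eq_zero.mp hk
    · right
      have hk1 : k = 1 := by
        by_contra hne
        have : 2 ≤ k := by omega
        have : b * 2 ≤ b * k := Nat.mul_le_mul_left b this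
        omega
      apply Submodule.eq_of_le_of_finrank_eq hZM
      rw [hk, hk1, mul_one, hM0d]
  have hperpinv : ∀ Z : Submodule F V, Inv y Z → Inv y (perp hh Z) := fun Z hZ =>
    inv_perp_one hF hh r hr.pos y hy hiso Z hZ
  have hMperp : Inv y (perp hh M) := hperpinv M hM
  rcases hirr M hMU hMd (M ⊓ perp hh M) inf_le_left (hM.inf hMperp) with hrad | hrad
  · -- `M` is nondegenerate
    have hMnd : ND h M := (nd_iff_disjoint hh M).mpr (disjoint_iff.mpr hrad)
    have hle := hSA M hM hMnd (le_trans hMU hUV1) hMne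
    refine ⟨M, hMU, hM, hMnd, ?_⟩
    rcases hcU with ⟨_, h2⟩ | ⟨_, h2⟩
    · rw [h2, hMd]
    · rw [h2, hMd] at hle
      omega
  · -- `M` is totally isotropic
    have hMti : M ≤ perp hh M := inf_eq_left.mp hrad
    have hU' : Inv y (perp hh M ⊓ U) := hMperp.inf hU
    obtain ⟨C, hC, hCc⟩ := exists_inv_compl r hrF 1 one_ne_zero y (by rw [hy, one_smul])
      (perp hh M ⊓ U) hU'
    have hM'inv : Inv y (C ⊓ U) := hC.inf hU
    have hsup : (perp hh M ⊓ U) ⊔ (C ⊓ U) = U := by
      rw [← sup_inf_assoc_of_le C (inf_le_right : perp hh M ⊓ U ≤ U), hCc.sup_eq_top,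
        top_inf_eq]
    have hinf : (perp hh M ⊓ U) ⊓ (C ⊓ U) = ⊥ := by
      rw [eq_bot_iff, ← hCc.inf_eq_bot]
      exact inf_le_inf le_rfl inf_le_left
    have hdimperp := finrank_perp_inf hF hh M U hMU hUnd
    have hM'd : finrank F ↥(C ⊓ U) = b := by
      have h1 := Submodule.finrank_sup_add_finrank_inf_eq (perp hh M ⊓ U) (C ⊓ U)
      rw [hsup, hinf, finrank_bot] at h1
      omega
    have hM'perp : (C ⊓ U) ⊓ perp hh M = ⊥ := by
      rw [eq_bot_iff, ← hinf]
      intro v hv
      obtain ⟨h1, h2⟩ := Submodule.mem_inf.mp hv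
      exact Submodule.mem_inf.mpr ⟨Submodule.mem_inf.mpr ⟨h2, (Submodule.mem_inf.mp h1).2⟩, h1⟩
    have hMM' : M ⊓ (C ⊓ U) = ⊥ := by
      rw [eq_bot_iff, ← hM'perp]
      intro v hv
      obtain ⟨h1, h2⟩ := Submodule.mem_inf.mp hv
      exact Submodule.mem_inf.mpr ⟨h2, hMti h1⟩
    have hHd : finrank F ↥(M ⊔ (C ⊓ U)) = 2 * b := by
      have h1 := Submodule.finrank_sup_add_finrank_inf_eq M (C ⊓ U)
      rw [hMM', finrank_bot, hMd, hM'd] at h1
      omega
    have hHU : M ⊔ (C ⊓ U) ≤ U := sup_le hMU inf_le_right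
    have hHinv : Inv y (M ⊔ (C ⊓ U)) := hM.sup hM'inv
    have hHnd : ND h (M ⊔ (C ⊓ U)) := by
      intro x hx hx'
      obtain ⟨m, hm, m', hm', rfl⟩ := Submodule.mem_sup.mp hx
      have hm'0 : m' = 0 := by
        have : m' ∈ (C ⊓ U) ⊓ perp hh M := by
          refine Submodule.mem_inf.mpr ⟨hm', ?_⟩
          intro x hx
          have h1 := hx' x (Submodule.mem_sup_left hx)
          rw [hh.add_left] at h1
          have h2 : h m x = 0 := hMti hm x hx
          rw [h2, zero_add] at h1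
          exact h1
        rw [hM'perp, Submodule.mem_bot] at this
        exact this
      subst hm'0
      rw [add_zero] at hx' ⊢
      apply hUnd m (hMU hm)
      intro x hx
      rw [← hsup] at hx
      obtain ⟨a, ha, b', hb', rfl⟩ := Submodule.mem_sup.mp hx
      rw [hh.add_right hF, hx' b' (Submodule.mem_sup_right hb'), add_zero]
      exact eq_zero_symm hF hh ((Submodule.mem_inf.mp ha).1 m hm)
    rcases hcU with ⟨hi4, hcb⟩ | ⟨_, hcb⟩
    swap
    · exact ⟨M ⊔ (C ⊓ U), hHU, hHinv, hHnd, by rw [hcb]; exact hHd⟩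
    -- `i ≡ 2 (mod 4)`: a nondegenerate invariant subspace of dimension `b` inside `H`
    rw [hcb]
    set i := orderOf (q : ZMod r) with hi
    have hci : c = i / 2 := by
      rw [hc]
      unfold cU
      rw [if_neg (by omega), if_pos hi4]
    have hbi : b = i / 2 := by rw [← hcb, hci]
    have hbodd : b % 2 = 1 := by omega
    obtain ⟨u0, hu0M, hu00⟩ := Submodule.exists_mem_ne_zero_of_ne_bot hMne
    obtain ⟨P, hPfs, v0, hv0M, hv0ne, hPv0⟩ := exists_step y M ⊥ hM fs u0 hu0M
      (fun h0 => hu00 ((Submodule.mem_bot F).mp h0))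
      (by rw [hkillU u0 (hMU hu0M)]; exact Submodule.zero_mem _)
    have hPm := hmonic P hPfs
    have hPd : P.natDegree = b := hdeg P hPfs
    have hcomm : ∀ w, aeval y P (y w) = y (aeval y P w) := by
      intro w
      have h1 : aeval y P * y = y * aeval y P := by
        have : aeval y (P * X) = aeval y (X * P) := by rw [mul_comm]
        rwa [map_mul, map_mul, aeval_X] at this
      have := congrArg (fun g => g w) h1
      simpa [Module.End.mul_apply] using this
    have hkerinv : Inv y (LinearMap.ker (aeval y P)) := by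
      intro w hw
      rw [LinearMap.mem_ker] at hw ⊢
      rw [hcomm, hw, map_zero]
    have hPM : ∀ m ∈ M, aeval y P m = 0 := by
      rcases hirr M hMU hMd (M ⊓ LinearMap.ker (aeval y P)) inf_le_left (hM.inf hkerinv)
        with h0 | h0
      · exfalso
        apply hv0ne
        rw [← h0]
        exact Submodule.mem_inf.mpr ⟨hv0M, LinearMap.mem_ker.mpr ((Submodule.mem_bot F).mp hPv0)⟩
      · intro m hm
        have : m ∈ M ⊓ LinearMap.ker (aeval y P) := by rw [h0]; exact hm
        exact LinearMap.mem_ker.mp (Submodule.mem_inf.mp this).2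
    -- the inverse of `y` as a Frobenius power
    set Q := q ^ b with hQ
    have hQr : r ∣ Q + 1 := by
      rw [hQ, hbi]
      exact Cfsg.Agent.Lib.Helper98.Sy.dvd_pow_half_add_one q r (by
        rw [← hi, Nat.even_iff]; omega) (by rw [← hi]; omega)
    have hyi : ∀ v, y ((y ^ Q) v) = v := by
      intro v
      obtain ⟨s, hs⟩ := hQr
      rw [← Module.End.mul_apply, ← pow_succ', hs, pow_mul, hy, one_pow, Module.End.one_apply]
    set σ : F →+* F := iterateFrobenius F p e with hσdef
    have hσ : ∀ a, σ a = a ^ q := by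
      intro a
      rw [hσdef, iterateFrobenius_def, ← hqe]
    -- `(P.map σ)(y^Q) = P(y)^Q`
    obtain ⟨k', hk'⟩ : ∃ k', b = 2 * k' + 1 := ⟨b / 2, by omega⟩
    have hPiM : ∀ m ∈ M, aeval (y ^ Q) (P.map σ) m = 0 := by
      intro m hm
      have h1 : y ^ Q = (y ^ (Fintype.card F ^ k')) ^ (p ^ e) := by
        rw [← pow_mul, hQ, hF, ← hqe, hk', ← pow_mul, ← pow_succ]
      rw [h1, ← aeval_pow_char_pow p e, Cfsg.Agent.Lib.Helper98.Sy.aeval_pow_card_pow, ← pow_mul]
      have hpos : 0 < Fintype.card F ^ k' * p ^ e :=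
        Nat.mul_pos (Nat.pos_of_ne_zero (pow_ne_zero _ Fintype.card_ne_zero))
          (Nat.pos_of_ne_zero (pow_ne_zero _ (Fact.out : p.Prime).ne_zero))
      have : Fintype.card F ^ k' * p ^ e = (Fintype.card F ^ k' * p ^ e - 1) + 1 := by omega
      rw [this, pow_succ, Module.End.mul_apply, hPM m hm, map_zero]
    have hPM' : ∀ m' ∈ C ⊓ U, aeval y P m' = 0 := by
      intro m' hm'
      have h1 : aeval y P m' ∈ C ⊓ U := hM'inv.aeval_mem P m' hm'
      have h2 : aeval y P m' ∈ perp hh M := by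
        intro n hn
        rw [adjoint_aeval_u hF hh σ hσ y (y ^ Q) hiso hyi P m' n, hPiM n hn, hh.zero_right hF]
      have : aeval y P m' ∈ (C ⊓ U) ⊓ perp hh M := Submodule.mem_inf.mpr ⟨h1, h2⟩
      rw [hM'perp, Submodule.mem_bot] at this
      exact this
    have hPH : ∀ x ∈ M ⊔ (C ⊓ U), aeval y P x = 0 := by
      intro x hx
      obtain ⟨m, hm, m', hm', rfl⟩ := Submodule.mem_sup.mp hx
      rw [map_add, hPM m hm, hPM' m' hm', add_zero]
    have hHne : M ⊔ (C ⊓ U) ≠ ⊥ := by
      intro h0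
      rw [h0, finrank_bot] at hHd
      omega
    obtain ⟨v, hvH, hvne⟩ := hni _ hHnd hHne
    have hZinv := Cfsg.Agent.Lib.Helper98.Sy.inv_span_of_aeval_eq_zero y P hPm v (hPH v hvH)
    rw [hPd] at hZinv
    have hvZ : v ∈ Submodule.span F (Set.range (fun k : Fin b => (y ^ (k : ℕ)) v)) := by
      have : (y ^ ((⟨0, by omega⟩ : Fin b) : ℕ)) v ∈
          Submodule.span F (Set.range (fun k : Fin b => (y ^ (k : ℕ)) v)) :=
        Submodule.subset_span ⟨⟨0, by omega⟩, rfl⟩
      simpa using this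
    have hZH : Submodule.span F (Set.range (fun k : Fin b => (y ^ (k : ℕ)) v)) ≤ M ⊔ (C ⊓ U) := by
      apply Submodule.span_le.mpr
      rintro _ ⟨k, rfl⟩
      exact hHinv.pow_mem _ v hvH
    have hZle : finrank F ↥(Submodule.span F (Set.range (fun k : Fin b => (y ^ (k : ℕ)) v))) ≤ b := by
      have := finrank_range_le_card (R := F) (fun k : Fin b => (y ^ (k : ℕ)) v)
      simp only [Fintype.card_fin] at this
      exact this
    have hv0 : v ≠ 0 := by
      rintro rfl
      exact hvne (hh.zero_left 0)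
    have hZne : Submodule.span F (Set.range (fun k : Fin b => (y ^ (k : ℕ)) v)) ≠ ⊥ := by
      intro h0
      rw [h0, Submodule.mem_bot] at hvZ
      exact hv0 hvZ
    have hZd : finrank F ↥(Submodule.span F (Set.range (fun k : Fin b => (y ^ (k : ℕ)) v))) = b := by
      obtain ⟨k, hk⟩ := hdivU _ (le_trans hZH hHU) hZinv
      have hk0 : k ≠ 0 := by
        rintro rfl
        rw [mul_zero] at hk
        exact hZne (Submodule.finrank_eq_zero.mp hk)
      have : b ≤ b * k := Nat.le_mul_of_pos_right b (Nat.pos_of_ne_zero hk0)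
      omega
    refine ⟨_, le_trans hZH hHU, hZinv, ?_, hZd⟩
    rcases hirr _ (le_trans hZH hHU) hZd _ inf_le_left
      (hZinv.inf (hperpinv _ hZinv)) with h0 | h0
    · exact (nd_iff_disjoint hh _).mpr (disjoint_iff.mpr h0)
    · exfalso
      have hti := inf_eq_left.mp h0
      apply hvne
      exact hti hvZ v hvZ

end Cfsg.Agent.Lib.Helper98.UNd
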