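import Mathlib
import Cfsg.Agent.Lib.Helper45.SLCard

/-!
# Borel / unipotent facts in `SL₂(F)` and `PSL₂(F)` (package U for the Dickson keystone)
-/

set_option autoImplicit false

namespace Cfsg.Agent.Lib.Helper98.SL2Borel

open Matrix

variable {F : Type*} [Field F]

local notation "S" => Matrix.SpecialLinearGroup (Fin 2) F
local notation "G" => Matrix.ProjectiveSpecialLinearGroup (Fin 2) F

/-- upper unitriangular element -/
def uMat (x : F) : S := ⟨!![1, x; 0, 1], by simp [Matrix.det_fin_two_of]⟩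

@[simp] lemma uMat_coe (x : F) : (uMat x).1 = !![1, x; 0, 1] := rfl

lemma det_eq (Y : S) : Y.1 0 0 * Y.1 1 1 - Y.1 0 1 * Y.1 1 0 = 1 := by
  have := Y.2
  rwa [Matrix.det_fin_two] at this

lemma coe_inv_apply (Y : S) : (Y⁻¹).1 = !![Y.1 1 1, -Y.1 0 1; -Y.1 1 0, Y.1 0 0] := by
  rw [Matrix.SpecialLinearGroup.coe_inv, Matrix.adjugate_fin_two]

lemma ext_entries {A B : S} (h00 : A.1 0 0 = B.1 0 0) (h01 : A.1 0 1 = B.1 0 1)
    (h10 : A.1 1 0 = B.1 1 0) (h11 : A.1 1 1 = B.1 1 1) : A = B := by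
  apply Subtype.ext
  ext i j
  fin_cases i <;> fin_cases j <;> assumption

lemma mul_entries (A B : S) :
    (A * B).1 0 0 = A.1 0 0 * B.1 0 0 + A.1 0 1 * B.1 1 0 ∧
    (A * B).1 0 1 = A.1 0 0 * B.1 0 1 + A.1 0 1 * B.1 1 1 ∧
    (A * B).1 1 0 = A.1 1 0 * B.1 0 0 + A.1 1 1 * B.1 1 0 ∧
    (A * B).1 1 1 = A.1 1 0 * B.1 0 1 + A.1 1 1 * B.1 1 1 := by
  rw [Matrix.SpecialLinearGroup.coe_mul]
  simp [Matrix.mul_apply, Fin.sum_univ_two]

lemma uMat_mul (x y : F) : uMat x * uMat y = uMat (x + y) := by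
  apply ext_entries <;> simp [(mul_entries _ _).1, (mul_entries _ _).2.1, (mul_entries _ _).2.2.1, (mul_entries _ _).2.2.2, add_comm]

lemma uMat_zero : uMat (0 : F) = 1 := by
  apply ext_entries <;> simp

lemma uMat_inv (x : F) : (uMat x)⁻¹ = uMat (-x) := by
  rw [inv_eq_iff_mul_eq_one, uMat_mul, add_neg_cancel, uMat_zero]

lemma uMat_injective : Function.Injective (uMat : F → S) := by
  intro x y h
  have := congrArg (fun M : S => M.1 0 1) h
  simpa using this

/-- (Ua) the centralizer of a nontrivial upper unitriangular element. -/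
theorem commute_uMat_iff (B : S) (x : F) (hx : x ≠ 0) :
    B * uMat x = uMat x * B ↔ (B.1 1 0 = 0 ∧ B.1 0 0 = B.1 1 1) := by
  constructor
  · intro h
    have h00 := congrArg (fun M : S => M.1 0 0) h
    have h01 := congrArg (fun M : S => M.1 0 1) h
    simp only [(mul_entries _ _).1, (mul_entries _ _).2.1] at h00 h01
    simp at h00 h01
    have hc : B.1 1 0 = 0 := by
      rcases h00 with h | h
      · exact absurd h hx
      · exact h
    refine ⟨hc, ?_⟩
    have : x * (B.1 0 0 - B.1 1 1) = 0 := by linear_combination h01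
    rcases mul_eq_zero.mp this with h | h
    · exact absurd h hx
    · exact sub_eq_zero.mp h
  · rintro ⟨h1, h2⟩
    apply ext_entries <;>
      simp [(mul_entries _ _).1, (mul_entries _ _).2.1, (mul_entries _ _).2.2.1,
        (mul_entries _ _).2.2.2, h1, h2]
    ring

theorem commute_uMat_one_iff (B : S) :
    B * uMat 1 = uMat 1 * B ↔ (B.1 1 0 = 0 ∧ B.1 0 0 = B.1 1 1) :=
  commute_uMat_iff B 1 one_ne_zero

/-- entries of a conjugate of `uMat x` -/
lemma conj_uMat_entries (Y : S) (x : F) :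
    (Y * uMat x * Y⁻¹).1 0 0 = 1 - x * Y.1 0 0 * Y.1 1 0 ∧
    (Y * uMat x * Y⁻¹).1 0 1 = x * (Y.1 0 0) ^ 2 ∧
    (Y * uMat x * Y⁻¹).1 1 0 = -(x * (Y.1 1 0) ^ 2) ∧
    (Y * uMat x * Y⁻¹).1 1 1 = 1 + x * Y.1 0 0 * Y.1 1 0 := by
  have hd := det_eq Y
  simp only [(mul_entries _ _).1, (mul_entries _ _).2.1, (mul_entries _ _).2.2.1,
        (mul_entries _ _).2.2.2, coe_inv_apply, uMat_coe]
  simp
  refine ⟨?_, ?_, ?_, ?_⟩
  · linear_combination hd
  · ring
  · ring
  · linear_combination hd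

/-- (Ub) -/
theorem conj_uMat_lower_iff (Y : S) (x : F) (hx : x ≠ 0) :
    (Y * uMat x * Y⁻¹).1 1 0 = 0 ↔ Y.1 1 0 = 0 := by
  rw [(conj_uMat_entries Y x).2.2.1]
  constructor
  · intro h
    have : x * (Y.1 1 0) ^ 2 = 0 := by linear_combination -h
    rcases mul_eq_zero.mp this with h | h
    · exact absurd h hx
    · exact pow_eq_zero_iff (two_ne_zero) |>.mp h
  · intro h
    rw [h]; ring

theorem conj_uMat_one_lower_iff (Y : S) :
    (Y * uMat 1 * Y⁻¹).1 1 0 = 0 ↔ Y.1 1 0 = 0 :=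
  conj_uMat_lower_iff Y 1 one_ne_zero

/-- conjugating `uMat x` by an upper triangular element -/
lemma conj_uMat_of_upper (Y : S) (h : Y.1 1 0 = 0) (x : F) :
    Y * uMat x * Y⁻¹ = uMat ((Y.1 0 0) ^ 2 * x) := by
  obtain ⟨h00, h01, h10, h11⟩ := conj_uMat_entries Y x
  apply ext_entries
  · rw [h00, h]; simp
  · rw [h01]; simp [mul_comm]
  · rw [h10, h]; simp
  · rw [h11, h]; simp

/-- scalar characterisation of the centre -/
lemma mem_center_iff' (A : S) :
    A ∈ Subgroup.center S ↔ (A.1 0 1 = 0 ∧ A.1 1 0 = 0 ∧ A.1 0 0 = A.1 1 1) := by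
  rw [Matrix.SpecialLinearGroup.mem_center_iff]
  constructor
  · rintro ⟨r, -, hr⟩
    rw [← hr]
    simp
  · rintro ⟨h1, h2, h3⟩
    have hd := det_eq A
    rw [h1, h3] at hd
    refine ⟨A.1 1 1, ?_, ?_⟩
    · rw [Fintype.card_fin]; linear_combination hd
    · ext i j
      fin_cases i <;> fin_cases j <;> simp [h1, h2, h3]

lemma uMat_mem_center_iff (x : F) : uMat x ∈ Subgroup.center S ↔ x = 0 := by
  rw [mem_center_iff']
  simp

lemma mk_uMat_eq_iff (x y : F) :
    (QuotientGroup.mk (uMat x) : G) = QuotientGroup.mk (uMat y) ↔ x = y := by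
  rw [QuotientGroup.eq, uMat_inv, uMat_mul, uMat_mem_center_iff]
  constructor
  · intro h; linear_combination -h
  · intro h; rw [h]; ring

/-- (Ue) -/
theorem mk_conj_uMat_ne (Y : S) (h : Y.1 1 0 = 0) (ha : (Y.1 0 0) ^ 2 ≠ 1) (x : F) (hx : x ≠ 0) :
    (QuotientGroup.mk (Y * uMat x * Y⁻¹) : G) ≠ QuotientGroup.mk (uMat x) := by
  rw [conj_uMat_of_upper Y h, Ne, mk_uMat_eq_iff]
  intro h1
  apply ha
  have : ((Y.1 0 0) ^ 2 - 1) * x = 0 := by linear_combination h1
  rcases mul_eq_zero.mp this with h | h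
  · exact sub_eq_zero.mp h
  · exact absurd h hx

/-- (Uf) -/
theorem lower_eq_zero_of_commute (Y W : S) (h : Y.1 1 0 = 0) (ha : (Y.1 0 0) ^ 2 ≠ 1)
    (hc : W * Y = Y * W) : W.1 1 0 = 0 := by
  have hd := det_eq Y
  rw [h, mul_zero, sub_zero] at hd
  have h10 := congrArg (fun M : S => M.1 1 0) hc
  simp only [(mul_entries _ _).2.2.1, h] at h10
  have h2 : W.1 1 0 * (Y.1 0 0 - Y.1 1 1) = 0 := by linear_combination h10
  rcases mul_eq_zero.mp h2 with h3 | h3
  · exact h3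
  · exfalso
    apply ha
    have : Y.1 0 0 = Y.1 1 1 := sub_eq_zero.mp h3
    rw [← this] at hd
    linear_combination hd

/-- (Uf') the version in `PSL₂`: needs the fourth power. -/
theorem lower_eq_zero_of_mk_commute (Y W : S) (h : Y.1 1 0 = 0) (ha : (Y.1 0 0) ^ 4 ≠ 1)
    (hc : (QuotientGroup.mk W : G) * QuotientGroup.mk Y = QuotientGroup.mk Y * QuotientGroup.mk W) :
    W.1 1 0 = 0 := by
  have hd := det_eq Y
  rw [h, mul_zero, sub_zero] at hd
  rw [← QuotientGroup.mk_mul, ← QuotientGroup.mk_mul, QuotientGroup.eq] at hc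
  set z : S := (W * Y)⁻¹ * (Y * W) with hz
  have hYW : Y * W = W * Y * z := by rw [hz]; group
  obtain ⟨h01, h10, hdiag⟩ := (mem_center_iff' z).mp hc
  have hdz := det_eq z
  rw [h01, zero_mul, sub_zero, hdiag] at hdz
  have e10 := congrArg (fun M : S => M.1 1 0) hYW
  simp only [(mul_entries _ _).2.2.1, (mul_entries _ _).2.2.2, h, h10, hdiag] at e10
  by_contra hy
  apply ha
  have h1 : W.1 1 0 * (1 - (Y.1 0 0) ^ 2 * z.1 1 1) = 0 := by
    linear_combination (Y.1 0 0) * e10 - (W.1 1 0) * hd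
  have h2 : (Y.1 0 0) ^ 2 * z.1 1 1 = 1 := by
    rcases mul_eq_zero.mp h1 with h3 | h3
    · exact absurd h3 hy
    · linear_combination -h3
  have : (Y.1 0 0) ^ 4 * (z.1 1 1 * z.1 1 1) = 1 := by
    have : (Y.1 0 0) ^ 4 * (z.1 1 1 * z.1 1 1) = ((Y.1 0 0) ^ 2 * z.1 1 1) ^ 2 := by ring
    rw [this, h2]; ring
  rw [hdz, mul_one] at this
  exact this

/-- powers of an upper triangular element -/
lemma pow_upper (Y : S) (h : Y.1 1 0 = 0) (n : ℕ) :
    (Y ^ n).1 1 0 = 0 ∧ (Y ^ n).1 0 0 = (Y.1 0 0) ^ n ∧ (Y ^ n).1 1 1 = (Y.1 1 1) ^ n ∧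
      (Y ^ n).1 0 1 * (Y.1 0 0 - Y.1 1 1) = Y.1 0 1 * ((Y.1 0 0) ^ n - (Y.1 1 1) ^ n) := by
  induction n with
  | zero => simp
  | succ n ih =>
    obtain ⟨i1, i2, i3, i4⟩ := ih
    rw [pow_succ]
    simp only [(mul_entries _ _).1, (mul_entries _ _).2.1, (mul_entries _ _).2.2.1,
        (mul_entries _ _).2.2.2, h, i1, i2, i3]
    refine ⟨by ring, by ring, by ring, ?_⟩
    linear_combination (Y.1 1 1) * i4

/-- (Uc), in `SL₂` -/
theorem pow_card_sub_one_of_upper [Fintype F] (Y : S) (h : Y.1 1 0 = 0) (ha : (Y.1 0 0) ^ 2 ≠ 1) :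
    Y ^ (Fintype.card F - 1) = 1 := by
  have hd := det_eq Y
  rw [h, mul_zero, sub_zero] at hd
  have ha0 : Y.1 0 0 ≠ 0 := by
    intro h0; rw [h0, zero_mul] at hd; exact zero_ne_one hd
  have hd0 : Y.1 1 1 ≠ 0 := by
    intro h0; rw [h0, mul_zero] at hd; exact zero_ne_one hd
  obtain ⟨i1, i2, i3, i4⟩ := pow_upper Y h (Fintype.card F - 1)
  rw [FiniteField.pow_card_sub_one_eq_one _ ha0] at i2
  rw [FiniteField.pow_card_sub_one_eq_one _ hd0] at i3
  rw [FiniteField.pow_card_sub_one_eq_one _ ha0, FiniteField.pow_card_sub_one_eq_one _ hd0, sub_self,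
    mul_zero] at i4
  have hne : Y.1 0 0 - Y.1 1 1 ≠ 0 := by
    intro h0
    apply ha
    have : Y.1 0 0 = Y.1 1 1 := sub_eq_zero.mp h0
    rw [← this] at hd
    linear_combination hd
  have i5 : (Y ^ (Fintype.card F - 1)).1 0 1 = 0 := by
    rcases mul_eq_zero.mp i4 with h1 | h1
    · exact h1
    · exact absurd h1 hne
  apply ext_entries
  · rw [i2]; simp
  · rw [i5]; simp
  · rw [i1]; simp
  · rw [i3]; simp

/-- (Uc) -/
theorem mk_pow_card_sub_one_of_upper [Fintype F] (Y : S) (h : Y.1 1 0 = 0)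
    (ha : (Y.1 0 0) ^ 2 ≠ 1) :
    (QuotientGroup.mk Y : G) ^ (Fintype.card F - 1) = 1 := by
  rw [← QuotientGroup.mk_pow, pow_card_sub_one_of_upper Y h ha]
  rfl

/-- diagonal element -/
def dMat (u : Fˣ) : S := ⟨!![(u : F), 0; 0, ((u⁻¹ : Fˣ) : F)], by simp [Matrix.det_fin_two_of]⟩

@[simp] lemma dMat_coe (u : Fˣ) : (dMat u).1 = !![(u : F), 0; 0, ((u⁻¹ : Fˣ) : F)] := rfl

lemma dMat_mul (u v : Fˣ) : dMat u * dMat v = dMat (u * v) := by
  apply ext_entries <;>
    simp [(mul_entries _ _).1, (mul_entries _ _).2.1, (mul_entries _ _).2.2.1,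
      (mul_entries _ _).2.2.2, mul_comm]

lemma dMat_one : dMat (1 : Fˣ) = 1 := by
  apply ext_entries <;> simp

lemma dMat_pow (u : Fˣ) (n : ℕ) : dMat u ^ n = dMat (u ^ n) := by
  induction n with
  | zero => simp [dMat_one]
  | succ n ih => rw [pow_succ, ih, dMat_mul, pow_succ]

/-- (Ud) -/
theorem exists_diag_generator [Fintype F] :
    ∃ Y0 : S, Y0.1 1 0 = 0 ∧ ∀ Y : S, Y.1 1 0 = 0 →
      ∃ i : ℕ, (Y * Y0 ^ i).1 1 0 = 0 ∧ (Y * Y0 ^ i).1 0 0 = 1 ∧ (Y * Y0 ^ i).1 1 1 = 1 := by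
  obtain ⟨ζ, hζ⟩ := IsCyclic.exists_monoid_generator (α := Fˣ)
  refine ⟨dMat ζ, by simp, ?_⟩
  intro Y h
  have hd := det_eq Y
  rw [h, mul_zero, sub_zero] at hd
  have ha0 : Y.1 0 0 ≠ 0 := by
    intro h0; rw [h0, zero_mul] at hd; exact zero_ne_one hd
  obtain ⟨i, hi⟩ := hζ (Units.mk0 _ ha0)⁻¹
  refine ⟨i, ?_⟩
  have hi' : ζ ^ i = (Units.mk0 _ ha0)⁻¹ := hi
  rw [dMat_pow, hi']
  simp only [(mul_entries _ _).1, (mul_entries _ _).2.2.1, (mul_entries _ _).2.2.2, h, dMat_coe]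
  simp [ha0]
  rw [mul_comm]; exact hd

lemma uMat_pow (x : F) (n : ℕ) : uMat x ^ n = uMat (n * x) := by
  induction n with
  | zero => simp [uMat_zero]
  | succ n ih => rw [pow_succ, ih, uMat_mul]; congr 1; push_cast; ring

/-- (Ug), first part -/
theorem mk_uMat_pow_char (p : ℕ) [CharP F p] (x : F) :
    (QuotientGroup.mk (uMat x) : G) ^ p = 1 := by
  rw [← QuotientGroup.mk_pow, uMat_pow, CharP.cast_eq_zero, zero_mul, uMat_zero]
  rfl

/-- the unipotent subgroup as a homomorphism into `PSL₂` -/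
def uBarHom : Multiplicative F →* G where
  toFun x := QuotientGroup.mk (uMat (Multiplicative.toAdd x))
  map_one' := by simp [uMat_zero]
  map_mul' x y := by
    rw [← QuotientGroup.mk_mul, uMat_mul]; rfl

lemma uBarHom_injective : Function.Injective (uBarHom : Multiplicative F →* G) := by
  intro x y h
  exact Multiplicative.toAdd.injective ((mk_uMat_eq_iff _ _).mp h)

lemma mem_uBar_range (y : G) :
    y ∈ (uBarHom : Multiplicative F →* G).range ↔ ∃ x : F, y = QuotientGroup.mk (uMat x) := by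
  constructor
  · rintro ⟨x, rfl⟩
    exact ⟨Multiplicative.toAdd x, rfl⟩
  · rintro ⟨x, rfl⟩
    exact ⟨Multiplicative.ofAdd x, rfl⟩

section finite

variable [Fintype F]

lemma card_uBar : Nat.card (uBarHom : Multiplicative F →* G).range = Fintype.card F := by
  rw [← Nat.card_congr (MonoidHom.ofInjective uBarHom_injective).toEquiv, Nat.card_eq_fintype_card]
  exact Fintype.card_congr Multiplicative.toAdd

variable (p : ℕ) [Fact p.Prime] [CharP F p]

lemma isPGroup_uBar : IsPGroup p (uBarHom : Multiplicative F →* G).range := by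
  obtain ⟨n, -, hn⟩ := FiniteField.card F p
  exact IsPGroup.of_card (n := n) (by rw [card_uBar, hn])

lemma not_dvd_index_uBar : ¬ p ∣ (uBarHom : Multiplicative F →* G).range.index := by
  obtain ⟨n, hp, hn⟩ := FiniteField.card F p
  have h1 := (uBarHom : Multiplicative F →* G).range.index_mul_card
  rw [card_uBar] at h1
  have h2 := Subgroup.card_eq_card_quotient_mul_card_subgroup (Subgroup.center S)
  rw [Cfsg.Agent.Lib.Helper45.card_SL2] at h2
  have hpos : 0 < Fintype.card F := Fintype.card_pos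
  have h3 : (uBarHom : Multiplicative F →* G).range.index * Nat.card (Subgroup.center S) =
      Fintype.card F ^ 2 - 1 := by
    apply Nat.eq_of_mul_eq_mul_left hpos
    rw [h2]
    have : Nat.card (S ⧸ Subgroup.center S) = Nat.card G := rfl
    rw [this, ← h1]; ring
  intro hdvd
  have h4 : p ∣ Fintype.card F ^ 2 - 1 := by
    rw [← h3]; exact dvd_mul_of_dvd_left hdvd _
  have hpq : p ∣ Fintype.card F ^ 2 := by
    rw [hn]; exact dvd_pow (dvd_pow_self p n.ne_zero) (by norm_num)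
  have h5 : 1 ≤ Fintype.card F ^ 2 := Nat.one_le_pow _ _ hpos
  have : p ∣ Fintype.card F ^ 2 - (Fintype.card F ^ 2 - 1) := Nat.dvd_sub hpq h4
  rw [show Fintype.card F ^ 2 - (Fintype.card F ^ 2 - 1) = 1 by omega] at this
  exact hp.ne_one (Nat.dvd_one.mp this)

/-- the image of the unipotent group is a Sylow `p`-subgroup of `PSL₂` -/
noncomputable def sylUBar : Sylow p G :=
  (isPGroup_uBar p).toSylow (not_dvd_index_uBar p)

/-- (Ug), Sylow part -/
theorem exists_conj_uMat_of_isPGroup (Sg : Subgroup G) (hSg : IsPGroup p Sg) :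
    ∃ X : S, ∀ y ∈ Sg, ∃ x : F, y = QuotientGroup.mk (X * uMat x * X⁻¹) := by
  obtain ⟨Q, hQ⟩ := hSg.exists_le_sylow
  obtain ⟨g, hg⟩ := MulAction.exists_smul_eq G (sylUBar (F := F) p) Q
  obtain ⟨X, rfl⟩ := QuotientGroup.mk_surjective g
  refine ⟨X, ?_⟩
  intro y hy
  have hy' : y ∈ (Q : Subgroup G) := hQ hy
  rw [← hg, Sylow.coe_subgroup_smul, Subgroup.mem_smul_pointwise_iff_exists] at hy'
  obtain ⟨u, hu, rfl⟩ := hy'
  have hu' : u ∈ (uBarHom : Multiplicative F →* G).range := hu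
  obtain ⟨x, rfl⟩ := (mem_uBar_range u).mp hu'
  refine ⟨x, ?_⟩
  rw [MulAut.smul_def, MulAut.conj_apply]
  rfl

end finite

/-- an eigenvalue when `tr² = 4` -/
lemma exists_eps (τ : F) (hτ : τ ^ 2 = 4) : ∃ ε : F, ε ^ 2 = 1 ∧ 2 * ε = τ := by
  by_cases h2 : (2 : F) = 0
  · refine ⟨1, one_pow 2, ?_⟩
    have h4 : (4 : F) = 0 := by
      have : (4 : F) = 2 * 2 := by norm_num
      rw [this, h2, mul_zero]
    rw [h4] at hτ
    rw [h2, zero_mul]
    exact (pow_eq_zero_iff two_ne_zero).mp hτ |>.symm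
  · refine ⟨τ / 2, ?_, by field_simp⟩
    rw [div_pow, hτ]
    have : (2 : F) ^ 2 = 4 := by norm_num
    rw [this]
    have h4 : (4 : F) ≠ 0 := by
      have : (4 : F) = 2 * 2 := by norm_num
      rw [this]; exact mul_ne_zero h2 h2
    exact div_self h4

/-- entries of a general conjugate -/
lemma conj_entries (X A : S) :
    (X * A * X⁻¹).1 1 0 =
      (X.1 1 0 * A.1 0 0 + X.1 1 1 * A.1 1 0) * X.1 1 1 -
        (X.1 1 0 * A.1 0 1 + X.1 1 1 * A.1 1 1) * X.1 1 0 ∧
    (X * A * X⁻¹).1 0 0 =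
      (X.1 0 0 * A.1 0 0 + X.1 0 1 * A.1 1 0) * X.1 1 1 -
        (X.1 0 0 * A.1 0 1 + X.1 0 1 * A.1 1 1) * X.1 1 0 ∧
    (X * A * X⁻¹).1 1 1 =
      -((X.1 1 0 * A.1 0 0 + X.1 1 1 * A.1 1 0) * X.1 0 1) +
        (X.1 1 0 * A.1 0 1 + X.1 1 1 * A.1 1 1) * X.1 0 0 := by
  refine ⟨?_, ?_, ?_⟩ <;>
  · simp only [(mul_entries _ _).1, (mul_entries _ _).2.1, (mul_entries _ _).2.2.1,
        (mul_entries _ _).2.2.2, coe_inv_apply]
    simp
    try ring

/-- (Uh) normal form of a non-central element with `tr² = 4`. -/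
theorem exists_conj_upper_of_trace_sq (A : S) (_hA : A ∉ Subgroup.center S)
    (ht : (Matrix.trace (A : Matrix (Fin 2) (Fin 2) F)) ^ 2 = 4) :
    ∃ X : S, (X * A * X⁻¹).1 1 0 = 0 ∧ (X * A * X⁻¹).1 0 0 = (X * A * X⁻¹).1 1 1 := by
  rw [Matrix.trace_fin_two] at ht
  have hd := det_eq A
  obtain ⟨ε, hε1, hε2⟩ := exists_eps _ ht
  by_cases hc : A.1 1 0 = 0
  · refine ⟨1, by simpa using hc, ?_⟩
    have : (A.1 0 0 - A.1 1 1) ^ 2 = 0 := by
      rw [hc, mul_zero, sub_zero] at hd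
      linear_combination ht - 4 * hd
    have := (pow_eq_zero_iff two_ne_zero).mp this
    simpa using sub_eq_zero.mp this
  · -- lower-left entry nonzero
    let X : S := ⟨!![0, (A.1 1 0)⁻¹; -(A.1 1 0), ε - A.1 1 1], by
      rw [Matrix.det_fin_two_of]
      field_simp
      ring⟩
    have hX00 : X.1 0 0 = 0 := rfl
    have hX01 : X.1 0 1 = (A.1 1 0)⁻¹ := rfl
    have hX10 : X.1 1 0 = -(A.1 1 0) := rfl
    have hX11 : X.1 1 1 = ε - A.1 1 1 := rfl
    obtain ⟨e10, e00, e11⟩ := conj_entries X A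
    refine ⟨X, ?_, ?_⟩
    · rw [e10, hX10, hX11]
      linear_combination (A.1 1 0) * hd + (A.1 1 0) * ε * hε2 - (A.1 1 0) * hε1
    · have h00 : (X * A * X⁻¹).1 0 0 = ε := by
        rw [e00, hX00, hX01, hX10, hX11]
        have : (A.1 1 0)⁻¹ * A.1 1 0 = 1 := inv_mul_cancel₀ hc
        linear_combination (ε - A.1 1 1 + A.1 1 1) * this
      have h11 : (X * A * X⁻¹).1 1 1 = ε := by
        rw [e11, hX00, hX01, hX10, hX11]
        have : A.1 1 0 * (A.1 1 0)⁻¹ = 1 := mul_inv_cancel₀ hc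
        linear_combination (A.1 0 0 - ε + A.1 1 1) * this - hε2
      rw [h00, h11]

lemma neg_one_mem_center : (-1 : S) ∈ Subgroup.center S := by
  rw [mem_center_iff']
  simp

lemma mk_neg (A : S) : (QuotientGroup.mk (-A) : G) = QuotientGroup.mk A := by
  rw [QuotientGroup.eq]
  have : (-A)⁻¹ * A = -1 := by
    rw [inv_mul_eq_iff_eq_mul]
    simp
  rw [this]
  exact neg_one_mem_center

/-- (Ua) for `-uMat x` -/
theorem commute_neg_uMat_iff (B : S) (x : F) (hx : x ≠ 0) :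
    B * (-uMat x) = (-uMat x) * B ↔ (B.1 1 0 = 0 ∧ B.1 0 0 = B.1 1 1) := by
  rw [mul_neg, neg_mul, neg_inj]
  exact commute_uMat_iff B x hx

/-- the centralizer of the image of `uMat x` in `PSL₂` -/
theorem mk_commute_uMat_iff (B : S) (x : F) (hx : x ≠ 0) :
    (QuotientGroup.mk B : G) * QuotientGroup.mk (uMat x) =
      QuotientGroup.mk (uMat x) * QuotientGroup.mk B ↔ (B.1 1 0 = 0 ∧ B.1 0 0 = B.1 1 1) := by
  constructor
  · intro hc
    rw [← QuotientGroup.mk_mul, ← QuotientGroup.mk_mul, QuotientGroup.eq] at hc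
    set z : S := (B * uMat x)⁻¹ * (uMat x * B) with hz
    have hYW : uMat x * B = B * uMat x * z := by rw [hz]; group
    obtain ⟨h01, h10, hdiag⟩ := (mem_center_iff' z).mp hc
    have hdz := det_eq z
    have hd := det_eq B
    rw [h01, zero_mul, sub_zero, hdiag] at hdz
    have e10 := congrArg (fun M : S => M.1 1 0) hYW
    have e00 := congrArg (fun M : S => M.1 0 0) hYW
    simp only [(mul_entries _ _).1, (mul_entries _ _).2.1, (mul_entries _ _).2.2.1,
      (mul_entries _ _).2.2.2, h01, h10, hdiag, uMat_coe] at e10 e00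
    simp at e10 e00
    have hz1 : z.1 1 1 = 1 := by
      by_contra hne
      have hc0 : B.1 1 0 = 0 := by
        have : B.1 1 0 * (1 - z.1 1 1) = 0 := by linear_combination e10
        rcases mul_eq_zero.mp this with h | h
        · exact h
        · exact absurd (by linear_combination -h) hne
      have ha0 : B.1 0 0 = 0 := by
        have : B.1 0 0 * (1 - z.1 1 1) = 0 := by
          rw [hc0] at e00
          linear_combination e00
        rcases mul_eq_zero.mp this with h | h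
        · exact h
        · exact absurd (by linear_combination -h) hne
      rw [hc0, ha0] at hd
      simp at hd
    have hz' : z = 1 := by
      apply ext_entries
      · rw [hdiag, hz1]; simp
      · rw [h01]; simp
      · rw [h10]; simp
      · rw [hz1]; simp
    rw [hz', mul_one] at hYW
    exact (commute_uMat_iff B x hx).mp hYW.symm
  · intro h
    rw [← QuotientGroup.mk_mul, ← QuotientGroup.mk_mul, (commute_uMat_iff B x hx).mpr h]

/-- (Uh) without the non-centrality hypothesis -/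
theorem exists_conj_upper_of_trace_sq' (A : S)
    (ht : (Matrix.trace (A : Matrix (Fin 2) (Fin 2) F)) ^ 2 = 4) :
    ∃ X : S, (X * A * X⁻¹).1 1 0 = 0 ∧ (X * A * X⁻¹).1 0 0 = (X * A * X⁻¹).1 1 1 := by
  by_cases hA : A ∈ Subgroup.center S
  · refine ⟨1, ?_, ?_⟩
    · simpa using ((mem_center_iff' A).mp hA).2.1
    · simpa using ((mem_center_iff' A).mp hA).2.2
  · exact exists_conj_upper_of_trace_sq A hA ht

/-- an upper triangular element with equal diagonal entries is `± uMat x` -/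
lemma eq_uMat_or_neg_of_upper (A : S) (h10 : A.1 1 0 = 0) (hd : A.1 0 0 = A.1 1 1) :
    ∃ x : F, A = uMat x ∨ A = -uMat x := by
  have hdet := det_eq A
  rw [h10, mul_zero, sub_zero, ← hd] at hdet
  have h1 : (A.1 0 0 - 1) * (A.1 0 0 + 1) = 0 := by linear_combination hdet
  rcases mul_eq_zero.mp h1 with h | h
  · have ha : A.1 0 0 = 1 := sub_eq_zero.mp h
    refine ⟨A.1 0 1, Or.inl ?_⟩
    apply ext_entries
    · rw [ha]; simp
    · simp
    · rw [h10]; simp
    · rw [← hd, ha]; simp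
  · have ha : A.1 0 0 = -1 := by linear_combination h
    refine ⟨-A.1 0 1, Or.inr ?_⟩
    apply ext_entries
    · rw [ha]; simp
    · simp
    · rw [h10]; simp
    · rw [← hd, ha]; simp

/-- in `PSL₂`, such an element is the image of some `uMat x` -/
lemma mk_eq_mk_uMat_of_upper (A : S) (h10 : A.1 1 0 = 0) (hd : A.1 0 0 = A.1 1 1) :
    ∃ x : F, (QuotientGroup.mk A : G) = QuotientGroup.mk (uMat x) := by
  obtain ⟨x, h | h⟩ := eq_uMat_or_neg_of_upper A h10 hd
  · exact ⟨x, by rw [h]⟩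
  · exact ⟨x, by rw [h, mk_neg]⟩

end Cfsg.Agent.Lib.Helper98.SL2Borel
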