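import Cfsg.Agent.Lib.Helper98.Elus5

set_option autoImplicit false
set_option linter.unusedSimpArgs false
set_option linter.unusedSectionVars false
set_option linter.unusedVariables false
set_option linter.style.haveILetI false

/-!
# S5951 (helper98): invariant flags
-/

namespace Cfsg.Agent.Lib.Helper98.Elus

open Module Polynomial

universe u
variable {F : Type u} [Field F]

theorem finrank_eq_inf_ker_add_map' {V V' : Type*} [AddCommGroup V] [Module F V]
    [FiniteDimensional F V] [AddCommGroup V'] [Module F V']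
    (S : V →ₗ[F] V') (W : Submodule F V) :
    finrank F W = finrank F ↥(W ⊓ LinearMap.ker S) + finrank F ↥(W.map S) := by
  have h := LinearMap.finrank_range_add_finrank_ker (S ∘ₗ W.subtype)
  rw [LinearMap.range_comp, Submodule.range_subtype, LinearMap.ker_comp] at h
  have h2 : finrank F ↥(Submodule.comap W.subtype (LinearMap.ker S)) =
      finrank F ↥(W ⊓ LinearMap.ker S) := by
    rw [← Submodule.map_comap_subtype, Submodule.finrank_map_subtype_eq]
  omega

theorem finrank_comap_mkQ {V : Type*} [AddCommGroup V] [Module F V] [FiniteDimensional F V]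
    (U : Submodule F V) (W' : Submodule F (V ⧸ U)) :
    finrank F ↥(W'.comap U.mkQ) = finrank F W' + finrank F U := by
  have h := finrank_eq_inf_ker_add_map' U.mkQ (W'.comap U.mkQ)
  rw [Submodule.ker_mkQ, Submodule.map_comap_eq_of_surjective (Submodule.mkQ_surjective U),
    inf_eq_right.mpr (Submodule.le_comap_mkQ U W')] at h
  omega

/-- the quotient endomorphism -/
theorem inv_comap_mkQ {V : Type*} [AddCommGroup V] [Module F V] (y : V →ₗ[F] V)
    (U : Submodule F V) (hU : U ≤ U.comap y) (W' : Submodule F (V ⧸ U))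
    (hW' : Inv (U.mapQ U y hU) W') : Inv y (W'.comap U.mkQ) := by
  intro v hv
  rw [Submodule.mem_comap] at hv ⊢
  have := hW' _ hv
  simpa using this

theorem exists_flag_of_pow_eq_one [Fintype F] {V : Type u} [AddCommGroup V] [Module F V]
    [FiniteDimensional F V] (p f : ℕ) [Fact p.Prime]
    (hF : Fintype.card F = p ^ f) (r : ℕ) [Fact r.Prime] (hpr : p ≠ r) (hrF : (r : F) ≠ 0)
    (y : V →ₗ[F] V) (hy : y ^ r = 1) (n m : ℕ) (hn : finrank F V = n) (hmn : 2 * m ≤ n)
    (h1 : m % orderOf ((Fintype.card F : ℕ) : ZMod r) ≤ n % orderOf ((Fintype.card F : ℕ) : ZMod r))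
    (h2 : (n - 2 * m) % orderOf ((Fintype.card F : ℕ) : ZMod r) ≤
      (n - m) % orderOf ((Fintype.card F : ℕ) : ZMod r)) :
    ∃ U W : Submodule F V, U ≤ W ∧ Inv y U ∧ Inv y W ∧ finrank F U = m ∧ finrank F W = n - m := by
  obtain ⟨U, hU, hUd⟩ := exists_inv_of_pow_eq_one p f hF r hpr hrF y hy m (by omega)
    (by rw [hn]; exact h1)
  have hU' : U ≤ U.comap y := hU
  have hyq : (U.mapQ U y hU') ^ r = 1 := by
    rw [← Submodule.mapQ_pow U hU' r]
    apply LinearMap.ext
    intro v
    induction v using Submodule.Quotient.induction_on with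
    | H v => simp [hy]
  have hQ : finrank F (V ⧸ U) = n - m := by
    have := Submodule.finrank_quotient_add_finrank U
    omega
  obtain ⟨W', hW', hW'd⟩ := exists_inv_of_pow_eq_one p f hF r hpr hrF (U.mapQ U y hU') hyq
    (n - 2 * m) (by omega) (by rw [hQ]; exact h2)
  refine ⟨U, W'.comap U.mkQ, Submodule.le_comap_mkQ U W', hU, inv_comap_mkQ y U hU' W' hW', hUd, ?_⟩
  rw [finrank_comap_mkQ, hW'd, hUd]
  omega

theorem exists_flag_of_not_pow {V : Type u} [AddCommGroup V] [Module F V]
    [FiniteDimensional F V] (r : ℕ) [Fact r.Prime] (c : F)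
    (hc : ∀ d : F, d ^ r ≠ c) (f : V →ₗ[F] V) (hf : f ^ r = c • 1) (n m : ℕ)
    (hn : finrank F V = n) (hmn : 2 * m ≤ n) (hrm : r ∣ m) (hrn : r ∣ n) :
    ∃ U W : Submodule F V, U ≤ W ∧ Inv f U ∧ Inv f W ∧ finrank F U = m ∧ finrank F W = n - m := by
  obtain ⟨U, hU, hUd⟩ := exists_inv_of_not_pow r c hc f hf m (by omega) hrm
  have hU' : U ≤ U.comap f := hU
  have hfq : (U.mapQ U f hU') ^ r = c • 1 := by
    rw [← Submodule.mapQ_pow U hU' r]
    apply LinearMap.ext
    intro v
    induction v using Submodule.Quotient.induction_on with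
    | H v => simp [hf]
  have hQ : finrank F (V ⧸ U) = n - m := by
    have := Submodule.finrank_quotient_add_finrank U
    omega
  obtain ⟨W', hW', hW'd⟩ := exists_inv_of_not_pow r c hc (U.mapQ U f hU') hfq
    (n - 2 * m) (by omega) ((Nat.dvd_sub hrn (Dvd.dvd.mul_left hrm 2)))
  refine ⟨U, W'.comap U.mkQ, Submodule.le_comap_mkQ U W', hU, inv_comap_mkQ f U hU' W' hW', hUd, ?_⟩
  rw [finrank_comap_mkQ, hW'd, hUd]
  omega

section B2'

variable {P : F[X]} (e t : ℕ) (r : ℕ) [Fact r.Prime] (hP : P ∣ cyclotomic r F)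
include hP

/-- refined dimension statement: the `V0`-part of the dimension is monotone -/
theorem constr_ge_two_mono [Fintype F] (hrF : (r : F) ≠ 0) (hPm : P.Monic) :
    ∀ W : Submodule F (VB P e t), Inv (yB P e t) W →
      (∃ b, finrank F W = finrank F ↥(W.map (gsum r (yB P e t))) +
        orderOf ((Fintype.card F : ℕ) : ZMod r) * b) ∧
      finrank F ↥(W.map (gsum r (yB P e t))) ≤ e := by
  haveI := hPm.finite_adjoinRoot
  haveI := hPm.free_adjoinRoot
  have hyr := yB_pow_r (e := e) (t := t) r hP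
  intro W hW
  have h1 := finrank_eq_inf_ker_add_map (gsum r (yB P e t)) W
  have hInv : Inv (yB P e t) (W ⊓ V1 r (yB P e t)) := hW.inf (inv_V1 r _)
  obtain ⟨b, hb⟩ := dvd_finrank_of_le_V1 r hrF (yB P e t) hyr _ hInv inf_le_right
  constructor
  · refine ⟨b, ?_⟩
    rw [h1, ← hb, add_comm]; rfl
  · have hle : W.map (gsum r (yB P e t)) ≤
        LinearMap.range (LinearMap.inl F (Fin e → F) (Fin t → AdjoinRoot P)) := by
      rintro _ ⟨w, _, rfl⟩
      rw [gsum_yB e t r hP]
      exact ⟨(r : F) • w.1, rfl⟩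
    have h2 := Submodule.finrank_mono hle
    rw [LinearMap.finrank_range_of_inj LinearMap.inl_injective, Module.finrank_fin_fun] at h2
    exact h2

end B2'

/-- transport of an abstract endomorphism to a matrix in `SL_n`, with the linear equivalence -/
theorem transport' {V : Type*} [AddCommGroup V] [Module F V] [FiniteDimensional F V] (n : ℕ)
    (hV : finrank F V = n) (f : V →ₗ[F] V) (hdet : LinearMap.det f = 1) (r : ℕ) (c : F)
    (hf : f ^ r = c • 1) (hns : ∀ d : F, f ≠ d • 1) :
    ∃ x : Matrix.SpecialLinearGroup (Fin n) F,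
      ((x ^ r : Matrix.SpecialLinearGroup (Fin n) F) : Matrix (Fin n) (Fin n) F) =
          c • (1 : Matrix (Fin n) (Fin n) F) ∧
      (∀ d : F, (x : Matrix (Fin n) (Fin n) F) ≠ d • (1 : Matrix (Fin n) (Fin n) F)) ∧
      ∃ e : (Fin n → F) ≃ₗ[F] V, ∀ W : Submodule F (Fin n → F),
        W.map (Matrix.toLin' (x : Matrix (Fin n) (Fin n) F)) ≤ W →
          Inv f (W.map (e : (Fin n → F) →ₗ[F] V)) := by
  classical
  have e : V ≃ₗ[F] (Fin n → F) := LinearEquiv.ofFinrankEq _ _ (by rw [hV, Module.finrank_fin_fun])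
  set g : (Fin n → F) →ₗ[F] (Fin n → F) := e.conj f with hg
  set M : Matrix (Fin n) (Fin n) F := LinearMap.toMatrix' g with hM
  have hMdet : M.det = 1 := by
    rw [hM, LinearMap.det_toMatrix', hg, LinearEquiv.conj_apply, LinearMap.comp_assoc,
      LinearMap.det_conj]
    exact hdet
  have hgM : Matrix.toLin' M = g := by rw [hM, Matrix.toLin'_toMatrix']
  have hgk : ∀ k : ℕ, ∀ v, (g ^ k) v = e ((f ^ k) (e.symm v)) := by
    intro k
    induction k with
    | zero => intro v; simp
    | succ k ih =>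
      intro v
      rw [pow_succ', Module.End.mul_apply, ih, pow_succ', Module.End.mul_apply, hg]
      simp [LinearEquiv.conj_apply]
  have hgr : g ^ r = c • 1 := by
    apply LinearMap.ext
    intro v
    rw [hgk, hf]
    simp
  let x : Matrix.SpecialLinearGroup (Fin n) F := ⟨M, hMdet⟩
  refine ⟨x, ?_, ?_, e.symm, ?_⟩
  · rw [Matrix.SpecialLinearGroup.coe_pow]
    show M ^ r = _
    apply Matrix.toLin'.injective
    rw [Matrix.toLin'_pow, hgM, hgr]
    ext v
    simp
  · intro d hd
    change M = d • 1 at hd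
    apply hns d
    have h1 : g = d • 1 := by
      rw [← hgM, hd]
      ext v
      simp
    have h2 : f = e.symm.conj g := by
      rw [hg]
      ext v
      simp [LinearEquiv.conj_apply]
    rw [h2, h1]
    ext v
    simp [LinearEquiv.conj_apply]
  · intro W hW
    change W.map (Matrix.toLin' M) ≤ W at hW
    rw [hgM] at hW
    rintro _ ⟨w, hw, rfl⟩
    refine ⟨g w, hW ⟨w, hw, rfl⟩, ?_⟩
    rw [hg]
    simp [LinearEquiv.conj_apply]

theorem mod_sub_of_le (i n m : ℕ) (hi : 0 < i) (hmn : m ≤ n) (h : m % i ≤ n % i) :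
    (n - m) % i = n % i - m % i := by
  have h1 := Nat.div_add_mod n i
  have h2 := Nat.div_add_mod m i
  have h3 : m / i ≤ n / i := Nat.div_le_div_right hmn
  have h4 : i * (n / i - m / i) = i * (n / i) - i * (m / i) := Nat.mul_sub _ _ _
  have h5 : i * (m / i) ≤ i * (n / i) := Nat.mul_le_mul_left i h3
  have h6 : n - m = (n % i - m % i) + i * (n / i - m / i) := by omega
  rw [h6, Nat.add_mul_mod_self_left, Nat.mod_eq_of_lt]
  have := Nat.mod_lt n hi
  omega

end Cfsg.Agent.Lib.Helper98.Elus
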