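import Cfsg.Agent.Lib.Helper98.Elus7
import Cfsg.Agent.Lib.Helper98.Elus8

set_option autoImplicit false
set_option linter.unusedSimpArgs false
set_option linter.unusedSectionVars false
set_option linter.unusedVariables false
set_option linter.style.haveILetI false

/-!
# S5950 (helper98): Maschke by averaging, counting complements and decompositions
-/

namespace Cfsg.Agent.Lib.Helper98.Elus

open Module Polynomial

universe u
variable {F : Type u} [Field F]

/-- Maschke by averaging: an invariant subspace of `f` with `f ^ r = c • 1`, `r` invertible, has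
an invariant complement. -/
theorem exists_inv_compl {V : Type*} [AddCommGroup V] [Module F V]
    (r : ℕ) (hrF : (r : F) ≠ 0) (c : F) (hc : c ≠ 0) (f : V →ₗ[F] V) (hf : f ^ r = c • 1)
    (U : Submodule F V) (hU : Inv f U) : ∃ W : Submodule F V, Inv f W ∧ IsCompl U W := by
  have hr0 : r ≠ 0 := by
    rintro rfl
    simp at hrF
  obtain ⟨W0, hW0⟩ := Submodule.exists_isCompl U
  set π0 : V →ₗ[F] V := U.subtype ∘ₗ (U.projectionOnto W0 hW0) with hπ0
  have hπ0U : ∀ v, π0 v ∈ U := fun v => by simp [hπ0]
  have hπ0id : ∀ u ∈ U, π0 u = u := by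
    intro u hu
    have := Submodule.projectionOnto_apply_left hW0 ⟨u, hu⟩
    simp only [hπ0, LinearMap.coe_comp, Function.comp_apply, Submodule.coe_subtype]
    rw [this]
  -- the inverse of `f`
  set g : V →ₗ[F] V := c⁻¹ • f ^ (r - 1) with hg
  have hfg : f * g = 1 := by
    rw [hg, mul_smul_comm, ← pow_succ', Nat.sub_add_cancel (Nat.one_le_iff_ne_zero.mpr hr0), hf,
      smul_smul, inv_mul_cancel₀ hc, one_smul]
  have hgf : g * f = 1 := by
    rw [hg, smul_mul_assoc, ← pow_succ, Nat.sub_add_cancel (Nat.one_le_iff_ne_zero.mpr hr0), hf,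
      smul_smul, inv_mul_cancel₀ hc, one_smul]
  have hgU : Inv g U := by
    intro u hu
    rw [hg, LinearMap.smul_apply]
    exact Submodule.smul_mem _ _ (hU.pow_mem _ u hu)
  have hfgk : ∀ k : ℕ, f ^ k * g ^ k = 1 := by
    intro k
    induction k with
    | zero => simp
    | succ k ih =>
      rw [pow_succ, pow_succ', mul_assoc, ← mul_assoc f g, hfg, one_mul, ih]
  have hgr : f ^ r * π0 * g ^ r = π0 := by
    have h1 : g ^ r = c⁻¹ • 1 := by
      have : g ^ r = (f ^ r * g ^ r) * (c⁻¹ • 1) := by
        rw [hf, smul_mul_assoc, one_mul, smul_mul_smul_comm, mul_one, mul_inv_cancel₀ hc, one_smul]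
      rw [this, hfgk, one_mul]
    rw [hf, h1, smul_mul_assoc, one_mul, mul_smul_comm, mul_one, smul_smul, inv_mul_cancel₀ hc,
      one_smul]
  set A : V →ₗ[F] V := ∑ k ∈ Finset.range r, f ^ k * π0 * g ^ k with hA
  have hAconj : f * A * g = A := by
    rw [hA, Finset.mul_sum, Finset.sum_mul]
    have h1 : ∀ k ∈ Finset.range r, f * (f ^ k * π0 * g ^ k) * g = f ^ (k + 1) * π0 * g ^ (k + 1) := by
      intro k _
      rw [pow_succ', pow_succ]
      simp only [mul_assoc]
    rw [Finset.sum_congr rfl h1]
    have h2 := Finset.sum_range_succ (fun k => f ^ k * π0 * g ^ k) r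
    have h3 := Finset.sum_range_succ' (fun k => f ^ k * π0 * g ^ k) r
    rw [h2] at h3
    simp only [pow_zero, one_mul, mul_one] at h3
    rw [hgr] at h3
    exact (add_right_cancel h3).symm
  have hAcomm : f * A = A * f := by
    have : f * A = (f * A * g) * f := by
      rw [mul_assoc, mul_assoc, hgf, mul_one]
    rw [this, hAconj]
  have hAU : ∀ v, A v ∈ U := by
    intro v
    rw [hA, LinearMap.sum_apply]
    apply Submodule.sum_mem
    intro k _
    simp only [Module.End.mul_apply]
    exact hU.pow_mem k _ (hπ0U _)
  have hAid : ∀ u ∈ U, A u = (r : F) • u := by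
    intro u hu
    rw [hA, LinearMap.sum_apply]
    have h1 : ∀ k ∈ Finset.range r, (f ^ k * π0 * g ^ k) u = u := by
      intro k _
      simp only [Module.End.mul_apply]
      rw [hπ0id _ (hgU.pow_mem k u hu)]
      have := congrArg (fun h => h u) (hfgk k)
      simpa [Module.End.mul_apply] using this
    rw [Finset.sum_congr rfl h1, Finset.sum_const, Finset.card_range, Nat.cast_smul_eq_nsmul]
  -- the projection
  set π : V →ₗ[F] U := ((r : F)⁻¹ • A).codRestrict U (by
    intro v
    rw [LinearMap.smul_apply]
    exact Submodule.smul_mem _ _ (hAU v)) with hπ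
  have hπid : ∀ x : U, π x = x := by
    intro x
    apply Subtype.ext
    simp only [hπ, LinearMap.codRestrict_apply, LinearMap.smul_apply]
    rw [hAid x x.2, smul_smul, inv_mul_cancel₀ hrF, one_smul]
  refine ⟨LinearMap.ker π, ?_, LinearMap.isCompl_of_proj hπid⟩
  intro w hw
  rw [LinearMap.mem_ker] at hw ⊢
  have h1 : ((r : F)⁻¹ • A) w = 0 := by
    have := congrArg Subtype.val hw
    simpa [hπ] using this
  apply Subtype.ext
  simp only [hπ, LinearMap.codRestrict_apply, LinearMap.smul_apply, ZeroMemClass.coe_zero]
  have h2 : A (f w) = f (A w) := by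
    have := congrArg (fun h => h w) hAcomm
    simp only [Module.End.mul_apply] at this
    exact this.symm
  rw [LinearMap.smul_apply] at h1
  rw [h2, ← map_smul, h1, map_zero]


/-- projections onto `U` correspond to linear maps from a fixed complement -/
noncomputable def projEquivHom {V : Type*} [AddCommGroup V] [Module F V] (U W0 : Submodule F V)
    (h : IsCompl U W0) : {f : V →ₗ[F] U // ∀ x : U, f x = x} ≃ (W0 →ₗ[F] U) where
  toFun f := f.1 ∘ₗ W0.subtype
  invFun ψ := ⟨LinearMap.ofIsCompl h LinearMap.id ψ, by intro x; simp⟩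
  left_inv f := by
    apply Subtype.ext
    apply LinearMap.ofIsCompl_eq
    · intro u; simp [f.2 u]
    · intro w; simp
  right_inv ψ := by
    ext w
    simp

theorem card_compl [Fintype F] {V : Type*} [AddCommGroup V] [Module F V] [Finite V]
    (U : Submodule F V) :
    Nat.card {W : Submodule F V // IsCompl U W} =
      Fintype.card F ^ ((finrank F V - finrank F U) * finrank F U) := by
  haveI : Module.Finite F V := Module.Finite.of_finite
  obtain ⟨W0, hW0⟩ := Submodule.exists_isCompl U
  rw [Nat.card_congr (U.isComplEquivProj.trans (projEquivHom U W0 hW0)),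
    Module.natCard_eq_pow_finrank (K := F), Module.finrank_linearMap, Nat.card_eq_fintype_card]
  have := Submodule.finrank_add_eq_of_isCompl hW0
  congr 2
  omega

section decomp

variable (F) (V : Type*) [AddCommGroup V] [Module F V] (m : ℕ)

/-- decompositions `V = U ⊕ W` with `dim U = m` -/
abbrev Decomps : Type _ :=
  {P : Submodule F V × Submodule F V // IsCompl P.1 P.2 ∧ finrank F P.1 = m}

variable {F V m}

def decompFst (P : Decomps F V m) : {U : Submodule F V // finrank F U = m} := ⟨P.1.1, P.2.2⟩

def decompFiber (U : {U : Submodule F V // finrank F U = m}) :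
    {P : Decomps F V m // decompFst P = U} ≃ {W : Submodule F V // IsCompl U.1 W} where
  toFun P := ⟨P.1.1.2, by
    have h1 : P.1.1.1 = U.1 := congrArg Subtype.val P.2
    rw [← h1]; exact P.1.2.1⟩
  invFun W := ⟨⟨(U.1, W.1), W.2, U.2⟩, Subtype.ext rfl⟩
  left_inv P := by
    have h1 : P.1.1.1 = U.1 := congrArg Subtype.val P.2
    apply Subtype.ext
    apply Subtype.ext
    apply Prod.ext
    · exact h1.symm
    · rfl
  right_inv W := rfl

theorem card_decomps [Fintype F] [Finite V] :
    Nat.card (Decomps F V m) =
      Nat.card {U : Submodule F V // finrank F U = m} *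
        Fintype.card F ^ ((finrank F V - m) * m) := by
  classical
  haveI : Finite {W : Submodule F V // finrank F W = m} := by
    apply Finite.of_injective (fun W => (W.1 : Set V))
    intro a b h
    exact Subtype.ext (SetLike.coe_injective h)
  haveI : Fintype {W : Submodule F V // finrank F W = m} := Fintype.ofFinite _
  haveI : Finite (Decomps F V m) := by
    apply Finite.of_injective (fun P => ((P.1.1 : Set V), (P.1.2 : Set V)))
    intro a b h
    apply Subtype.ext
    apply Prod.ext
    · exact SetLike.coe_injective (congrArg Prod.fst h)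
    · exact SetLike.coe_injective (congrArg Prod.snd h)
  rw [Nat.card_congr (Equiv.sigmaFiberEquiv (decompFst (F := F) (V := V) (m := m))).symm,
    Nat.card_sigma]
  have h1 : ∀ U : {U : Submodule F V // finrank F U = m},
      Nat.card {P : Decomps F V m // decompFst P = U} =
        Fintype.card F ^ ((finrank F V - m) * m) := by
    intro U
    rw [Nat.card_congr (decompFiber U), card_compl, U.2]
  simp only [h1, Finset.sum_const, Finset.card_univ, smul_eq_mul, Nat.card_eq_fintype_card]

end decomp

end Cfsg.Agent.Lib.Helper98.Elus
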