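import Cfsg.Agent.Lib.Helper38.OhP.Defs
import Cfsg.Agent.Lib.Helper98.Os1
import Cfsg.Agent.Lib.Helper50.TypeCriteria
import Cfsg.Agent.Lib.Helper50.WittMain
import Cfsg.Agent.Lib.Helper50.MinusParam
import Cfsg.Agent.Lib.Helper50.ElusiveCount
import Cfsg.Agent.Lib.Helper50.IsometryDisc

set_option autoImplicit false
set_option linter.unusedSimpArgs false
set_option linter.unusedSectionVars false
set_option linter.unusedVariables false
set_option linter.style.haveILetI false
set_option maxHeartbeats 1000000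

/-!
# K-OhP-A (helper98), part 1: the number of singular vectors of a nondegenerate even-dimensional
subspace determines its type (any characteristic)
-/

namespace Cfsg.Agent.Lib.Helper98.OhP

open Module Cfsg.Agent.Lib.Helper98.Elus Cfsg.Agent.Lib.Helper98.Sy Cfsg.Agent.Lib.Helper38.OhP

universe u
variable {F : Type u} [Field F] {V : Type u} [AddCommGroup V] [Module F V]

/-- the sign of a subspace -/
noncomputable def sgn (Q : QuadraticForm F V) (W : Submodule F V) : ℤ := by
  classical
  exact if PlusQ Q W then 1 else -1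

theorem sgn_plus (Q : QuadraticForm F V) (W : Submodule F V) (h : PlusQ Q W) : sgn Q W = 1 := by
  unfold sgn; rw [if_pos h]

theorem sgn_minus (Q : QuadraticForm F V) (W : Submodule F V) (h : ¬ PlusQ Q W) :
    sgn Q W = -1 := by
  unfold sgn; rw [if_neg h]

theorem sgn_eq_one_iff (Q : QuadraticForm F V) (W : Submodule F V) : sgn Q W = 1 ↔ PlusQ Q W := by
  by_cases h : PlusQ Q W
  · rw [sgn_plus Q W h]; exact ⟨fun _ => h, fun _ => rfl⟩
  · rw [sgn_minus Q W h]
    exact ⟨fun h' => by norm_num at h', fun h' => absurd h' h⟩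

theorem sgn_sq (Q : QuadraticForm F V) (W : Submodule F V) : sgn Q W = 1 ∨ sgn Q W = -1 := by
  by_cases h : PlusQ Q W
  · exact Or.inl (sgn_plus Q W h)
  · exact Or.inr (sgn_minus Q W h)

/-- `q * #{w ∈ W | Q w = 0} = q^(2k) + ε (q - 1) q^k` for a nondegenerate `W` of dimension `2k` -/
theorem card_mul_zeros [Fintype F] [FiniteDimensional F V] (Q : QuadraticForm F V)
    (W : Submodule F V) (hW : NonDeg (pB Q) W) (k : ℕ) (hk : finrank F W = 2 * k) :
    (Fintype.card F : ℤ) * (Nat.card {w : W // Q (w : V) = 0} : ℤ) =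
      (Fintype.card F : ℤ) ^ (2 * k) +
        sgn Q W * ((Fintype.card F : ℤ) - 1) * (Fintype.card F : ℤ) ^ k := by
  classical
  set QW : QuadraticForm F W := Q.comp W.subtype with hQW
  have hQWa : ∀ w : W, QW w = Q (w : V) := fun w => rfl
  have hpol : ∀ w w' : W, QuadraticMap.polar QW w w' = pB Q (w : V) (w' : V) := by
    intro w w'
    rw [pB_apply]
    unfold QuadraticMap.polar
    rw [hQWa, hQWa, hQWa]
    rfl
  have hQND : Cfsg.Agent.Lib.Helper50.QND QW := by
    intro w hw
    have : (w : V) = 0 := by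
      apply hW (w : V) w.2
      intro v hv
      have := hw ⟨v, hv⟩
      rw [hpol] at this
      exact this
    exact Subtype.ext this
  set q : ℕ := Fintype.card F with hq
  have hq1 : 1 ≤ q := Fintype.card_pos
  rcases Cfsg.Agent.Lib.Helper50.witt_type (2 * k) QW hk hQND with
    ⟨m, hm, hp⟩ | ⟨m, ζ, hm, hζ, hmt⟩ | ⟨m, c, hm, _, _⟩
  · -- plus type
    have hmk : m = k := by omega
    subst hmk
    have hplus : PlusQ Q W := by
      obtain ⟨X, hXd, hX⟩ := Cfsg.Agent.Lib.Helper50.exists_totally_singular_of_plusType QW m hp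
      refine ⟨X.map W.subtype, ?_, ?_, ?_⟩
      · rintro _ ⟨x, _, rfl⟩
        exact x.2
      · rintro _ ⟨x, hx, rfl⟩
        exact hX x hx
      · rw [Submodule.finrank_map_subtype_eq, hXd, hk]
    rw [sgn_plus Q W hplus]
    obtain ⟨φ, hφ⟩ := hp
    have e : {w : W // Q (w : V) = 0} ≃
        {v : Fin m ⊕ Fin m → F // Cfsg.quadFormPlus m F v = 0} :=
      φ.toEquiv.subtypeEquiv (fun w => by
        show Q (w : V) = 0 ↔ Cfsg.quadFormPlus m F (φ w) = 0
        rw [hφ, hQWa])
    rw [Nat.card_congr e, Cfsg.Agent.Lib.Helper50.card_zeros_plus, ← hq]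
    have h1 : 1 ≤ q ^ m := Nat.one_le_pow _ _ hq1
    push_cast [Nat.cast_sub h1]
    cases m with
    | zero => simp
    | succ m =>
      rw [Nat.add_sub_cancel]
      ring
  · -- minus type
    have hmk : k = m + 1 := by omega
    subst hmk
    have hminus : ¬ PlusQ Q W := by
      rintro ⟨U, hUW, hU0, hUd⟩
      have hUd' : finrank F U = m + 1 := by omega
      set X : Submodule F W := U.comap W.subtype with hX
      have hXd : finrank F X = m + 1 := by
        rw [← hUd']
        exact (Submodule.comapSubtypeEquivOfLe hUW).finrank_eq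
      have hX0 : ∀ x ∈ X, QW x = 0 := by
        intro x hx
        rw [hQWa]
        exact hU0 _ hx
      have hp := Cfsg.Agent.Lib.Helper50.plusType_of_totally_singular (m + 1) QW hQND hk X
        (by omega) hX0
      exact Cfsg.Agent.Lib.Helper50.not_plus_and_minus QW m ζ hζ hp hmt
    rw [sgn_minus Q W hminus]
    obtain ⟨φ, hφ⟩ := hmt
    have e : {w : W // Q (w : V) = 0} ≃
        {v : (Fin m ⊕ Fin m) ⊕ Fin 2 → F // Cfsg.quadFormMinus m F 1 ζ v = 0} :=
      φ.toEquiv.subtypeEquiv (fun w => by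
        show Q (w : V) = 0 ↔ Cfsg.quadFormMinus m F 1 ζ (φ w) = 0
        rw [hφ, hQWa])
    rw [Nat.card_congr e]
    have h := congrArg (fun n : ℕ => (n : ℤ))
      (Cfsg.Agent.Lib.Helper50.card_zeros_minus m 1 ζ (Cfsg.Agent.Lib.Helper50.anis_of_irred ζ hζ))
    rw [← hq] at h
    push_cast at h
    have e1 : (q : ℤ) ^ (2 * (m + 1)) = (q : ℤ) ^ (2 * m + 1) * q := by ring
    have e2 : (q : ℤ) ^ (m + 1) = (q : ℤ) ^ m * q := by ring
    rw [e1, e2]
    rw [e2] at h
    linear_combination (q : ℤ) * h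
  · omega

end Cfsg.Agent.Lib.Helper98.OhP
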