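import Mathlib

set_option autoImplicit false
set_option linter.unusedSimpArgs false
set_option linter.unusedSectionVars false
set_option linter.unusedVariables false
set_option linter.style.haveILetI false

/-!
# S5949 (helper98): invariant subspaces of an endomorphism: greedy construction, divisibility
of dimensions, determinant formula
-/

namespace Cfsg.Agent.Lib.Helper98.Elus

open Module Polynomial

universe u
variable {F : Type*} [Field F] {V : Type u} [AddCommGroup V] [Module F V]

/-- invariance of a subspace under an endomorphism -/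
def Inv (y : V →ₗ[F] V) (W : Submodule F V) : Prop := ∀ v ∈ W, y v ∈ W

theorem Inv.pow_mem {y : V →ₗ[F] V} {W : Submodule F V} (hW : Inv y W) (k : ℕ) :
    ∀ v ∈ W, (y ^ k) v ∈ W := by
  induction k with
  | zero => intro v hv; simpa using hv
  | succ k ih =>
    intro v hv
    rw [pow_succ', Module.End.mul_apply]
    exact hW _ (ih v hv)

theorem Inv.aeval_mem {y : V →ₗ[F] V} {W : Submodule F V} (hW : Inv y W) (g : F[X]) :
    ∀ v ∈ W, aeval y g v ∈ W := by
  intro v hv
  rw [aeval_eq_sum_range, LinearMap.sum_apply]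
  apply Submodule.sum_mem
  intro k _
  rw [LinearMap.smul_apply]
  exact Submodule.smul_mem _ _ (hW.pow_mem k v hv)

theorem Inv.sup {y : V →ₗ[F] V} {W W' : Submodule F V} (hW : Inv y W) (hW' : Inv y W') :
    Inv y (W ⊔ W') := by
  intro v hv
  obtain ⟨a, ha, b, hb, rfl⟩ := Submodule.mem_sup.mp hv
  rw [map_add]
  exact Submodule.add_mem _ (Submodule.mem_sup_left (hW a ha)) (Submodule.mem_sup_right (hW' b hb))

theorem inv_bot (y : V →ₗ[F] V) : Inv y (⊥ : Submodule F V) := by
  intro v hv
  rw [Submodule.mem_bot] at hv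
  rw [hv, map_zero]; exact Submodule.zero_mem _

theorem exists_step (y : V →ₗ[F] V) (V1 W : Submodule F V) (hV1 : Inv y V1) (fs : List F[X]) :
    ∀ u ∈ V1, u ∉ W → aeval y fs.prod u ∈ W → ∃ g ∈ fs, ∃ v ∈ V1, v ∉ W ∧ aeval y g v ∈ W := by
  induction fs with
  | nil =>
    intro u _ huW h
    simp at h
    exact absurd h huW
  | cons g rest ih =>
    intro u hu huW h
    rw [List.prod_cons, map_mul, Module.End.mul_apply] at h
    by_cases h' : aeval y rest.prod u ∈ W
    · obtain ⟨g', hg', v, hv, hvW, hgv⟩ := ih u hu huW h'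
      exact ⟨g', List.mem_cons_of_mem _ hg', v, hv, hvW, hgv⟩
    · exact ⟨g, List.mem_cons_self, _, hV1.aeval_mem _ u hu, h', h⟩

/-- one extension step -/
theorem extend_step [FiniteDimensional F V] (y : V →ₗ[F] V) (V1 W : Submodule F V) (hWV : W ≤ V1)
    (hW : Inv y W) (g : F[X]) (hg : g.Monic) (v : V) (hv : v ∈ V1) (hV1 : Inv y V1) (hvW : v ∉ W)
    (hgv : aeval y g v ∈ W) :
    ∃ W' : Submodule F V, W' ≤ V1 ∧ Inv y W' ∧ finrank F W < finrank F W' ∧
      finrank F W' ≤ finrank F W + g.natDegree := by
  set d := g.natDegree with hd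
  have hd1 : 1 ≤ d := by
    by_contra h
    have h0 : g.natDegree = 0 := by omega
    have : g = 1 := (Polynomial.Monic.natDegree_eq_zero hg).mp h0
    rw [this] at hgv
    simp at hgv
    exact hvW hgv
  set U : Submodule F V := Submodule.span F (Set.range (fun k : Fin d => (y ^ (k : ℕ)) v)) with hU
  have hUmem : ∀ k, k < d → (y ^ k) v ∈ U := by
    intro k hk
    exact Submodule.subset_span ⟨⟨k, hk⟩, rfl⟩
  have hyd : (y ^ d) v ∈ W ⊔ U := by
    have h1 : aeval y g v = (y ^ d) v + ∑ i ∈ Finset.range d, (g.coeff i) • (y ^ i) v := by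
      conv_lhs => rw [hg.as_sum]
      simp [map_add, map_sum, LinearMap.add_apply, LinearMap.sum_apply, aeval_monomial, hd,
        Algebra.smul_def]
    have h2 : (y ^ d) v = aeval y g v - ∑ i ∈ Finset.range d, (g.coeff i) • (y ^ i) v := by
      rw [h1]; abel
    rw [h2]
    apply Submodule.sub_mem
    · exact Submodule.mem_sup_left hgv
    · apply Submodule.mem_sup_right
      apply Submodule.sum_mem
      intro i hi
      exact Submodule.smul_mem _ _ (hUmem i (Finset.mem_range.mp hi))
  have hUinv : ∀ b ∈ U, y b ∈ W ⊔ U := by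
    intro b hb
    rw [hU] at hb
    induction hb using Submodule.span_induction with
    | mem x hx =>
      obtain ⟨k, rfl⟩ := hx
      have : y ((y ^ (k : ℕ)) v) = (y ^ ((k : ℕ) + 1)) v := by
        rw [pow_succ', Module.End.mul_apply]
      rw [this]
      by_cases hk : (k : ℕ) + 1 < d
      · exact Submodule.mem_sup_right (hUmem _ hk)
      · have : (k : ℕ) + 1 = d := by have := k.2; omega
        rw [this]; exact hyd
    | zero => rw [map_zero]; exact Submodule.zero_mem _
    | add x z _ _ hx hz => rw [map_add]; exact Submodule.add_mem _ hx hz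
    | smul c x _ hx => rw [map_smul]; exact Submodule.smul_mem _ _ hx
  refine ⟨W ⊔ U, ?_, ?_, ?_, ?_⟩
  · apply sup_le hWV
    rw [hU, Submodule.span_le]
    rintro _ ⟨k, rfl⟩
    exact hV1.pow_mem _ v hv
  · intro w hw
    obtain ⟨a, ha, b, hb, rfl⟩ := Submodule.mem_sup.mp hw
    rw [map_add]
    exact Submodule.add_mem _ (Submodule.mem_sup_left (hW a ha)) (hUinv b hb)
  · apply Submodule.finrank_lt_finrank_of_lt
    apply lt_of_le_of_ne le_sup_left
    intro h
    apply hvW
    rw [h]
    apply Submodule.mem_sup_right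
    have := hUmem 0 (by omega)
    simpa using this
  · calc finrank F ↥(W ⊔ U) ≤ finrank F W + finrank F U := Submodule.finrank_add_le_finrank_add_finrank _ _
      _ ≤ finrank F W + d := by
        apply Nat.add_le_add_left
        have := finrank_range_le_card (R := F) (fun k : Fin d => (y ^ (k : ℕ)) v)
        simp only [Fintype.card_fin] at this
        exact this

/-- greedy construction of invariant subspaces -/
theorem greedy [FiniteDimensional F V] (y : V →ₗ[F] V) (V1 : Submodule F V) (hV1 : Inv y V1)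
    (D : ℕ) (hD : 1 ≤ D) (fs : List F[X]) (hmonic : ∀ g ∈ fs, g.Monic)
    (hdeg : ∀ g ∈ fs, g.natDegree ≤ D)
    (hkill : ∀ v ∈ V1, aeval y fs.prod v = 0)
    (hdiv : ∀ W : Submodule F V, W ≤ V1 → Inv y W → D ∣ finrank F W) :
    ∀ b : ℕ, D * b ≤ finrank F V1 → ∃ W : Submodule F V, W ≤ V1 ∧ Inv y W ∧ finrank F W = D * b := by
  intro b
  induction b with
  | zero =>
    intro _
    exact ⟨⊥, bot_le, inv_bot y, by simp⟩
  | succ b ih =>
    intro hb
    obtain ⟨W, hWV, hW, hWd⟩ := ih (by nlinarith)
    have hlt : W < V1 := by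
      apply lt_of_le_of_ne hWV
      intro h
      rw [h] at hWd
      rw [hWd] at hb
      nlinarith
    obtain ⟨u, hu, huW⟩ := SetLike.exists_of_lt hlt
    obtain ⟨g, hg, v, hv, hvW, hgv⟩ := exists_step y V1 W hV1 fs u hu huW (by
      rw [hkill u hu]; exact Submodule.zero_mem _)
    obtain ⟨W', hW'V, hW', h1, h2⟩ := extend_step y V1 W hWV hW g (hmonic g hg) v hv hV1 hvW hgv
    refine ⟨W', hW'V, hW', ?_⟩
    obtain ⟨c, hc⟩ := hdiv W' hW'V hW'
    have h3 := hdeg g hg
    rw [hc] at h1 h2 ⊢
    rw [hWd] at h1 h2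
    have hbc : b < c := by
      by_contra h
      have : c ≤ b := by omega
      have : D * c ≤ D * b := Nat.mul_le_mul_left _ this
      omega
    have hcb : c ≤ b + 1 := by
      by_contra h
      have : b + 2 ≤ c := by omega
      have : D * (b + 2) ≤ D * c := Nat.mul_le_mul_left _ this
      nlinarith
    have : c = b + 1 := by omega
    rw [this]


/-- counting lemma: fixed-point-free action of `y` on `W` -/
theorem orderOf_dvd_finrank [Fintype F] [FiniteDimensional F V] (r : ℕ) [Fact r.Prime]
    (hrF : (r : F) ≠ 0) (y : V →ₗ[F] V) (W : Submodule F V) (hW : Inv y W)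
    (hyr : ∀ v ∈ W, (y ^ r) v = v) (hS : ∀ v ∈ W, ∑ k ∈ Finset.range r, (y ^ k) v = 0) :
    orderOf ((Fintype.card F : ℕ) : ZMod r) ∣ finrank F W := by
  classical
  haveI : Finite V := Module.finite_of_finite F
  haveI : Fintype W := Fintype.ofFinite _
  let σ : Function.End W := fun w => ⟨y w, hW w w.2⟩
  have hσk : ∀ k : ℕ, ∀ w : W, (((σ ^ k) w : W) : V) = (y ^ k) w := by
    intro k
    induction k with
    | zero => intro w; rw [pow_zero, pow_zero]; rfl
    | succ k ih =>
      intro w
      rw [pow_succ', pow_succ', Module.End.mul_apply, ← ih w]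
      rfl
  have hσr : σ ^ r ^ 1 = 1 := by
    funext w
    apply Subtype.ext
    rw [pow_one, hσk r w, hyr _ w.2]
    rfl
  have h1 := Equiv.Perm.card_fixedPoints_modEq (p := r) (n := 1) hσr
  have hfix : Fintype.card (Function.fixedPoints σ) = 1 := by
    rw [Fintype.card_eq_one_iff]
    refine ⟨⟨0, ?_⟩, ?_⟩
    · show σ 0 = 0
      apply Subtype.ext
      show y ((0 : W) : V) = ((0 : W) : V)
      simp
    · rintro ⟨w, hw⟩
      apply Subtype.ext
      show w = 0
      have hyw : y (w : V) = w := by
        have := congrArg Subtype.val hw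
        exact this
      have hk : ∀ k : ℕ, (y ^ k) (w : V) = w := by
        intro k
        induction k with
        | zero => simp
        | succ k ih => rw [pow_succ, Module.End.mul_apply, hyw, ih]
      have h2 := hS w w.2
      simp only [hk, Finset.sum_const, Finset.card_range] at h2
      rw [← Nat.cast_smul_eq_nsmul F, smul_eq_zero] at h2
      rcases h2 with h2 | h2
      · exact absurd h2 hrF
      · exact Subtype.ext h2
  rw [hfix] at h1
  have hcard : Fintype.card W = Fintype.card F ^ finrank F W := Module.card_eq_pow_finrank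
  rw [hcard] at h1
  rw [orderOf_dvd_iff_pow_eq_one]
  have h3 := (ZMod.natCast_eq_natCast_iff _ _ _).mpr h1
  push_cast at h3
  exact h3

/-- arithmetic: if `c` is not an `r`-th power but `c ^ s` is, then `r ∣ s`. -/
theorem dvd_of_pow_eq_pow (r : ℕ) [Fact r.Prime] (c δ : F) (hc : ∀ d : F, d ^ r ≠ c) (s : ℕ)
    (h : c ^ s = δ ^ r) : r ∣ s := by
  have hr : r.Prime := Fact.out
  have hc0 : c ≠ 0 := by
    intro h0
    exact hc 0 (by rw [h0, zero_pow hr.ne_zero])
  have hδ0 : δ ≠ 0 := by
    intro h0
    rw [h0, zero_pow hr.ne_zero] at h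
    exact pow_ne_zero s hc0 h
  by_contra hrs
  have hcop : Nat.Coprime s r := (Nat.Coprime.symm ((Nat.Prime.coprime_iff_not_dvd hr).mpr hrs))
  have hb := Nat.gcd_eq_gcd_ab s r
  rw [hcop] at hb
  set a := Nat.gcdA s r
  set b := Nat.gcdB s r
  apply hc (δ ^ a * c ^ b)
  calc (δ ^ a * c ^ b) ^ r = (δ ^ a) ^ r * (c ^ b) ^ r := mul_pow _ _ _
    _ = (δ ^ a) ^ (r : ℤ) * (c ^ b) ^ (r : ℤ) := by rw [zpow_natCast, zpow_natCast]
    _ = δ ^ (a * r) * c ^ (b * r) := by rw [← zpow_mul, ← zpow_mul]
    _ = δ ^ ((r : ℤ) * a) * c ^ (b * r) := by rw [mul_comm a]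
    _ = (δ ^ (r : ℤ)) ^ a * c ^ (b * r) := by rw [zpow_mul]
    _ = (c ^ (s : ℤ)) ^ a * c ^ (b * r) := by rw [zpow_natCast, ← h, zpow_natCast]
    _ = c ^ ((s : ℤ) * a + b * r) := by rw [← zpow_mul, ← zpow_add₀ hc0]
    _ = c := by
      have : (s : ℤ) * a + b * r = 1 := by
        have := hb
        push_cast at this
        linarith
      rw [this, zpow_one]

/-- determinant lemma: invariant subspaces have dimension divisible by `r`. -/
theorem dvd_finrank_of_not_pow [FiniteDimensional F V] (r : ℕ) [Fact r.Prime] (c : F)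
    (hc : ∀ d : F, d ^ r ≠ c) (f : V →ₗ[F] V) (hf : f ^ r = c • 1) (W : Submodule F V)
    (hW : Inv f W) : r ∣ finrank F W := by
  have hg : (f.restrict hW) ^ r = c • 1 := by
    rw [Module.End.pow_restrict r hW]
    ext w
    simp [hf]
  have h1 : (LinearMap.det (f.restrict hW)) ^ r = c ^ finrank F W := by
    rw [← map_pow, hg, LinearMap.det_smul]
    simp
  exact dvd_of_pow_eq_pow r c _ hc _ h1.symm

theorem det_block [FiniteDimensional F V] (r : ℕ) [Fact r.Prime] (c : F) (hc : ∀ d : F, d ^ r ≠ c)
    (g : V →ₗ[F] V) (hg : g ^ r = c • 1) (hdim : finrank F V = r) :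
    LinearMap.det g = (-1) ^ (r + 1) * c := by
  have hr : r.Prime := Fact.out
  have hirr : Irreducible (X ^ r - C c : F[X]) := (X_pow_sub_C_irreducible_iff_of_prime hr).mpr hc
  have hmonic : (X ^ r - C c : F[X]).Monic := monic_X_pow_sub_C c hr.ne_zero
  have haeval : aeval g (X ^ r - C c : F[X]) = 0 := by
    simp [hg, Algebra.algebraMap_eq_smul_one]
  haveI : Nontrivial V := Module.nontrivial_of_finrank_pos (R := F) (by rw [hdim]; exact hr.pos)
  have hmin : (X ^ r - C c : F[X]) = minpoly F g := minpoly.eq_of_irreducible_of_monic hirr haeval hmonic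
  have hdvd : (X ^ r - C c : F[X]) ∣ g.charpoly := by
    rw [hmin]; exact LinearMap.minpoly_dvd_charpoly g
  have hch : g.charpoly = X ^ r - C c := by
    apply Polynomial.eq_of_monic_of_dvd_of_natDegree_le hmonic (LinearMap.charpoly_monic g) hdvd
    rw [LinearMap.charpoly_natDegree, hdim, natDegree_X_pow_sub_C]
  rw [LinearMap.det_eq_sign_charpoly_coeff, hch, hdim]
  simp only [coeff_sub, coeff_X_pow, coeff_C_zero, if_neg (Ne.symm hr.ne_zero)]
  ring

/-- determinant formula for `f` with `f ^ r = c`, `c` not an `r`-th power -/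
theorem det_formula_aux (r : ℕ) [Fact r.Prime] (c : F) (hc : ∀ d : F, d ^ r ≠ c) :
    ∀ (n' : ℕ) (V : Type u) [AddCommGroup V] [Module F V] [FiniteDimensional F V] (f : V →ₗ[F] V),
      f ^ r = c • 1 → finrank F V = n' →
        LinearMap.det f = ((-1) ^ (r + 1) * c) ^ (n' / r) := by
  have hr : r.Prime := Fact.out
  intro n'
  induction n' using Nat.strong_induction_on with
  | _ n' ih =>
    intro V _ _ _ f hf hdim
    by_cases h0 : n' = 0
    · subst h0
      rw [Nat.zero_div, pow_zero]
      exact LinearMap.det_eq_one_of_finrank_eq_zero hdim f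
    · haveI : Nontrivial V := Module.nontrivial_of_finrank_pos (R := F) (by omega)
      obtain ⟨v, hv⟩ := exists_ne (0 : V)
      have hInvTop : Inv f (⊤ : Submodule F V) := fun _ _ => Submodule.mem_top
      have hmonic : (X ^ r - C c : F[X]).Monic := monic_X_pow_sub_C c hr.ne_zero
      obtain ⟨W, -, hW, h1, h2⟩ := extend_step f ⊤ ⊥ bot_le (inv_bot f) (X ^ r - C c) hmonic v
        Submodule.mem_top hInvTop (by simpa using hv) (by
          simp [hf, Algebra.algebraMap_eq_smul_one])
      rw [finrank_bot, natDegree_X_pow_sub_C] at h2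
      rw [finrank_bot] at h1
      have hWr : finrank F W = r := by
        obtain ⟨k, hk⟩ := dvd_finrank_of_not_pow r c hc f hf W hW
        rw [hk] at h1 h2 ⊢
        have hk1 : k = 1 := by
          rcases k with _ | _ | k
          · omega
          · rfl
          · exfalso
            have : r * (k + 1 + 1) = r * k + 2 * r := by ring
            have := hr.pos
            omega
        rw [hk1, mul_one]
      have hcomap : W ≤ W.comap f := hW
      have hdet := LinearMap.det_eq_det_mul_det W f hcomap
      have hg : (f.restrict hcomap) ^ r = c • 1 := by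
        rw [Module.End.pow_restrict r hcomap]
        ext w
        simp [hf]
      have hblock := det_block r c hc (f.restrict hcomap) hg hWr
      have hQ : (W.mapQ W f hcomap) ^ r = c • 1 := by
        rw [← Submodule.mapQ_pow W hcomap r]
        ext w
        simp [hf]
      have hrn : r ≤ n' := by
        rw [← hdim, ← hWr]; exact Submodule.finrank_le W
      have hQdim : finrank F (V ⧸ W) = n' - r := by
        have := Submodule.finrank_quotient_add_finrank W
        omega
      have hih := ih (n' - r) (by have := hr.pos; omega) (V ⧸ W) (W.mapQ W f hcomap) hQ hQdim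
      rw [hdet, hblock, hih, ← pow_succ', Nat.div_eq_sub_div hr.pos hrn]

theorem det_formula [FiniteDimensional F V] (r : ℕ) [Fact r.Prime] (c : F)
    (hc : ∀ d : F, d ^ r ≠ c) (f : V →ₗ[F] V) (hf : f ^ r = c • 1) :
    LinearMap.det f = ((-1) ^ (r + 1) * c) ^ (finrank F V / r) :=
  det_formula_aux r c hc _ V f hf rfl

end Cfsg.Agent.Lib.Helper98.Elus
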