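import Mathlib
import Cfsg.Agent.Lib.Helper98.SL2Borel
import Cfsg.Agent.Lib.Helper07.SLCard
import Cfsg.Agent.Lib.Helper07.PGLCard

/-!
# Tools for deriving maximal subgroups of `PSL₂(q)` from Dickson's theorem
-/

set_option autoImplicit false

namespace Cfsg.Agent.Lib.Helper98.DicksonMax

open Matrix Cfsg.Agent.Lib.Helper98.SL2Borel
open scoped commutatorElement Pointwise

section Early

/-- all commutators are killed by `q` -/
def CommPow (q : ℕ) (X : Type*) [Group X] : Prop := ∀ a b : X, ⁅a, b⁆ ^ q = 1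

lemma CommPow.of_injective {q : ℕ} {X Y : Type*} [Group X] [Group Y] (f : X →* Y)
    (hf : Function.Injective f) (h : CommPow q Y) : CommPow q X := by
  intro a b
  apply hf
  rw [map_pow, map_commutatorElement, h, map_one]

/-- squares commute -/
def SqComm (X : Type*) [Group X] : Prop := ∀ a b : X, a ^ 2 * b ^ 2 = b ^ 2 * a ^ 2

lemma SqComm.of_injective {X Y : Type*} [Group X] [Group Y] (f : X →* Y)
    (hf : Function.Injective f) (h : SqComm Y) : SqComm X := by
  intro a b
  apply hf
  rw [map_mul, map_mul, map_pow, map_pow, h]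

lemma sqComm_of_isCyclic {X : Type*} [Group X] [IsCyclic X] : SqComm X := by
  intro a b
  obtain ⟨g, hg⟩ := IsCyclic.exists_generator (α := X)
  obtain ⟨i, rfl⟩ := Subgroup.mem_zpowers_iff.mp (hg a)
  obtain ⟨j, rfl⟩ := Subgroup.mem_zpowers_iff.mp (hg b)
  rw [← zpow_natCast, ← zpow_natCast, ← _root_.zpow_mul, ← _root_.zpow_mul, ← _root_.zpow_add, ← _root_.zpow_add, add_comm]

lemma sqComm_dihedral (k : ℕ) : SqComm (DihedralGroup k) := by
  intro a b
  rcases a with i | i <;> rcases b with j | j <;> simp [pow_two, add_comm]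

variable {F : Type*} [Field F]

local notation "S" => Matrix.SpecialLinearGroup (Fin 2) F
local notation "G" => Matrix.ProjectiveSpecialLinearGroup (Fin 2) F

lemma lower_eq_zero_of_mk_eq (C D : S) (h : (QuotientGroup.mk C : G) = QuotientGroup.mk D)
    (hD : D.1 1 0 = 0) : C.1 1 0 = 0 := by
  rw [QuotientGroup.eq] at h
  set z : S := C⁻¹ * D with hz
  have hCz : D = C * z := by rw [hz]; group
  obtain ⟨h01, h10, hdiag⟩ := (mem_center_iff' z).mp h
  have hdz := det_eq z
  rw [h01, zero_mul, sub_zero, hdiag] at hdz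
  have e10 := congrArg (fun M : S => M.1 1 0) hCz
  simp only [(mul_entries _ _).2.2.1, h10, hdiag, hD] at e10
  have : C.1 1 0 * z.1 1 1 = 0 := by linear_combination -e10
  rcases mul_eq_zero.mp this with h1 | h1
  · exact h1
  · rw [h1] at hdz; simp at hdz

/-- commutator of two upper triangular elements -/
lemma commutator_upper (A B : S) (hA : A.1 1 0 = 0) (hB : B.1 1 0 = 0) :
    ∃ x : F, ⁅A, B⁆ = uMat x := by
  have hdA := det_eq A
  have hdB := det_eq B
  rw [hA, mul_zero, sub_zero] at hdA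
  rw [hB, mul_zero, sub_zero] at hdB
  refine ⟨(⁅A, B⁆).1 0 1, ?_⟩
  rw [commutatorElement_def]
  apply ext_entries
  · simp only [(mul_entries _ _).1, (mul_entries _ _).2.1, (mul_entries _ _).2.2.1,
      (mul_entries _ _).2.2.2, coe_inv_apply, hA, hB]
    simp
    linear_combination (A.1 0 0 * A.1 1 1) * hdB + hdA
  · simp
  · simp only [(mul_entries _ _).1, (mul_entries _ _).2.1, (mul_entries _ _).2.2.1,
      (mul_entries _ _).2.2.2, coe_inv_apply, hA, hB]
    simp
  · simp only [(mul_entries _ _).1, (mul_entries _ _).2.1, (mul_entries _ _).2.2.1,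
      (mul_entries _ _).2.2.2, coe_inv_apply, hA, hB]
    simp
    linear_combination (A.1 0 0 * A.1 1 1) * hdB + hdA

section finite

variable [Fintype F] (p : ℕ) [Fact p.Prime] [CharP F p]

omit [Fact p.Prime] [CharP F p] in
lemma mk_uMat_pow_card (x : F) : (QuotientGroup.mk (uMat x) : G) ^ (Fintype.card F) = 1 := by
  rw [← QuotientGroup.mk_pow, uMat_pow, Nat.cast_card_eq_zero, zero_mul, uMat_zero]
  rfl

omit [Fact p.Prime] [CharP F p] in
/-- elements normalizing the unipotent subgroup are upper triangular -/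
lemma lower_eq_zero_of_mem_normalizer (A : S)
    (hA : (QuotientGroup.mk A : G) ∈ Subgroup.normalizer
      ((uBarHom : Multiplicative F →* G).range : Set G)) : A.1 1 0 = 0 := by
  rw [Subgroup.mem_normalizer_iff] at hA
  have h1 : (QuotientGroup.mk (uMat 1) : G) ∈ (uBarHom : Multiplicative F →* G).range :=
    (mem_uBar_range _).mpr ⟨1, rfl⟩
  have h2 := (hA _).mp h1
  obtain ⟨x, hx⟩ := (mem_uBar_range _).mp h2
  have h3 : (QuotientGroup.mk (A * uMat 1 * A⁻¹) : G) = QuotientGroup.mk (uMat x) := by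
    rw [← hx]; rfl
  have h4 := lower_eq_zero_of_mk_eq _ _ h3 (by simp)
  exact (conj_uMat_one_lower_iff A).mp h4

omit [Fact p.Prime] [CharP F p] in
lemma commPow_normalizer_uBar :
    CommPow (Fintype.card F) (Subgroup.normalizer
      ((uBarHom : Multiplicative F →* G).range : Set G)) := by
  intro a b
  obtain ⟨a, ha⟩ := a
  obtain ⟨b, hb⟩ := b
  obtain ⟨A, rfl⟩ := QuotientGroup.mk_surjective a
  obtain ⟨B, rfl⟩ := QuotientGroup.mk_surjective b
  have hA := lower_eq_zero_of_mem_normalizer A ha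
  have hB := lower_eq_zero_of_mem_normalizer B hb
  obtain ⟨x, hx⟩ := commutator_upper A B hA hB
  apply Subtype.ext
  rw [Subgroup.coe_pow, Subgroup.coe_one]
  have : ((⁅(⟨QuotientGroup.mk A, ha⟩ : Subgroup.normalizer
      ((uBarHom : Multiplicative F →* G).range : Set G)),
      (⟨QuotientGroup.mk B, hb⟩ : Subgroup.normalizer
      ((uBarHom : Multiplicative F →* G).range : Set G))⁆ : Subgroup.normalizer
      ((uBarHom : Multiplicative F →* G).range : Set G)) : G) =
      QuotientGroup.mk (uMat x) := by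
    rw [← hx]
    simp only [commutatorElement_def, Subgroup.coe_mul, Subgroup.coe_inv, QuotientGroup.mk_mul,
      QuotientGroup.mk_inv]
  rw [this, mk_uMat_pow_card]

/-- commutators in the normalizer of a Sylow `p`-subgroup of `PSL₂(F)` are killed by `|F|` -/
theorem commPow_normalizer_sylow (P : Sylow p G) :
    CommPow (Fintype.card F) (Subgroup.normalizer ((P : Subgroup G) : Set G)) := by
  obtain ⟨g, hg⟩ := MulAction.exists_smul_eq G (sylUBar (F := F) p) P
  -- conjugation by g⁻¹ maps N(P) into N(Ubar)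
  have hP : (P : Subgroup G) = MulAut.conj g • (uBarHom : Multiplicative F →* G).range := by
    rw [← hg, Sylow.coe_subgroup_smul]; rfl
  have hN : ∀ a ∈ Subgroup.normalizer ((P : Subgroup G) : Set G),
      g⁻¹ * a * g ∈ Subgroup.normalizer ((uBarHom : Multiplicative F →* G).range : Set G) := by
    intro a ha
    rw [Subgroup.mem_normalizer_iff] at ha ⊢
    intro h
    have e1 : ∀ y, y ∈ (P : Subgroup G) ↔ g⁻¹ * y * g ∈ (uBarHom : Multiplicative F →* G).range := by
      intro y
      rw [hP, Subgroup.mem_smul_pointwise_iff_exists]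
      constructor
      · rintro ⟨u, hu, rfl⟩
        simpa [MulAut.smul_def, MulAut.conj_apply, mul_assoc] using hu
      · intro hy
        exact ⟨g⁻¹ * y * g, hy, by simp [MulAut.smul_def, MulAut.conj_apply, mul_assoc]⟩
    have e2 := ha (g * h * g⁻¹)
    rw [e1, e1] at e2
    have e3 : g⁻¹ * (g * h * g⁻¹) * g = h := by group
    have e4 : g⁻¹ * (a * (g * h * g⁻¹) * a⁻¹) * g = g⁻¹ * a * g * h * (g⁻¹ * a * g)⁻¹ := by group
    rw [e3, e4] at e2
    exact e2
  let f : Subgroup.normalizer ((P : Subgroup G) : Set G) →*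
      Subgroup.normalizer ((uBarHom : Multiplicative F →* G).range : Set G) :=
    { toFun := fun a => ⟨g⁻¹ * a.1 * g, hN a.1 a.2⟩
      map_one' := by apply Subtype.ext; simp
      map_mul' := by intro a b; apply Subtype.ext; simp only [Subgroup.coe_mul]; group }
  refine CommPow.of_injective f ?_ commPow_normalizer_uBar
  intro a b hab
  have := congrArg Subtype.val hab
  simp only [f, MonoidHom.coe_mk, OneHom.coe_mk] at this
  apply Subtype.ext
  exact mul_left_cancel (mul_right_cancel this)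

end finite


/-- equality in `PSL₂` -/
lemma mk_eq_iff (A B : S) :
    (QuotientGroup.mk A : G) = QuotientGroup.mk B ↔ A = B ∨ A = -B := by
  constructor
  · intro h
    rw [QuotientGroup.eq] at h
    set z : S := A⁻¹ * B with hz
    have hB : B = A * z := by rw [hz]; group
    obtain ⟨h01, h10, hdiag⟩ := (mem_center_iff' z).mp h
    have hdz := det_eq z
    rw [h01, zero_mul, sub_zero, hdiag] at hdz
    have h1 : (z.1 1 1 - 1) * (z.1 1 1 + 1) = 0 := by linear_combination hdz
    rcases mul_eq_zero.mp h1 with h2 | h2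
    · left
      have hz1 : z = 1 := by
        apply ext_entries
        · rw [hdiag, sub_eq_zero.mp h2]; simp
        · rw [h01]; simp
        · rw [h10]; simp
        · rw [sub_eq_zero.mp h2]; simp
      rw [hB, hz1, mul_one]
    · right
      have hz1 : z = -1 := by
        have : z.1 1 1 = -1 := by linear_combination h2
        apply ext_entries
        · rw [hdiag, this]; simp
        · rw [h01]; simp
        · rw [h10]; simp
        · rw [this]; simp
      rw [hB, hz1]; simp
  · rintro (h | h)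
    · rw [h]
    · rw [h, mk_neg]

/-- lower unitriangular element -/
def lMat (y : F) : S := ⟨!![1, 0; y, 1], by simp [Matrix.det_fin_two_of]⟩

@[simp] lemma lMat_coe (y : F) : (lMat y).1 = !![1, 0; y, 1] := rfl

lemma not_sqComm_of_t (t : F) (ht0 : t ≠ 0) (ht1 : t ≠ 1) (ht2 : t ≠ -1) : ¬ SqComm G := by
  intro hs
  let a : S := ⟨!![0, -1; 1, 1], by simp [Matrix.det_fin_two_of]⟩
  let b : S := ⟨!![0, -t; t⁻¹, 1], by
    rw [Matrix.det_fin_two_of]
    have := inv_mul_cancel₀ ht0
    linear_combination this⟩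
  have := hs (QuotientGroup.mk a) (QuotientGroup.mk b)
  rw [← QuotientGroup.mk_pow, ← QuotientGroup.mk_pow, ← QuotientGroup.mk_mul,
    ← QuotientGroup.mk_mul, mk_eq_iff] at this
  have e1 : (a ^ 2 * b ^ 2).1 0 1 = t := by
    simp only [pow_two, (mul_entries _ _).1, (mul_entries _ _).2.1, (mul_entries _ _).2.2.1,
      (mul_entries _ _).2.2.2]
    simp [a, b]
    have := inv_mul_cancel₀ ht0
    linear_combination this
  have e2 : (b ^ 2 * a ^ 2).1 0 1 = t * t⁻¹ := by
    simp only [pow_two, (mul_entries _ _).1, (mul_entries _ _).2.1, (mul_entries _ _).2.2.1,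
      (mul_entries _ _).2.2.2]
    simp [a, b]
  rw [mul_inv_cancel₀ ht0] at e2
  rcases this with h3 | h3
  · have := congrArg (fun M : S => M.1 0 1) h3
    simp only [e1, e2] at this
    exact ht1 this
  · have := congrArg (fun M : S => M.1 0 1) h3
    simp only [e1] at this
    have h5 : (-(b ^ 2 * a ^ 2)).1 0 1 = -1 := by
      rw [Matrix.SpecialLinearGroup.coe_neg, Matrix.neg_apply, e2]
    rw [h5] at this
    exact ht2 this

lemma not_sqComm_of_two_ne_zero (h2 : (2 : F) ≠ 0) : ¬ SqComm G := by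
  intro hs
  have := hs (QuotientGroup.mk (uMat 1)) (QuotientGroup.mk (lMat 1))
  rw [← QuotientGroup.mk_pow, ← QuotientGroup.mk_pow, ← QuotientGroup.mk_mul,
    ← QuotientGroup.mk_mul, mk_eq_iff] at this
  have h4 : (4 : F) ≠ 0 := by
    have : (4 : F) = 2 * 2 := by norm_num
    rw [this]; exact mul_ne_zero h2 h2
  have e1 : (uMat (1 : F) ^ 2 * lMat 1 ^ 2).1 0 0 = 5 := by
    simp only [pow_two, (mul_entries _ _).1, (mul_entries _ _).2.1, (mul_entries _ _).2.2.1,
      (mul_entries _ _).2.2.2]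
    simp
    norm_num
  have e2 : (lMat (1 : F) ^ 2 * uMat 1 ^ 2).1 0 0 = 1 := by
    simp only [pow_two, (mul_entries _ _).1, (mul_entries _ _).2.1, (mul_entries _ _).2.2.1,
      (mul_entries _ _).2.2.2]
    simp
  have e3 : (uMat (1 : F) ^ 2 * lMat 1 ^ 2).1 0 1 = 2 := by
    simp only [pow_two, (mul_entries _ _).1, (mul_entries _ _).2.1, (mul_entries _ _).2.2.1,
      (mul_entries _ _).2.2.2]
    simp
    norm_num
  have e4 : (lMat (1 : F) ^ 2 * uMat 1 ^ 2).1 0 1 = 2 := by
    simp only [pow_two, (mul_entries _ _).1, (mul_entries _ _).2.1, (mul_entries _ _).2.2.1,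
      (mul_entries _ _).2.2.2]
    simp
    norm_num
  rcases this with h3 | h3
  · have := congrArg (fun M : S => M.1 0 0) h3
    simp only [e1, e2] at this
    apply h4
    linear_combination this
  · have := congrArg (fun M : S => M.1 0 1) h3
    simp only [e3] at this
    have h5 : (-(lMat (1 : F) ^ 2 * uMat 1 ^ 2)).1 0 1 = -2 := by
      rw [Matrix.SpecialLinearGroup.coe_neg, Matrix.neg_apply, e4]
    rw [h5] at this
    apply h4
    linear_combination this

/-- `PSL₂(K)` with `|K| ≥ 3` does not have commuting squares -/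
theorem not_sqComm_psl2 (h : (2 : F) ≠ 0 ∨ ∃ t : F, t ≠ 0 ∧ t ≠ 1) : ¬ SqComm G := by
  by_cases h2 : (2 : F) = 0
  · obtain ⟨t, ht0, ht1⟩ := h.resolve_left (not_not.mpr h2)
    apply not_sqComm_of_t t ht0 ht1
    intro h3
    apply ht1
    rw [h3]
    linear_combination (-1 : F) * h2
  · exact not_sqComm_of_two_ne_zero h2

theorem not_sqComm_psl2_of_card [Fintype F] (h : 3 ≤ Fintype.card F) : ¬ SqComm G := by
  classical
  apply not_sqComm_psl2
  right
  by_contra hcon
  push Not at hcon
  have : (Finset.univ : Finset F) ⊆ {0, 1} := by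
    intro t _
    by_cases ht : t = 0
    · simp [ht]
    · simp [hcon t ht]
  have := Finset.card_le_card this
  rw [Finset.card_univ] at this
  have h2 : ({0, 1} : Finset F).card ≤ 2 := Finset.card_le_two
  omega


lemma trace_commutator_uMat_lMat (x y : F) :
    Matrix.trace (⁅uMat x, lMat y⁆ : S).1 = 2 + x ^ 2 * y ^ 2 := by
  rw [commutatorElement_def, Matrix.trace_fin_two]
  simp only [(mul_entries _ _).1, (mul_entries _ _).2.1, (mul_entries _ _).2.2.1,
      (mul_entries _ _).2.2.2, coe_inv_apply]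
  simp
  ring

lemma trace_pow_card_pow [Fintype F] (M : Matrix (Fin 2) (Fin 2) F) (r : ℕ) :
    Matrix.trace (M ^ (Fintype.card F ^ r)) = Matrix.trace M := by
  induction r with
  | zero => simp
  | succ r ih =>
    rw [pow_succ, pow_mul, FiniteField.trace_pow_card, ih, FiniteField.pow_card]

/-- if the image of `C` in `PSL₂` is killed by a power of `|F|` then `tr² = 4` -/
lemma trace_sq_of_mk_pow_eq_one [Fintype F] (C : S) (r : ℕ)
    (h : (QuotientGroup.mk C : G) ^ (Fintype.card F ^ r) = 1) :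
    (Matrix.trace C.1) ^ 2 = 4 := by
  rw [← QuotientGroup.mk_pow, QuotientGroup.eq_one_iff, mem_center_iff'] at h
  obtain ⟨h01, h10, hdiag⟩ := h
  have hd := det_eq (C ^ (Fintype.card F ^ r))
  rw [h01, zero_mul, sub_zero, hdiag] at hd
  have ht := trace_pow_card_pow C.1 r
  rw [← Matrix.SpecialLinearGroup.coe_pow, Matrix.trace_fin_two, hdiag] at ht
  rw [← ht]
  linear_combination 4 * hd

theorem not_commPow_psl2 [Fintype F] (r : ℕ) : ¬ CommPow (Fintype.card F ^ r) G := by
  intro hc
  have key : ∀ x y : F, (x ^ 2 * y ^ 2) * (x ^ 2 * y ^ 2 + 4) = 0 := by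
    intro x y
    have h1 := hc (QuotientGroup.mk (uMat x)) (QuotientGroup.mk (lMat y))
    have h2 : ⁅(QuotientGroup.mk (uMat x) : G), (QuotientGroup.mk (lMat y) : G)⁆ =
        QuotientGroup.mk ⁅uMat x, lMat y⁆ := by
      simp only [commutatorElement_def, QuotientGroup.mk_mul, QuotientGroup.mk_inv]
    rw [h2] at h1
    have h3 := trace_sq_of_mk_pow_eq_one _ r h1
    rw [trace_commutator_uMat_lMat] at h3
    linear_combination h3
  by_cases h5 : (5 : F) = 0
  · have := key 2 1
    have h2 : (2 : F) ≠ 0 := by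
      intro h2
      have : (1 : F) = 0 := by linear_combination h5 - 2 * h2
      exact one_ne_zero this
    have h6 : (2 : F) ^ 5 = 0 := by linear_combination this
    exact h2 (pow_eq_zero_iff (by norm_num) |>.mp h6)
  · have := key 1 1
    apply h5
    linear_combination this


lemma pow_odd_of_sq_eq_one {X : Type*} [Group X] (c : X) (hc : c ^ 2 = 1) (N : ℕ) (hN : Odd N) :
    c ^ N = c := by
  obtain ⟨k, rfl⟩ := hN
  rw [pow_succ, pow_mul, hc, one_pow, one_mul]

lemma not_commPow_of_involution {X : Type*} [Group X] (a b : X) (h1 : ⁅a, b⁆ ≠ 1)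
    (h2 : ⁅a, b⁆ ^ 2 = 1) (N : ℕ) (hN : Odd N) : ¬ CommPow N X := by
  intro h
  apply h1
  rw [← pow_odd_of_sq_eq_one _ h2 N hN]
  exact h a b

/-- two 3-cycles in `A₄` -/
def a4a : alternatingGroup (Fin 4) := ⟨c[0, 1, 2], Equiv.Perm.mem_alternatingGroup.mpr (by decide)⟩
/-- two 3-cycles in `A₄` -/
def a4b : alternatingGroup (Fin 4) := ⟨c[0, 1, 3], Equiv.Perm.mem_alternatingGroup.mpr (by decide)⟩
/-- two 3-cycles in `A₅` -/
def a5a : alternatingGroup (Fin 5) := ⟨c[0, 1, 2], Equiv.Perm.mem_alternatingGroup.mpr (by decide)⟩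
/-- two 3-cycles in `A₅` -/
def a5b : alternatingGroup (Fin 5) := ⟨c[0, 1, 3], Equiv.Perm.mem_alternatingGroup.mpr (by decide)⟩

theorem not_sqComm_A4 : ¬ SqComm (alternatingGroup (Fin 4)) := by
  intro hs
  have := hs a4a a4b
  revert this
  decide

theorem not_sqComm_S4 : ¬ SqComm (Equiv.Perm (Fin 4)) := by
  intro hs
  have := hs c[0, 1, 2] c[0, 1, 3]
  revert this
  decide

theorem not_sqComm_A5 : ¬ SqComm (alternatingGroup (Fin 5)) := by
  intro hs
  have := hs a5a a5b
  revert this
  decide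

theorem not_commPow_A4 (N : ℕ) (hN : Odd N) : ¬ CommPow N (alternatingGroup (Fin 4)) :=
  not_commPow_of_involution a4a a4b (by decide) (by decide) N hN

theorem not_commPow_S4 (N : ℕ) (hN : Odd N) : ¬ CommPow N (Equiv.Perm (Fin 4)) :=
  not_commPow_of_involution c[0, 1, 2] c[0, 1, 3] (by decide) (by decide) N hN

theorem not_commPow_A5 (N : ℕ) (hN : Odd N) : ¬ CommPow N (alternatingGroup (Fin 5)) :=
  not_commPow_of_involution a5a a5b (by decide) (by decide) N hN

lemma card_A4 : Nat.card (alternatingGroup (Fin 4)) = 12 := by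
  rw [Nat.card_eq_fintype_card]
  have h2 := two_mul_card_alternatingGroup (α := Fin 4)
  rw [Fintype.card_perm, Fintype.card_fin] at h2
  have : (Nat.factorial 4) = 24 := by decide
  omega

lemma card_S4 : Nat.card (Equiv.Perm (Fin 4)) = 24 := by
  rw [Nat.card_eq_fintype_card, Fintype.card_perm, Fintype.card_fin]
  decide

lemma card_A5 : Nat.card (alternatingGroup (Fin 5)) = 60 := by
  rw [Nat.card_eq_fintype_card]
  have h2 := two_mul_card_alternatingGroup (α := Fin 5)
  rw [Fintype.card_perm, Fintype.card_fin] at h2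
  have : (Nat.factorial 5) = 120 := by decide
  omega


end Early

/-- the conclusion of Dickson's theorem for a subgroup `H` of `PSL₂(F)` -/
def DicksonConcl {F : Type*} [Field F] [Fintype F] (q p : ℕ) [Fact p.Prime]
    (H : Subgroup (Matrix.ProjectiveSpecialLinearGroup (Fin 2) F)) : Prop :=
  (∃ k : ℕ, (k ∣ (q + 1) / Nat.gcd 2 (q - 1) ∨ k ∣ (q - 1) / Nat.gcd 2 (q - 1)) ∧ ((IsCyclic H ∧ Nat.card H = k) ∨ Nonempty (H ≃* DihedralGroup k))) ∨ (∃ (P : Sylow p (Matrix.ProjectiveSpecialLinearGroup (Fin 2) F)) (K : Subgroup (Matrix.ProjectiveSpecialLinearGroup (Fin 2) F)), K ≤ Subgroup.normalizer ((P : Subgroup (Matrix.ProjectiveSpecialLinearGroup (Fin 2) F)) : Set (Matrix.ProjectiveSpecialLinearGroup (Fin 2) F)) ∧ Nonempty (H ≃* K)) ∨ Nonempty (H ≃* alternatingGroup (Fin 4)) ∨ Nonempty (H ≃* Equiv.Perm (Fin 4)) ∨ Nonempty (H ≃* alternatingGroup (Fin 5)) ∨ (∃ (K : Type) (_ : Field K) (_ : Fintype K) (m : ℕ), Fintype.card K ^ m = q ∧ (Nonempty (H ≃* Matrix.ProjectiveSpecialLinearGroup (Fin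 2) K) ∨ Nonempty (H ≃* Matrix.ProjGenLinGroup (Fin 2) K)))

lemma SqComm.of_equiv {X Y : Type*} [Group X] [Group Y] (e : X ≃* Y) (h : SqComm Y) : SqComm X :=
  SqComm.of_injective e.toMonoidHom e.injective h

lemma CommPow.of_equiv {q : ℕ} {X Y : Type*} [Group X] [Group Y] (e : X ≃* Y) (h : CommPow q Y) :
    CommPow q X :=
  CommPow.of_injective e.toMonoidHom e.injective h

lemma SqComm.of_le {X : Type*} [Group X] {H M : Subgroup X} (hle : H ≤ M) (h : SqComm M) :
    SqComm H :=
  SqComm.of_injective (Subgroup.inclusion hle) (Subgroup.inclusion_injective hle) h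

lemma CommPow.of_le {q : ℕ} {X : Type*} [Group X] {H M : Subgroup X} (hle : H ≤ M)
    (h : CommPow q M) : CommPow q H :=
  CommPow.of_injective (Subgroup.inclusion hle) (Subgroup.inclusion_injective hle) h

section

variable {F : Type*} [Field F] [Fintype F]

local notation "G" => Matrix.ProjectiveSpecialLinearGroup (Fin 2) F

/-- overgroups of a subgroup that has neither commuting squares nor `q`-torsion commutators -/
theorem overgroup_cases {q : ℕ} (hF : Fintype.card F = q) (p : ℕ) [Fact p.Prime] [CharP F p]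
    (H M : Subgroup G) (hle : H ≤ M) (hD : DicksonConcl q p M)
    (h1 : ¬ SqComm H) (h2 : ¬ CommPow q H) :
    Nonempty (M ≃* alternatingGroup (Fin 4)) ∨ Nonempty (M ≃* Equiv.Perm (Fin 4)) ∨
      Nonempty (M ≃* alternatingGroup (Fin 5)) ∨
      (∃ (K : Type) (_ : Field K) (_ : Fintype K) (m : ℕ), Fintype.card K ^ m = q ∧
        (Nonempty (M ≃* Matrix.ProjectiveSpecialLinearGroup (Fin 2) K) ∨
          Nonempty (M ≃* Matrix.ProjGenLinGroup (Fin 2) K))) := by
  rcases hD with ⟨k, -, ⟨hc, -⟩ | ⟨⟨e⟩⟩⟩ | ⟨P, K, hK, ⟨e⟩⟩ | h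
  · exact absurd (SqComm.of_le hle sqComm_of_isCyclic) h1
  · exact absurd (SqComm.of_le hle (SqComm.of_equiv e (sqComm_dihedral k))) h1
  · exfalso
    apply h2
    apply CommPow.of_le hle
    apply CommPow.of_equiv e
    have := commPow_normalizer_sylow p P
    rw [hF] at this
    exact CommPow.of_le hK this
  · exact h

/-- coatom criterion -/
lemma isCoatom_of_forall {X : Type*} [Group X] (H : Subgroup X) (hne : H ≠ ⊤)
    (h : ∀ M : Subgroup X, H ≤ M → M = H ∨ M = ⊤) : IsCoatom H := by
  refine ⟨hne, ?_⟩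
  intro M hM
  rcases h M hM.le with h1 | h1
  · exact absurd h1 hM.ne'
  · exact h1

/-- order of `PSL₂` -/
lemma card_psl2 : Nat.card G * Nat.gcd 2 (Fintype.card F - 1) =
    Fintype.card F * (Fintype.card F ^ 2 - 1) := by
  rw [← Cfsg.Agent.Lib.Helper45.card_SL2, Cfsg.Agent.Lib.Helper07.card_sl_eq_card_psl_mul 2 (by norm_num)]

lemma card_pgl2 : Nat.card (Matrix.ProjGenLinGroup (Fin 2) F) =
    Fintype.card F * (Fintype.card F ^ 2 - 1) := by
  rw [Cfsg.Agent.Lib.Helper07.card_pgl_eq_card_sl, Cfsg.Agent.Lib.Helper45.card_SL2]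

lemma card_psl2_odd (hodd : Odd (Fintype.card F)) :
    2 * Nat.card G = Fintype.card F * (Fintype.card F ^ 2 - 1) := by
  rw [← card_psl2, mul_comm]
  congr 1
  obtain ⟨k, hk⟩ := hodd
  have hpos : 0 < Fintype.card F := Fintype.card_pos
  have : Fintype.card F - 1 = 2 * k := by omega
  rw [this]
  simp

lemma card_psl2_even (heven : Even (Fintype.card F)) :
    Nat.card G = Fintype.card F * (Fintype.card F ^ 2 - 1) := by
  rw [← card_psl2]
  obtain ⟨k, hk⟩ := heven
  have hpos : 0 < Fintype.card F := Fintype.card_pos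
  have : Nat.gcd 2 (Fintype.card F - 1) = 1 := by
    have h1 : Fintype.card F - 1 = 2 * (k - 1) + 1 := by omega
    rw [h1]
    simp
  rw [this, mul_one]

end

end Cfsg.Agent.Lib.Helper98.DicksonMax
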