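import Mathlib
import Cfsg.Agent.Lib.Helper42.SL2Torus

set_option autoImplicit false

/-!
# Exact orders of tori in `SL₂(q)` (helper98)

The centralizer in `SL₂(F)` of a regular semisimple element (`tr² ≠ 4`) has order `q - 1`
or `q + 1`, by counting the points of the conic `x² + t x y + y² = 1`.
-/

namespace Cfsg.Agent.Lib.Helper98.PSL2Orders

section conic

variable {F : Type*} [Field F]

/-- the binary quadratic form `x² + t x y + y²` -/
def Qf (t : F) (v : F × F) : F := v.1 ^ 2 + v.1 * v.2 * t + v.2 ^ 2

/-- multiplication in `F[A]`, `A² = tA - 1` -/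
def mulE (t : F) (v w : F × F) : F × F :=
  (v.1 * w.1 - v.2 * w.2, v.1 * w.2 + v.2 * w.1 + t * v.2 * w.2)

def conjE (t : F) (v : F × F) : F × F := (v.1 + t * v.2, -v.2)

lemma Qf_mulE (t : F) (v w : F × F) : Qf t (mulE t v w) = Qf t v * Qf t w := by
  simp only [Qf, mulE]; ring

lemma mulE_assoc (t : F) (u v w : F × F) : mulE t (mulE t u v) w = mulE t u (mulE t v w) := by
  simp only [mulE]; ext <;> simp <;> ring

lemma mulE_conjE (t : F) (v : F × F) : mulE t (conjE t v) v = (Qf t v, 0) := by
  simp only [mulE, conjE, Qf]; ext <;> simp <;> ring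

lemma mulE_scalar (t c : F) (w : F × F) : mulE t (c, 0) w = (c * w.1, c * w.2) := by
  simp only [mulE]; ext <;> simp

lemma Qf_smul (t c : F) (v : F × F) : Qf t (c * v.1, c * v.2) = c ^ 2 * Qf t v := by
  simp only [Qf]; ring

variable [Fintype F] [DecidableEq F]

/-- the fibre of the form over `c` -/
def fib (t c : F) : Finset (F × F) := Finset.univ.filter (fun v => Qf t v = c)

lemma mem_fib (t c : F) (v : F × F) : v ∈ fib t c ↔ Qf t v = c := by simp [fib]

/-- all nonzero fibres that are nonempty have the same size as the fibre over 1 -/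
lemma card_fib_eq (t c : F) (hc : c ≠ 0) (m : F × F) (hm : Qf t m = c) :
    (fib t c).card = (fib t 1).card := by
  symm
  apply Finset.card_bij' (fun v _ => mulE t m v)
    (fun w _ => mulE t (c⁻¹ * (conjE t m).1, c⁻¹ * (conjE t m).2) w)
  · intro v hv
    rw [mem_fib] at hv ⊢
    rw [Qf_mulE, hv, hm, mul_one]
  · intro w hw
    rw [mem_fib] at hw ⊢
    have : Qf t (conjE t m) = c := by
      rw [← hm]; simp only [Qf, conjE]; ring
    rw [Qf_mulE, Qf_smul, this, hw]
    field_simp
  · intro v _
    have h1 : mulE t (c⁻¹ * (conjE t m).1, c⁻¹ * (conjE t m).2) m = (1, 0) := by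
      have := mulE_conjE t m
      rw [hm] at this
      have h2 : (c⁻¹ * (conjE t m).1, c⁻¹ * (conjE t m).2) = mulE t (c⁻¹, 0) (conjE t m) := by
        rw [mulE_scalar]
      rw [h2, mulE_assoc, this, mulE_scalar]
      ext <;> simp [hc]
    rw [← mulE_assoc, h1, mulE_scalar]
    ext <;> simp
  · intro w _
    have h1 : mulE t m (c⁻¹ * (conjE t m).1, c⁻¹ * (conjE t m).2) = (1, 0) := by
      simp only [mulE, conjE, Qf] at hm ⊢
      ext
      · simp
        field_simp
        linear_combination hm
      · simp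
        field_simp
        ring
    rw [← mulE_assoc, h1, mulE_scalar]
    ext <;> simp


/-- the form is surjective -/
lemma Qf_surjective (t : F) (ht : t ^ 2 ≠ 4) (c : F) : ∃ m : F × F, Qf t m = c := by
  by_cases h2 : (2 : F) = 0
  · -- characteristic two: every element is a square
    haveI : CharP F 2 := by
      refine ⟨fun n => ?_⟩
      constructor
      · intro hn
        by_contra hnd
        have hodd : n % 2 = 1 := by omega
        have : (n : F) = 1 := by
          have hn2 : n = 2 * (n / 2) + 1 := by omega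
          rw [hn2]; push_cast; rw [h2]; ring
        rw [this] at hn; exact one_ne_zero hn
      · rintro ⟨k, rfl⟩
        push_cast; rw [h2]; ring
    obtain ⟨x, hx⟩ := FiniteField.isSquare_of_char_two (F := F) (ringChar.eq F 2) c
    exact ⟨(x, 0), by simp [Qf, hx, pow_two]⟩
  · have hodd : Fintype.card F % 2 = 1 := by
      have hchar : ringChar F ≠ 2 := by
        intro h
        apply h2
        have := CharP.cast_eq_zero F (ringChar F)
        rw [h] at this
        exact_mod_cast this
      exact FiniteField.odd_card_of_char_ne_two hchar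
    have h4 : (4 : F) ≠ 0 := by
      have : (4 : F) = 2 * 2 := by norm_num
      rw [this]; exact mul_ne_zero h2 h2
    have hδ : (4 - t ^ 2 : F) ≠ 0 := by
      intro h; apply ht; linear_combination -h
    have hf : (Polynomial.X ^ 2 : Polynomial F).degree = 2 := Polynomial.degree_X_pow 2
    have hg : (Polynomial.C (4 - t ^ 2) * Polynomial.X ^ 2 + Polynomial.C 0 * Polynomial.X +
        Polynomial.C (-(4 * c)) : Polynomial F).degree = 2 := Polynomial.degree_quadratic hδ
    obtain ⟨a, b, hab⟩ := FiniteField.exists_root_sum_quadratic hf hg hodd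
    simp only [Polynomial.eval_pow, Polynomial.eval_X, Polynomial.eval_add, Polynomial.eval_mul,
      Polynomial.eval_C] at hab
    refine ⟨((a - t * b) / 2, b), ?_⟩
    simp only [Qf]
    have h2r : 2 * ((a - t * b) / 2) = a - t * b := by field_simp
    set r := (a - t * b) / 2 with hr
    have h5 : 4 * (r ^ 2 + r * b * t + b ^ 2 - c) = 0 := by
      linear_combination hab + (2 * r + (a - t * b) + 2 * t * b) * h2r
    have := (mul_eq_zero.mp h5).resolve_left h4
    linear_combination this

/-- nonsplit case: the fibre over `1` has `q + 1` elements -/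
lemma card_fib_one_nonsplit (t : F) (ht : t ^ 2 ≠ 4) (hns : ∀ l : F, l ^ 2 - t * l + 1 ≠ 0) :
    (fib t 1).card = Fintype.card F + 1 := by
  -- anisotropy
  have haniso : ∀ v : F × F, Qf t v = 0 → v = 0 := by
    intro v hv
    by_cases hy : v.2 = 0
    · have : v.1 ^ 2 = 0 := by simpa [Qf, hy] using hv
      have hx : v.1 = 0 := pow_eq_zero_iff (two_ne_zero) |>.mp this
      ext <;> simp [hx, hy]
    · exfalso
      apply hns (-(v.1 / v.2))
      simp only [Qf] at hv
      field_simp
      linear_combination hv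
  have h0 : fib t 0 = {0} := by
    ext v
    rw [mem_fib, Finset.mem_singleton]
    constructor
    · exact haniso v
    · rintro rfl; simp [Qf]
  have hsum := Finset.card_eq_sum_card_fiberwise (s := (Finset.univ : Finset (F × F)))
    (t := (Finset.univ : Finset F)) (f := Qf t) (fun _ _ => Finset.mem_univ _)
  have hfibeq : ∀ c : F, (Finset.univ.filter (fun v : F × F => Qf t v = c)) = fib t c :=
    fun c => rfl
  simp only [hfibeq] at hsum
  rw [Finset.card_univ, Fintype.card_prod] at hsum
  have hsplit : ∑ c : F, (fib t c).card = (fib t 0).card + ∑ c ∈ Finset.univ.erase (0 : F), (fib t c).card := by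
    rw [← Finset.add_sum_erase _ _ (Finset.mem_univ (0 : F))]
  have hconst : ∑ c ∈ Finset.univ.erase (0 : F), (fib t c).card =
      (Fintype.card F - 1) * (fib t 1).card := by
    rw [Finset.sum_const_nat (m := (fib t 1).card)]
    · rw [Finset.card_erase_of_mem (Finset.mem_univ _), Finset.card_univ]
    · intro c hc
      obtain ⟨m, hm⟩ := Qf_surjective t ht c
      exact card_fib_eq t c (Finset.ne_of_mem_erase hc) m hm
  rw [hsplit, hconst, h0, Finset.card_singleton] at hsum
  have hq : 2 ≤ Fintype.card F := Fintype.one_lt_card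
  set q := Fintype.card F
  set N := (fib t 1).card
  -- q * q = 1 + (q - 1) * N
  have : (q - 1) * N = (q - 1) * (q + 1) := by
    have h1 : (q - 1) * (q + 1) + 1 = q * q := by
      obtain ⟨r, hr⟩ : ∃ r, q = r + 1 := ⟨q - 1, by omega⟩
      rw [hr]; simp; ring
    omega
  exact Nat.eq_of_mul_eq_mul_left (by omega) this


/-- split case: the fibre over `1` has `q - 1` elements -/
lemma card_fib_one_split (t : F) (ht : t ^ 2 ≠ 4) (l : F) (hl : l ^ 2 - t * l + 1 = 0) :
    (fib t 1).card = Fintype.card F - 1 := by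
  set μ := t - l with hμ
  have hlμ : l * μ = 1 := by rw [hμ]; linear_combination -hl
  have hne : l - μ ≠ 0 := by
    intro h
    apply ht
    have h1 : l = μ := sub_eq_zero.mp h
    have h2 : t = 2 * l := by rw [hμ] at h1; linear_combination -h1
    rw [← h1] at hlμ
    rw [h2]; linear_combination 4 * hlμ
  rw [← Fintype.card_units, ← Finset.card_univ]
  have key : ∀ v : F × F, Qf t v = (v.1 + l * v.2) * (v.1 + μ * v.2) := by
    intro v
    simp only [Qf]
    have ht' : t = l + μ := by rw [hμ]; ring
    rw [ht']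
    linear_combination (-(v.2 ^ 2)) * hlμ
  refine Finset.card_bij'
    (fun v hv => Units.mkOfMulEqOne (v.1 + l * v.2) (v.1 + μ * v.2) (by
      rw [mem_fib] at hv
      rw [← key, hv]))
    (fun (u : Fˣ) _ => (((l * (u⁻¹ : Fˣ) - μ * u) / (l - μ) : F),
      (((u : F) - (u⁻¹ : Fˣ)) / (l - μ) : F))) ?hi ?hj ?li ?ri
  case hi => intro v _; exact Finset.mem_univ _
  case hj =>
    intro u _
    rw [mem_fib, key]
    have hu : (u : F) * ((u⁻¹ : Fˣ) : F) = 1 := by simp
    have e1 : (l * ((u⁻¹ : Fˣ) : F) - μ * u) / (l - μ) + l * (((u : F) - ((u⁻¹ : Fˣ) : F)) / (l - μ)) = u := by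
      field_simp
      ring
    have e2 : (l * ((u⁻¹ : Fˣ) : F) - μ * u) / (l - μ) + μ * (((u : F) - ((u⁻¹ : Fˣ) : F)) / (l - μ)) =
        ((u⁻¹ : Fˣ) : F) := by
      field_simp
      ring
    simp only
    rw [e1, e2, hu]
  case li =>
    intro v hv
    rw [mem_fib, key] at hv
    simp only [Units.val_mkOfMulEqOne]
    have hinv : ((Units.mkOfMulEqOne (v.1 + l * v.2) (v.1 + μ * v.2) (by rw [hv]))⁻¹ : Fˣ).1 =
        v.1 + μ * v.2 := rfl
    ext
    · simp only
      rw [hinv]
      field_simp
      ring
    · simp only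
      rw [hinv]
      field_simp
      ring
  case ri =>
    intro u _
    apply Units.ext
    simp only [Units.val_mkOfMulEqOne]
    field_simp
    ring


open Cfsg.Agent.Lib.Helper42.SL2Torus in
/-- the centralizer of a regular semisimple element is in bijection with the conic -/
lemma card_centralizer_eq_fib (A : Matrix.SpecialLinearGroup (Fin 2) F)
    (hA : (Matrix.trace (A : Matrix (Fin 2) (Fin 2) F)) ^ 2 ≠ 4) :
    Nat.card (Subgroup.centralizer ({A} : Set (Matrix.SpecialLinearGroup (Fin 2) F))) =
      (fib (Matrix.trace (A : Matrix (Fin 2) (Fin 2) F)) 1).card := by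
  classical
  set t := Matrix.trace (A : Matrix (Fin 2) (Fin 2) F) with ht
  have hcard : (fib t 1).card = Nat.card {v : F × F // Qf t v = 1} := by
    rw [Nat.card_eq_fintype_card, Fintype.card_subtype]
    rfl
  rw [hcard]
  symm
  let f : {v : F × F // Qf t v = 1} →
      Subgroup.centralizer ({A} : Set (Matrix.SpecialLinearGroup (Fin 2) F)) := fun v =>
    ⟨⟨v.1.1 • (1 : Matrix (Fin 2) (Fin 2) F) + v.1.2 • A.1, by
        rw [det_lin, A.2, mul_one]
        exact v.2⟩, (mem_centralizer_iff A _).2 (by
      show A.1 * (v.1.1 • (1 : Matrix (Fin 2) (Fin 2) F) + v.1.2 • A.1) =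
        (v.1.1 • (1 : Matrix (Fin 2) (Fin 2) F) + v.1.2 • A.1) * A.1
      simp [mul_add, add_mul])⟩
  apply Nat.card_congr
  apply Equiv.ofBijective f
  constructor
  · intro v w h
    have h1 := congrArg (fun B : Subgroup.centralizer
      ({A} : Set (Matrix.SpecialLinearGroup (Fin 2) F)) => (B.1.1 : Matrix (Fin 2) (Fin 2) F)) h
    simp only [f] at h1
    have := lin_unique A.1 A.2 hA _ _ _ _ h1
    exact Subtype.ext (Prod.ext this.1 this.2)
  · intro B
    obtain ⟨x, y, hB, hxy⟩ := exists_lin A hA B.1 B.2
    refine ⟨⟨(x, y), hxy⟩, ?_⟩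
    apply Subtype.ext
    apply Subtype.ext
    simp only [f]
    exact hB.symm

/-- the order of the centralizer of a regular semisimple element of `SL₂(q)` -/
theorem card_centralizer_sl2 (A : Matrix.SpecialLinearGroup (Fin 2) F)
    (hA : (Matrix.trace (A : Matrix (Fin 2) (Fin 2) F)) ^ 2 ≠ 4) :
    Nat.card (Subgroup.centralizer ({A} : Set (Matrix.SpecialLinearGroup (Fin 2) F))) =
        Fintype.card F - 1 ∨
      Nat.card (Subgroup.centralizer ({A} : Set (Matrix.SpecialLinearGroup (Fin 2) F))) =
        Fintype.card F + 1 := by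
  rw [card_centralizer_eq_fib A hA]
  by_cases h : ∃ l : F, l ^ 2 - (Matrix.trace (A : Matrix (Fin 2) (Fin 2) F)) * l + 1 = 0
  · obtain ⟨l, hl⟩ := h
    left; exact card_fib_one_split _ hA l hl
  · push Not at h
    right; exact card_fib_one_nonsplit _ hA h

end conic

end Cfsg.Agent.Lib.Helper98.PSL2Orders
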