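import Mathlib
import Cfsg.Agent.Lib.Helper98.PSL2Orders
import Cfsg.Agent.Lib.Helper48.Dickson.Packages
import Cfsg.Agent.Lib.Helper48.Dickson.TorusMax
import Cfsg.Agent.Lib.Helper19.DicksonUse
import Cfsg.Agent.Lib.Helper19.TwoTrans

set_option autoImplicit false
set_option linter.unusedSimpArgs false
set_option linter.unusedSectionVars false
set_option linter.style.haveILetI false

/-!
# Maximal subgroups of `PSL₂(q)`: orders of tori and Borel subgroups, the embedded form of the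
two-transitive case, twisted subfield subgroups and intermediate subfields (helper98)
-/

namespace Cfsg.Agent.Lib.Helper98.PSL2Max

section orders

open Cfsg.Agent.Lib.Helper48.Dickson Cfsg.Agent.Lib.Helper98.PSL2Orders

section

variable {F : Type*} [Field F] [Fintype F] {p : ℕ} [Fact p.Prime] [CharP F p]

local notation "SL2" => Matrix.SpecialLinearGroup (Fin 2) F
local notation "PSL2" => Matrix.ProjectiveSpecialLinearGroup (Fin 2) F

/-- the order of a torus of `PSL₂(q)`, times `gcd(2, q - 1)`, is `q - 1` or `q + 1` -/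
theorem card_comp2_torus (A : SL2)
    (ht : (Matrix.trace (A : Matrix (Fin 2) (Fin 2) F)) ^ 2 ≠ 4) :
    Nat.card (comp2 (mk2 A)) * Nat.gcd 2 (Fintype.card F - 1) = Fintype.card F - 1 ∨
    Nat.card (comp2 (mk2 A)) * Nat.gcd 2 (Fintype.card F - 1) = Fintype.card F + 1 := by
  classical
  have hcomap : (comp2 (mk2 A)).comap (QuotientGroup.mk' (Subgroup.center SL2)) =
      Subgroup.centralizer ({A} : Set SL2) := by
    rw [comp2_mk]
    unfold compS
    rw [Subgroup.comap_map_eq, QuotientGroup.ker_mk']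
    apply sup_eq_left.mpr
    intro z hz
    rw [Subgroup.mem_centralizer_singleton_iff]
    exact ((Subgroup.mem_center_iff.1 hz) A).symm
  have h1 := Cfsg.Agent.Lib.Helper19.TwoTrans.card_comap_mk (Subgroup.center SL2) (comp2 (mk2 A))
  rw [hcomap, Cfsg.Agent.Lib.Helper07.card_center_sl 2 (by norm_num)] at h1
  rw [mul_comm, ← h1]
  exact card_centralizer_sl2 A ht

end


end orders

section orders2

open Cfsg.Agent.Lib.Helper48.Dickson Cfsg.Agent.Lib.Helper98.PSL2Orders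

section

variable {F : Type*} [Field F] [Fintype F] {p : ℕ} [Fact p.Prime] [CharP F p]

local notation "SL2" => Matrix.SpecialLinearGroup (Fin 2) F
local notation "PSL2" => Matrix.ProjectiveSpecialLinearGroup (Fin 2) F

/-- the normalizer of the standard unipotent subgroup is the image of the upper triangular
group -/
theorem nrm_Ubar_eq (hU : UPack F p) :
    nrm (Ubar : Subgroup PSL2) = Cfsg.Agent.Lib.Helper19.DicksonUse.Bbar F := by
  ext y
  obtain ⟨Y, rfl⟩ := mk2_surjective y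
  rw [mem_nrm_Ubar_iff hU]
  have h1 : mk2 Y ∈ Cfsg.Agent.Lib.Helper19.DicksonUse.Bbar F ↔
      Y ∈ (Cfsg.Agent.Lib.Helper19.DicksonUse.Bbar F).comap
        (QuotientGroup.mk' (Subgroup.center SL2)) := Iff.rfl
  rw [h1, Cfsg.Agent.Lib.Helper19.DicksonUse.comap_Bbar, Cfsg.Agent.Lib.Helper19.TwoTrans.mem_NB]
  simp

theorem card_nrm_Ubar (hU : UPack F p) :
    Nat.card (nrm (Ubar : Subgroup PSL2)) * Nat.gcd 2 (Fintype.card F - 1) =
      Fintype.card F * (Fintype.card F - 1) := by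
  rw [nrm_Ubar_eq hU]
  have h1 := Cfsg.Agent.Lib.Helper19.TwoTrans.card_comap_mk (Subgroup.center SL2)
    (Cfsg.Agent.Lib.Helper19.DicksonUse.Bbar F)
  rw [Cfsg.Agent.Lib.Helper19.DicksonUse.comap_Bbar,
    Cfsg.Agent.Lib.Helper19.DicksonUse.card_NB_top,
    Cfsg.Agent.Lib.Helper07.card_center_sl 2 (by norm_num)] at h1
  rw [mul_comm, ← h1]

/-- the normalizer of a unipotent component has order `q (q - 1) / d` -/
theorem card_nrm_unipotent (hT : TPack F p) (hU : UPack F p) (g : PSL2) (hg : g ≠ 1)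
    (hp : IsPGroup p (comp2 g)) :
    Nat.card (nrm (comp2 g)) * Nat.gcd 2 (Fintype.card F - 1) =
      Fintype.card F * (Fintype.card F - 1) := by
  obtain ⟨A, rfl⟩ := mk2_surjective g
  have hA : A ∉ Subgroup.center SL2 := fun h => hg ((mk2_eq_one_iff A).2 h)
  have : Nontrivial (comp2 (mk2 A)) :=
    ⟨⟨⟨mk2 A, mem_comp2_self _⟩, 1, fun h => hg (congrArg Subtype.val h)⟩⟩
  have ht : (Matrix.trace (A : Matrix (Fin 2) (Fin 2) F)) ^ 2 = 4 := by
    by_contra ht
    exact not_pgroup_and_coprime hp (comp2_coprime hT A ht)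
  obtain ⟨X, h1, h2⟩ := hU.Uh A hA ht
  have hmem : mk2 (X * A * X⁻¹) ∈ (Ubar : Subgroup PSL2) := (mem_Ubar_iff hU _).2 ⟨h1, h2⟩
  have hne : mk2 (X * A * X⁻¹) ≠ 1 := by
    rw [map_mul, map_mul, map_inv]
    exact DStruct.conj_ne_one hg
  have hu1 : mk2 (uMat (1 : F)) ≠ 1 := fun h =>
    uMat_not_center (1 : F) one_ne_zero ((mk2_eq_one_iff _).1 h)
  have hcomp : comp2 (mk2 (X * A * X⁻¹)) = (Ubar : Subgroup PSL2) :=
    comp2_eq (mk2 (uMat (1 : F))) hu1 _ hmem hne
  rw [← card_nrm_Ubar hU, ← hcomp]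
  congr 1
  have hrel : (dstruct hT hU).Rel ⊤ (mk2 A) (mk2 (X * A * X⁻¹)) := by
    refine ⟨mk2 X, Subgroup.mem_top _, ?_⟩
    rw [map_mul, map_mul, map_inv]
  have h3 := (dstruct hT hU).card_NH_of_rel ⊤ hg hne hrel
  unfold DStruct.NH at h3
  rw [top_inf_eq, top_inf_eq] at h3
  exact h3.symm

end


end orders2

section emb

open Matrix Cfsg.Agent.Lib.Helper60 Cfsg.Agent.S0807 Cfsg.Agent.S0808 Cfsg.Agent.S0802
open Cfsg.Agent.Lib.Helper19.TwoTrans

section embedded
variable {F : Type*} [Field F]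

/-- the embedded form of the two-transitive case (normalized position): the subgroup contains
the twisted subfield group -/
theorem embedded_normalized [Fintype F] (p : ℕ) [Fact p.Prime] [CharP F p]
    (H Q : Subgroup (Matrix.ProjectiveSpecialLinearGroup (Fin 2) F)) (P k : ℕ)
    (hyp : Hyp p P k H Q) (hP : 1 < P) (hk : k = P - 1 ∨ 2 * k = P - 1)
    (hQU : Q ≤ Ubar F) (h₁ : Matrix.SpecialLinearGroup (Fin 2) F)
    (h₁H : (QuotientGroup.mk h₁ : Matrix.ProjectiveSpecialLinearGroup (Fin 2) F) ∈ H)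
    (h₁0 : h₁.1 0 0 = 0) :
    ∃ (K : Subfield F) (a₀ : F), a₀ ≠ 0 ∧ (K : Set F).ncard = P ∧
      (∀ x, x ∈ K ↔
        (QuotientGroup.mk (umat (a₀ * x)) : Matrix.ProjectiveSpecialLinearGroup (Fin 2) F) ∈ H) ∧
      ∀ M : Matrix.SpecialLinearGroup (Fin 2) F, M.1 0 0 ∈ K → a₀⁻¹ * M.1 0 1 ∈ K →
        a₀ * M.1 1 0 ∈ K → M.1 1 1 ∈ K →
        (QuotientGroup.mk M : Matrix.ProjectiveSpecialLinearGroup (Fin 2) F) ∈ H := by
  classical
  have pp : p.Prime := Fact.out
  set L : Subgroup (Matrix.SpecialLinearGroup (Fin 2) F) :=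
    H.comap (QuotientGroup.mk' (Subgroup.center _)) with hL
  have hmemL : ∀ x, x ∈ L ↔
      (QuotientGroup.mk x : Matrix.ProjectiveSpecialLinearGroup (Fin 2) F) ∈ H := fun x => Iff.rfl
  have hQeq : H ⊓ Ubar F = Q :=
    sylow_max p hyp hP hk (H ⊓ Ubar F) ((Ubar_pGroup p).to_le inf_le_right)
      (le_inf hyp.hQH hQU) inf_le_left
  have hAmem : ∀ a, a ∈ Aset L ↔
      (QuotientGroup.mk (umat a) : Matrix.ProjectiveSpecialLinearGroup (Fin 2) F) ∈ Q := by
    intro a
    rw [← hQeq, Subgroup.mem_inf]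
    exact ⟨fun h => ⟨h, a, rfl⟩, fun h => h.1⟩
  have hAc : (Aset L).ncard = P := by
    rw [← hyp.hQ, ← Nat.card_coe_set_eq]
    apply Nat.card_congr
    apply Equiv.ofBijective (fun a : Aset L =>
      (⟨QuotientGroup.mk (umat a.1), (hAmem a.1).mp a.2⟩ : Q))
    constructor
    · intro a b hab
      exact Subtype.ext (mk_umat_inj (congrArg Subtype.val hab))
    · rintro ⟨x, hx⟩
      obtain ⟨a, rfl⟩ := hQU hx
      exact ⟨⟨a, (hAmem a).mpr hx⟩, rfl⟩
  set d := Nat.card (Subgroup.center (Matrix.SpecialLinearGroup (Fin 2) F)) with hd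
  have hLcard : Nat.card L = (P + 1) * (d * P * k) := by
    rw [hL, card_comap_mk, hyp.hH]; ring
  obtain ⟨a₀, ha₀, ha₀0⟩ : ∃ a, a ∈ Aset L ∧ a ≠ 0 := by
    by_contra hcon
    push Not at hcon
    have h1 : Aset L ⊆ {0} := fun a ha => hcon a ha
    have h2 := Set.ncard_le_ncard h1 (Set.finite_singleton _)
    rw [hAc, Set.ncard_singleton] at h2
    omega
  have hNle : d * P * k ≤
      Nat.card {h : Matrix.SpecialLinearGroup (Fin 2) F // h ∈ L ∧ h.1 1 0 = 0} := by
    have hc : Nat.card ((H ⊓ Subgroup.normalizer (Q : Set _) : Subgroup _).comap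
        (QuotientGroup.mk' (Subgroup.center (Matrix.SpecialLinearGroup (Fin 2) F)))) =
        d * (P * k) := by
      rw [card_comap_mk, hyp.hN]
    rw [mul_assoc, ← hc]
    have hprop : ∀ x : ((H ⊓ Subgroup.normalizer (Q : Set _) : Subgroup _).comap
        (QuotientGroup.mk' (Subgroup.center (Matrix.SpecialLinearGroup (Fin 2) F)))),
        x.1 ∈ L ∧ x.1.1 1 0 = 0 := by
      rintro ⟨x, hx⟩
      have hx' : (QuotientGroup.mk x : Matrix.ProjectiveSpecialLinearGroup (Fin 2) F) ∈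
          H ⊓ Subgroup.normalizer (Q : Set _) := hx
      rw [Subgroup.mem_inf] at hx'
      refine ⟨hx'.1, ?_⟩
      have h1 := (Subgroup.mem_normalizer_iff.mp hx'.2 _).mp ((hAmem a₀).mp ha₀)
      rw [← QuotientGroup.mk_mul, ← QuotientGroup.mk_inv, ← QuotientGroup.mk_mul] at h1
      obtain ⟨a', ha'⟩ := hQU h1
      rw [mk_eq_mk_iff] at ha'
      have h2 : (x * umat a₀ * x⁻¹).1 1 0 = 0 := by
        rcases ha' with h | h
        · rw [h]; simp
        · rw [h]; simp
      rw [conj_u10] at h2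
      have h3 : a₀ * (x.1 1 0) ^ 2 = 0 := neg_eq_zero.mp h2
      rcases mul_eq_zero.mp h3 with h | h
      · exact absurd h ha₀0
      · exact pow_eq_zero_iff (two_ne_zero) |>.mp h
    apply Nat.card_le_card_of_injective (fun x => (⟨x.1, hprop x⟩ :
      {h : Matrix.SpecialLinearGroup (Fin 2) F // h ∈ L ∧ h.1 1 0 = 0}))
    intro x y hxy
    have h3 : x.1 = y.1 := congrArg (fun z :
      {h : Matrix.SpecialLinearGroup (Fin 2) F // h ∈ L ∧ h.1 1 0 = 0} => z.1) hxy
    exact Subtype.ext h3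
  obtain ⟨hstar, hNcard⟩ := star L (Aset L) P (d * P * k) hAc (fun a ha => ha) h₁ h₁H h₁0
    hNle hLcard
  obtain ⟨K, hK⟩ := exists_subfield L p hstar h₁ h₁H h₁0 a₀ ha₀ ha₀0
  have hw : ∀ (a : F) (ha : a ≠ 0), a ∈ Aset L → wmat a ha ∈ L :=
    fun a ha haA => w_mem L hstar h₁ h₁H h₁0 haA ha
  have ht : ∀ (a b : F) (ha : a ≠ 0) (hb : b ≠ 0), a ∈ Aset L → b ∈ Aset L →
      tmat (a / b) (div_ne_zero ha hb) ∈ L :=
    fun a b ha hb haA hbA => t_mem L hstar h₁ h₁H h₁0 haA ha hbA hb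
  refine ⟨K, a₀, ha₀0, ?_, ?_, ?_⟩
  · rw [ncard_subfield L K a₀ ha₀0 hK, hAc]
  · intro x
    rw [hK x]
    exact Iff.rfl
  · intro M h00 h01 h10 h11
    rw [← hmemL]
    exact mem_of_tw L K a₀ ha₀0 hK hw ht M h00 h01 h10 h11

end embedded


end emb

section tws

open Matrix Cfsg.Agent.Lib.Helper60 Cfsg.Agent.S0807 Cfsg.Agent.S0808 Cfsg.Agent.S0802
open Cfsg.Agent.Lib.Helper19.TwoTrans

section twsub
variable {F : Type*} [Field F]

/-- the twisted subfield subgroup of `PSL₂(F)` -/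
def twSub (K : Subfield F) (a₀ : F) (ha₀ : a₀ ≠ 0) :
    Subgroup (Matrix.ProjectiveSpecialLinearGroup (Fin 2) F) :=
  (rho K.subtype a₀ ha₀).range

theorem card_twSub [Finite F] (K : Subfield F) (a₀ : F) (ha₀ : a₀ ≠ 0) :
    Nat.card (twSub K a₀ ha₀) = Nat.card (Matrix.ProjectiveSpecialLinearGroup (Fin 2) K) := by
  have e : (rho K.subtype a₀ ha₀).range ≃* Matrix.ProjectiveSpecialLinearGroup (Fin 2) K :=
    ((QuotientGroup.quotientKerEquivRange (rho K.subtype a₀ ha₀)).symm).trans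
      (QuotientGroup.quotientMulEquivOfEq (rho_ker K.subtype a₀ ha₀))
  exact Nat.card_congr e.toEquiv

theorem twSub_le (K : Subfield F) (a₀ : F) (ha₀ : a₀ ≠ 0)
    (H : Subgroup (Matrix.ProjectiveSpecialLinearGroup (Fin 2) F))
    (hsub : ∀ M : Matrix.SpecialLinearGroup (Fin 2) F, M.1 0 0 ∈ K → a₀⁻¹ * M.1 0 1 ∈ K →
        a₀ * M.1 1 0 ∈ K → M.1 1 1 ∈ K →
        (QuotientGroup.mk M : Matrix.ProjectiveSpecialLinearGroup (Fin 2) F) ∈ H) :
    twSub K a₀ ha₀ ≤ H := by
  rintro _ ⟨N, rfl⟩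
  apply hsub
  · exact (N.1 0 0).2
  · show a₀⁻¹ * (a₀ * K.subtype (N.1 0 1)) ∈ K
    rw [← mul_assoc, inv_mul_cancel₀ ha₀, one_mul]; exact (N.1 0 1).2
  · show a₀ * (a₀⁻¹ * K.subtype (N.1 1 0)) ∈ K
    rw [← mul_assoc, mul_inv_cancel₀ ha₀, one_mul]; exact (N.1 1 0).2
  · exact (N.1 1 1).2

theorem twSub_mono {K K₂ : Subfield F} (h : K ≤ K₂) (a₀ : F) (ha₀ : a₀ ≠ 0) :
    twSub K a₀ ha₀ ≤ twSub K₂ a₀ ha₀ := by
  rintro _ ⟨N, rfl⟩
  refine ⟨Matrix.SpecialLinearGroup.map (Subfield.inclusion h) N, ?_⟩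
  show (QuotientGroup.mk (tau K₂.subtype a₀ ha₀ _) :
    Matrix.ProjectiveSpecialLinearGroup (Fin 2) F) = QuotientGroup.mk (tau K.subtype a₀ ha₀ N)
  congr 1

theorem mk_umat_mem_twSub_iff (K : Subfield F) (a₀ : F) (ha₀ : a₀ ≠ 0) (x : F) :
    (QuotientGroup.mk (umat (a₀ * x)) : Matrix.ProjectiveSpecialLinearGroup (Fin 2) F) ∈
      twSub K a₀ ha₀ ↔ x ∈ K := by
  constructor
  · rintro ⟨N, hN⟩
    have hN' : (QuotientGroup.mk (tau K.subtype a₀ ha₀ N) :
      Matrix.ProjectiveSpecialLinearGroup (Fin 2) F) = QuotientGroup.mk (umat (a₀ * x)) := hN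
    rw [mk_eq_mk_iff] at hN'
    rcases hN' with h | h
    · have h01 := congrArg (fun M : Matrix.SpecialLinearGroup (Fin 2) F => M.1 0 1) h
      simp only [tau_coe, twf01, umat01] at h01
      have : x = K.subtype (N.1 0 1) := (mul_left_cancel₀ ha₀ h01).symm
      rw [this]; exact (N.1 0 1).2
    · have h01 := congrArg (fun M : Matrix.SpecialLinearGroup (Fin 2) F => M.1 0 1) h
      simp only [tau_coe, twf01] at h01
      have h2 : a₀ * K.subtype (N.1 0 1) = -(a₀ * x) := by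
        rw [h01]; simp
      have : x = -K.subtype (N.1 0 1) := by
        have h3 : a₀ * x = a₀ * (-K.subtype (N.1 0 1)) := by rw [mul_neg, h2, neg_neg]
        exact mul_left_cancel₀ ha₀ h3
      rw [this]; exact K.neg_mem (N.1 0 1).2
  · intro hx
    refine ⟨⟨!![1, ⟨x, hx⟩; 0, 1], by simp [Matrix.det_fin_two]⟩, ?_⟩
    show (QuotientGroup.mk (tau K.subtype a₀ ha₀ _) :
      Matrix.ProjectiveSpecialLinearGroup (Fin 2) F) = _
    congr 1
    apply sl_ext
    · show K.subtype (1 : K) = 1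
      simp
    · show a₀ * K.subtype (⟨x, hx⟩ : K) = a₀ * x
      rfl
    · show a₀⁻¹ * K.subtype (0 : K) = 0
      simp
    · show K.subtype (1 : K) = 1
      simp

end twsub


end tws

section interm

section inter
variable {F : Type*} [Field F]

theorem pow_pow_eq_self_of {x : F} {P : ℕ} (h : x ^ P = x) (a : ℕ) : x ^ P ^ a = x := by
  induction a with
  | zero => simp
  | succ j ih => rw [pow_succ, pow_mul, ih, h]

/-- a proper intermediate subfield when the degree is composite -/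
theorem exists_intermediate [Fintype F] (p : ℕ) [Fact p.Prime] [CharP F p] (K : Subfield F)
    (P i a b : ℕ) (hPdef : P = p ^ i) (hK : (K : Set F).ncard = P) (hi : i ≠ 0)
    (hq : Fintype.card F = P ^ (a * b)) (ha : 1 < a) (hb : 1 < b) :
    ∃ K₂ : Subfield F, K ≤ K₂ ∧ (∃ x, x ∈ K₂ ∧ x ∉ K) ∧ (∃ y, y ∉ K₂) := by
  classical
  have pp : p.Prime := Fact.out
  have hP2 : 2 ≤ P := by
    rw [hPdef]
    calc 2 ≤ p := pp.two_le
      _ = p ^ 1 := (pow_one p).symm
      _ ≤ p ^ i := Nat.pow_le_pow_right pp.pos (by omega)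
  have : ExpChar F p := ExpChar.prime pp
  let K₂ : Subfield F := (iterateFrobenius F p (i * a)).eqLocusField (RingHom.id F)
  have hmem : ∀ x : F, x ∈ K₂ ↔ x ^ P ^ a = x := by
    intro x
    show (iterateFrobenius F p (i * a)) x = (RingHom.id F) x ↔ _
    rw [iterateFrobenius_def, RingHom.id_apply, hPdef, ← pow_mul]
  have hcardK : Fintype.card K = P := by
    rw [← Nat.card_eq_fintype_card, ← hK]
    exact (Nat.card_coe_set_eq (K : Set F))
  have hKpow : ∀ x ∈ K, x ^ P = x := by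
    intro x hx
    have h1 := FiniteField.pow_card (⟨x, hx⟩ : K)
    rw [hcardK] at h1
    have h2 := congrArg (fun y : K => (y : F)) h1
    simpa using h2
  have hKpow1 : ∀ x ∈ K, x ≠ 0 → x ^ (P - 1) = 1 := by
    intro x hx hx0
    have hne : (⟨x, hx⟩ : K) ≠ 0 := fun h => hx0 (congrArg (fun y : K => (y : F)) h)
    have h1 := FiniteField.pow_card_sub_one_eq_one (⟨x, hx⟩ : K) hne
    rw [hcardK] at h1
    have h2 := congrArg (fun y : K => (y : F)) h1
    simpa using h2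
  obtain ⟨ζ, hζ⟩ := IsCyclic.exists_generator (α := Fˣ)
  have hord : orderOf ζ = Fintype.card F - 1 := by
    rw [orderOf_eq_card_of_forall_mem_zpowers hζ, Nat.card_eq_fintype_card, Fintype.card_units]
  set q := Fintype.card F with hqdef
  have hPa : P ^ a ≥ P * P := by
    calc P ^ a ≥ P ^ 2 := Nat.pow_le_pow_right (by omega) ha
      _ = P * P := pow_two P
  have hqPa : q ≥ P ^ a * P ^ a := by
    rw [hq, pow_mul]
    calc (P ^ a) ^ b ≥ (P ^ a) ^ 2 := Nat.pow_le_pow_right (by positivity) hb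
      _ = P ^ a * P ^ a := pow_two _
  have hPP : P * P ≥ 2 * P := Nat.mul_le_mul_right P hP2
  set d := P ^ a - 1 with hd
  have hd1 : d + 1 = P ^ a := by omega
  have hdn : d ∣ q - 1 := by
    have := Nat.sub_dvd_pow_sub_pow (P ^ a) 1 b
    rw [one_pow, ← pow_mul, ← hq] at this
    exact this
  obtain ⟨c, hc⟩ := hdn
  have hPa2 : P ^ a ≥ 2 := by nlinarith
  have hq4 : q ≥ 2 * P ^ a := by
    calc q ≥ P ^ a * P ^ a := hqPa
      _ ≥ 2 * P ^ a := Nat.mul_le_mul_right _ hPa2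
  have hq1 : q - 1 ≥ 1 := by omega
  have hc0 : 0 < c := by
    rcases Nat.eq_zero_or_pos c with h | h
    · rw [h, mul_zero] at hc; omega
    · exact h
  refine ⟨K₂, ?_, ?_, ?_⟩
  · intro x hx
    rw [hmem]
    exact pow_pow_eq_self_of (hKpow x hx) a
  · refine ⟨((ζ ^ c : Fˣ) : F), ?_, ?_⟩
    · rw [hmem, ← hd1, pow_succ]
      have : ((ζ ^ c : Fˣ) : F) ^ d = 1 := by
        rw [← Units.val_pow_eq_pow_val, ← pow_mul, mul_comm, ← hc, ← hord, pow_orderOf_eq_one]
        rfl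
      rw [this, one_mul]
    · intro hxK
      have h1 := hKpow1 _ hxK (Units.ne_zero _)
      rw [← Units.val_pow_eq_pow_val, ← pow_mul] at h1
      have h2 : ζ ^ (c * (P - 1)) = 1 := Units.ext h1
      have h3 : q - 1 ∣ c * (P - 1) := by
        rw [← hord]; exact orderOf_dvd_of_pow_eq_one h2
      rw [hc, mul_comm d c] at h3
      have h4 : d ∣ P - 1 := Nat.dvd_of_mul_dvd_mul_left hc0 h3
      have h5 := Nat.le_of_dvd (by omega) h4
      omega
  · refine ⟨(ζ : F), ?_⟩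
    rw [hmem, ← hd1, pow_succ]
    intro h
    have h1 : (ζ : F) ^ d = 1 := by
      have hz : (ζ : F) ≠ 0 := Units.ne_zero _
      have : (ζ : F) ^ d * (ζ : F) = 1 * (ζ : F) := by rw [h, one_mul]
      exact mul_right_cancel₀ hz this
    rw [← Units.val_pow_eq_pow_val] at h1
    have h2 : ζ ^ d = 1 := Units.ext h1
    have h3 : q - 1 ∣ d := by
      rw [← hord]; exact orderOf_dvd_of_pow_eq_one h2
    have h4 := Nat.le_of_dvd (by omega) h3
    omega

end inter


end interm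

end Cfsg.Agent.Lib.Helper98.PSL2Max
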