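import Mathlib
import Cfsg.Agent.Lib.Helper98.PSL2Max
import Cfsg.Agent.Lib.Helper98.DicksonMax
import Cfsg.Agent.S0803

set_option autoImplicit false
set_option linter.unusedSimpArgs false
set_option linter.unusedSectionVars false
set_option linter.style.haveILetI false

/-!
# Maximal subgroups of `PSL₂(q)`, `q` even (helper98)
-/

namespace Cfsg.Agent.Lib.Helper98.PSL2Max2

open Matrix Cfsg.Agent.Lib.Helper60 Cfsg.Agent.S0807 Cfsg.Agent.S0808 Cfsg.Agent.S0802
open Cfsg.Agent.Lib.Helper19.TwoTrans Cfsg.Agent.Lib.Helper98.PSL2Max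

section
variable {F : Type*} [Field F] [Fintype F]

local notation "PSL2" => Matrix.ProjectiveSpecialLinearGroup (Fin 2) F

theorem isCoatom_map_conj {G : Type*} [Group G] (M : Subgroup G) (hM : IsCoatom M) (x : G) :
    IsCoatom (M.map (MulAut.conj x).toMonoidHom) := by
  have h := (OrderIso.isCoatom_iff (MulEquiv.mapSubgroup (MulAut.conj x)) M).2 hM
  exact h

/-- the subfield case for even `q`: a maximal subgroup with the two-transitive numerics is
`PSL₂(F₀)` for a subfield of prime index -/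
theorem subfield_case_even [CharP F 2]
    (M : Subgroup PSL2) (hM : IsCoatom M) (Q : Subgroup PSL2) (P k : ℕ)
    [Fact (Nat.Prime 2)]
    (hyp : Hyp 2 P k M Q) (hP : 1 < P) (hk : k = P - 1 ∨ 2 * k = P - 1) (hk2 : 2 ≤ k) :
    ∃ (F₀ : Type) (_ : Field F₀) (_ : Fintype F₀) (r : ℕ), r.Prime ∧ Fintype.card F₀ ≠ 2 ∧
      Fintype.card F = Fintype.card F₀ ^ r ∧
      Nonempty (M ≃* Matrix.ProjectiveSpecialLinearGroup (Fin 2) F₀) := by
  classical
  obtain ⟨x, hQU, h₁, h₁H, h₁0⟩ := normalize 2 M Q P k hyp hP hk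
  set M' := M.map (MulAut.conj x).toMonoidHom with hM'
  have hyp' := hyp.conj x
  have hM'co : IsCoatom M' := isCoatom_map_conj M hM x
  obtain ⟨K, a₀, ha₀, hKP, hKmem, hsub⟩ :=
    embedded_normalized 2 M' _ P k hyp' hP hk hQU h₁ h₁H h₁0
  -- `P` is a power of two
  obtain ⟨i, hi⟩ := hyp.hQp.exists_card_eq
  rw [hyp.hQ] at hi
  have hi0 : i ≠ 0 := by
    rintro rfl
    rw [pow_zero] at hi; omega
  have hPeven : Even P := by
    rw [hi]; exact (Nat.even_pow.mpr ⟨even_two, hi0⟩)
  have hkeq : k = P - 1 := by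
    rcases hk with h | h
    · exact h
    · exfalso
      obtain ⟨c, hc⟩ := hPeven
      omega
  have hcardK : Fintype.card K = P := by
    rw [← Nat.card_eq_fintype_card, ← hKP]
    exact (Nat.card_coe_set_eq (K : Set F))
  have hPSLK : Nat.card (Matrix.ProjectiveSpecialLinearGroup (Fin 2) K) = (P + 1) * P * (P - 1) := by
    have h1 := Cfsg.Agent.Lib.Helper98.DicksonMax.card_psl2_even (F := K) (by rw [hcardK]; exact hPeven)
    rw [h1, hcardK]
    obtain ⟨j, rfl⟩ : ∃ j, P = j + 1 := ⟨P - 1, by omega⟩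
    have e1 : (j + 1) ^ 2 - 1 = j * (j + 2) := by
      have : (j + 1) ^ 2 = j * (j + 2) + 1 := by ring
      rw [this]; omega
    have e2 : j + 1 - 1 = j := by omega
    rw [e1, e2]; ring
  have hM'card : Nat.card M' = (P + 1) * P * (P - 1) := by
    rw [hyp'.hH, hkeq]
  have htw : twSub K a₀ ha₀ = M' := by
    apply Subgroup.eq_of_le_of_card_ge (twSub_le K a₀ ha₀ M' hsub)
    rw [card_twSub, hPSLK, hM'card]
  -- the degree
  have hqm : Fintype.card F = P ^ Module.finrank K F := by
    rw [← hcardK]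
    exact Module.card_eq_pow_finrank
  set m := Module.finrank K F with hm
  have hGcard : Nat.card PSL2 = Fintype.card F * (Fintype.card F ^ 2 - 1) := by
    apply Cfsg.Agent.Lib.Helper98.DicksonMax.card_psl2_even
    rw [hqm]
    have hm0 : m ≠ 0 := by
      intro h0
      rw [h0, pow_zero] at hqm
      have : 1 < Fintype.card F := Fintype.one_lt_card
      omega
    exact Nat.even_pow.mpr ⟨hPeven, hm0⟩
  have hm0 : m ≠ 0 := by
    intro h0
    rw [h0, pow_zero] at hqm
    have : 1 < Fintype.card F := Fintype.one_lt_card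
    omega
  have hm1 : m ≠ 1 := by
    intro h1
    rw [h1, pow_one] at hqm
    apply hM'co.1
    apply Subgroup.eq_top_of_card_eq
    rw [hM'card, hGcard, hqm]
    obtain ⟨j, rfl⟩ : ∃ j, P = j + 1 := ⟨P - 1, by omega⟩
    have e1 : (j + 1) ^ 2 - 1 = j * (j + 2) := by
      have : (j + 1) ^ 2 = j * (j + 2) + 1 := by ring
      rw [this]; omega
    have e2 : j + 1 - 1 = j := by omega
    rw [e1, e2]; ring
  have hmprime : m.Prime := by
    by_contra hnp
    have hm2 : 2 ≤ m := by omega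
    obtain ⟨a, ha_dvd, ha2, ham⟩ := Nat.exists_dvd_of_not_prime2 hm2 hnp
    obtain ⟨b, hb⟩ := ha_dvd
    have hb1 : 1 < b := by
      rcases Nat.lt_or_ge 1 b with h | h
      · exact h
      · exfalso
        interval_cases b
        · omega
        · omega
    obtain ⟨K₂, hKK₂, ⟨x₂, hx₂, hx₂K⟩, ⟨y, hy⟩⟩ :=
      exists_intermediate 2 K P i a b hi hKP hi0 (by rw [hqm, hb]) (by omega) hb1
    have hle : M' ≤ twSub K₂ a₀ ha₀ := by
      rw [← htw]; exact twSub_mono hKK₂ a₀ ha₀
    rcases (hM'co.le_iff).1 hle with h | h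
    · apply hy
      rw [← mk_umat_mem_twSub_iff K₂ a₀ ha₀, h]
      exact Subgroup.mem_top _
    · apply hx₂K
      rw [← mk_umat_mem_twSub_iff K a₀ ha₀, htw, ← h, mk_umat_mem_twSub_iff]
      exact hx₂
  -- the small field
  let e : Shrink.{0} ↥K ≃+* ↥K := Shrink.ringEquiv.{0} ↥K
  let f : Shrink.{0} ↥K →+* F := K.subtype.comp e.toRingHom
  have hfin : Finite (Shrink.{0} ↥K) := Finite.of_equiv _ e.toEquiv.symm
  let _ : Fintype (Shrink.{0} ↥K) := Fintype.ofFinite _
  have hfK : ∀ x : Shrink.{0} ↥K, f x ∈ K := fun x => (e x).2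
  have hcardS : Fintype.card (Shrink.{0} ↥K) = P := by
    rw [← Nat.card_eq_fintype_card, Nat.card_congr e.toEquiv, Nat.card_eq_fintype_card, hcardK]
  refine ⟨Shrink.{0} ↥K, inferInstance, inferInstance, m, hmprime, ?_, ?_, ?_⟩
  · rw [hcardS]
    intro h2
    omega
  · rw [hcardS]; exact hqm
  · have hτ : ∀ N : Matrix.SpecialLinearGroup (Fin 2) (Shrink.{0} ↥K),
        (QuotientGroup.mk (tau f a₀ ha₀ N) : PSL2) ∈ M' := by
      intro N
      apply hsub
      · exact hfK _
      · show a₀⁻¹ * (a₀ * f (N.1 0 1)) ∈ K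
        rw [← mul_assoc, inv_mul_cancel₀ ha₀, one_mul]; exact hfK _
      · show a₀ * (a₀⁻¹ * f (N.1 1 0)) ∈ K
        rw [← mul_assoc, mul_inv_cancel₀ ha₀, one_mul]; exact hfK _
      · exact hfK _
    have hcard' : Nat.card M' =
        Nat.card (Matrix.ProjectiveSpecialLinearGroup (Fin 2) (Shrink.{0} ↥K)) := by
      have h1 := Cfsg.Agent.Lib.Helper98.DicksonMax.card_psl2_even (F := Shrink.{0} ↥K)
        (by rw [hcardS]; exact hPeven)
      have h2 := Cfsg.Agent.Lib.Helper98.DicksonMax.card_psl2_even (F := K)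
        (by rw [hcardK]; exact hPeven)
      rw [hM'card, ← hPSLK, h1, h2, hcardS, hcardK]
    obtain ⟨e'⟩ := psl_of_embed f a₀ ha₀ M' hτ hcard'
    have e0 : M ≃* M' := M.equivMapOfInjective _ (MulAut.conj x).injective
    exact ⟨e0.trans e'⟩

end

end Cfsg.Agent.Lib.Helper98.PSL2Max2

namespace Cfsg.Agent.Lib.Helper98.PSL2Max3

open Cfsg.Agent.Lib.Helper48.Dickson Cfsg.Agent.Lib.Helper98.PSL2Max

section
variable {F : Type*} [Field F] [Fintype F]

local notation "SL2" => Matrix.SpecialLinearGroup (Fin 2) F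
local notation "PSL2" => Matrix.ProjectiveSpecialLinearGroup (Fin 2) F

theorem charP_two_of_even (heven : Even (Fintype.card F)) : CharP F 2 := by
  have h : ringChar F = 2 := by
    rw [FiniteField.even_card_iff_char_two]
    exact Nat.even_iff.1 heven
  exact ringChar.of_eq h

/-- facts on a torus, for even `q` -/
theorem torus_facts_even [Fact (Nat.Prime 2)] [CharP F 2] (heven : Even (Fintype.card F))
    (g : PSL2) (hg : g ≠ 1)
    (hc : (Nat.card ((dstruct (tPack (F := F) 2) (uPack 2)).comp g)).Coprime 2) :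
    (Nat.card ((dstruct (tPack (F := F) 2) (uPack 2)).comp g) = Fintype.card F - 1 ∨
      Nat.card ((dstruct (tPack (F := F) 2) (uPack 2)).comp g) = Fintype.card F + 1) ∧
    Nat.card (nrm ((dstruct (tPack (F := F) 2) (uPack 2)).comp g)) =
      2 * Nat.card ((dstruct (tPack (F := F) 2) (uPack 2)).comp g) ∧
    Nonempty (nrm ((dstruct (tPack (F := F) 2) (uPack 2)).comp g) ≃*
      DihedralGroup (Nat.card ((dstruct (tPack (F := F) 2) (uPack 2)).comp g))) := by
  have hgcd : Nat.gcd 2 (Fintype.card F - 1) = 1 :=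
    Cfsg.Agent.Lib.Helper19.DicksonUse.gcd_two_even heven Fintype.card_pos
  obtain ⟨A, rfl⟩ := mk2_surjective g
  have hA : A ∉ Subgroup.center SL2 := fun h => hg ((mk2_eq_one_iff A).2 h)
  have : Nontrivial (comp2 (mk2 A)) :=
    ⟨⟨⟨mk2 A, mem_comp2_self _⟩, 1, fun h => hg (congrArg Subtype.val h)⟩⟩
  have ht : (Matrix.trace (A : Matrix (Fin 2) (Fin 2) F)) ^ 2 ≠ 4 := by
    intro ht
    exact not_pgroup_and_coprime (uGood_of_trace (uPack 2) A hA ht).1 hc
  refine ⟨?_, (card_nrm_comp2 (tPack 2) A ht).1, nrm_comp2_dihedral (tPack 2) A ht⟩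
  have h1 := card_comp2_torus A ht
  rw [hgcd, mul_one] at h1
  exact h1

/-- the maximal subgroups of `PSL₂(q)`, `q ≥ 4` even -/
theorem max_even (heven : Even (Fintype.card F)) (h4 : 4 ≤ Fintype.card F)
    (M : Subgroup PSL2) (hM : IsCoatom M) :
    Nat.card M = Fintype.card F * (Fintype.card F - 1) ∨
    Nonempty (M ≃* DihedralGroup (Fintype.card F - 1)) ∨
    Nonempty (M ≃* DihedralGroup (Fintype.card F + 1)) ∨
    (∃ (F₀ : Type) (_ : Field F₀) (_ : Fintype F₀) (r : ℕ), r.Prime ∧ Fintype.card F₀ ≠ 2 ∧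
        Fintype.card F = Fintype.card F₀ ^ r ∧
        Nonempty (M ≃* Matrix.ProjectiveSpecialLinearGroup (Fin 2) F₀)) := by
  classical
  haveI : Fact (Nat.Prime 2) := ⟨Nat.prime_two⟩
  haveI : CharP F 2 := charP_two_of_even heven
  have hgcd : Nat.gcd 2 (Fintype.card F - 1) = 1 :=
    Cfsg.Agent.Lib.Helper19.DicksonUse.gcd_two_even heven Fintype.card_pos
  have hG : Nat.card PSL2 = Fintype.card F * (Fintype.card F ^ 2 - 1) :=
    Cfsg.Agent.Lib.Helper98.DicksonMax.card_psl2_even heven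
  have hnrmT := torus_facts_even heven
  set q := Fintype.card F with hq
  set D := dstruct (tPack (F := F) 2) (uPack 2) with hD
  have hqq : q ^ 2 - 1 = (q - 1) * (q + 1) := by
    obtain ⟨j, hj⟩ : ∃ j, q = j + 1 := ⟨q - 1, by omega⟩
    rw [hj]
    have e1 : (j + 1) ^ 2 - 1 = j * (j + 2) := by
      have : (j + 1) ^ 2 = j * (j + 2) + 1 := by ring
      omega
    have e2 : j + 1 - 1 = j := by omega
    rw [e1, e2]
  -- unipotent normalizers
  have hnrmU : ∀ g, g ≠ 1 → IsPGroup 2 (D.comp g) → Nat.card (nrm (D.comp g)) = q * (q - 1) := by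
    intro g hg hp
    have h1 := card_nrm_unipotent (tPack 2) (uPack 2) g hg hp
    rw [hgcd, mul_one] at h1
    exact h1
  -- normalizers of components are proper
  have hproper : ∀ g, g ≠ 1 → nrm (D.comp g) ≠ ⊤ := by
    intro g hg htop
    have hc : Nat.card (nrm (D.comp g)) = q * (q ^ 2 - 1) := by
      rw [htop, Subgroup.card_top, hG]
    rw [hqq] at hc
    rcases D.dich g hg with hp | hcop
    · rw [hnrmU g hg hp] at hc
      have h1 : q * (q - 1) * 1 = q * (q - 1) * (q + 1) := by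
        rw [mul_one, mul_assoc]; exact hc
      have hpos : 0 < q * (q - 1) := Nat.mul_pos (by omega) (by omega)
      have := Nat.eq_of_mul_eq_mul_left hpos h1
      omega
    · obtain ⟨h1, h2, -⟩ := hnrmT g hg hcop
      rw [h2] at hc
      have hq1 : (q - 1) * (q + 1) ≥ 3 * (q + 1) := Nat.mul_le_mul_right _ (by omega)
      have hq2 : q * ((q - 1) * (q + 1)) ≥ 4 * ((q - 1) * (q + 1)) := Nat.mul_le_mul_right _ h4
      rcases h1 with h1 | h1
      · rw [h1] at hc; omega
      · rw [h1] at hc; omega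
  have hmax : ∀ g, g ≠ 1 → M ≤ nrm (D.comp g) → M = nrm (D.comp g) := by
    intro g hg hle
    rcases (hM.le_iff).1 hle with h | h
    · exact absurd h (hproper g hg)
    · exact h.symm
  have hUcase : ∀ g, g ≠ 1 → IsPGroup 2 (D.comp g) → M ≤ nrm (D.comp g) →
      Nat.card M = q * (q - 1) := by
    intro g hg hp hle
    rw [hmax g hg hle]
    exact hnrmU g hg hp
  rcases D.outcome M with h1 | ⟨g, hg, hT, hle⟩ | ⟨g, hgH, hg, hT, hle, hcard⟩ | ⟨g, hg, hU, hle⟩ |
    ⟨h12, g, hgH, hg, hx, hn⟩ | ⟨h24, g, hgH, hg, hT, hx, hn⟩ | ⟨h60, hall, hrel⟩ |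
    ⟨g, hgH, hg, hU, k, hk2, hnk, hhk, hk, -⟩
  · -- trivial group
    exfalso
    have hnt : ∃ g : PSL2, g ≠ 1 := by
      by_contra hcon
      push Not at hcon
      have : Nat.card PSL2 ≤ 1 := by
        rw [Finite.card_le_one_iff_subsingleton]
        exact ⟨fun a b => by rw [hcon a, hcon b]⟩
      rw [hG, hqq] at this
      have hq1 : (q - 1) * (q + 1) ≥ 3 * (q + 1) := Nat.mul_le_mul_right _ (by omega)
      have hq2 : q * ((q - 1) * (q + 1)) ≥ 4 * ((q - 1) * (q + 1)) := Nat.mul_le_mul_right _ h4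
      omega
    obtain ⟨g, hg⟩ := hnt
    have hle : M ≤ nrm (D.comp g) := by rw [h1]; exact bot_le
    have h2 := hmax g hg hle
    rw [h1] at h2
    have h3 : g ∈ nrm (D.comp g) := Subgroup.le_normalizer (D.mem_comp g)
    rw [← h2, Subgroup.mem_bot] at h3
    exact hg h3
  · -- inside a torus
    exfalso
    have hle' : M ≤ nrm (D.comp g) := le_trans hle Subgroup.le_normalizer
    have h2 := hmax g hg hle'
    have h3 : D.comp g = nrm (D.comp g) :=
      le_antisymm Subgroup.le_normalizer (by rw [← h2]; exact hle)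
    obtain ⟨-, h4', -⟩ := hnrmT g hg hT
    rw [← h3] at h4'
    have hpos : 0 < Nat.card (D.comp g) := Nat.card_pos
    omega
  · -- normalizer of a torus
    have h2 := hmax g hg hle
    obtain ⟨h3, -, ⟨e⟩⟩ := hnrmT g hg hT
    have e0 : M ≃* nrm (D.comp g) := MulEquiv.subgroupCongr h2
    rcases h3 with h3 | h3
    · right; left
      rw [h3] at e
      exact ⟨e0.trans e⟩
    · right; right; left
      rw [h3] at e
      exact ⟨e0.trans e⟩
  · -- Borel
    left
    exact hUcase g hg hU hle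
  · -- order 12
    left
    have hXN : D.XH M g = D.NH M g := DStruct.eq_of_card_eq (D.XH_le_NH M g) (by rw [hx, hn])
    have hA4 : Nonempty (M ≃* alternatingGroup (Fin 4)) := by
      apply Cfsg.Agent.Lib.Helper19.Recog.a4_of_card h12 ((D.XH M g).subgroupOf M)
      · rw [DStruct.card_subgroupOf_of_le M (D.XH_le M g), hx]
      · rw [D.normalizer_subgroupOf M hg hgH, hXN]
    obtain ⟨e⟩ := hA4
    have hc4 : Nat.card (Fin 4) = 4 := by simp
    have hV'n : (alternatingGroup.kleinFour (Fin 4)).Normal :=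
      alternatingGroup.normal_kleinFour hc4
    have hV'c : Nat.card (alternatingGroup.kleinFour (Fin 4)) = 4 :=
      alternatingGroup.kleinFour_card_of_card_eq_four hc4
    set V'' : Subgroup M := (alternatingGroup.kleinFour (Fin 4)).map e.symm.toMonoidHom with hV''
    have hV''n : V''.Normal := hV'n.map _ e.symm.surjective
    have hV''c : Nat.card V'' = 4 := by
      rw [hV'', Subgroup.card_map_of_injective e.symm.injective, hV'c]
    set V : Subgroup PSL2 := V''.map M.subtype with hV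
    have hVc : Nat.card V = 4 := by
      rw [hV, Subgroup.card_map_of_injective M.subtype_injective, hV''c]
    have hVp : IsPGroup 2 V := IsPGroup.of_card (n := 2) (by rw [hVc]; norm_num)
    have hVne : V ≠ ⊥ := by
      intro h
      rw [h, Subgroup.card_bot] at hVc
      omega
    obtain ⟨g₀, hg₀, hp₀, hVle⟩ := D.u_sylow V hVp hVne
    obtain ⟨v, hv1⟩ := (Subgroup.ne_bot_iff_exists_ne_one).mp hVne
    have hv1' : v.1 ≠ 1 := fun h => hv1 (Subtype.ext h)
    have hvc : v.1 ∈ D.comp g₀ := hVle v.2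
    have hcv : D.comp v.1 = D.comp g₀ := D.comp_eq g₀ hg₀ v.1 hvc hv1'
    apply hUcase g₀ hg₀ hp₀
    intro m hm
    rw [← hcv, D.mem_nrm_comp_iff hv1', hcv]
    apply D.comp_eq g₀ hg₀ _ _ (DStruct.conj_ne_one hv1')
    apply hVle
    obtain ⟨v'', hv'', hv''v⟩ := v.2
    have := hV''n.conj_mem v'' hv'' ⟨m, hm⟩
    refine ⟨_, this, ?_⟩
    rw [← hv''v]
    simp
  · -- order 24
    exfalso
    have hS4 : Nonempty (M ≃* Equiv.Perm (Fin 4)) := by
      apply Cfsg.Agent.Lib.Helper19.Recog.s4_of_card h24 ((D.XH M g).subgroupOf M)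
      · rw [DStruct.card_subgroupOf_of_le M (D.XH_le M g), hx]
      · rw [D.normalizer_subgroupOf M hg hgH, DStruct.card_subgroupOf_of_le M (D.NH_le M g), hn]
      · rw [D.normalizer_subgroupOf M hg hgH]
        have hne : ¬ D.NH M g ≤ D.XH M g := by
          intro hle
          have := le_antisymm hle (D.XH_le_NH M g)
          rw [this] at hn
          omega
        obtain ⟨n0, hn0, hn0'⟩ := SetLike.not_le_iff_exists.1 hne
        have hn0H := ((D.mem_NH M).1 hn0).1
        have hn0N := ((D.mem_NH M).1 hn0).2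
        have hn0C : n0 ∉ D.comp g := fun h => hn0' ((D.mem_XH M).2 ⟨hn0H, h⟩)
        refine ⟨⟨n0, hn0H⟩, by rw [Subgroup.mem_subgroupOf]; exact hn0, ⟨g, hgH⟩,
          by rw [Subgroup.mem_subgroupOf]; exact D.self_mem_XH M hgH, ?_⟩
        intro h
        have h1 : n0 * g * n0⁻¹ = g := by simpa using congrArg Subtype.val h
        have h2 := (D.t_inv g hg hT n0 hn0N hn0C).2 g (D.mem_comp g)
        rw [h1] at h2
        have h3 : g ^ 2 = 1 := by
          rw [pow_two]
          nth_rewrite 1 [h2]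
          simp
        have h4 : g ^ 3 = 1 := by
          have := pow_card_eq_one' (G := D.XH M g) (x := ⟨g, D.self_mem_XH M hgH⟩)
          rw [hx] at this
          simpa using congrArg Subtype.val this
        apply hg
        calc g = g ^ 3 * (g ^ 2)⁻¹ := by group
          _ = 1 := by rw [h3, h4]; simp
    have h16 := (Cfsg.Agent.S0803.result (F := F) (q := q) hq.symm).1 ⟨M, hS4⟩
    obtain ⟨c, hc⟩ := heven
    have : q ^ 2 = 2 * (2 * c * c) := by rw [hc]; ring
    omega
  · -- order 60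
    exfalso
    obtain ⟨S, hS⟩ := Sylow.exists_subgroup_card_pow_prime (G := M) 2 (n := 2)
      (by rw [h60]; norm_num)
    set S' : Subgroup PSL2 := S.map M.subtype with hS'
    have hS'c : Nat.card S' = 4 := by
      rw [hS', Subgroup.card_map_of_injective M.subtype_injective, hS]; norm_num
    have hS'p : IsPGroup 2 S' := IsPGroup.of_card (n := 2) (by rw [hS'c]; norm_num)
    have hS'ne : S' ≠ ⊥ := by
      intro h
      rw [h, Subgroup.card_bot] at hS'c
      omega
    have hS'M : S' ≤ M := by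
      rintro _ ⟨s, -, rfl⟩
      exact s.2
    obtain ⟨g₀, hg₀, hp₀, hle⟩ := D.u_sylow S' hS'p hS'ne
    obtain ⟨z, hz1⟩ := (Subgroup.ne_bot_iff_exists_ne_one).mp hS'ne
    have hz1' : z.1 ≠ 1 := fun h => hz1 (Subtype.ext h)
    have hzc : z.1 ∈ D.comp g₀ := hle z.2
    have hcz : D.comp z.1 = D.comp g₀ := D.comp_eq g₀ hg₀ z.1 hzc hz1'
    have hSX : S' ≤ D.XH M z.1 := by
      intro s hs
      rw [D.mem_XH, hcz]
      exact ⟨hS'M hs, hle hs⟩
    have hdvd : 4 ∣ Nat.card (D.XH M z.1) := by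
      rw [← hS'c]; exact Subgroup.card_dvd_of_le hSX
    rcases hall z.1 (hS'M z.2) hz1' with ⟨h, _⟩ | ⟨h, _⟩ | ⟨h, _⟩ <;> rw [h] at hdvd <;> omega
  · -- two-transitive case
    right; right; right
    have hyp : Cfsg.Agent.Lib.Helper19.TwoTrans.Hyp 2 (Nat.card (D.XH M g)) k M (D.XH M g) := by
      refine ⟨inf_le_left, hU.to_le inf_le_right, rfl, ?_, ?_⟩
      · rw [← D.NH_eq M hg hgH, hnk]
      · rw [hhk]; ring
    have hP : 1 < Nat.card (D.XH M g) := by
      have : Nontrivial (D.XH M g) :=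
        ⟨⟨⟨g, D.self_mem_XH M hgH⟩, 1, fun h => hg (by simpa using congrArg Subtype.val h)⟩⟩
      exact Finite.one_lt_card
    exact Cfsg.Agent.Lib.Helper98.PSL2Max2.subfield_case_even M hM (D.XH M g) _ k hyp hP hk hk2

end

end Cfsg.Agent.Lib.Helper98.PSL2Max3
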