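import Cfsg.Agent.Lib.Helper98.Ti1

set_option autoImplicit false
set_option linter.unusedSimpArgs false
set_option linter.unusedSectionVars false
set_option linter.unusedVariables false
set_option linter.style.haveILetI false
set_option maxHeartbeats 800000

/-!
# S5955 (helper98): counting totally isotropic frames and subspaces
-/

namespace Cfsg.Agent.Lib.Helper98.Ti

open Module Cfsg.Agent.Lib.Helper98.Elus Cfsg.Agent.Lib.Helper98.Sy

universe u
variable {F : Type u} [Field F] {V : Type u} [AddCommGroup V] [Module F V]
variable {B : LinearMap.BilinForm F V}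

/-- totally isotropic frames -/
def IsTIFrame (B : LinearMap.BilinForm F V) {k : ℕ} (s : Fin k → V) : Prop :=
  LinearIndependent F s ∧ ∀ a b, B (s a) (s b) = 0

theorem isTIFrame_cons_iff (hA : B.IsAlt) {k : ℕ} (s : Fin k → V) (x : V) :
    IsTIFrame B (Fin.cons x s : Fin (k + 1) → V) ↔
      IsTIFrame B s ∧ (∀ a, B (s a) x = 0) ∧ x ∉ Submodule.span F (Set.range s) := by
  constructor
  · rintro ⟨h1, h2⟩
    obtain ⟨h3, h4⟩ := linearIndependent_finCons.mp h1
    refine ⟨⟨h3, fun a b => ?_⟩, fun a => ?_, h4⟩
    · have := h2 a.succ b.succ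
      simpa using this
    · have := h2 a.succ 0
      simpa using this
  · rintro ⟨⟨h1, h2⟩, h3, h4⟩
    refine ⟨linearIndependent_finCons.mpr ⟨h1, h4⟩, fun a b => ?_⟩
    cases a using Fin.cases with
    | zero =>
      cases b using Fin.cases with
      | zero => simpa using hA x
      | succ b => simpa using alt_eq_zero hA (h3 b)
    | succ a =>
      cases b using Fin.cases with
      | zero => simpa using h3 a
      | succ b => simpa using h2 a b

theorem mem_orth_span_iff {k : ℕ} (s : Fin k → V) (x : V) :
    x ∈ B.orthogonal (Submodule.span F (Set.range s)) ↔ ∀ a, B (s a) x = 0 := by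
  rw [LinearMap.BilinForm.mem_orthogonal_iff]
  constructor
  · intro h a
    exact h (s a) (Submodule.subset_span ⟨a, rfl⟩)
  · intro h n hn
    have hle : Submodule.span F (Set.range s) ≤ LinearMap.ker (B.flip x) := by
      apply Submodule.span_le.mpr
      rintro _ ⟨a, rfl⟩
      show s a ∈ LinearMap.ker (B.flip x)
      rw [LinearMap.mem_ker, LinearMap.BilinForm.flip_apply]
      exact h a
    have := hle hn
    rw [LinearMap.mem_ker, LinearMap.BilinForm.flip_apply] at this
    exact this

theorem ort_span {k : ℕ} (s : Fin k → V) (h : ∀ a b, B (s a) (s b) = 0) :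
    Ort B (Submodule.span F (Set.range s)) (Submodule.span F (Set.range s)) := by
  intro n hn n' hn'
  have h1 : n' ∈ B.orthogonal (Submodule.span F (Set.range s)) := by
    have hle : Submodule.span F (Set.range s) ≤ B.orthogonal (Submodule.span F (Set.range s)) := by
      apply Submodule.span_le.mpr
      rintro _ ⟨b, rfl⟩
      exact (mem_orth_span_iff s (s b)).mpr (fun a => h a b)
    exact hle hn'
  exact LinearMap.BilinForm.mem_orthogonal_iff.mp h1 n hn

theorem natCard_submodule [Fintype F] [Finite V] (W : Submodule F V) :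
    Nat.card W = Fintype.card F ^ finrank F W := by
  haveI : Fintype W := Fintype.ofFinite W
  rw [Nat.card_eq_fintype_card, Module.card_eq_pow_finrank (K := F) (V := W)]

theorem sigma_subtype_ext {α : Type*} {β : Type*} {P : α → Prop} {Q : α → β → Prop} (a a' : α)
    (ha : P a) (ha' : P a') (x x' : β) (hx : Q a x) (hx' : Q a' x') (h1 : a = a') (h2 : x = x') :
    (⟨⟨a, ha⟩, ⟨x, hx⟩⟩ : Σ s : {a // P a}, {x // Q s.1 x}) = ⟨⟨a', ha'⟩, ⟨x', hx'⟩⟩ := by
  subst h1
  subst h2
  rfl

section Count

variable [Fintype F] [FiniteDimensional F V]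

theorem card_fiber (hA : B.IsAlt) (hV : NonDeg B ⊤) {k : ℕ} (s : Fin k → V)
    (hs : IsTIFrame B s) :
    Nat.card {x : V // (∀ a, B (s a) x = 0) ∧ x ∉ Submodule.span F (Set.range s)} =
      Fintype.card F ^ (finrank F V - k) - Fintype.card F ^ k := by
  classical
  haveI : Finite V := Module.finite_of_finite F
  set S := Submodule.span F (Set.range s) with hS
  set O := B.orthogonal S with hO
  have hSd : finrank F S = k := by
    rw [hS, finrank_span_eq_card hs.1, Fintype.card_fin]
  have hOd : finrank F O = finrank F V - k := by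
    have := finrank_add_orth hA hV S
    rw [← hO] at this
    omega
  have hSO : S ≤ O := (ort_iff_le_orthogonal hA S S).mp (ort_span s hs.2)
  have h1 : Nat.card {x : V // (∀ a, B (s a) x = 0) ∧ x ∉ S} =
      Nat.card ↥((O : Set V) \ (S : Set V)) := by
    apply Nat.card_congr
    apply Equiv.subtypeEquivRight
    intro x
    rw [Set.mem_sdiff, SetLike.mem_coe, SetLike.mem_coe, hO, mem_orth_span_iff]
  rw [h1, Nat.card_coe_set_eq, Set.ncard_sdiff (by exact_mod_cast hSO) (Set.toFinite _),
    ← Nat.card_coe_set_eq, ← Nat.card_coe_set_eq]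
  have e1 : Nat.card ↥(O : Set V) = Nat.card O := rfl
  have e2 : Nat.card ↥(S : Set V) = Nat.card S := rfl
  rw [e1, e2, natCard_submodule, natCard_submodule, hSd, hOd]

theorem card_tiFrames (hA : B.IsAlt) (hV : NonDeg B ⊤) : ∀ k : ℕ,
    Nat.card {s : Fin k → V // IsTIFrame B s} =
      ∏ j ∈ Finset.range k, (Fintype.card F ^ (finrank F V - j) - Fintype.card F ^ j) := by
  classical
  haveI : Finite V := Module.finite_of_finite F
  intro k
  induction k with
  | zero =>
    rw [Finset.prod_range_zero]
    haveI : Unique {s : Fin 0 → V // IsTIFrame B s} :=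
      { default := ⟨fun a => a.elim0, linearIndependent_empty_type, fun a => a.elim0⟩
        uniq := fun s => Subtype.ext (funext fun a => a.elim0) }
    exact Nat.card_unique
  | succ k ih =>
    let e : {s : Fin (k + 1) → V // IsTIFrame B s} ≃
        Σ s : {s : Fin k → V // IsTIFrame B s},
          {x : V // (∀ a, B (s.1 a) x = 0) ∧ x ∉ Submodule.span F (Set.range s.1)} :=
      { toFun := fun s => ⟨⟨Fin.tail s.1,
            ((isTIFrame_cons_iff hA (Fin.tail s.1) (s.1 0)).mp
              (by rw [Fin.cons_self_tail]; exact s.2)).1⟩,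
          ⟨s.1 0, ((isTIFrame_cons_iff hA (Fin.tail s.1) (s.1 0)).mp
              (by rw [Fin.cons_self_tail]; exact s.2)).2⟩⟩
        invFun := fun s => ⟨Fin.cons s.2.1 s.1.1,
          (isTIFrame_cons_iff hA s.1.1 s.2.1).mpr ⟨s.1.2, s.2.2⟩⟩
        left_inv := fun s => by simp only [Fin.cons_self_tail, Subtype.coe_eta]
        right_inv := fun ⟨⟨s, hs⟩, ⟨x, hx⟩⟩ =>
          sigma_subtype_ext (Q := fun (s : Fin k → V) (x : V) =>
            (∀ a, B (s a) x = 0) ∧ x ∉ Submodule.span F (Set.range s)) _ _ _ _ _ _ _ _
            (show Fin.tail (Fin.cons x s : Fin (k + 1) → V) = s from Fin.tail_cons _ _)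
            (show (Fin.cons x s : Fin (k + 1) → V) 0 = x from Fin.cons_zero _ _) }
    rw [Nat.card_congr e]
    haveI : Fintype {s : Fin k → V // IsTIFrame B s} := Fintype.ofFinite _
    rw [Nat.card_sigma]
    rw [Finset.sum_congr rfl (fun s _ => card_fiber hA hV s.1 s.2), Finset.sum_const,
      Finset.card_univ, ← Nat.card_eq_fintype_card, ih, Finset.prod_range_succ, smul_eq_mul]

theorem card_tiFrames_eq_mul (hA : B.IsAlt) (m : ℕ) :
    Nat.card {s : Fin m → V // IsTIFrame B s} =
      Nat.card {W : Submodule F V // finrank F W = m ∧ Ort B W W} *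
        ∏ j ∈ Finset.range m, (Fintype.card F ^ m - Fintype.card F ^ j) := by
  classical
  haveI : Finite V := Module.finite_of_finite F
  let fmap : {s : Fin m → V // IsTIFrame B s} → {W : Submodule F V // finrank F W = m ∧ Ort B W W} :=
    fun s => ⟨Submodule.span F (Set.range s.1),
      by rw [finrank_span_eq_card s.2.1, Fintype.card_fin], ort_span s.1 s.2.2⟩
  rw [← Nat.card_congr (Equiv.sigmaFiberEquiv fmap)]
  haveI : Fintype {W : Submodule F V // finrank F W = m ∧ Ort B W W} := Fintype.ofFinite _
  rw [Nat.card_sigma]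
  have hfib : ∀ W : {W : Submodule F V // finrank F W = m ∧ Ort B W W},
      Nat.card {s : {s : Fin m → V // IsTIFrame B s} // fmap s = W} =
        ∏ j ∈ Finset.range m, (Fintype.card F ^ m - Fintype.card F ^ j) := by
    intro W
    let e : {s : {s : Fin m → V // IsTIFrame B s} // fmap s = W} ≃
        {t : Fin m → W.1 // LinearIndependent F t} :=
      { toFun := fun s => ⟨fun a => ⟨s.1.1 a, by
            have h1 : Submodule.span F (Set.range s.1.1) = W.1 := congrArg Subtype.val s.2
            rw [← h1]
            exact Submodule.subset_span ⟨a, rfl⟩⟩, by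
            apply LinearIndependent.of_comp W.1.subtype
            exact s.1.2.1⟩
        invFun := fun t => ⟨⟨fun a => (t.1 a : V),
            t.2.map' W.1.subtype (Submodule.ker_subtype W.1),
            fun a b => W.2.2 _ (t.1 a).2 _ (t.1 b).2⟩, by
            apply Subtype.ext
            show Submodule.span F (Set.range fun a => (t.1 a : V)) = W.1
            have h1 : (Set.range fun a => (t.1 a : V)) = W.1.subtype '' Set.range t.1 := by
              rw [← Set.range_comp]
              rfl
            rw [h1, Submodule.span_image,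
              LinearIndependent.span_eq_top_of_card_eq_finrank' t.2
                (by rw [Fintype.card_fin, W.2.1]),
              Submodule.map_subtype_top]⟩
        left_inv := fun s => by
          apply Subtype.ext
          apply Subtype.ext
          rfl
        right_inv := fun t => by
          apply Subtype.ext
          funext a
          rfl }
    rw [Nat.card_congr e, card_linearIndependent (by rw [W.2.1]), W.2.1,
      Fin.prod_univ_eq_prod_range (fun j => Fintype.card F ^ m - Fintype.card F ^ j) m]
  rw [Finset.sum_congr rfl (fun W _ => hfib W), Finset.sum_const, Finset.card_univ,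
    ← Nat.card_eq_fintype_card, smul_eq_mul]

/-- the number of totally isotropic `m`-spaces -/
theorem card_ti_mul (hA : B.IsAlt) (hV : NonDeg B ⊤) (m : ℕ) :
    Nat.card {W : Submodule F V // finrank F W = m ∧ Ort B W W} *
        ∏ j ∈ Finset.range m, (Fintype.card F ^ m - Fintype.card F ^ j) =
      ∏ j ∈ Finset.range m, (Fintype.card F ^ (finrank F V - j) - Fintype.card F ^ j) := by
  rw [← card_tiFrames_eq_mul hA m, card_tiFrames hA hV m]

end Count

end Cfsg.Agent.Lib.Helper98.Ti
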