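import Cfsg.Agent.Lib.Helper98.Ti5
import Cfsg.Agent.Lib.Helper98.Ti6

set_option autoImplicit false
set_option linter.unusedSimpArgs false
set_option linter.unusedSectionVars false
set_option linter.unusedVariables false
set_option linter.style.haveILetI false
set_option maxHeartbeats 800000

/-!
# S5955 (helper98): involutions and square roots of `-1` on totally isotropic subspaces
-/

namespace Cfsg.Agent.Lib.Helper98.Ti

open Module Cfsg.Agent.Lib.Helper98.Elus Cfsg.Agent.Lib.Helper98.Sy

universe u
variable {F : Type u} [Field F] {V : Type u} [AddCommGroup V] [Module F V]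
variable {B : LinearMap.BilinForm F V}

theorem exists_sub_finrank [FiniteDimensional F V] (U : Submodule F V) (m : ℕ)
    (hm : m ≤ finrank F U) : ∃ Z : Submodule F V, Z ≤ U ∧ finrank F Z = m := by
  let b := Module.finBasis F U
  let s : Fin m → V := fun a => (b (Fin.castLE hm a) : V)
  have hli : LinearIndependent F s :=
    (b.linearIndependent.comp _ (Fin.castLE_injective hm)).map' U.subtype (Submodule.ker_subtype U)
  refine ⟨Submodule.span F (Set.range s), ?_, ?_⟩
  · apply Submodule.span_le.mpr
    rintro _ ⟨a, rfl⟩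
    exact Submodule.coe_mem _
  · rw [finrank_span_eq_card hli, Fintype.card_fin]

/-- involutions -/
theorem exists_fixed_ti_invol [FiniteDimensional F V] (hA : B.IsAlt) (hV : NonDeg B ⊤)
    (h2F : (2 : F) ≠ 0) (y : V →ₗ[F] V) (hy : y ^ 2 = 1) (hiso : Iso B y) (d m : ℕ)
    (hd : finrank F V = 2 * d) (hmd : m ≤ d) :
    ∃ W : Submodule F V, Inv y W ∧ Ort B W W ∧ finrank F W = m := by
  have hrF : ((2 : ℕ) : F) ≠ 0 := by
    rw [Nat.cast_ofNat]
    exact h2F
  obtain ⟨hnd0, hnd1⟩ := nonDeg_inf_parts hA 2 hrF y hy hiso ⊤ hV (fun _ _ => Submodule.mem_top)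
  rw [top_inf_eq] at hnd0 hnd1
  have hsum := finrank_V0_add_V1 2 hrF y hy
  rw [hd] at hsum
  obtain ⟨a, ha⟩ := even_finrank hA _ (V0 y) hnd0 rfl
  obtain ⟨b, hb⟩ := even_finrank hA _ (V1 2 y) hnd1 rfl
  obtain ⟨Z0, hZ0V, hZ0, hZ0d⟩ := exists_ti hA (min m a) (V0 y) hnd0 (by
    have := min_le_right m a
    omega)
  obtain ⟨Z1, hZ1V, hZ1, hZ1d⟩ := exists_ti hA (m - min m a) (V1 2 y) hnd1 (by
    rcases le_total m a with h | h
    · rw [min_eq_left h]
      omega
    · rw [min_eq_right h]
      omega)
  have hZ1inv : Inv y Z1 := by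
    intro v hv
    have h1 := (mem_V1 2 y v).mp (hZ1V hv)
    rw [gsum_apply, Finset.sum_range_succ, Finset.sum_range_one, pow_zero, pow_one,
      Module.End.one_apply] at h1
    have h2 : y v = - v := by
      rw [eq_neg_iff_add_eq_zero, add_comm]
      exact h1
    rw [h2]
    exact Submodule.neg_mem _ hv
  refine ⟨Z0 ⊔ Z1, (inv_of_le_V0 y Z0 hZ0V).sup hZ1inv,
    ort_sup_self hA Z0 Z1 hZ0 hZ1
      (fun a ha c hc => ort_V0_V1 2 hrF y hy hiso a (hZ0V ha) c (hZ1V hc)), ?_⟩
  have hinf : Z0 ⊓ Z1 = ⊥ := by
    rw [eq_bot_iff, ← V0_inf_V1 2 hrF y]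
    exact inf_le_inf hZ0V hZ1V
  have h := Submodule.finrank_sup_add_finrank_inf_eq Z0 Z1
  rw [hinf, finrank_bot, hZ0d, hZ1d, add_zero] at h
  have := min_le_left m a
  omega

/-- square roots of `-1` when `-1` is a square in the field -/
theorem exists_fixed_ti_sqrt [FiniteDimensional F V] (hA : B.IsAlt) (hV : NonDeg B ⊤)
    (h2F : (2 : F) ≠ 0) (g : V →ₗ[F] V) (hg : g ^ 2 = (-1 : F) • 1) (hiso : Iso B g) (ω : F)
    (hω : ω * ω = -1) (d m : ℕ) (hd : finrank F V = 2 * d) (hmd : m ≤ d) :
    ∃ W : Submodule F V, Inv g W ∧ Ort B W W ∧ finrank F W = m := by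
  have hrF : ((2 : ℕ) : F) ≠ 0 := by
    rw [Nat.cast_ofNat]
    exact h2F
  have hω0 : ω ≠ 0 := by
    rintro rfl
    rw [mul_zero] at hω
    exact (neg_ne_zero.mpr one_ne_zero) hω.symm
  set y : V →ₗ[F] V := ω⁻¹ • g with hy0
  have hy : y ^ 2 = 1 := by
    rw [hy0, smul_pow, hg, smul_smul, inv_pow, pow_two, hω, inv_neg, inv_one, neg_mul_neg, one_mul,
      one_smul]
  have hgy : ∀ v, g v = ω • y v := by
    intro v
    rw [hy0, LinearMap.smul_apply, smul_smul, mul_inv_cancel₀ hω0, one_smul]
  have hti : ∀ ε : F, ε * ε = 1 → ∀ u v : V, y u = ε • u → y v = ε • v → B u v = 0 := by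
    intro ε hε u v hu hv
    have h1 := hiso u v
    rw [hgy, hgy, hu, hv] at h1
    simp only [map_smul, LinearMap.smul_apply, smul_eq_mul] at h1
    have h2 : ω * (ε * (ω * (ε * B u v))) = (ω * ω) * (ε * ε) * B u v := by ring
    rw [h2, hω, hε] at h1
    have h3 : (2 : F) * B u v = 0 := by
      have : B u v + B u v = 0 := by
        nth_rewrite 1 [← h1]
        ring
      rw [two_mul]
      exact this
    rcases mul_eq_zero.mp h3 with h | h
    · exact absurd h h2F
    · exact h
  have hV0ti : Ort B (V0 y) (V0 y) := by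
    intro u hu v hv
    apply hti 1 (one_mul 1) u v
    · rw [(mem_V0 y u).mp hu, one_smul]
    · rw [(mem_V0 y v).mp hv, one_smul]
  have hV1eq : ∀ v ∈ V1 2 y, y v = (-1 : F) • v := by
    intro v hv
    have h1 := (mem_V1 2 y v).mp hv
    rw [gsum_apply, Finset.sum_range_succ, Finset.sum_range_one, pow_zero, pow_one,
      Module.End.one_apply] at h1
    rw [neg_one_smul, eq_neg_iff_add_eq_zero, add_comm]
    exact h1
  have hV1ti : Ort B (V1 2 y) (V1 2 y) := by
    intro u hu v hv
    exact hti (-1) (by ring) u v (hV1eq u hu) (hV1eq v hv)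
  have hsum := finrank_V0_add_V1 2 hrF y hy
  rw [hd] at hsum
  have h0 := two_mul_finrank_le hA hV ⊤ (V0 y) hV le_top hV0ti
  have h1 := two_mul_finrank_le hA hV ⊤ (V1 2 y) hV le_top hV1ti
  rw [finrank_top, hd] at h0 h1
  obtain ⟨Z, hZV, hZd⟩ := exists_sub_finrank (V0 y) m (by omega)
  refine ⟨Z, ?_, fun a ha c hc => hV0ti a (hZV ha) c (hZV hc), hZd⟩
  intro v hv
  rw [hgy, (mem_V0 y v).mp (hZV hv)]
  exact Submodule.smul_mem _ _ hv

/-- invariant subspaces of a square root of `-1` have even dimension when `-1` is not a square -/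
theorem even_finrank_of_inv [FiniteDimensional F V] (g : V →ₗ[F] V) (hg : g ^ 2 = (-1 : F) • 1)
    (hns : ¬ IsSquare (-1 : F)) (W : Submodule F V) (hW : ∀ v ∈ W, g v ∈ W) :
    Even (finrank F W) := by
  by_contra hodd
  rw [Nat.not_even_iff_odd] at hodd
  apply hns
  set g' : W →ₗ[F] W := g.restrict hW with hg'
  have h1 : g' ^ 2 = (-1 : F) • 1 := by
    apply LinearMap.ext
    intro w
    apply Subtype.ext
    have := congrArg (fun φ => φ (w : V)) hg
    simp only [pow_two, Module.End.mul_apply, LinearMap.smul_apply, Module.End.one_apply] at this ⊢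
    rw [hg', LinearMap.coe_restrict_apply, LinearMap.coe_restrict_apply]
    simpa using this
  have h2 := congrArg LinearMap.det h1
  rw [map_pow, LinearMap.det_smul, map_one, mul_one, hodd.neg_one_pow] at h2
  exact ⟨LinearMap.det g', by rw [← h2, pow_two]⟩

/-- square roots of `-1` when `-1` is not a square: invariant totally isotropic subspaces of even
dimension -/
theorem exists_fixed_ti_neg_one [Fintype F] [FiniteDimensional F V] (hA : B.IsAlt)
    (hV : NonDeg B ⊤) (h2F : (2 : F) ≠ 0) (g : V →ₗ[F] V) (hg : g ^ 2 = (-1 : F) • 1)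
    (hiso : Iso B g) (hns : ¬ IsSquare (-1 : F)) :
    ∀ (b : ℕ) (M : Submodule F V), Inv g M → NonDeg B M → 4 * b ≤ finrank F M →
      ∃ Z : Submodule F V, Z ≤ M ∧ Inv g Z ∧ Ort B Z Z ∧ finrank F Z = 2 * b := by
  have h4F : ((4 : ℕ) : F) ≠ 0 := by
    have : ((4 : ℕ) : F) = 2 * 2 := by norm_num
    rw [this]
    exact mul_ne_zero h2F h2F
  have hg4 : g ^ 4 = 1 := by
    have : g ^ 4 = (g ^ 2) ^ 2 := by rw [← pow_mul]
    rw [this, hg, smul_pow, one_pow]
    norm_num
  have hgg : ∀ v, g (g v) = - v := by
    intro v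
    have := congrArg (fun φ => φ v) hg
    simpa [pow_two] using this
  intro b
  induction b with
  | zero =>
    intro M _ _ _
    refine ⟨⊥, bot_le, inv_bot g, fun u hu v hv => ?_, by simp⟩
    rw [(Submodule.mem_bot F).mp hu, map_zero, LinearMap.zero_apply]
  | succ b ih =>
    intro M hMinv hM hMd
    obtain ⟨u, huM, hu0, hβ⟩ := exists_common_isotropic M 1
      (fun _ => B.compl₁₂ g LinearMap.id) (by omega)
    have hgu : B (g u) u = 0 := by
      have := hβ 0
      simpa [LinearMap.compl₁₂_apply] using this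
    set L : Submodule F V := Submodule.span F {u, g u} with hL
    have huL : u ∈ L := Submodule.subset_span (by simp)
    have hguL : g u ∈ L := Submodule.subset_span (by simp)
    have hLinv : Inv g L := by
      have hle : L ≤ L.comap g := by
        rw [hL]
        apply Submodule.span_le.mpr
        intro x hx
        simp only [Set.mem_insert_iff, Set.mem_singleton_iff] at hx
        rcases hx with rfl | rfl
        · exact hguL
        · show g (g u) ∈ L
          rw [hgg]
          exact Submodule.neg_mem _ huL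
      intro v hv
      exact hle hv
    have hLM : L ≤ M := by
      rw [hL]
      apply Submodule.span_le.mpr
      intro x hx
      simp only [Set.mem_insert_iff, Set.mem_singleton_iff] at hx
      rcases hx with rfl | rfl
      · exact huM
      · exact hMinv _ huM
    have hLti : Ort B L L := by
      intro x hx z hz
      obtain ⟨a1, b1, rfl⟩ := Submodule.mem_span_pair.mp hx
      obtain ⟨a2, b2, rfl⟩ := Submodule.mem_span_pair.mp hz
      simp only [map_add, LinearMap.add_apply, map_smul, LinearMap.smul_apply, smul_eq_mul]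
      rw [hA u, hA (g u), hgu, alt_eq_zero hA hgu]
      ring
    have hli : LinearIndependent F ![u, g u] := by
      rw [LinearIndependent.pair_iff]
      intro s t hst
      have ht : t = 0 := by
        by_contra ht
        apply hns
        have h1 : g u = (-(s / t)) • u := by
          have : t • g u = -(s • u) := by
            rw [eq_neg_iff_add_eq_zero, add_comm]
            exact hst
          rw [neg_smul, div_eq_inv_mul, mul_smul, ← smul_neg, ← this, smul_smul,
            inv_mul_cancel₀ ht, one_smul]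
        have h2 := hgg u
        rw [h1, map_smul, h1, smul_smul] at h2
        have h3 : ((-(s / t)) * (-(s / t)) + 1) • u = 0 := by
          rw [add_smul, h2, one_smul, neg_add_cancel]
        rcases smul_eq_zero.mp h3 with h | h
        · exact ⟨-(s / t), by linear_combination -h⟩
        · exact absurd h hu0
      rw [ht, zero_smul, add_zero] at hst
      rcases smul_eq_zero.mp hst with h | h
      · exact ⟨h, ht⟩
      · exact absurd h hu0
    have hLd : finrank F L = 2 := by
      have hrange : Set.range ![u, g u] = {u, g u} := by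
        ext x
        simp only [Matrix.range_cons, Matrix.range_empty, Set.union_empty, Set.mem_union,
          Set.mem_singleton_iff, Set.mem_insert_iff]
      rw [hL, ← hrange, finrank_span_eq_card hli]
      simp
    have := extend_ti hA hV 4 h4F g hg4 hiso M L hM hMinv hLM hLti hLinv 2 b hLd (by
      intro M' hM'M hM'inv hM'nd hM'd
      exact ih M' hM'inv hM'nd (by omega))
    exact this

end Cfsg.Agent.Lib.Helper98.Ti
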