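import Cfsg.Agent.Lib.Helper98.Oh0

set_option autoImplicit false
set_option linter.unusedSimpArgs false
set_option linter.unusedSectionVars false
set_option linter.unusedVariables false
set_option linter.style.haveILetI false
set_option maxHeartbeats 1000000

/-!
# S5993 (helper98): unipotent isometries all of whose Jordan blocks on an invariant nondegenerate
subspace have size two: the subspace is of plus type
-/

namespace Cfsg.Agent.Lib.Helper98.Oh

open Module Cfsg.Agent.Lib.Helper98.Elus Cfsg.Agent.Lib.Helper98.Sy Cfsg.Agent.Lib.Helper98.Nd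

universe u
variable {F : Type u} [Field F] {V : Type u} [AddCommGroup V] [Module F V]

/-- the type of a fixed nondegenerate subspace is a sub-multiset of the type of the space, with the
dimensions of the kernels -/
theorem exists_sub_type_symm' [FiniteDimensional F V] (hchain : ChainStatement F V)
    (huniq : UniqStatement) {B : LinearMap.BilinForm F V}
    (hS : ∀ x y, B x y = B y x) (hV : NonDeg B ⊤) (h2 : (2 : F) ≠ 0) (p : ℕ) (hp : 0 < p)
    (u : V →ₗ[F] V) (hu : u ^ p = 1) (hNp : (u - 1) ^ p = 0) (hiso : Iso B u) (μ : Multiset ℕ)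
    (hμ : ∀ a ∈ μ, 0 < a)
    (hker : ∀ k, finrank F (LinearMap.ker ((u - 1) ^ k)) = (μ.map (fun a => min a k)).sum)
    (W : Submodule F V) (hW : Inv u W) (hWnd : NonDeg B W) :
    ∃ ν : Multiset ℕ, ν ≤ μ ∧ ν.sum = finrank F W ∧ (∀ a : ℕ, Even a → Even (ν.count a)) ∧
      ∀ k, finrank F ↥(W ⊓ LinearMap.ker ((u - 1) ^ k)) = (ν.map (fun a => min a k)).sum := by
  have hR := Os.isRefl_of_symm hS
  obtain ⟨ν, n1, n2, n3, n4⟩ := Os.exists_type_symm hchain hS h2 p hp u hu hNp hiso (finrank F W) W hW
    hWnd rfl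
  obtain ⟨c1, c2, c3, c4⟩ := Os.compl_props hR W ⊤ hWnd le_top hV
  set W' := B.orthogonal W ⊓ ⊤ with hW'
  have hW'inv : Inv u W' := (inv_orth p hp u hu hiso W hW).inf (inv_top u)
  obtain ⟨ν', n1', n2', n3', n4'⟩ := Os.exists_type_symm hchain hS h2 p hp u hu hNp hiso
    (finrank F W') W' hW'inv c3 rfl
  have hsum : ∀ k, (μ.map (fun a => min a k)).sum = ((ν + ν').map (fun a => min a k)).sum := by
    intro k
    have := finrank_sup_inf_ker (u - 1) W W' (inv_sub_one u W hW) (inv_sub_one u W' hW'inv) c2 k
    rw [c1, top_inf_eq, hker k, n4 k, n4' k] at this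
    rw [this, Multiset.map_add, Multiset.sum_add]
  have heq := huniq μ (ν + ν') hμ (by
    intro a ha
    rcases Multiset.mem_add.mp ha with h | h
    · exact (n1 a h).1
    · exact (n1' a h).1) hsum
  refine ⟨ν, ?_, n3, n2, n4⟩
  rw [heq]
  exact Multiset.le_add_right ν ν'

/-- rank-nullity on a subspace -/
theorem finrank_map_add_inf_ker [FiniteDimensional F V] (N : V →ₗ[F] V) (W : Submodule F V) :
    finrank F ↥(W.map N) + finrank F ↥(W ⊓ LinearMap.ker N) = finrank F W := by
  have h := LinearMap.finrank_range_add_finrank_ker (N.domRestrict W)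
  rw [LinearMap.range_domRestrict, LinearMap.ker_domRestrict] at h
  have h2 : finrank F ↥(Submodule.comap W.subtype (LinearMap.ker N)) =
      finrank F ↥(W ⊓ LinearMap.ker N) := by
    rw [← Submodule.map_comap_subtype, Submodule.finrank_map_subtype_eq]
  omega

/-- if `(u - 1)^2` kills the invariant subspace `W` of dimension `2b` and the fixed space of `u` on
`W` has dimension `b`, then `(u - 1) W` is totally isotropic of dimension `b` -/
theorem plus_of_sq_zero [FiniteDimensional F V] {B : LinearMap.BilinForm F V} (u : V →ₗ[F] V)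
    (hiso : Iso B u) (W : Submodule F V) (hW : Inv u W)
    (hsq : ∀ w ∈ W, (u - 1) ((u - 1) w) = 0) (b : ℕ) (hWd : finrank F W = 2 * b)
    (hk : finrank F ↥(W ⊓ LinearMap.ker (u - 1)) = b) : Plus B W := by
  have hNW : Inv (u - 1) W := inv_sub_one u W hW
  refine ⟨W.map (u - 1), ?_, ?_, ?_⟩
  · rintro _ ⟨w, hw, rfl⟩
    exact hNW w hw
  · -- `B (N w) (N w') = 0`
    have key : ∀ w w' : V, B ((u - 1) w) w' + B w ((u - 1) w') + B ((u - 1) w) ((u - 1) w') = 0 := by
      intro w w'
      have h := hiso w w'
      simp only [LinearMap.sub_apply, Module.End.one_apply, map_sub, LinearMap.sub_apply]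
      rw [h]
      abel
    rintro _ ⟨w, hw, rfl⟩
    have h1 := key w ((u - 1) w)
    rw [hsq w hw, map_zero, map_zero, add_zero, add_zero] at h1
    exact h1
  · have := finrank_map_add_inf_ker (u - 1) W
    omega

end Cfsg.Agent.Lib.Helper98.Oh
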