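import Cfsg.Agent.Lib.Helper98.Ti3

set_option autoImplicit false
set_option linter.unusedSimpArgs false
set_option linter.unusedSectionVars false
set_option linter.unusedVariables false
set_option linter.style.haveILetI false
set_option maxHeartbeats 800000

/-!
# S5955 (helper98): totally isotropic invariant subspaces of isometries of odd prime order
-/

namespace Cfsg.Agent.Lib.Helper98.Ti

open Module Polynomial Cfsg.Agent.Lib.Helper98.Elus Cfsg.Agent.Lib.Helper98.Sy

universe u
variable {F : Type u} [Field F] {V : Type u} [AddCommGroup V] [Module F V]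
variable {B : LinearMap.BilinForm F V}

/-- kernels of polynomials in `y` are invariant -/
theorem inv_ker_aeval (y : V →ₗ[F] V) (g : F[X]) : Inv y (LinearMap.ker (aeval y g)) := by
  intro v hv
  rw [LinearMap.mem_ker] at hv ⊢
  have h1 : y = aeval y (X : F[X]) := by simp
  have h2 : aeval y g (y v) = (aeval y g * aeval y (X : F[X])) v := by
    rw [Module.End.mul_apply, ← h1]
  rw [h2, ← map_mul, mul_comm, map_mul, Module.End.mul_apply, hv, map_zero]

/-- an invariant subspace of `V1` of minimal dimension is killed by one of the factors -/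
theorem exists_kill [Fintype F] [FiniteDimensional F V] (r : ℕ) [Fact r.Prime] (hrF : (r : F) ≠ 0)
    (y : V →ₗ[F] V) (hy : y ^ r = 1) (fs : List F[X]) (hprod : fs.prod = cyclotomic r F)
    (X : Submodule F V) (hXV1 : X ≤ V1 r y) (hXinv : Inv y X) (hXne : X ≠ ⊥)
    (hXd : finrank F X = orderOf ((Fintype.card F : ℕ) : ZMod r)) :
    ∃ P ∈ fs, ∀ v ∈ X, aeval y P v = 0 := by
  obtain ⟨u, hu, hu0⟩ := Submodule.exists_mem_ne_zero_of_ne_bot hXne
  obtain ⟨g, hg, v, hv, hv0, hgv⟩ := exists_step y X ⊥ hXinv fs u hu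
    (fun h => hu0 ((Submodule.mem_bot F).mp h))
    (by
      rw [hprod, aeval_cyclotomic_eq_gsum, (mem_V1 r y u).mp (hXV1 hu)]
      exact Submodule.zero_mem _)
  refine ⟨g, hg, ?_⟩
  set K : Submodule F V := X ⊓ LinearMap.ker (aeval y g) with hK
  have hKinv : Inv y K := hXinv.inf (inv_ker_aeval y g)
  have hvK : v ∈ K := Submodule.mem_inf.mpr ⟨hv, LinearMap.mem_ker.mpr ((Submodule.mem_bot F).mp hgv)⟩
  have hKne : K ≠ ⊥ := by
    intro h
    rw [h] at hvK
    exact hv0 hvK
  obtain ⟨c, hc⟩ := dvd_finrank_of_le_V1 r hrF y hy K hKinv (le_trans inf_le_left hXV1)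
  have hpos : 0 < finrank F K := Nat.pos_of_ne_zero (fun h => hKne (Submodule.finrank_eq_zero.mp h))
  have hge : finrank F X ≤ finrank F K := by
    rw [hXd, hc]
    rcases Nat.eq_zero_or_pos c with h0 | h0
    · rw [h0, mul_zero] at hc
      omega
    · exact Nat.le_mul_of_pos_right _ h0
  have hKX : K = X := Submodule.eq_of_le_of_finrank_le inf_le_left hge
  intro x hx
  rw [← hKX] at hx
  exact LinearMap.mem_ker.mp (Submodule.mem_inf.mp hx).2

/-- the extension step -/
theorem extend_ti [FiniteDimensional F V] (hA : B.IsAlt) (hV : NonDeg B ⊤) (r : ℕ)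
    (hrF : (r : F) ≠ 0) (y : V →ₗ[F] V) (hy : y ^ r = 1) (hiso : Iso B y)
    (U L : Submodule F V) (hU : NonDeg B U) (hUinv : Inv y U) (hLU : L ≤ U) (hL : Ort B L L)
    (hLinv : Inv y L) (i b : ℕ) (hLd : finrank F L = i)
    (hrec : ∀ M' : Submodule F V, M' ≤ U → Inv y M' → NonDeg B M' →
      finrank F M' + 2 * i = finrank F U →
      ∃ Z' : Submodule F V, Z' ≤ M' ∧ Inv y Z' ∧ Ort B Z' Z' ∧ finrank F Z' = i * b) :
    ∃ Z : Submodule F V, Z ≤ U ∧ Inv y Z ∧ Ort B Z Z ∧ finrank F Z = i * (b + 1) := by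
  obtain ⟨M', hM'U, hM'inv, hM'nd, hLM', hinf, hd⟩ :=
    exists_compl_of_ti hA hV r hrF y hy hiso U L hU hUinv hLU hL hLinv
  rw [hLd] at hd
  obtain ⟨Z', hZ'M', hZ'inv, hZ', hZ'd⟩ := hrec M' hM'U hM'inv hM'nd hd
  refine ⟨L ⊔ Z', sup_le hLU (le_trans hZ'M' hM'U), hLinv.sup hZ'inv,
    ort_sup_self hA L Z' hL hZ' (fun a ha b hb => hLM' a ha b (hZ'M' hb)), ?_⟩
  have hinf' : L ⊓ Z' = ⊥ := by
    rw [eq_bot_iff, ← hinf]
    exact inf_le_inf le_rfl hZ'M'
  have h := Submodule.finrank_sup_add_finrank_inf_eq L Z'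
  rw [hinf', finrank_bot, hLd, hZ'd, add_zero] at h
  rw [h]
  ring

section Main

variable [Fintype F] [FiniteDimensional F V]
  (hA : B.IsAlt) (hV : NonDeg B ⊤) (p f : ℕ) [Fact p.Prime] (hF : Fintype.card F = p ^ f)
  (r : ℕ) [Fact r.Prime] (hpr : p ≠ r) (hr2 : r ≠ 2) (hrF : (r : F) ≠ 0) (y : V →ₗ[F] V)
  (hy : y ^ r = 1) (hiso : Iso B y)
include hA hV hF hpr hr2 hrF hy hiso

/-- `i` odd: an invariant subspace of dimension `i` is totally isotropic -/
theorem ti_of_odd (hodd : Odd (orderOf ((Fintype.card F : ℕ) : ZMod r))) (X : Submodule F V)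
    (hXV1 : X ≤ V1 r y) (hXinv : Inv y X)
    (hXd : finrank F X = orderOf ((Fintype.card F : ℕ) : ZMod r)) : Ort B X X := by
  have hr : r.Prime := Fact.out
  set i := orderOf ((Fintype.card F : ℕ) : ZMod r) with hi
  set R : Submodule F V := X ⊓ B.orthogonal X with hR
  have hRinv : Inv y R := hXinv.inf (inv_orth r hr.pos y hy hiso X hXinv)
  obtain ⟨c, hc⟩ := dvd_finrank_of_le_V1 r hrF y hy R hRinv (le_trans inf_le_left hXV1)
  rw [← hi] at hc
  have hle : finrank F R ≤ i := by
    rw [← hXd]
    exact Submodule.finrank_mono inf_le_left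
  rcases Nat.eq_zero_or_pos c with h0 | h0
  · exfalso
    rw [h0, mul_zero] at hc
    have hR0 : R = ⊥ := Submodule.finrank_eq_zero.mp hc
    have hnd : NonDeg B X := by
      rw [nonDeg_iff_disjoint hA, disjoint_iff]
      exact hR0
    have := even_finrank hA _ X hnd hXd
    exact (Nat.not_even_iff_odd.mpr hodd) this
  · have hge : finrank F X ≤ finrank F R := by
      rw [hXd, hc]
      exact Nat.le_mul_of_pos_right _ h0
    have hRX : R = X := Submodule.eq_of_le_of_finrank_le inf_le_left hge
    rw [ort_iff_le_orthogonal hA]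
    intro x hx
    rw [← hRX] at hx
    exact (Submodule.mem_inf.mp hx).2

/-- `i` odd: totally isotropic invariant subspaces of `V1` -/
theorem exists_ti_odd (hodd : Odd (orderOf ((Fintype.card F : ℕ) : ZMod r))) :
    ∀ (b : ℕ) (U : Submodule F V), U ≤ V1 r y → Inv y U → NonDeg B U →
      2 * (orderOf ((Fintype.card F : ℕ) : ZMod r) * b) ≤ finrank F U →
      ∃ Z : Submodule F V, Z ≤ U ∧ Inv y Z ∧ Ort B Z Z ∧
        finrank F Z = orderOf ((Fintype.card F : ℕ) : ZMod r) * b := by
  have hr : r.Prime := Fact.out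
  set i := orderOf ((Fintype.card F : ℕ) : ZMod r) with hi
  have hi1 : 1 ≤ i := orderOf_card_pos p f hF r hpr
  obtain ⟨fs, hmonic, hdeg, hprod⟩ := cyclo_factors (F := F) p f hF r hpr
  intro b
  induction b with
  | zero =>
    intro U _ _ _ _
    refine ⟨⊥, bot_le, inv_bot y, fun u hu v hv => ?_, by simp⟩
    rw [(Submodule.mem_bot F).mp hu, map_zero, LinearMap.zero_apply]
  | succ b ih =>
    intro U hUV1 hUinv hUnd hUd
    have hib : i * (b + 1) = i * b + i := by ring
    obtain ⟨X, hXU, hXinv, hXd⟩ := greedy y U hUinv i hi1 fs hmonic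
      (fun g hg => le_of_eq (hdeg g hg))
      (by
        intro v hv
        rw [hprod, aeval_cyclotomic_eq_gsum]
        exact (mem_V1 r y v).mp (hUV1 hv))
      (fun W hWU hW => dvd_finrank_of_le_V1 r hrF y hy W hW (le_trans hWU hUV1)) 1
      (by omega)
    rw [mul_one] at hXd
    have hXti := ti_of_odd hA hV p f hF r hpr hr2 hrF y hy hiso hodd X (le_trans hXU hUV1) hXinv hXd
    apply extend_ti hA hV r hrF y hy hiso U X hUnd hUinv hXU hXti hXinv i b hXd
    intro M' hM'U hM'inv hM'nd hM'd
    exact ih M' (le_trans hM'U hUV1) hM'inv hM'nd (by omega)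

/-- `i` even: totally isotropic invariant subspaces of `V1` -/
theorem exists_ti_even (heven : Even (orderOf ((Fintype.card F : ℕ) : ZMod r))) :
    ∀ (b : ℕ) (U : Submodule F V), U ≤ V1 r y → Inv y U → NonDeg B U →
      (b = 0 ∨ orderOf ((Fintype.card F : ℕ) : ZMod r) *
        (2 * b + (r - 1) / orderOf ((Fintype.card F : ℕ) : ZMod r)) ≤
        finrank F U + orderOf ((Fintype.card F : ℕ) : ZMod r)) →
      ∃ Z : Submodule F V, Z ≤ U ∧ Inv y Z ∧ Ort B Z Z ∧
        finrank F Z = orderOf ((Fintype.card F : ℕ) : ZMod r) * b := by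
  classical
  have hr : r.Prime := Fact.out
  set i := orderOf ((Fintype.card F : ℕ) : ZMod r) with hi
  have hi1 : 1 ≤ i := orderOf_card_pos p f hF r hpr
  have hci : cOf i = i := by
    unfold cOf
    rw [if_pos heven]
  obtain ⟨fs, hmonic, hdeg, hprod⟩ := cyclo_factors (F := F) p f hF r hpr
  -- the number of factors
  have hlen : i * fs.length = r - 1 := by
    have h1 := congrArg natDegree hprod
    rw [natDegree_cyclotomic, Nat.totient_prime hr] at h1
    rw [← h1]
    have : ∀ l : List F[X], (∀ g ∈ l, g.Monic) → (∀ g ∈ l, g.natDegree = i) →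
        l.prod.Monic ∧ l.prod.natDegree = i * l.length := by
      intro l
      induction l with
      | nil => intro _ _; simp
      | cons g rest ih =>
        intro hm h
        obtain ⟨ih1, ih2⟩ := ih (fun g' hg' => hm g' (List.mem_cons_of_mem _ hg'))
          (fun g' hg' => h g' (List.mem_cons_of_mem _ hg'))
        rw [List.prod_cons, List.length_cons]
        refine ⟨(hm g List.mem_cons_self).mul ih1, ?_⟩
        rw [(hm g List.mem_cons_self).natDegree_mul ih1, h g List.mem_cons_self, ih2]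
        ring
    exact ((this fs hmonic hdeg).2).symm
  have ht : (r - 1) / i = fs.length := by
    rw [← hlen, Nat.mul_div_cancel_left _ (by omega)]
  intro b
  induction b with
  | zero =>
    intro U _ _ _ _
    refine ⟨⊥, bot_le, inv_bot y, fun u hu v hv => ?_, by simp⟩
    rw [(Submodule.mem_bot F).mp hu, map_zero, LinearMap.zero_apply]
  | succ b ih =>
    intro U hUV1 hUinv hUnd hcond
    rcases hcond with h0 | hcond
    · omega
    rw [ht] at hcond
    have hexp : i * (2 * (b + 1) + fs.length) = i * (2 * b + fs.length) + 2 * i := by ring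
    have hexp2 : i * (2 * b + fs.length) = 2 * (i * b) + i * fs.length := by ring
    obtain ⟨a', ha'⟩ := dvd_finrank_of_le_V1 r hrF y hy U hUinv hUV1
    rw [← hi] at ha'
    have ha't : fs.length + 1 ≤ a' := by
      have h1 : i * (fs.length + 1) ≤ i * a' := by
        have : i * (fs.length + 1) = i * fs.length + i := by ring
        omega
      exact Nat.le_of_mul_le_mul_left h1 (by omega)
    -- decompose `U` into irreducible nondegenerate pieces
    obtain ⟨D, hDinv, hDnd, hDd, hDind, hDsup, hDort⟩ :=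
      symp_decomp hA hV p f hF r hpr hr2 hrF y hy hiso (cOf i) (cOf_even i) a' U hUinv hUnd
        (by rw [hci, ha', mul_comm])
        (by
          rw [← hi, hci, Nat.div_self (by omega), mul_one, mul_comm, ← ha']
          exact Submodule.finrank_mono inf_le_left)
    have hDU : ∀ s, D s ≤ U := fun s => by rw [← hDsup]; exact le_iSup D s
    have hDne : ∀ s, D s ≠ ⊥ := by
      intro s h
      have := hDd s
      rw [h, finrank_bot, hci] at this
      omega
    have hkill : ∀ s, ∃ P ∈ fs, ∀ v ∈ D s, aeval y P v = 0 := fun s =>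
      exists_kill r hrF y hy fs hprod (D s) (le_trans (hDU s) hUV1) (hDinv s) (hDne s)
        (by rw [hDd s, hci])
    choose Pf hPf hPfk using hkill
    obtain ⟨s, -, s', -, hss', hP⟩ := Finset.exists_ne_map_eq_of_card_lt_of_maps_to
      (s := (Finset.univ : Finset (Fin a'))) (t := fs.toFinset) (f := Pf)
      (by
        rw [Finset.card_univ, Fintype.card_fin]
        exact lt_of_le_of_lt (List.toFinset_card_le fs) (by omega))
      (fun s _ => List.mem_toFinset.mpr (hPf s))
    -- the homogeneous piece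
    set U2 : Submodule F V := D s ⊔ D s' with hU2
    have hU2U : U2 ≤ U := sup_le (hDU s) (hDU s')
    have hU2inv : Inv y U2 := (hDinv s).sup (hDinv s')
    have hU2d : finrank F U2 = 2 * i := by
      rw [hU2, finrank_sup_of_ort hA (D s) (D s') (hDnd s) (hDnd s') (hDort s s' hss'), hDd, hDd,
        hci]
      ring
    have hU2k : ∀ v ∈ U2, aeval y (Pf s) v = 0 := by
      intro v hv
      obtain ⟨a, ha, c, hc, rfl⟩ := Submodule.mem_sup.mp hv
      rw [map_add, hPfk s a ha]
      rw [hP, hPfk s' c hc, add_zero]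
    obtain ⟨L, hLU2, hLinv, hLti, hLd⟩ := exists_ti_inv_of_homog hA r hrF y hy hiso (Pf s)
      (hmonic _ (hPf s)) (hdeg _ (hPf s)) hi1 U2 (le_trans hU2U hUV1) hU2inv hU2k
      (by
        rw [hU2d, ← hi]
        have := Nat.div_mul_le_self i 2
        omega)
    rw [← hi] at hLd
    apply extend_ti hA hV r hrF y hy hiso U L hUnd hUinv (le_trans hLU2 hU2U) hLti hLinv i b hLd
    intro M' hM'U hM'inv hM'nd hM'd
    apply ih M' (le_trans hM'U hUV1) hM'inv hM'nd
    right
    rw [ht]
    omega

end Main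

end Cfsg.Agent.Lib.Helper98.Ti
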