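import Cfsg.Agent.Lib.Helper38.OhP.Defs
import Cfsg.Agent.Lib.Helper98.Os1

set_option autoImplicit false
set_option linter.unusedSimpArgs false
set_option linter.unusedSectionVars false
set_option linter.unusedVariables false
set_option linter.style.haveILetI false
set_option maxHeartbeats 1000000

/-!
# K-OhP-E2 (helper98): involutions in characteristic two fix plus type subspaces (selection of
pieces); core with LEAF E1 and LEAF A as hypotheses
-/

namespace Cfsg.Agent.Lib.Helper98.OhP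

open Module Cfsg.Agent.Lib.Helper98.Elus Cfsg.Agent.Lib.Helper98.Sy Cfsg.Agent.Lib.Helper38.OhP

universe u
variable {F : Type u} [Field F] {V : Type u} [AddCommGroup V] [Module F V]

/-- decomposition into pieces with bookkeeping of all sub-sums: `P` plus planes, `N` minus
planes, `B` plus type 4-spaces -/
theorem exists_counts [FiniteDimensional F V] (Q : QuadraticForm F V) (g : V →ₗ[F] V)
    (hg : g * g = 1) (hiso : QIso Q g)
    (hE1 : ∀ U : Submodule F V, Inv g U → NonDeg (pB Q) U → U ≠ ⊥ →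
      ∃ P : Submodule F V, P ≤ U ∧ Inv g P ∧ NonDeg (pB Q) P ∧
        (finrank F P = 2 ∨ (finrank F P = 4 ∧ PlusQ Q P)))
    (hA : ∀ W1 W2 : Submodule F V, NonDeg (pB Q) W1 → NonDeg (pB Q) W2 → Ort (pB Q) W1 W2 →
      Even (finrank F W1) → Even (finrank F W2) →
      (PlusQ Q (W1 ⊔ W2) ↔ (PlusQ Q W1 ↔ PlusQ Q W2))) :
    ∀ (n : ℕ) (U : Submodule F V), finrank F U = n → Inv g U → NonDeg (pB Q) U →
      ∃ P N B : ℕ, 2 * (P + N + 2 * B) = n ∧ ∀ p n' b : ℕ, p ≤ P → n' ≤ N → b ≤ B →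
        ∃ W : Submodule F V, W ≤ U ∧ Inv g W ∧ NonDeg (pB Q) W ∧
          finrank F W = 2 * (p + n' + 2 * b) ∧ (PlusQ Q W ↔ Even n') := by
  have hR : (pB Q).IsRefl := fun a b hab => by rw [pB_symm]; exact hab
  have hg2 : g ^ 2 = 1 := by rw [pow_two]; exact hg
  intro n
  induction n using Nat.strong_induction_on with
  | _ n ih =>
    intro U hUd hU hUnd
    by_cases hU0 : U = ⊥
    · refine ⟨0, 0, 0, by rw [← hUd, hU0, finrank_bot], ?_⟩
      intro p n' b hp hn' hb
      have hp0 : p = 0 := by omega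
      have hn0 : n' = 0 := by omega
      have hb0 : b = 0 := by omega
      subst hp0 hn0 hb0
      refine ⟨⊥, bot_le, fun v hv => ?_, fun u hu _ => (Submodule.mem_bot F).mp hu, by simp, ?_⟩
      · rw [(Submodule.mem_bot F).mp hv, map_zero]; exact Submodule.zero_mem _
      · exact ⟨fun _ => by decide, fun _ => plusQ_bot Q⟩
    obtain ⟨P0, hP0U, hP0inv, hP0nd, hP0d⟩ := hE1 U hU hUnd hU0
    obtain ⟨hsup, hinf, hU'nd, hdim⟩ := Cfsg.Agent.Lib.Helper98.Os.compl_props hR P0 U hP0nd hP0U hUnd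
    set U' := (pB Q).orthogonal P0 ⊓ U with hU'
    have hU'inv : Inv g U' :=
      (inv_orth 2 (by norm_num) g hg2 hiso.iso P0 hP0inv).inf hU
    have hU'U : U' ≤ U := inf_le_right
    have hort : ∀ W : Submodule F V, W ≤ U' → Ort (pB Q) P0 W := by
      intro W hW u hu v hv
      exact LinearMap.BilinForm.mem_orthogonal_iff.mp (Submodule.mem_inf.mp (hW hv)).1 u hu
    have hP0pos : 0 < finrank F P0 := by
      rcases hP0d with h | ⟨h, _⟩ <;> omega
    obtain ⟨P, N, B, hsum, hsel⟩ := ih (finrank F U') (by omega) U' rfl hU'inv hU'nd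
    -- adding the piece `P0` to a selection
    have hadd : ∀ W' : Submodule F V, W' ≤ U' → Inv g W' → NonDeg (pB Q) W' →
        Even (finrank F W') →
        (P0 ⊔ W' ≤ U ∧ Inv g (P0 ⊔ W') ∧ NonDeg (pB Q) (P0 ⊔ W') ∧
          finrank F ↥(P0 ⊔ W') = finrank F P0 + finrank F W' ∧
          (PlusQ Q (P0 ⊔ W') ↔ (PlusQ Q P0 ↔ PlusQ Q W'))) := by
      intro W' hW'U' hW'inv hW'nd hW'e
      have ho := hort W' hW'U'
      refine ⟨sup_le hP0U (le_trans hW'U' hU'U), hP0inv.sup hW'inv,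
        (Cfsg.Agent.Lib.Helper98.Os.nonDeg_sup hR P0 W' hP0nd hW'nd ho).1,
        Cfsg.Agent.Lib.Helper98.Os.finrank_sup_of_ort hR P0 W' hP0nd hW'nd ho,
        hA P0 W' hP0nd hW'nd ho ?_ hW'e⟩
      rcases hP0d with h | ⟨h, _⟩
      · rw [h]; decide
      · rw [h]; decide
    rcases hP0d with hd2 | ⟨hd4, hP0plus⟩
    · by_cases hP0plus : PlusQ Q P0
      · -- a plus plane
        refine ⟨P + 1, N, B, by omega, ?_⟩
        intro p n' b hp hn' hb
        rcases Nat.lt_or_ge p (P + 1) with hlt | hge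
        · obtain ⟨W, hWU', h2, h3, h4, h5⟩ := hsel p n' b (by omega) hn' hb
          exact ⟨W, le_trans hWU' hU'U, h2, h3, h4, h5⟩
        · have hpe : p = P + 1 := by omega
          obtain ⟨W', hW'U', h2, h3, h4, h5⟩ := hsel P n' b le_rfl hn' hb
          obtain ⟨a1, a2, a3, a4, a5⟩ := hadd W' hW'U' h2 h3 (by rw [h4]; exact even_two_mul _)
          refine ⟨P0 ⊔ W', a1, a2, a3, by rw [a4, hd2, h4, hpe]; ring, ?_⟩
          rw [a5, ← h5]
          exact ⟨fun hh => hh.mp hP0plus, fun hh => ⟨fun _ => hh, fun _ => hP0plus⟩⟩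
      · -- a minus plane
        refine ⟨P, N + 1, B, by omega, ?_⟩
        intro p n' b hp hn' hb
        rcases Nat.lt_or_ge n' (N + 1) with hlt | hge
        · obtain ⟨W, hWU', h2, h3, h4, h5⟩ := hsel p n' b hp (by omega) hb
          exact ⟨W, le_trans hWU' hU'U, h2, h3, h4, h5⟩
        · have hne : n' = N + 1 := by omega
          obtain ⟨W', hW'U', h2, h3, h4, h5⟩ := hsel p N b hp le_rfl hb
          obtain ⟨a1, a2, a3, a4, a5⟩ := hadd W' hW'U' h2 h3 (by rw [h4]; exact even_two_mul _)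
          refine ⟨P0 ⊔ W', a1, a2, a3, by rw [a4, hd2, h4, hne]; ring, ?_⟩
          rw [a5, h5, hne, Nat.even_add_one]
          exact ⟨fun hh hN => hP0plus (hh.mpr hN), fun hh => ⟨fun h' => absurd h' hP0plus,
            fun h' => absurd h' hh⟩⟩
    · -- a plus type 4-space
      refine ⟨P, N, B + 1, by omega, ?_⟩
      intro p n' b hp hn' hb
      rcases Nat.lt_or_ge b (B + 1) with hlt | hge
      · obtain ⟨W, hWU', h2, h3, h4, h5⟩ := hsel p n' b hp hn' (by omega)
        exact ⟨W, le_trans hWU' hU'U, h2, h3, h4, h5⟩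
      · have hbe : b = B + 1 := by omega
        obtain ⟨W', hW'U', h2, h3, h4, h5⟩ := hsel p n' B hp hn' le_rfl
        obtain ⟨a1, a2, a3, a4, a5⟩ := hadd W' hW'U' h2 h3 (by rw [h4]; exact even_two_mul _)
        refine ⟨P0 ⊔ W', a1, a2, a3, by rw [a4, hd4, h4, hbe]; ring, ?_⟩
        rw [a5, ← h5]
        exact ⟨fun hh => hh.mp hP0plus, fun hh => ⟨fun _ => hh, fun _ => hP0plus⟩⟩

/-- the arithmetic of the selection -/
theorem exists_selection (P N B d s : ℕ) (hsum : P + N + 2 * B = d) (hN : Even N)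
    (hsd : 2 * s < d) (hcond : Odd d ∨ Even s) :
    ∃ p n b : ℕ, p ≤ P ∧ n ≤ N ∧ b ≤ B ∧ Even n ∧ p + n + 2 * b = s := by
  obtain ⟨N2, hN2⟩ := hN
  rcases Nat.lt_or_ge B (s / 2) with hB | hB
  · -- all 4-spaces are used
    rcases Nat.even_or_odd s with hs | hs
    · obtain ⟨s2, hs2⟩ := hs
      rcases Nat.lt_or_ge P (s - 2 * B) with hP | hP
      · exact ⟨0, s - 2 * B, B, by omega, by omega, le_rfl, ⟨s2 - B, by omega⟩, by omega⟩
      · exact ⟨s - 2 * B, 0, B, hP, by omega, le_rfl, ⟨0, rfl⟩, by omega⟩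
    · obtain ⟨s2, hs2⟩ := hs
      have hd : Odd d := by
        rcases hcond with h | h
        · exact h
        · exfalso
          obtain ⟨k, hk⟩ := h
          omega
      obtain ⟨d2, hd2⟩ := hd
      rcases Nat.lt_or_ge P (s - 2 * B) with hP | hP
      · exact ⟨1, s - 2 * B - 1, B, by omega, by omega, le_rfl, ⟨s2 - B, by omega⟩, by omega⟩
      · exact ⟨s - 2 * B, 0, B, hP, by omega, le_rfl, ⟨0, rfl⟩, by omega⟩
  · rcases Nat.even_or_odd s with hs | hs
    · obtain ⟨s2, hs2⟩ := hs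
      exact ⟨0, 0, s2, by omega, by omega, by omega, ⟨0, rfl⟩, by omega⟩
    · obtain ⟨s2, hs2⟩ := hs
      have hd : Odd d := by
        rcases hcond with h | h
        · exact h
        · exfalso
          obtain ⟨k, hk⟩ := h
          omega
      obtain ⟨d2, hd2⟩ := hd
      exact ⟨1, 0, s2, by omega, by omega, by omega, ⟨0, rfl⟩, by omega⟩

/-- core of LEAF E2 with LEAF E1 and LEAF A as hypotheses -/
theorem exists_fixed_plus_char2_of [FiniteDimensional F V]
    (Q : QuadraticForm F V) (hV : NonDeg (pB Q) ⊤) (hVp : PlusQ Q ⊤) (d : ℕ)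
    (hdim : finrank F V = 2 * d) (g : V →ₗ[F] V) (hg : g * g = 1) (hiso : QIso Q g)
    (m : ℕ) (hme : Even m) (hmd : m < d) (hcond : Odd d ∨ 4 ∣ m)
    (hE1 : ∀ U : Submodule F V, Inv g U → NonDeg (pB Q) U → U ≠ ⊥ →
      ∃ P : Submodule F V, P ≤ U ∧ Inv g P ∧ NonDeg (pB Q) P ∧
        (finrank F P = 2 ∨ (finrank F P = 4 ∧ PlusQ Q P)))
    (hA : ∀ W1 W2 : Submodule F V, NonDeg (pB Q) W1 → NonDeg (pB Q) W2 → Ort (pB Q) W1 W2 →
      Even (finrank F W1) → Even (finrank F W2) →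
      (PlusQ Q (W1 ⊔ W2) ↔ (PlusQ Q W1 ↔ PlusQ Q W2))) :
    ∃ W : Submodule F V, Inv g W ∧ NonDeg (pB Q) W ∧ finrank F W = m ∧ PlusQ Q W := by
  obtain ⟨P, N, B, hsum, hsel⟩ := exists_counts Q g hg hiso hE1 hA (2 * d) ⊤
    (by rw [finrank_top]; exact hdim) (fun _ _ => Submodule.mem_top) hV
  have hsum' : P + N + 2 * B = d := by omega
  have hNe : Even N := by
    obtain ⟨W, _, _, _, hWd, hWp⟩ := hsel P N B le_rfl le_rfl le_rfl
    have hWtop : W = ⊤ := by
      apply Submodule.eq_top_of_finrank_eq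
      rw [hWd, hdim, hsum']
    rw [hWtop] at hWp
    exact hWp.mp hVp
  obtain ⟨s, hs⟩ := hme
  have hcond' : Odd d ∨ Even s := by
    rcases hcond with h | ⟨k, hk⟩
    · exact Or.inl h
    · exact Or.inr ⟨k, by omega⟩
  obtain ⟨p, n, b, hp, hn, hb, hne, hpnb⟩ := exists_selection P N B d s hsum' hNe (by omega) hcond'
  obtain ⟨W, _, hWinv, hWnd, hWd, hWp⟩ := hsel p n b hp hn hb
  exact ⟨W, hWinv, hWnd, by rw [hWd, hpnb, hs]; ring, hWp.mpr hne⟩

end Cfsg.Agent.Lib.Helper98.OhP
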