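import Cfsg.Agent.Lib.Helper98.UTiS3
import Cfsg.Agent.Lib.Helper14.UTiB4
import Cfsg.Agent.Lib.Helper52.UTiB2

set_option autoImplicit false
set_option linter.unusedSimpArgs false
set_option linter.unusedSectionVars false
set_option linter.unusedVariables false
set_option linter.style.haveILetI false

/-!
# K-UTi-E2 (helper98): the irreducible case `x ^ r = z`, `z` not an `r`-th power
-/

namespace Cfsg.Agent.Lib.Helper98.UTi

open Module Polynomial Cfsg.Agent.Lib.Helper98.Elus Cfsg.Agent.Lib.Helper46.UTi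

universe u
variable {F : Type u} [Field F] [Fintype F] {V : Type u} [AddCommGroup V] [Module F V]
  [FiniteDimensional F V] {q : ℕ} {H : V → V → F}

/-- induction behind E2, inside an invariant nondegenerate subspace -/
theorem exists_fixed_ti_irred_aux (hF : Fintype.card F = q ^ 2) (hH : IsHerm q H)
    (r : ℕ) [Fact r.Prime] (hrF : (r : F) ≠ 0) (x : V →ₗ[F] V)
    (z : F) (hx : x ^ r = z • 1) (hz : ∀ w : F, w ^ r ≠ z) (hiso : Iso H x) :
    ∀ (a : ℕ) (U : Submodule F V), NonDeg H U → Inv x U → 2 * (r * a) ≤ finrank F U →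
      ∃ W : Submodule F V, W ≤ U ∧ Inv x W ∧ Ort H W W ∧ finrank F W = r * a := by
  have hr : r.Prime := Fact.out
  have hz0 : z ≠ 0 := by
    intro h
    exact hz 0 (by rw [zero_pow hr.ne_zero, h])
  have hq1 : 1 < q := Cfsg.Agent.Lib.Helper19.one_lt_q hF
  -- `x ^ N = 1` with `N = r * (q^2 - 1)`
  set N := r * (q ^ 2 - 1) with hN
  have hzN : z ^ (q ^ 2 - 1) = 1 := by
    rw [← hF]
    exact FiniteField.pow_card_sub_one_eq_one z hz0
  have hxN : x ^ N = 1 := by
    rw [hN, pow_mul, hx, _root_.smul_pow, one_pow, hzN, one_smul]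
  have hNF : (N : F) ≠ 0 := by
    rw [hN, Nat.cast_mul]
    apply mul_ne_zero hrF
    have h1 : 1 ≤ q ^ 2 := Nat.one_le_pow _ _ (by omega)
    rw [Nat.cast_sub h1, Nat.cast_pow, Nat.cast_one]
    have h2 : ((q : F)) ^ 2 = 0 := by
      have : ((Fintype.card F : ℕ) : F) = 0 := Nat.cast_card_eq_zero F
      rw [hF, Nat.cast_pow] at this
      exact this
    rw [h2, zero_sub]
    exact neg_ne_zero.mpr one_ne_zero
  have hNpos : 0 < N := by
    rcases Nat.eq_zero_or_pos N with h | h
    · rw [h] at hNF; simp at hNF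
    · exact h
  set P : F[X] := X ^ r - C z with hP
  have hPm : P.Monic := monic_X_pow_sub_C z hr.ne_zero
  have hPd : P.natDegree = r := natDegree_X_pow_sub_C
  have hPx : aeval x P = 0 := by
    rw [hP, map_sub, map_pow, aeval_X, aeval_C, hx]
    ext v
    simp [Algebra.algebraMap_eq_smul_one]
  intro a
  induction a with
  | zero =>
    intro U _ _ _
    exact ⟨⊥, bot_le, fun v hv => by rw [(Submodule.mem_bot F).mp hv, map_zero]; exact Submodule.zero_mem _,
      fun u hu v hv => by rw [(Submodule.mem_bot F).mp hu]; exact hH.zero_left v, by simp⟩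
  | succ a ih =>
    intro U hU hUinv hd
    have h2r : 2 * r ≤ finrank F U := by
      have : r * (a + 1) = r * a + r := by ring
      omega
    obtain ⟨L, hLU, hLne, hLinv, hLort, hLd⟩ := exists_ti_cyclic hF hH N hNpos x hxN hiso U hUinv P
      hPm (fun u _ => by rw [hPx, LinearMap.zero_apply]) r hPd hr.one_le h2r
    have hLr : finrank F L = r := by
      obtain ⟨c, hc⟩ := dvd_finrank_of_not_pow r z hz x hx L hLinv
      have hpos : 0 < finrank F L :=
        Nat.pos_of_ne_zero (fun h => hLne (Submodule.finrank_eq_zero.mp h))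
      rcases Nat.eq_zero_or_pos c with h0 | h0
      · rw [h0, mul_zero] at hc; omega
      · have := Nat.le_mul_of_pos_right r h0
        omega
    obtain ⟨M', hM'U, hM'inv, hM'nd, hLM', hdisj, hM'd⟩ :=
      Cfsg.Agent.Lib.Helper14.UTi.exists_compl_of_ti hF hH N hNF x hxN hiso U L hU hUinv hLU hLort
        hLinv
    obtain ⟨W', hW'M, hW'inv, hW'ort, hW'd⟩ := ih M' hM'nd hM'inv (by
      have : r * (a + 1) = r * a + r := by ring
      omega)
    refine ⟨L ⊔ W', sup_le hLU (le_trans hW'M hM'U), hLinv.sup hW'inv,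
      Cfsg.Agent.Lib.Helper52.UTi.ort_sup_self hF hH L W' hLort hW'ort
        (fun u hu v hv => hLM' u hu v (hW'M hv)), ?_⟩
    have h1 := Submodule.finrank_sup_add_finrank_inf_eq L W'
    have h2 : L ⊓ W' = ⊥ := by
      rw [eq_bot_iff, ← hdisj]
      exact inf_le_inf_left L hW'M
    rw [h2, finrank_bot, hLr, hW'd, add_zero] at h1
    rw [h1]; ring

/-- **K-UTi-E2** -/
theorem exists_fixed_ti_irred (hF : Fintype.card F = q ^ 2) (hH : IsHerm q H) (hV : NonDeg H ⊤)
    (p : ℕ) [Fact p.Prime] [CharP F p] (r : ℕ) [Fact r.Prime] (hrp : r ≠ p) (x : V →ₗ[F] V)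
    (z : F) (hx : x ^ r = z • 1) (hz : ∀ w : F, w ^ r ≠ z) (hiso : Iso H x) (m : ℕ)
    (hrm : r ∣ m) (hmn : 2 * m ≤ finrank F V) :
    ∃ W : Submodule F V, Inv x W ∧ Ort H W W ∧ finrank F W = m := by
  have hr : r.Prime := Fact.out
  have hp : p.Prime := Fact.out
  have hrF : (r : F) ≠ 0 := by
    intro h
    rw [CharP.cast_eq_zero_iff F p r, Nat.prime_dvd_prime_iff_eq hp hr] at h
    exact hrp h.symm
  obtain ⟨a, rfl⟩ := hrm
  obtain ⟨W, _, hWinv, hWort, hWd⟩ := exists_fixed_ti_irred_aux hF hH r hrF x z hx hz hiso a ⊤ hV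
    (fun _ _ => Submodule.mem_top) (by rw [finrank_top]; exact hmn)
  exact ⟨W, hWinv, hWort, hWd⟩

end Cfsg.Agent.Lib.Helper98.UTi
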