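import Cfsg.Agent.Lib.Helper98.UTiS3

set_option autoImplicit false
set_option linter.unusedSimpArgs false
set_option linter.unusedSectionVars false
set_option linter.unusedVariables false
set_option linter.style.haveILetI false

/-!
# K-UTi-S4 (helper98): the anisotropic kernel inside `V1` is multiplicity free
-/

namespace Cfsg.Agent.Lib.Helper98.UTi

open Module Polynomial Cfsg.Agent.Lib.Helper98.Elus Cfsg.Agent.Lib.Helper46.UTi

universe u
variable {F : Type u} [Field F] [Fintype F] {V : Type u} [AddCommGroup V] [Module F V]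
  [FiniteDimensional F V] {q : ℕ} {H : V → V → F}

omit [Fintype F] in
/-- rank-nullity on a subspace -/
theorem finrank_map_add_inf_ker (N : V →ₗ[F] V) (W : Submodule F V) :
    finrank F ↥(W.map N) + finrank F ↥(W ⊓ LinearMap.ker N) = finrank F W := by
  have h := LinearMap.finrank_range_add_finrank_ker (N.domRestrict W)
  rw [LinearMap.range_domRestrict, LinearMap.ker_domRestrict] at h
  have h2 : finrank F ↥(Submodule.comap W.subtype (LinearMap.ker N)) =
      finrank F ↥(W ⊓ LinearMap.ker N) := by
    rw [← Submodule.map_comap_subtype, Submodule.finrank_map_subtype_eq]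
  omega

omit [Fintype F] [FiniteDimensional F V] in
theorem inv_ker_aeval (y : V →ₗ[F] V) (g : F[X]) : Inv y (LinearMap.ker (aeval y g)) := by
  intro v hv
  rw [LinearMap.mem_ker] at hv ⊢
  have h1 : y = aeval y (X : F[X]) := by simp
  have h2 : aeval y g (y v) = (aeval y g * aeval y (X : F[X])) v := by
    rw [Module.End.mul_apply, ← h1]
  rw [h2, ← map_mul, mul_comm, map_mul, Module.End.mul_apply, hv, map_zero]

/-- the list induction behind S4 -/
theorem finrank_le_of_list (hF : Fintype.card F = q ^ 2) (hH : IsHerm q H) (r : ℕ) [Fact r.Prime]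
    (hrF : (r : F) ≠ 0) (y : V →ₗ[F] V) (hy : y ^ r = 1)
    (hiso : Iso H y) (M : Submodule F V) (hM1 : M ≤ V1 r y)
    (hMan : ∀ T : Submodule F V, T ≤ M → Inv y T → Ort H T T → T = ⊥) (b : ℕ) (hb1 : 1 ≤ b)
    (hb : b = orderOf ((Fintype.card F : ℕ) : ZMod r)) :
    ∀ (fs : List F[X]), (∀ g ∈ fs, g.Monic) → (∀ g ∈ fs, g.natDegree = b) →
      ∀ M' : Submodule F V, M' ≤ M → Inv y M' → (∀ v ∈ M', aeval y fs.prod v = 0) →
        finrank F M' ≤ b * fs.length := by
  have hr : r.Prime := Fact.out
  intro fs
  induction fs with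
  | nil =>
    intro _ _ M' _ _ hk
    have : M' = ⊥ := by
      rw [eq_bot_iff]
      intro v hv
      have := hk v hv
      simpa using this
    rw [this, finrank_bot]
    exact Nat.zero_le _
  | cons g fs ih =>
    intro hmon hdeg M' hM' hM'inv hk
    have hmon' : ∀ g' ∈ fs, g'.Monic := fun g' hg' => hmon g' (List.mem_cons_of_mem _ hg')
    have hdeg' : ∀ g' ∈ fs, g'.natDegree = b := fun g' hg' => hdeg g' (List.mem_cons_of_mem _ hg')
    have hg : g.Monic := hmon g List.mem_cons_self
    have hgd : g.natDegree = b := hdeg g List.mem_cons_self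
    set K := M' ⊓ LinearMap.ker (aeval y g) with hK
    set I := M'.map (aeval y g) with hI
    have hsum : finrank F I + finrank F K = finrank F M' := finrank_map_add_inf_ker (aeval y g) M'
    have hIle : I ≤ M' := by
      rintro _ ⟨m, hm, rfl⟩
      exact hM'inv.aeval_mem g m hm
    have hIinv : Inv y I := by
      rintro _ ⟨m, hm, rfl⟩
      refine ⟨y m, hM'inv m hm, ?_⟩
      have h1 : y = aeval y (X : F[X]) := by simp
      have h2 : aeval y g (y m) = (aeval y g * aeval y (X : F[X])) m := by
        rw [Module.End.mul_apply, ← h1]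
      have h3 : y (aeval y g m) = (aeval y (X : F[X]) * aeval y g) m := by
        rw [Module.End.mul_apply, ← h1]
      rw [h2, h3, ← map_mul, ← map_mul, mul_comm]
    have hIk : ∀ v ∈ I, aeval y fs.prod v = 0 := by
      rintro _ ⟨m, hm, rfl⟩
      have := hk m hm
      rw [List.prod_cons, mul_comm, map_mul, Module.End.mul_apply] at this
      exact this
    have h1 := ih hmon' hdeg' I (le_trans hIle hM') hIinv hIk
    have hKinv : Inv y K := hM'inv.inf (inv_ker_aeval y g)
    have hKM : K ≤ M := le_trans inf_le_left hM'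
    have hKd : finrank F K ≤ b := by
      obtain ⟨c, hc⟩ := dvd_finrank_of_le_V1 r hrF y hy K hKinv (le_trans hKM hM1)
      rw [← hb] at hc
      by_contra hlt
      have h2b : 2 * b ≤ finrank F K := by
        rcases Nat.lt_or_ge c 2 with h | h
        · interval_cases c <;> omega
        · have := Nat.mul_le_mul_left b h
          omega
      obtain ⟨L, hLK, hLne, hLinv, hLort, _⟩ := exists_ti_cyclic hF hH r hr.pos y hy hiso K hKinv g
        hg (fun u hu => LinearMap.mem_ker.mp (Submodule.mem_inf.mp hu).2) b hgd hb1 h2b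
      exact hLne (hMan L (le_trans hLK hKM) hLinv hLort)
    rw [List.length_cons]
    have : b * (fs.length + 1) = b * fs.length + b := by ring
    omega

/-- **K-UTi-S4** -/
theorem finrank_aniso_le (hF : Fintype.card F = q ^ 2) (hH : IsHerm q H) (p : ℕ) [Fact p.Prime]
    [CharP F p] (r : ℕ) [Fact r.Prime] (hrp : r ≠ p) (y : V →ₗ[F] V) (hy : y ^ r = 1)
    (hiso : Iso H y) (M : Submodule F V) (hM1 : M ≤ V1 r y) (hMinv : Inv y M)
    (hMan : ∀ T : Submodule F V, T ≤ M → Inv y T → Ort H T T → T = ⊥) (b : ℕ)
    (hb : b = orderOf ((q ^ 2 : ℕ) : ZMod r)) : finrank F M ≤ b * ((r - 1) / b) := by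
  have hr : r.Prime := Fact.out
  have hp : p.Prime := Fact.out
  obtain ⟨f, _, hcard⟩ := FiniteField.card F p
  have hrF : (r : F) ≠ 0 := by
    intro h
    rw [CharP.cast_eq_zero_iff F p r, Nat.prime_dvd_prime_iff_eq hp hr] at h
    exact hrp h.symm
  have hb' : b = orderOf ((Fintype.card F : ℕ) : ZMod r) := by rw [hF]; exact hb
  have hb1 : 1 ≤ b := by
    rw [hb']
    exact orderOf_card_pos p f hcard r (fun h => hrp h.symm)
  obtain ⟨fs, hmonic, hdeg, hprod⟩ := cyclo_factors (F := F) p f hcard r (fun h => hrp h.symm)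
  rw [← hb'] at hdeg
  have hkill : ∀ v ∈ M, aeval y fs.prod v = 0 := by
    intro v hv
    rw [hprod, aeval_cyclotomic_eq_gsum, (mem_V1 r y v).mp (hM1 hv)]
  have h1 := finrank_le_of_list hF hH r hrF y hy hiso M hM1 hMan b hb1 hb' fs hmonic hdeg M le_rfl
    hMinv hkill
  have hlen : b * fs.length = r - 1 := by
    have h2 : (fs.prod).natDegree = (fs.map natDegree).sum := by
      have := natDegree_multiset_prod_of_monic (fs : Multiset F[X]) (by simpa using hmonic)
      simpa using this
    rw [hprod, natDegree_cyclotomic, Nat.totient_prime hr] at h2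
    have h3 : (fs.map natDegree).sum = fs.length * b := by
      have : fs.map natDegree = List.replicate fs.length b := by
        rw [List.eq_replicate_iff]
        refine ⟨by simp, ?_⟩
        intro x hx
        obtain ⟨g, hg, rfl⟩ := List.mem_map.mp hx
        exact hdeg g hg
      rw [this, List.sum_replicate, smul_eq_mul]
    rw [h2, h3, mul_comm]
  rw [← hlen, Nat.mul_div_cancel_left _ (by omega : 0 < b)]
  exact h1

end Cfsg.Agent.Lib.Helper98.UTi
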