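import Cfsg.Agent.Lib.Helper98.Elus15

set_option autoImplicit false
set_option linter.unusedSimpArgs false
set_option linter.unusedSectionVars false
set_option linter.unusedVariables false
set_option linter.style.haveILetI false

/-!
# S5958 (helper98): decomposition into lines permuted by an element of order `r` when the
cyclotomic polynomial is irreducible
-/

namespace Cfsg.Agent.Lib.Helper98.Elus

open Module Polynomial

universe u
variable {F : Type u} [Field F] {V : Type u} [AddCommGroup V] [Module F V]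

theorem pow_mod_of_pow_eq_one (r : ℕ) (y : V →ₗ[F] V) (hy : y ^ r = 1) (m : ℕ) :
    y ^ (m % r) = y ^ m := by
  conv_rhs => rw [← Nat.mod_add_div m r, pow_add, pow_mul, hy, one_pow, mul_one]

/-- the cyclic span of a vector is invariant -/
theorem inv_cyc (r : ℕ) (hr : 0 < r) (y : V →ₗ[F] V) (hy : y ^ r = 1) (w : V) :
    Inv y (Submodule.span F (Set.range (fun k : Fin r => (y ^ (k : ℕ)) w))) := by
  have hle : Submodule.span F (Set.range (fun k : Fin r => (y ^ (k : ℕ)) w)) ≤
      (Submodule.span F (Set.range (fun k : Fin r => (y ^ (k : ℕ)) w))).comap y := by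
    apply Submodule.span_le.mpr
    rintro _ ⟨k, rfl⟩
    show y ((y ^ (k : ℕ)) w) ∈ Submodule.span F (Set.range (fun k : Fin r => (y ^ (k : ℕ)) w))
    rw [← Module.End.mul_apply, ← pow_succ', ← pow_mod_of_pow_eq_one r y hy]
    exact Submodule.subset_span ⟨⟨((k : ℕ) + 1) % r, Nat.mod_lt _ hr⟩, rfl⟩
  intro v hv
  exact hle hv

theorem perm_lines [Fintype F] [FiniteDimensional F V] (p f : ℕ) [Fact p.Prime]
    (hF : Fintype.card F = p ^ f) (r : ℕ) [Fact r.Prime] (hpr : p ≠ r) (hrF : (r : F) ≠ 0)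
    (y : V →ₗ[F] V) (hy : y ^ r = 1)
    (hcr : orderOf ((Fintype.card F : ℕ) : ZMod r) + 1 = r) (n : ℕ) (hn : finrank F V = n)
    (j : ℕ) (hj : finrank F (V1 r y) = orderOf ((Fintype.card F : ℕ) : ZMod r) * j)
    (hj0 : j ≤ finrank F (V0 y)) :
    ∃ D : Fin n → Submodule F V, (∀ s, finrank F (D s) = 1) ∧ iSupIndep D ∧ iSup D = ⊤ ∧
      ∃ σ : Equiv.Perm (Fin n), ∀ s, (D s).map y = D (σ s) := by
  classical
  have hr : r.Prime := Fact.out
  haveI : NeZero r := ⟨hr.ne_zero⟩
  set c := orderOf ((Fintype.card F : ℕ) : ZMod r) with hc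
  have hc1 : 1 ≤ c := orderOf_card_pos p f hF r hpr
  -- decomposition of `V1`
  obtain ⟨Bs, hBinv, hBd, hBind, hBsup⟩ := inv_decomp p f hF r hpr hrF y hy c j (V1 r y)
    (inv_V1 r y) (by rw [hj]; ring) (by
      rw [← hc, inf_idem, hj, Nat.div_self (by omega), mul_one, mul_comm])
  have hBV1 : ∀ i, Bs i ≤ V1 r y := fun i => hBsup ▸ le_iSup Bs i
  have hBne : ∀ i, ∃ b ∈ Bs i, b ≠ 0 := by
    intro i
    apply Submodule.exists_mem_ne_zero_of_ne_bot
    intro h
    have := hBd i
    rw [h, finrank_bot] at this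
    omega
  choose b hbB hb0 using hBne
  -- basis of `V0`
  set d0 := finrank F (V0 y) with hd0
  let uB : Basis (Fin d0) F (V0 y) := Module.finBasis F (V0 y)
  let u : Fin j → V := fun i => (uB (Fin.castLE hj0 i) : V)
  let u' : Fin (d0 - j) → V := fun i => (uB ⟨j + i, by have := i.2; omega⟩ : V)
  have hu0 : ∀ i, u i ∈ V0 y := fun i => (uB (Fin.castLE hj0 i)).2
  have hu'0 : ∀ i, u' i ∈ V0 y := fun i => (uB ⟨j + i, by have := i.2; omega⟩).2
  let v : (Fin r × Fin j) ⊕ Fin (d0 - j) → V :=
    Sum.elim (fun q => (y ^ (q.1 : ℕ)) (b q.2 + u q.2)) u'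
  have hsumd := finrank_V0_add_V1 r hrF y hy
  have hcard : Fintype.card ((Fin r × Fin j) ⊕ Fin (d0 - j)) = finrank F V := by
    rw [Fintype.card_sum, Fintype.card_prod, Fintype.card_fin, Fintype.card_fin, Fintype.card_fin,
      ← hsumd, hj, ← hd0]
    have : r * j = c * j + j := by rw [← hcr]; ring
    omega
  -- spanning
  have hspan : ⊤ ≤ Submodule.span F (Set.range v) := by
    set Sp := Submodule.span F (Set.range v) with hSp
    have hv_inl : ∀ (k : Fin r) (i : Fin j), (y ^ (k : ℕ)) (b i + u i) ∈ Sp := fun k i =>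
      Submodule.subset_span ⟨Sum.inl (k, i), rfl⟩
    have hv_inr : ∀ i, u' i ∈ Sp := fun i => Submodule.subset_span ⟨Sum.inr i, rfl⟩
    have hA : ∀ i, u i ∈ Sp := by
      intro i
      have h1 : gsum r y (b i + u i) ∈ Sp := by
        rw [gsum_apply]
        apply Submodule.sum_mem
        intro k hk
        exact hv_inl ⟨k, Finset.mem_range.mp hk⟩ i
      have h2 : gsum r y (b i + u i) = (r : F) • u i := by
        rw [map_add, (mem_V1 r y _).mp (hBV1 i (hbB i)), zero_add,
          gsum_apply_of_mem_V0 r y _ (hu0 i)]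
      rw [h2] at h1
      have := Submodule.smul_mem Sp (r : F)⁻¹ h1
      rwa [smul_smul, inv_mul_cancel₀ hrF, one_smul] at this
    have hB : ∀ (k : Fin r) (i : Fin j), (y ^ (k : ℕ)) (b i) ∈ Sp := by
      intro k i
      have h1 := hv_inl k i
      rw [map_add, pow_apply_of_mem_V0 y _ (hu0 i)] at h1
      have := Submodule.sub_mem Sp h1 (hA i)
      rwa [add_sub_cancel_right] at this
    have hC : ∀ i, Bs i ≤ Sp := by
      intro i
      set cyc := Submodule.span F (Set.range (fun k : Fin r => (y ^ (k : ℕ)) (b i))) with hcyc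
      have hcycInv : Inv y cyc := inv_cyc r hr.pos y hy (b i)
      have hcycB : cyc ≤ Bs i := by
        apply Submodule.span_le.mpr
        rintro _ ⟨k, rfl⟩
        exact (hBinv i).pow_mem _ _ (hbB i)
      have hcycSp : cyc ≤ Sp := by
        apply Submodule.span_le.mpr
        rintro _ ⟨k, rfl⟩
        exact hB k i
      have hbcyc : b i ∈ cyc := by
        have : (y ^ ((0 : Fin r) : ℕ)) (b i) ∈ cyc := Submodule.subset_span ⟨0, rfl⟩
        simpa using this
      have hpos : 0 < finrank F cyc := by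
        rw [Module.finrank_pos_iff_exists_ne_zero]
        exact ⟨⟨b i, hbcyc⟩, fun h => hb0 i (congrArg Subtype.val h)⟩
      obtain ⟨m, hm⟩ := dvd_finrank_of_le_V1 r hrF y hy cyc hcycInv (le_trans hcycB (hBV1 i))
      rw [← hc] at hm
      have hle := Submodule.finrank_mono hcycB
      rw [hBd i] at hle
      have hm1 : m = 1 := by
        have hm0 : m ≠ 0 := by
          rintro rfl
          omega
        by_contra h
        have : 2 ≤ m := by omega
        have : c * 2 ≤ c * m := Nat.mul_le_mul_left c this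
        omega
      have heq : cyc = Bs i := by
        apply Submodule.eq_of_le_of_finrank_eq hcycB
        rw [hm, hm1, mul_one, hBd i]
      rw [← heq]
      exact hcycSp
    have hD : V1 r y ≤ Sp := by
      rw [← hBsup]
      exact iSup_le hC
    have hE : V0 y ≤ Sp := by
      intro w hw
      have h1 := uB.sum_repr ⟨w, hw⟩
      have h2 := congrArg Subtype.val h1
      simp only [Submodule.coe_sum, Submodule.coe_smul] at h2
      rw [← h2]
      apply Submodule.sum_mem
      intro s _
      apply Submodule.smul_mem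
      by_cases hs : (s : ℕ) < j
      · have : (uB s : V) = u ⟨s, hs⟩ := by
          show (uB s : V) = (uB (Fin.castLE hj0 ⟨s, hs⟩) : V)
          congr 2
        rw [this]
        exact hA _
      · have hs' : (s : ℕ) - j < d0 - j := by have := s.2; omega
        have : (uB s : V) = u' ⟨(s : ℕ) - j, hs'⟩ := by
          show (uB s : V) = (uB ⟨j + ((s : ℕ) - j), _⟩ : V)
          congr 2
          apply Fin.ext
          show (s : ℕ) = j + ((s : ℕ) - j)
          omega
        rw [this]
        exact hv_inr _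
    rw [← V0_sup_V1 r hrF y hy]
    exact sup_le hE hD
  let B : Basis ((Fin r × Fin j) ⊕ Fin (d0 - j)) F V :=
    basisOfTopLeSpanOfCardEqFinrank v hspan hcard
  have hBv : ∀ k, B k = v k := fun k => by
    show (basisOfTopLeSpanOfCardEqFinrank v hspan hcard) k = v k
    rw [coe_basisOfTopLeSpanOfCardEqFinrank]
  let π : Equiv.Perm ((Fin r × Fin j) ⊕ Fin (d0 - j)) :=
    Equiv.sumCongr (Equiv.prodCongr (Equiv.addRight (1 : Fin r)) (Equiv.refl (Fin j)))
      (Equiv.refl _)
  have hr2 : 2 ≤ r := hr.two_le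
  have hx : ∀ k, y (B k) = (1 : F) • B (π k) := by
    intro k
    rw [hBv, hBv, one_smul]
    rcases k with ⟨k, i⟩ | i
    · show y ((y ^ (k : ℕ)) (b i + u i)) = (y ^ ((k + 1 : Fin r) : ℕ)) (b i + u i)
      rw [← Module.End.mul_apply, ← pow_succ', Fin.val_add, Fin.val_one',
        Nat.add_mod_mod, pow_mod_of_pow_eq_one r y hy]
    · show y (u' i) = u' i
      exact (mem_V0 y _).mp (hu'0 i)
  have hcardn : Fintype.card ((Fin r × Fin j) ⊕ Fin (d0 - j)) = n := by rw [hcard, hn]
  let e0 : ((Fin r × Fin j) ⊕ Fin (d0 - j)) ≃ Fin n := Fintype.equivFinOfCardEq hcardn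
  let E : ((Fin r × Fin j) ⊕ Fin (d0 - j)) ≃ Fin n × Fin 1 :=
    e0.trans (Equiv.prodUnique (Fin n) (Fin 1)).symm
  let σ : Equiv.Perm (Fin n) := e0.symm.trans (π.trans e0)
  obtain ⟨D, h1, h2, h3, h4⟩ := mono_decomp B y π (fun _ => 1) (fun _ => one_ne_zero) hx E σ (by
    intro k
    show e0 (π k) = e0 (π (e0.symm (e0 k)))
    rw [Equiv.symm_apply_apply])
  exact ⟨D, h1, h2, h3, σ, h4⟩

end Cfsg.Agent.Lib.Helper98.Elus
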