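import Cfsg.Agent.Lib.Helper98.Sy1
import Cfsg.Agent.Lib.Helper98.Elus16

set_option autoImplicit false
set_option linter.unusedSimpArgs false
set_option linter.unusedSectionVars false
set_option linter.unusedVariables false
set_option linter.style.haveILetI false

/-!
# S5961 (helper98): minimal nondegenerate invariant subspaces of an isometry of prime order
-/

namespace Cfsg.Agent.Lib.Helper98.Sy

open Module Polynomial Cfsg.Agent.Lib.Helper98.Elus

universe u
variable {F : Type u} [Field F] {V : Type u} [AddCommGroup V] [Module F V]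

/-- the span of the first `deg g` iterates of a vector killed by `g(y)` is invariant -/
theorem inv_span_of_aeval_eq_zero (y : V →ₗ[F] V) (g : F[X]) (hg : g.Monic) (v : V)
    (hgv : aeval y g v = 0) :
    Inv y (Submodule.span F (Set.range (fun k : Fin g.natDegree => (y ^ (k : ℕ)) v))) := by
  set d := g.natDegree with hd
  set U : Submodule F V := Submodule.span F (Set.range (fun k : Fin d => (y ^ (k : ℕ)) v)) with hU
  have hUmem : ∀ k, k < d → (y ^ k) v ∈ U := by
    intro k hk
    exact Submodule.subset_span ⟨⟨k, hk⟩, rfl⟩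
  have hyd : (y ^ d) v ∈ U := by
    have h1 : aeval y g v = (y ^ d) v + ∑ i ∈ Finset.range d, (g.coeff i) • (y ^ i) v := by
      conv_lhs => rw [hg.as_sum]
      simp [map_add, map_sum, LinearMap.add_apply, LinearMap.sum_apply, aeval_monomial, hd,
        Algebra.smul_def]
    have h2 : (y ^ d) v = aeval y g v - ∑ i ∈ Finset.range d, (g.coeff i) • (y ^ i) v := by
      rw [h1]; abel
    rw [h2, hgv, zero_sub]
    apply Submodule.neg_mem
    apply Submodule.sum_mem
    intro i hi
    exact Submodule.smul_mem _ _ (hUmem i (Finset.mem_range.mp hi))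
  have hle : U ≤ U.comap y := by
    rw [hU]
    apply Submodule.span_le.mpr
    rintro _ ⟨k, rfl⟩
    show y ((y ^ (k : ℕ)) v) ∈ U
    have : y ((y ^ (k : ℕ)) v) = (y ^ ((k : ℕ) + 1)) v := by
      rw [pow_succ', Module.End.mul_apply]
    rw [this]
    by_cases hk : (k : ℕ) + 1 < d
    · exact hUmem _ hk
    · have : (k : ℕ) + 1 = d := by have := k.2; omega
      rw [this]; exact hyd
  intro w hw
  exact hle hw

/-- Frobenius: `P(y^(q^k)) = P(y)^(q^k)` -/
theorem aeval_pow_card_pow [Fintype F] (y : V →ₗ[F] V) (P : F[X]) (k : ℕ) :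
    aeval (y ^ (Fintype.card F ^ k)) P = (aeval y P) ^ (Fintype.card F ^ k) := by
  induction k generalizing y with
  | zero => simp
  | succ k ih =>
    rw [pow_succ, pow_mul, ← Polynomial.expand_aeval, FiniteField.expand_card, map_pow, ih,
      ← pow_mul]

/-- adjoint of a polynomial in an isometry -/
theorem adjoint_aeval {B : LinearMap.BilinForm F V} (y yi : V →ₗ[F] V) (hiso : Iso B y)
    (hyi : ∀ v, y (yi v) = v) (g : F[X]) (u v : V) :
    B (aeval y g u) v = B u (aeval yi g v) := by
  have h1 : ∀ u v, B (y u) v = B u (yi v) := by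
    intro u v
    conv_lhs => rw [← hyi v]
    exact hiso u (yi v)
  have hk : ∀ k : ℕ, ∀ u v, B ((y ^ k) u) v = B u ((yi ^ k) v) := by
    intro k
    induction k with
    | zero => intro u v; simp
    | succ k ih =>
      intro u v
      rw [pow_succ', Module.End.mul_apply, h1, ih, pow_succ, Module.End.mul_apply]
  rw [aeval_eq_sum_range, aeval_eq_sum_range, LinearMap.sum_apply, LinearMap.sum_apply, map_sum,
    LinearMap.sum_apply, map_sum]
  apply Finset.sum_congr rfl
  intro k _
  rw [LinearMap.smul_apply, LinearMap.smul_apply, map_smul, map_smul, LinearMap.smul_apply, hk]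

/-- `r` divides `q^(i/2) + 1` when the order `i` of `q` modulo `r` is even -/
theorem dvd_pow_half_add_one (q r : ℕ) [Fact r.Prime] (hi : Even (orderOf (q : ZMod r)))
    (hi0 : 0 < orderOf (q : ZMod r)) : r ∣ q ^ (orderOf (q : ZMod r) / 2) + 1 := by
  set i := orderOf (q : ZMod r) with hi'
  obtain ⟨k, hk⟩ := hi
  have hk2 : i / 2 = k := by omega
  rw [hk2]
  have h1 : ((q : ZMod r) ^ k) ^ 2 = 1 := by
    rw [← pow_mul, mul_comm, two_mul, ← hk]
    exact pow_orderOf_eq_one _
  have h2 : (q : ZMod r) ^ k ≠ 1 := by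
    intro h
    have := orderOf_dvd_of_pow_eq_one h
    rw [← hi'] at this
    have := Nat.le_of_dvd (by omega) this
    omega
  have h3 : (q : ZMod r) ^ k = -1 := by
    have : ((q : ZMod r) ^ k - 1) * ((q : ZMod r) ^ k + 1) = 0 := by
      have e : ((q : ZMod r) ^ k - 1) * ((q : ZMod r) ^ k + 1) = ((q : ZMod r) ^ k) ^ 2 - 1 := by
        ring
      rw [e, h1, sub_self]
    rcases mul_eq_zero.mp this with h | h
    · exact absurd (sub_eq_zero.mp h) h2
    · exact eq_neg_of_add_eq_zero_left h
  rw [← ZMod.natCast_eq_zero_iff]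
  push_cast
  rw [h3]
  ring

section Alt

variable {B : LinearMap.BilinForm F V} (hA : B.IsAlt)
include hA

theorem finrank_add_orth [FiniteDimensional F V] (hV : NonDeg B ⊤) (W : Submodule F V) :
    finrank F W + finrank F (B.orthogonal W) = finrank F V := by
  have h := LinearMap.BilinForm.finrank_add_finrank_orthogonal hA.isRefl W
  have h2 : B.orthogonal ⊤ = ⊥ := by
    rw [eq_bot_iff]
    intro v hv
    rw [Submodule.mem_bot]
    apply hV v Submodule.mem_top
    intro n _
    exact alt_eq_zero hA (LinearMap.BilinForm.mem_orthogonal_iff.mp hv n Submodule.mem_top)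
  rw [h2, inf_bot_eq, finrank_bot, add_zero] at h
  exact h

theorem finrank_orth_inf [FiniteDimensional F V] (hV : NonDeg B ⊤) (M U : Submodule F V)
    (hMU : M ≤ U) (hU : NonDeg B U) :
    finrank F ↥(B.orthogonal M ⊓ U) + finrank F M = finrank F U := by
  have hc := isCompl_orth hA U hU
  have hle : B.orthogonal U ≤ B.orthogonal M := LinearMap.BilinForm.orthogonal_le hMU
  have h1 : B.orthogonal M = B.orthogonal U ⊔ (U ⊓ B.orthogonal M) := by
    rw [← sup_inf_assoc_of_le U hle, sup_comm, hc.sup_eq_top, top_inf_eq]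
  have h2 : B.orthogonal U ⊓ (U ⊓ B.orthogonal M) = ⊥ := by
    rw [eq_bot_iff, ← hc.inf_eq_bot]
    exact le_inf (le_trans inf_le_right inf_le_left) inf_le_left
  have h3 := Submodule.finrank_sup_add_finrank_inf_eq (B.orthogonal U) (U ⊓ B.orthogonal M)
  rw [← h1, h2, finrank_bot] at h3
  have h4 := finrank_add_orth hA hV M
  have h5 := finrank_add_orth hA hV U
  rw [inf_comm]
  omega

end Alt

end Cfsg.Agent.Lib.Helper98.Sy
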