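import Cfsg.Agent.Lib.Helper98.Nd6
import Cfsg.Agent.Lib.Helper98.Sy8

set_option autoImplicit false
set_option linter.unusedSimpArgs false
set_option linter.unusedSectionVars false
set_option linter.unusedVariables false
set_option linter.style.haveILetI false
set_option maxHeartbeats 1600000

/-!
# S5956 (helper98): transport of fixed nondegenerate subspaces to abstract models
-/

namespace Cfsg.Agent.Lib.Helper98.Nd

open Module Cfsg.Agent.Lib.Helper98.Elus Cfsg.Agent.Lib.Helper98.Sy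

universe u
variable {F : Type u} [Field F]

/-- if all non-scalar symplectic matrices with scalar `r`-th power fix a nondegenerate `m`-space then
so does every abstract model -/
theorem transport_fixed (d m r : ℕ)
    (hL : ∀ x : ↥(Matrix.symplecticGroup (Fin d) F),
      (∃ z : F, ((x ^ r : ↥(Matrix.symplecticGroup (Fin d) F)) :
        Matrix (Fin d ⊕ Fin d) (Fin d ⊕ Fin d) F) = z • (1 : Matrix (Fin d ⊕ Fin d) (Fin d ⊕ Fin d) F)) →
      (∀ z : F, (x : Matrix (Fin d ⊕ Fin d) (Fin d ⊕ Fin d) F) ≠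
        z • (1 : Matrix (Fin d ⊕ Fin d) (Fin d ⊕ Fin d) F)) →
      ∃ W : Submodule F (Fin d ⊕ Fin d → F), finrank F W = m ∧ NonDeg (stdForm d) W ∧
        Inv (Matrix.toLin' (x : Matrix (Fin d ⊕ Fin d) (Fin d ⊕ Fin d) F)) W)
    {V' : Type u} [AddCommGroup V'] [Module F V'] [FiniteDimensional F V']
    (B' : LinearMap.BilinForm F V') (hA' : B'.IsAlt) (hnd' : NonDeg B' ⊤)
    (hV' : finrank F V' = 2 * d) (y' : V' →ₗ[F] V') (hiso' : Iso B' y') (hy' : y' ^ r = 1)
    (hns' : ∀ z : F, y' ≠ z • 1) :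
    ∃ W' : Submodule F V', Inv y' W' ∧ NonDeg B' W' ∧ finrank F W' = m := by
  obtain ⟨x, hx1, hx2, E, hE1, hE2⟩ := transport_symp B' hA' hnd' d hV' y' hiso' r hy' hns'
  obtain ⟨W, hWd, hWnd, hWinv⟩ := hL x ⟨1, hx1⟩ hx2
  refine ⟨W.map (E : (Fin d ⊕ Fin d → F) →ₗ[F] V'), ?_, ?_, ?_⟩
  · rintro _ ⟨w, hw, rfl⟩
    show y' (E w) ∈ _
    rw [← hE1]
    exact ⟨_, hWinv w hw, rfl⟩
  · rintro _ ⟨w, hw, rfl⟩ h
    have : w = 0 := by
      apply hWnd w hw
      intro v hv
      rw [← hE2]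
      exact h _ ⟨v, hv, rfl⟩
    rw [this]
    simp
  · rw [LinearEquiv.finrank_map_eq]
    exact hWd

end Cfsg.Agent.Lib.Helper98.Nd
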