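import Mathlib
import Cfsg.Agent.Lib.Helper05.A10Defs

set_option autoImplicit false

/-! Keystone 348902 (K-A10-A2, pack of helper5 for S3489): every element order of `A₁₀` lies in `spec`.
Bounded enumeration of (lcm, parity of the number of even parts) over multisets of parts `≥ 2` with bounded sum. -/

namespace Cfsg.Agent.Lib.Helper98.A10Iso

open Cfsg.Agent.Lib.Helper05.A10Iso

/-- all pairs (lcm, parity of the number of even parts) of multisets of numbers `≥ 2` with sum `≤ B`
(`f` = fuel) -/
def reach : ℕ → ℕ → List (ℕ × Bool)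
  | 0, _ => [(1, false)]
  | (f + 1), B => (1, false) ::
      ((List.range (B + 1)).filter (fun a => decide (2 ≤ a))).flatMap
        (fun a => (reach f (B - a)).map (fun x => (Nat.lcm a x.1, xor x.2 (decide (a % 2 = 0)))))

theorem one_mem_reach (f B : ℕ) : ((1 : ℕ), false) ∈ reach f B := by
  cases f <;> simp [reach]

/-- parity of the number of even parts -/
def par (m : Multiset ℕ) : Bool := decide ((m.countP (fun a => a % 2 = 0)) % 2 = 1)

theorem par_zero : par 0 = false := by simp [par]

theorem par_cons (a : ℕ) (m : Multiset ℕ) : par (a ::ₘ m) = xor (par m) (decide (a % 2 = 0)) := by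
  unfold par
  rw [Multiset.countP_cons]
  by_cases h : a % 2 = 0
  · simp only [h, if_true, decide_true, Bool.xor_true]
    rcases Nat.mod_two_eq_zero_or_one (Multiset.countP (fun a => a % 2 = 0) m) with h1 | h1
    · have : (Multiset.countP (fun a => a % 2 = 0) m + 1) % 2 = 1 := by omega
      simp [h1, this]
    · have : (Multiset.countP (fun a => a % 2 = 0) m + 1) % 2 = 0 := by omega
      simp [h1, this]
  · simp [h]

theorem mem_reach : ∀ (m : Multiset ℕ) (f B : ℕ), (∀ n ∈ m, 2 ≤ n) → m.sum ≤ B → B ≤ f →
    (m.lcm, par m) ∈ reach f B := by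
  intro m
  induction m using Multiset.induction with
  | empty =>
    intro f B _ _ _
    rw [Multiset.lcm_zero, par_zero]
    exact one_mem_reach f B
  | cons a m ih =>
    intro f B h2 hsum hBf
    rw [Multiset.sum_cons] at hsum
    have ha : 2 ≤ a := h2 a (Multiset.mem_cons_self a m)
    obtain ⟨f', rfl⟩ : ∃ f', f = f' + 1 := ⟨f - 1, by omega⟩
    have hm := ih f' (B - a) (fun n hn => h2 n (Multiset.mem_cons_of_mem hn)) (by omega) (by omega)
    rw [Multiset.lcm_cons, par_cons]
    simp only [reach, List.mem_cons, List.mem_flatMap, List.mem_filter, List.mem_range,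
      decide_eq_true_eq, List.mem_map]
    right
    exact ⟨a, ⟨by omega, ha⟩, (m.lcm, par m), hm, rfl⟩

theorem sign_prod_eq (m : Multiset ℕ) :
    ((-1 : ℤˣ) ^ (m.sum + Multiset.card m)) = if par m then -1 else 1 := by
  induction m using Multiset.induction with
  | empty => simp [par_zero]
  | cons a m ih =>
    rw [Multiset.sum_cons, Multiset.card_cons, par_cons]
    have e : a + m.sum + (Multiset.card m + 1) = (m.sum + Multiset.card m) + (a + 1) := by ring
    rw [e, pow_add, ih]
    by_cases h : a % 2 = 0
    · have ho : Odd (a + 1) := Nat.odd_iff.mpr (by omega)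
      rw [ho.neg_one_pow]
      cases par m <;> simp [h]
    · have he : Even (a + 1) := Nat.even_iff.mpr (by omega)
      rw [he.neg_one_pow]
      cases par m <;> simp [h]

theorem reach_check : ∀ x ∈ reach 10 10, x.2 = false →
    x.1 ∈ [1, 2, 3, 4, 5, 6, 7, 8, 9, 10, 12, 15, 21] := by
  decide +kernel

theorem alt10_subset_spec : Set.range (orderOf : alternatingGroup (Fin 10) → ℕ) ⊆ spec := by
  rintro _ ⟨σ, rfl⟩
  have hσ : Equiv.Perm.sign (σ : Equiv.Perm (Fin 10)) = 1 := Equiv.Perm.mem_alternatingGroup.mp σ.2
  rw [← Subgroup.orderOf_coe, ← Equiv.Perm.lcm_cycleType]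
  set m := (σ : Equiv.Perm (Fin 10)).cycleType with hm
  have h2 : ∀ n ∈ m, 2 ≤ n := fun n hn => Equiv.Perm.two_le_of_mem_cycleType hn
  have hsum : m.sum ≤ 10 := by
    rw [hm, Equiv.Perm.sum_cycleType]
    exact le_trans (Finset.card_le_univ _) (by simp)
  have hmem := mem_reach m 10 10 h2 hsum le_rfl
  have hpar : par m = false := by
    have h := Equiv.Perm.sign_of_cycleType (σ : Equiv.Perm (Fin 10))
    rw [hσ, ← hm, sign_prod_eq] at h
    by_contra hp
    rw [Bool.not_eq_false] at hp
    rw [hp] at h
    simp at h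
  have := reach_check _ hmem hpar
  simp only [List.mem_cons, List.not_mem_nil, or_false] at this
  simp only [spec, Set.mem_insert_iff, Set.mem_singleton_iff]
  exact this

end Cfsg.Agent.Lib.Helper98.A10Iso

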