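import Mathlib
import Cfsg.Agent.Lib.Helper05.A10Defs

set_option autoImplicit false

/-! Keystone 348913 (K-A10-D2, pack of helper5 for S3489): an odd function with non-zero norm. -/

namespace Cfsg.Agent.Lib.Helper98.A10Iso

open Matrix Cfsg.Agent.Lib.Helper05.A10Iso

/-- the base vector -/
def v0 : V := Pi.single 0 1

theorem v0_ne_zero : v0 ≠ 0 := by
  intro h
  have := congrFun h 0
  simp only [v0, Pi.single_eq_same, Pi.zero_apply] at this
  revert this
  decide

theorem v0_ne_neg : v0 ≠ -v0 := by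
  intro h
  have := congrFun h 0
  simp only [v0, Pi.neg_apply, Pi.single_eq_same] at this
  revert this
  decide

/-- `δ_{v₀} - δ_{-v₀}` -/
def f0 : V → ZMod 3 := fun v => if v = v0 then 1 else if v = -v0 then -1 else 0

theorem f0_odd : f0 ∈ Qodd := by
  intro v
  unfold f0
  by_cases h1 : v = v0
  · subst h1
    have h2 : -v0 ≠ v0 := fun h => v0_ne_neg h.symm
    simp [h2]
  · by_cases h2 : v = -v0
    · subst h2
      have h3 : -v0 ≠ v0 := fun h => v0_ne_neg h.symm
      simp [h3]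
    · have h3 : -v ≠ v0 := fun h => h2 (by rw [← h, neg_neg])
      have h4 : -v ≠ -v0 := fun h => h1 (neg_injective h)
      simp [h1, h2, h3, h4]

theorem exists_sum_actQ_ne_zero (k : GL4) (m : ℕ) (hm : 0 < m)
    (hfix : ∀ i : ℕ, 0 < i → i < m → ∀ v : V, v ≠ 0 →
      ((k ^ i : GL4) : M4).mulVec v ≠ v ∧ ((k ^ i : GL4) : M4).mulVec v ≠ -v) :
    ∃ f : ↥Qodd, ∑ i ∈ Finset.range m, actQ (k ^ i) f ≠ 0 := by
  refine ⟨⟨f0, f0_odd⟩, ?_⟩
  intro hzero
  have hval : ((∑ i ∈ Finset.range m, actQ (k ^ i) ⟨f0, f0_odd⟩ : ↥Qodd) : V → ZMod 3) v0 = 0 := by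
    rw [hzero]; rfl
  rw [AddSubgroup.val_finsetSum, Finset.sum_apply] at hval
  have hterm : ∀ i ∈ Finset.range m, i ≠ 0 →
      ((actQ (k ^ i) ⟨f0, f0_odd⟩ : ↥Qodd) : V → ZMod 3) v0 = 0 := by
    intro i hi hi0
    have him : i < m := Finset.mem_range.mp hi
    have hipos : 0 < i := Nat.pos_of_ne_zero hi0
    show f0 ((((k ^ i)⁻¹ : GL4) : M4).mulVec v0) = 0
    set w : V := (((k ^ i)⁻¹ : GL4) : M4).mulVec v0 with hw
    have hkw : ((k ^ i : GL4) : M4).mulVec w = v0 := by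
      rw [hw, Matrix.mulVec_mulVec, ← Units.val_mul, mul_inv_cancel, Units.val_one,
        Matrix.one_mulVec]
    obtain ⟨hA, hB⟩ := hfix i hipos him v0 v0_ne_zero
    have h1 : w ≠ v0 := by
      intro h
      rw [h] at hkw
      exact hA hkw
    have h2 : w ≠ -v0 := by
      intro h
      rw [h, Matrix.mulVec_neg] at hkw
      apply hB
      have h5 := congrArg Neg.neg hkw
      rw [neg_neg] at h5
      exact h5

    simp [f0, h1, h2]
  rw [Finset.sum_eq_single 0 hterm (fun h => absurd (Finset.mem_range.mpr hm) h)] at hval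
  have h0 : ((actQ (k ^ 0) ⟨f0, f0_odd⟩ : ↥Qodd) : V → ZMod 3) v0 = 1 := by
    rw [pow_zero, actQ_one]
    simp [f0]
  rw [h0] at hval
  revert hval
  decide

end Cfsg.Agent.Lib.Helper98.A10Iso

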