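import Mathlib

set_option autoImplicit false

/-! Keystone 348914 (K-A10-E1, pack of helper5 for S3489): the order of an element of a semidirect product with
commutative kernel.  Mathlib only. -/

namespace Cfsg.Agent.Lib.Helper98.A10Iso

/-- powers of `⟨n, g⟩` in a semidirect product -/
theorem semidirect_pow {N G : Type*} [CommGroup N] [Group G]
    (φ : G →* MulAut N) (n : N) (g : G) (j : ℕ) :
    (⟨n, g⟩ : N ⋊[φ] G) ^ j = ⟨∏ i ∈ Finset.range j, φ (g ^ i) n, g ^ j⟩ := by
  induction j with
  | zero =>
    apply SemidirectProduct.ext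
    · simp only [pow_zero, SemidirectProduct.one_left, Finset.range_zero, Finset.prod_empty]
    · simp only [pow_zero, SemidirectProduct.one_right]
  | succ j ih =>
    rw [pow_succ, ih]
    apply SemidirectProduct.ext
    · simp only [SemidirectProduct.mul_left, Finset.prod_range_succ]
    · simp only [SemidirectProduct.mul_right, pow_succ]

theorem orderOf_semidirect {N G : Type*} [CommGroup N] [Group G] [Finite N] [Finite G]
    (φ : G →* MulAut N) (n : N) (g : G) :
    orderOf (⟨n, g⟩ : N ⋊[φ] G) =
      orderOf g * orderOf (∏ i ∈ Finset.range (orderOf g), φ (g ^ i) n) := by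
  set m := orderOf g with hm
  set s := ∏ i ∈ Finset.range m, φ (g ^ i) n with hs
  set x : N ⋊[φ] G := ⟨n, g⟩ with hx
  have hxm : x ^ m = SemidirectProduct.inl s := by
    rw [hx, semidirect_pow]
    apply SemidirectProduct.ext
    · simp only [SemidirectProduct.left_inl, hs]
    · simp only [SemidirectProduct.right_inl, hm, pow_orderOf_eq_one]
  have hxmt : ∀ t : ℕ, x ^ (m * t) = SemidirectProduct.inl (s ^ t) := by
    intro t
    rw [pow_mul, hxm, ← map_pow]
  apply Nat.dvd_antisymm
  · rw [orderOf_dvd_iff_pow_eq_one, hxmt, pow_orderOf_eq_one, map_one]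
  · have h1 : x ^ orderOf x = 1 := pow_orderOf_eq_one x
    have hg : g ^ orderOf x = 1 := by
      have := congrArg (fun y : N ⋊[φ] G => y.right) h1
      rw [hx, semidirect_pow] at this
      simpa only [SemidirectProduct.one_right] using this
    obtain ⟨t, ht⟩ : m ∣ orderOf x := orderOf_dvd_of_pow_eq_one hg
    rw [ht]
    apply Nat.mul_dvd_mul_left
    rw [orderOf_dvd_iff_pow_eq_one]
    have h2 : SemidirectProduct.inl (s ^ t) = (1 : N ⋊[φ] G) := by
      rw [← hxmt, ← ht, h1]
    exact (SemidirectProduct.inl_injective (φ := φ)) (by rw [h2, map_one])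

end Cfsg.Agent.Lib.Helper98.A10Iso

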