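import Mathlib
import Cfsg.Agent.Lib.Helper15.IsoSubE

/-!
# K-1383-E2 (keystone 138305, S1383, architect helper78)
`P` nonabelian of order `p^3`, `K` cyclic of odd `p'`-order acting with `C_P(k) = Z` (order `p`, inside `P'`)
for all `k ≠ 1`, and some `a ≠ 1` in `K` leaves a line of `P/Z` invariant: then `|K|` divides `p - 1`.
Route: `Q = P/Z(P)` abelian of order `p^2`; the eigen-subgroup `E'` of `a` on `Q` is `K`-invariant of
order `p` and `K` acts freely on `E' ∖ 1`.
-/

set_option autoImplicit false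
set_option linter.unusedSectionVars false
set_option linter.unusedVariables false

namespace Cfsg.Agent.Lib.Helper98.BG1383

open Subgroup

/-- a free action of a finite group on a finite type -/
theorem card_dvd_of_free {K X : Type*} [Group K] [Finite K] [MulAction K X] [Finite X]
    (hfree : ∀ (k : K) (x : X), k • x = x → k = 1) : Nat.card K ∣ Nat.card X := by
  classical
  have e1 := MulAction.selfEquivSigmaOrbitsQuotientStabilizer K X
  have hst : ∀ x : X, MulAction.stabilizer K x = ⊥ := by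
    intro x
    rw [Subgroup.eq_bot_iff_forall]
    intro k hk
    exact hfree k x hk
  have e2 : ∀ ω : Quotient (MulAction.orbitRel K X), (K ⧸ MulAction.stabilizer K ω.out) ≃ K :=
    fun ω => (Subgroup.quotientEquivOfEq (hst ω.out)).trans
      (QuotientGroup.quotientBot (G := K)).toEquiv
  have e3 : (Σ ω : Quotient (MulAction.orbitRel K X), K ⧸ MulAction.stabilizer K ω.out) ≃
      Σ _ω : Quotient (MulAction.orbitRel K X), K := Equiv.sigmaCongrRight e2
  have e4 : (Σ _ω : Quotient (MulAction.orbitRel K X), K) ≃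
      (Quotient (MulAction.orbitRel K X)) × K := Equiv.sigmaEquivProd _ _
  rw [Nat.card_congr ((e1.trans e3).trans e4), Nat.card_prod]
  exact dvd_mul_left _ _


section bil

variable {R : Type*} [Group R]

/-- `x ↦ [x, y]` is a homomorphism when commutators are central -/
def blHom (hc : ∀ u v : R, u⁻¹ * v⁻¹ * u * v ∈ center R) (y : R) : R →* R where
  toFun x := x⁻¹ * y⁻¹ * x * y
  map_one' := by group
  map_mul' x1 x2 := by
    have h := mem_center_iff.mp (hc x1 y) x2⁻¹
    calc (x1 * x2)⁻¹ * y⁻¹ * (x1 * x2) * y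
        = x2⁻¹ * (x1⁻¹ * y⁻¹ * x1 * y) * (y⁻¹ * x2 * y) := by group
      _ = (x1⁻¹ * y⁻¹ * x1 * y) * x2⁻¹ * (y⁻¹ * x2 * y) := by rw [h]
      _ = _ := by group

/-- `y ↦ [x, y]` is a homomorphism when commutators are central -/
def brHom (hc : ∀ u v : R, u⁻¹ * v⁻¹ * u * v ∈ center R) (x : R) : R →* R where
  toFun y := x⁻¹ * y⁻¹ * x * y
  map_one' := by group
  map_mul' y1 y2 := by
    have h := mem_center_iff.mp (hc x y1) (x⁻¹ * y2⁻¹ * x)
    calc x⁻¹ * (y1 * y2)⁻¹ * x * (y1 * y2)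
        = (x⁻¹ * y2⁻¹ * x) * (x⁻¹ * y1⁻¹ * x * y1) * y2 := by group
      _ = (x⁻¹ * y1⁻¹ * x * y1) * (x⁻¹ * y2⁻¹ * x) * y2 := by rw [h]
      _ = _ := by group

theorem bl_zpow (hc : ∀ u v : R, u⁻¹ * v⁻¹ * u * v ∈ center R) (x y : R) (j : ℤ) :
    (x ^ j)⁻¹ * (y ^ j)⁻¹ * x ^ j * y ^ j = ((x⁻¹ * y⁻¹ * x * y) ^ j) ^ j := by
  have h1 : (x ^ j)⁻¹ * (y ^ j)⁻¹ * x ^ j * y ^ j = blHom hc (y ^ j) (x ^ j) := rfl
  have h2 : blHom hc (y ^ j) x = brHom hc x (y ^ j) := rfl
  have h3 : brHom hc x y = x⁻¹ * y⁻¹ * x * y := rfl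
  rw [h1, map_zpow, h2, map_zpow, h3]

theorem bl_mul_central (x y z1 z2 : R) (h1 : z1 ∈ center R) (h2 : z2 ∈ center R) :
    (x * z1)⁻¹ * (y * z2)⁻¹ * (x * z1) * (y * z2) = x⁻¹ * y⁻¹ * x * y := by
  have c1 : ∀ g : R, g * z1 = z1 * g := mem_center_iff.mp h1
  have c2 : ∀ g : R, g * z2 = z2 * g := mem_center_iff.mp h2
  calc (x * z1)⁻¹ * (y * z2)⁻¹ * (x * z1) * (y * z2)
      = z1⁻¹ * x⁻¹ * (z2⁻¹ * y⁻¹) * (x * z1) * (y * z2) := by group
    _ = z1⁻¹ * x⁻¹ * (z2⁻¹ * y⁻¹) * (z1 * x) * (z2 * y) := by rw [c1 x, c2 y]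
    _ = z1⁻¹ * (x⁻¹ * z2⁻¹) * (y⁻¹ * z1) * x * z2 * y := by group
    _ = z1⁻¹ * (x⁻¹ * z2⁻¹) * (z1 * y⁻¹) * x * z2 * y := by rw [c1 y⁻¹]
    _ = z1⁻¹ * x⁻¹ * (z2⁻¹ * z1) * y⁻¹ * (x * z2) * y := by group
    _ = z1⁻¹ * x⁻¹ * (z1 * z2⁻¹) * y⁻¹ * (z2 * x) * y := by rw [c1 z2⁻¹, c2 x]
    _ = z1⁻¹ * (x⁻¹ * z1) * z2⁻¹ * (y⁻¹ * z2) * x * y := by group
    _ = z1⁻¹ * (z1 * x⁻¹) * z2⁻¹ * (z2 * y⁻¹) * x * y := by rw [c1 x⁻¹, c2 y⁻¹]
    _ = _ := by group

end bil


section main

variable {G : Type*} [Group G] [Finite G]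

/-- conjugation by a normalizing element as an endomorphism of `↥P` -/
def cjHom (P : Subgroup G) (k : G) (hk : k ∈ Subgroup.normalizer (P : Set G)) : ↥P →* ↥P where
  toFun x := ⟨k * x * k⁻¹, (Subgroup.mem_normalizer_iff.mp hk x).mp x.2⟩
  map_one' := by ext; simp
  map_mul' x y := by ext; simp [mul_assoc]

theorem cjHom_val (P : Subgroup G) (k : G) (hk : k ∈ Subgroup.normalizer (P : Set G)) (x : P) :
    ((cjHom P k hk x : P) : G) = k * x * k⁻¹ := rfl

/-- **LEAF K-1383-E2 (138305).** -/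
theorem card_dvd_pred_of_invariant_line (p : ℕ) [Fact p.Prime]
    (hp : p ≠ 2) (P K : Subgroup G) (hP : Nat.card P = p ^ 3) (hPna : ¬ IsMulCommutative P)
    (hKP : K ≤ Subgroup.normalizer (P : Set G)) (hKc : IsCyclic K)
    (hcop : (Nat.card K).Coprime p) (hodd : Odd (Nat.card K))
    (hZ : Nat.card ↥(P ⊓ Subgroup.centralizer (K : Set G)) = p)
    (hZ' : P ⊓ Subgroup.centralizer (K : Set G) ≤ ⁅P, P⁆)
    (hfix : ∀ k ∈ K, k ≠ 1 →
      P ⊓ Subgroup.centralizer ({k} : Set G) = P ⊓ Subgroup.centralizer (K : Set G))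
    (hline : ∃ a ∈ K, a ≠ 1 ∧ ∃ v ∈ P, v ∉ Subgroup.centralizer (K : Set G) ∧
      a * v * a⁻¹ ∈ Subgroup.zpowers v ⊔ (P ⊓ Subgroup.centralizer (K : Set G))) :
    Nat.card K ∣ p - 1 := by
  classical
  obtain ⟨a, haK, ha1, v, hvP, hvK, hav⟩ := hline
  have hpp : p.Prime := Fact.out
  set ZG : Subgroup G := P ⊓ Subgroup.centralizer (K : Set G) with hZG
  have hna' : ¬ ∀ x y : P, x * y = y * x := fun h => hPna ⟨⟨h⟩⟩
  have hcen : Nat.card (center P) = p :=
    Cfsg.Agent.Lib.Helper15.IsoSub.card_center_of_cube hP hna'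
  have hcc : ∀ u w : P, u⁻¹ * w⁻¹ * u * w ∈ center P :=
    Cfsg.Agent.Lib.Helper15.IsoSub.comm_mem_center_of_cube hP hna'
  -- `ZG` is the centre of `P`
  have hcomm_le : ⁅P, P⁆ ≤ (center P).map P.subtype := by
    rw [Subgroup.commutator_le]
    intro g1 h1 g2 h2
    refine ⟨_, hcc (⟨g1, h1⟩ : P)⁻¹ (⟨g2, h2⟩ : P)⁻¹, ?_⟩
    simp [commutatorElement_def]
  have hZ'le : ZG.subgroupOf P ≤ center P := by
    intro x hx
    rw [Subgroup.mem_subgroupOf] at hx
    obtain ⟨c, hc, hcx⟩ := hcomm_le (hZ' hx)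
    have : c = x := Subtype.ext hcx
    rw [← this]
    exact hc
  have hZ'card : Nat.card (ZG.subgroupOf P) = p := by
    rw [Nat.card_congr (Subgroup.subgroupOfEquivOfLe (inf_le_left : ZG ≤ P)).toEquiv]
    exact hZ
  have hZ'eq : ZG.subgroupOf P = center P :=
    Subgroup.eq_of_le_of_card_ge hZ'le (by rw [hcen, hZ'card])
  have hmemC : ∀ x : P, x ∈ center P ↔ (x : G) ∈ ZG := by
    intro x
    rw [← hZ'eq, Subgroup.mem_subgroupOf]
  have hKZ : ∀ k ∈ K, ∀ z ∈ ZG, k * z * k⁻¹ = z := by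
    intro k hk z hz
    have h1 := (Subgroup.mem_centralizer_iff.mp hz.2) k hk
    rw [h1]; group
  -- the quotient
  have hQcard : Nat.card (↥P ⧸ center ↥P) = p ^ 2 := by
    have hmul := Subgroup.card_eq_card_quotient_mul_card_subgroup (center P)
    rw [hP, hcen] at hmul
    have h1 : p ^ 3 = p ^ 2 * p := by ring
    rw [h1] at hmul
    exact (Nat.eq_of_mul_eq_mul_right hpp.pos hmul).symm
  have hQcomm : ∀ q1 q2 : ↥P ⧸ center ↥P, q1 * q2 = q2 * q1 :=
    (IsPGroup.isMulCommutative_of_card_eq_prime_sq hQcard).is_comm.comm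
  have hcomap : ∀ (k : G) (hk : k ∈ K), center P ≤ (center P).comap (cjHom P k (hKP hk)) := by
    intro k hk x hx
    rw [Subgroup.mem_comap, hmemC, cjHom_val, hKZ k hk _ ((hmemC x).1 hx)]
    exact (hmemC x).1 hx
  let φ : ↥K → (↥P ⧸ center ↥P) →* (↥P ⧸ center ↥P) := fun k =>
    QuotientGroup.map _ _ (cjHom P k (hKP k.2)) (hcomap k k.2)
  have hφmk : ∀ (k : K) (x : P),
      φ k (x : ↥P ⧸ center ↥P) = ((cjHom P k (hKP k.2) x : P) : ↥P ⧸ center ↥P) := fun k x => rfl
  have hφ1 : ∀ q : ↥P ⧸ center ↥P, φ 1 q = q := by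
    intro q
    induction q using QuotientGroup.induction_on with
    | H x =>
      rw [hφmk]
      congr 1
      apply Subtype.ext
      rw [cjHom_val]
      simp
  have hφmul : ∀ (k1 k2 : K) (q : ↥P ⧸ center ↥P), φ (k1 * k2) q = φ k1 (φ k2 q) := by
    intro k1 k2 q
    induction q using QuotientGroup.induction_on with
    | H x =>
      rw [hφmk, hφmk, hφmk]
      congr 1
      apply Subtype.ext
      rw [cjHom_val, cjHom_val, cjHom_val]
      simp [mul_assoc]
  -- the lift lemma: `K` acts freely on `Q ∖ 1`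
  have hfree : ∀ k : K, k ≠ 1 → ∀ q : ↥P ⧸ center ↥P, φ k q = q → q = 1 := by
    intro k hk1 q
    induction q using QuotientGroup.induction_on with
    | H x =>
      intro h
      rw [hφmk, QuotientGroup.eq, hmemC] at h
      set w : G := (((cjHom P k (hKP k.2) x)⁻¹ * x : P) : G) with hw
      have hwZ : w⁻¹ ∈ ZG := ZG.inv_mem h
      have hkx : (k : G) * x * (k : G)⁻¹ = x * w⁻¹ := by
        rw [hw]
        simp [cjHom_val]
      have hpow : ∀ n : ℕ, (k : G) ^ n * x * ((k : G) ^ n)⁻¹ = x * (w⁻¹) ^ n := by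
        intro n
        induction n with
        | zero => simp
        | succ n ih =>
          have h1 : (k : G) ^ (n + 1) * x * ((k : G) ^ (n + 1))⁻¹ =
              (k : G) * ((k : G) ^ n * x * ((k : G) ^ n)⁻¹) * (k : G)⁻¹ := by
            rw [pow_succ']; group
          rw [h1, ih]
          have h2 : (k : G) * (x * w⁻¹ ^ n) * (k : G)⁻¹ =
              ((k : G) * x * (k : G)⁻¹) * ((k : G) * w⁻¹ ^ n * (k : G)⁻¹) := by group
          rw [h2, hkx, hKZ k k.2 _ (ZG.pow_mem hwZ n), pow_succ']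
          group
      have hwn : (w⁻¹) ^ orderOf (k : G) = 1 := by
        have := hpow (orderOf (k : G))
        rw [pow_orderOf_eq_one] at this
        simpa using this.symm
      have hwp : (w⁻¹) ^ p = 1 := by
        have h1 : (⟨w⁻¹, hwZ⟩ : ZG) ^ Nat.card ZG = 1 := pow_card_eq_one'
        rw [hZ] at h1
        exact congrArg Subtype.val h1
      have hord : orderOf (k : G) ∣ Nat.card K := by
        rw [Subgroup.orderOf_coe]
        exact orderOf_dvd_natCard k
      have hcop' : (orderOf (k : G)).Coprime p := Nat.Coprime.coprime_dvd_left hord hcop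
      have hw1 : w⁻¹ = 1 := by
        have h1 := orderOf_dvd_of_pow_eq_one hwn
        have h2 := orderOf_dvd_of_pow_eq_one hwp
        have h3 : orderOf (w⁻¹) ∣ 1 := by
          rw [← Nat.Coprime.gcd_eq_one hcop']
          exact Nat.dvd_gcd h1 h2
        exact orderOf_eq_one_iff.mp (Nat.dvd_one.mp h3)
      rw [hw1, mul_one] at hkx
      have hxZ : (x : G) ∈ ZG := by
        rw [← hfix k k.2 (fun h => hk1 (Subtype.ext h))]
        refine ⟨x.2, ?_⟩
        show (x : G) ∈ Subgroup.centralizer ({(k : G)} : Set G)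
        rw [Subgroup.mem_centralizer_iff]
        intro g hg
        rw [Set.mem_singleton_iff] at hg
        rw [hg]
        calc (k : G) * x = ((k : G) * x * (k : G)⁻¹) * k := by group
          _ = x * k := by rw [hkx]
      rw [QuotientGroup.eq_one_iff, hmemC]
      exact hxZ
  -- notation
  have hcommK : ∀ c1 c2 : K, c1 * c2 = c2 * c1 := by
    intro c1 c2
    obtain ⟨g, hg⟩ := hKc.exists_generator
    obtain ⟨m, rfl⟩ := Subgroup.mem_zpowers_iff.mp (hg c1)
    obtain ⟨n, rfl⟩ := Subgroup.mem_zpowers_iff.mp (hg c2)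
    rw [← zpow_add, ← zpow_add, add_comm]
  let a' : K := ⟨a, haK⟩
  let v' : P := ⟨v, hvP⟩
  have ha'1 : a' ≠ 1 := fun h => ha1 (congrArg Subtype.val h)
  set q0 : ↥P ⧸ center ↥P := (v' : ↥P ⧸ center ↥P) with hq0
  have hq0ne : q0 ≠ 1 := by
    intro h
    rw [hq0, QuotientGroup.eq_one_iff, hmemC] at h
    exact hvK h.2
  -- `Q` has exponent `p`
  have hQnc : ¬ IsCyclic (↥P ⧸ center ↥P) := by
    intro hcyc
    apply hna'
    have hmc := MonoidHom.isMulCommutative_of_isCyclic_of_ker_le_center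
      (QuotientGroup.mk' (center ↥P)) (by rw [QuotientGroup.ker_mk'])
    exact fun x y => hmc.is_comm.comm x y
  have hQexp : ∀ q : ↥P ⧸ center ↥P, q ^ p = 1 := by
    intro q
    have h1 : orderOf q ∣ p ^ 2 := by rw [← hQcard]; exact orderOf_dvd_natCard q
    obtain ⟨m, hm, hmq⟩ := (Nat.dvd_prime_pow hpp).1 h1
    have hm2 : m ≠ 2 := by
      rintro rfl
      apply hQnc
      exact isCyclic_of_orderOf_eq_card q (by rw [hmq, hQcard])
    have hm1 : m ≤ 1 := by omega
    have h2 : orderOf q ∣ p := by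
      rw [hmq]
      calc p ^ m ∣ p ^ 1 := pow_dvd_pow p hm1
        _ = p := pow_one p
    exact orderOf_dvd_iff_pow_eq_one.mp h2
  -- the eigenvalue
  obtain ⟨j, hj⟩ : ∃ j : ℤ, φ a' q0 = q0 ^ j := by
    let T : Subgroup G :=
      ((Subgroup.zpowers q0).comap (QuotientGroup.mk' (center ↥P))).map P.subtype
    have h1 : Subgroup.zpowers v ≤ T := by
      rw [Subgroup.zpowers_le]
      exact ⟨v', Subgroup.mem_zpowers q0, rfl⟩
    have h2 : ZG ≤ T := by
      intro z hz
      refine ⟨⟨z, hz.1⟩, ?_, rfl⟩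
      rw [SetLike.mem_coe, Subgroup.mem_comap]
      have : (QuotientGroup.mk' (center ↥P)) ⟨z, hz.1⟩ = 1 := by
        rw [QuotientGroup.mk'_apply, QuotientGroup.eq_one_iff, hmemC]; exact hz
      rw [this]; exact one_mem _
    obtain ⟨y, hy, hyv⟩ := (sup_le h1 h2) hav
    have hyeq : y = cjHom P a (hKP haK) v' := Subtype.ext (by rw [cjHom_val]; exact hyv)
    rw [SetLike.mem_coe, Subgroup.mem_comap, QuotientGroup.mk'_apply, hyeq] at hy
    obtain ⟨j, hj⟩ := Subgroup.mem_zpowers_iff.mp hy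
    exact ⟨j, hj.symm⟩
  -- the eigen-subgroup
  let E' : Subgroup (↥P ⧸ center ↥P) :=
    { carrier := {q | φ a' q = q ^ j}
      mul_mem' := by
        intro q1 q2 h1 h2
        show φ a' (q1 * q2) = (q1 * q2) ^ j
        rw [map_mul, (show φ a' q1 = q1 ^ j from h1), (show φ a' q2 = q2 ^ j from h2),
          (show Commute q1 q2 from hQcomm q1 q2).mul_zpow j]
      one_mem' := by
        show φ a' 1 = 1 ^ j
        rw [map_one, one_zpow]
      inv_mem' := by
        intro q h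
        show φ a' q⁻¹ = (q⁻¹) ^ j
        rw [map_inv, (show φ a' q = q ^ j from h), inv_zpow] }
  have hmemE : ∀ q, q ∈ E' ↔ φ a' q = q ^ j := fun q => Iff.rfl
  have hq0E : q0 ∈ E' := hj
  have hEK : ∀ (c : K) (q : ↥P ⧸ center ↥P), q ∈ E' → φ c q ∈ E' := by
    intro c q hq
    rw [hmemE] at hq ⊢
    rw [← hφmul, hcommK a' c, hφmul, hq, map_zpow]
  have hEtop : E' ≠ ⊤ := by
    intro htop
    have hall : ∀ q, φ a' q = q ^ j := fun q => (hmemE q).1 (by rw [htop]; exact Subgroup.mem_top q)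
    obtain ⟨x, y, hxy⟩ : ∃ x y : P, x * y ≠ y * x := by
      by_contra h
      push Not at h
      exact hna' h
    set c0 : P := x⁻¹ * y⁻¹ * x * y with hc0
    have hc0c : c0 ∈ center P := hcc x y
    have hc0ne : c0 ≠ 1 := by
      intro h
      apply hxy
      have : x * y = y * x * c0 := by rw [hc0]; group
      rw [this, h, mul_one]
    have hzx : ∀ u : P, (u ^ j)⁻¹ * cjHom P a (hKP haK) u ∈ center P := by
      intro u
      have h1 := hall (u : ↥P ⧸ center ↥P)
      rw [hφmk, ← QuotientGroup.mk_zpow] at h1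
      exact QuotientGroup.eq.mp h1.symm
    have hcjc0 : cjHom P a (hKP haK) c0 = c0 := by
      apply Subtype.ext
      rw [cjHom_val]
      exact hKZ a haK _ ((hmemC c0).1 hc0c)
    have hkey : c0 = (c0 ^ j) ^ j := by
      have e1 : cjHom P a (hKP haK) c0 =
          (cjHom P a (hKP haK) x)⁻¹ * (cjHom P a (hKP haK) y)⁻¹ * cjHom P a (hKP haK) x *
            cjHom P a (hKP haK) y := by
        rw [hc0, map_mul, map_mul, map_mul, map_inv, map_inv]
      have e2 : cjHom P a (hKP haK) x = x ^ j * ((x ^ j)⁻¹ * cjHom P a (hKP haK) x) := by group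
      have e3 : cjHom P a (hKP haK) y = y ^ j * ((y ^ j)⁻¹ * cjHom P a (hKP haK) y) := by group
      rw [hcjc0] at e1
      have e4 : (cjHom P a (hKP haK) x)⁻¹ * (cjHom P a (hKP haK) y)⁻¹ * cjHom P a (hKP haK) x *
            cjHom P a (hKP haK) y = (c0 ^ j) ^ j := by
        rw [e2, e3, bl_mul_central _ _ _ _ (hzx x) (hzx y), bl_zpow hcc]
      exact e1.trans e4
    have hc0p : c0 ^ p = 1 := by
      have h1 : (⟨c0, hc0c⟩ : center P) ^ Nat.card (center P) = 1 := pow_card_eq_one'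
      rw [hcen] at h1
      exact congrArg Subtype.val h1
    have hord : orderOf c0 = p := orderOf_eq_prime hc0p hc0ne
    have hdvd : (p : ℤ) ∣ j * j - 1 := by
      rw [← hord, orderOf_dvd_iff_zpow_eq_one, zpow_sub, zpow_one, zpow_mul, ← hkey, mul_inv_cancel]
    have hfac : j * j - 1 = (j - 1) * (j + 1) := by ring
    rw [hfac] at hdvd
    rcases (Nat.prime_iff_prime_int.mp hpp).dvd_or_dvd hdvd with h | h
    · obtain ⟨m, hm⟩ := h
      have hjm : j = 1 + p * m := by linarith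
      have : φ a' q0 = q0 := by
        rw [hj, hjm, zpow_add, zpow_one, zpow_mul, zpow_natCast, hQexp, one_zpow, mul_one]
      exact hq0ne (hfree a' ha'1 q0 this)
    · obtain ⟨m, hm⟩ := h
      have hjm : j = -1 + p * m := by linarith
      have h1 : φ a' q0 = q0⁻¹ := by
        rw [hj, hjm, zpow_add, zpow_neg_one, zpow_mul, zpow_natCast, hQexp, one_zpow, mul_one]
      have h2 : φ (a' * a') q0 = q0 := by
        rw [hφmul, h1, map_inv, h1, inv_inv]
      have ha2 : a' * a' ≠ 1 := by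
        intro h
        apply ha'1
        have h3 : orderOf a' ∣ 2 := orderOf_dvd_of_pow_eq_one (by rw [pow_two]; exact h)
        have h4 : orderOf a' ∣ Nat.card K := orderOf_dvd_natCard a'
        have h5 : orderOf a' ∣ 1 := by
          have hc2 : (Nat.card K).Coprime 2 := Nat.Coprime.symm (Nat.coprime_two_left.mpr hodd)
          rw [← Nat.Coprime.gcd_eq_one hc2]
          exact Nat.dvd_gcd h4 h3
        exact orderOf_eq_one_iff.mp (Nat.dvd_one.mp h5)
      exact hq0ne (hfree (a' * a') ha2 q0 h2)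
  have hEcard : Nat.card E' = p := by
    have h1 : Nat.card E' ∣ p ^ 2 := by rw [← hQcard]; exact Subgroup.card_subgroup_dvd_card E'
    obtain ⟨m, hm, hmq⟩ := (Nat.dvd_prime_pow hpp).1 h1
    have hm0 : m ≠ 0 := by
      rintro rfl
      rw [pow_zero, Subgroup.card_eq_one] at hmq
      apply hq0ne
      have : q0 ∈ (⊥ : Subgroup (↥P ⧸ center ↥P)) := hmq ▸ hq0E
      exact Subgroup.mem_bot.mp this
    have hm2 : m ≠ 2 := by
      rintro rfl
      apply hEtop
      exact Subgroup.eq_top_of_card_eq E' (by rw [hmq, hQcard])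
    have hm1 : m = 1 := by omega
    rw [hmq, hm1, pow_one]
  -- the action
  let _ : MulAction K (↥P ⧸ center ↥P) :=
    { smul := fun k q => φ k q
      one_smul := hφ1
      mul_smul := hφmul }
  have hsmul : ∀ (k : K) (q : ↥P ⧸ center ↥P), k • q = φ k q := fun k q => rfl
  let S : SubMulAction K (↥P ⧸ center ↥P) :=
    { carrier := {q | q ∈ E' ∧ q ≠ 1}
      smul_mem' := by
        intro c q hq
        refine ⟨hEK c q hq.1, ?_⟩
        intro h1
        apply hq.2
        have h2 : φ c⁻¹ (φ c q) = q := by rw [← hφmul, inv_mul_cancel, hφ1]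
        rw [← h2, ← hsmul c q, h1, map_one] }
  have hSfree : ∀ (k : K) (x : S), k • x = x → k = 1 := by
    intro k x hx
    by_contra hk
    have h1 : φ k (x : ↥P ⧸ center ↥P) = x := congrArg Subtype.val hx
    exact x.2.2 (hfree k hk _ h1)
  have hdvd := card_dvd_of_free (K := K) (X := S) hSfree
  have hScard : Nat.card S = p - 1 := by
    have e : ↥S ≃ ↥((E' : Set (↥P ⧸ center ↥P)) \ {1}) :=
      Equiv.subtypeEquivRight (fun q => Iff.rfl)
    rw [Nat.card_congr e, Nat.card_coe_set_eq,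
      Set.ncard_sdiff_singleton_of_mem (show (1 : ↥P ⧸ center ↥P) ∈ (E' : Set _) from one_mem E'),
      ← Nat.card_coe_set_eq]
    show Nat.card E' - 1 = p - 1
    rw [hEcard]
  rw [← hScard]
  exact hdvd

end main

end Cfsg.Agent.Lib.Helper98.BG1383
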