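import Mathlib
import Cfsg.Agent.Lib.Helper98.DicksonMax
import Cfsg.Agent.S0802
import Cfsg.Agent.S0803
import Cfsg.Agent.S0804
import Cfsg.Agent.S0805

/-!
# Maximal subgroups of `PSL₂(q)` of types `A₄`, `S₄`, `A₅`, `PSL₂(q₀)`, `PGL₂(q₀)`,
derived from (the statement of) Dickson's theorem
-/

set_option autoImplicit false

namespace Cfsg.Agent.Lib.Helper98.DicksonRows

open Matrix Cfsg.Agent.Lib.Helper98.SL2Borel Cfsg.Agent.Lib.Helper98.DicksonMax

lemma coprime_pow_sub_one (p : ℕ) (hp : p.Prime) (n b : ℕ) (hn : 1 ≤ n) :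
    Nat.Coprime (p ^ n - 1) (p ^ b) := by
  apply Nat.Coprime.pow_right
  rw [Nat.coprime_comm, Nat.Prime.coprime_iff_not_dvd hp]
  intro h
  have h1 : p ∣ p ^ n := dvd_pow_self p (by omega)
  have hpos : 1 ≤ p ^ n := Nat.one_le_pow _ _ hp.pos
  have h2 : p ∣ p ^ n - (p ^ n - 1) := Nat.dvd_sub h1 h
  rw [show p ^ n - (p ^ n - 1) = 1 by omega] at h2
  exact hp.one_lt.ne' (Nat.dvd_one.mp h2)

lemma dvd_of_dvd_pow_sub_one (p a b : ℕ) (hp : 2 ≤ p) (ha : 1 ≤ a) (s : ℕ)
    (hs1 : s ∣ p ^ (2 * a) - 1) (hs2 : s ∣ p ^ (2 * b) - 1) (hs3 : p ^ a - 1 < s) : a ∣ b := by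
  have h1 : s ∣ Nat.gcd (p ^ (2 * a) - 1) (p ^ (2 * b) - 1) := Nat.dvd_gcd hs1 hs2
  rw [Nat.pow_sub_one_gcd_pow_sub_one, Nat.gcd_mul_left] at h1
  set g := Nat.gcd a b with hg
  have hga : g ∣ a := Nat.gcd_dvd_left a b
  have hgpos : 1 ≤ g := Nat.gcd_pos_of_pos_left b ha
  by_contra hnd
  have hne : g ≠ a := by
    intro h
    apply hnd
    rw [← h]
    exact Nat.gcd_dvd_right a b
  obtain ⟨c, hc⟩ := hga
  have hc2 : 2 ≤ c := by
    rcases c with _ | _ | c
    · omega
    · omega
    · omega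
  have h2g : 2 * g ≤ a := by
    calc 2 * g = g * 2 := by ring
      _ ≤ g * c := Nat.mul_le_mul_left g hc2
      _ = a := hc.symm
  have h3 : p ^ (2 * g) ≤ p ^ a := Nat.pow_le_pow_right (by omega) h2g
  have h4 : 1 < p ^ (2 * g) := Nat.one_lt_pow (by omega) (by omega)
  have h5 : s ≤ p ^ (2 * g) - 1 := Nat.le_of_dvd (by omega) h1
  omega

lemma exponent_cases (p a b m r : ℕ) (hp : 2 ≤ p) (ha : 1 ≤ a) (hb : 1 ≤ b) (hr : r.Prime)
    (hab : a ∣ b) (h : (p ^ b) ^ m = (p ^ a) ^ r) : (b = a ∧ m = r) ∨ b = a * r := by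
  rw [← pow_mul, ← pow_mul] at h
  have h1 : b * m = a * r := Nat.pow_right_injective hp h
  obtain ⟨c, rfl⟩ := hab
  have h2 : c * m = r := by
    have : a * (c * m) = a * r := by rw [← h1]; ring
    exact Nat.eq_of_mul_eq_mul_left (by omega) this
  have hc : c ∣ r := ⟨m, h2.symm⟩
  rcases (Nat.dvd_prime hr).mp hc with rfl | rfl
  · left
    exact ⟨by ring, by omega⟩
  · right
    rfl

/-- the cardinality of a finite field whose power is the cardinality of `F` is a power of the
characteristic -/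
lemma exists_pow_eq_of_pow_eq_card {F : Type*} [Field F] [Fintype F] (p : ℕ) [Fact p.Prime]
    [CharP F p] (q m : ℕ) (hq : 2 ≤ q) (h : q ^ m = Fintype.card F) :
    ∃ a, 1 ≤ a ∧ q = p ^ a := by
  obtain ⟨n, hpp, hn⟩ := FiniteField.card F p
  have hm : m ≠ 0 := by
    rintro rfl
    rw [pow_zero] at h
    have := Fintype.one_lt_card (α := F)
    omega
  have hdvd : q ∣ p ^ (n : ℕ) := by
    rw [← hn, ← h]; exact dvd_pow_self _ hm
  obtain ⟨a, -, ha⟩ := (Nat.dvd_prime_pow hpp).mp hdvd
  refine ⟨a, ?_, ha⟩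
  rcases a with _ | a
  · rw [pow_zero] at ha; omega
  · omega

/-- two fields of the same cardinality have `PSL₂` of the same order -/
lemma card_psl2_congr {F K : Type*} [Field F] [Fintype F] [Field K] [Fintype K]
    (h : Fintype.card K = Fintype.card F) :
    Nat.card (Matrix.ProjectiveSpecialLinearGroup (Fin 2) K) =
      Nat.card (Matrix.ProjectiveSpecialLinearGroup (Fin 2) F) := by
  have h1 := card_psl2 (F := F)
  have h2 := card_psl2 (F := K)
  rw [h] at h2
  have hpos : 0 < Nat.gcd 2 (Fintype.card F - 1) := Nat.gcd_pos_of_pos_left _ (by norm_num)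
  exact Nat.eq_of_mul_eq_mul_right hpos (h2.trans h1.symm)

/-- a subfield-type overgroup over a field of the same order is everything (or impossible) -/
lemma top_of_same_card {F K : Type*} [Field F] [Fintype F] [Field K] [Fintype K]
    (h : Fintype.card K = Fintype.card F) (hodd : Odd (Fintype.card F))
    (M : Subgroup (Matrix.ProjectiveSpecialLinearGroup (Fin 2) F))
    (hM : Nonempty (M ≃* Matrix.ProjectiveSpecialLinearGroup (Fin 2) K) ∨
      Nonempty (M ≃* Matrix.ProjGenLinGroup (Fin 2) K)) : M = ⊤ := by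
  rcases hM with ⟨⟨e⟩⟩ | ⟨⟨e⟩⟩
  · apply (Subgroup.card_eq_iff_eq_top M).mp
    rw [Nat.card_congr e.toEquiv, card_psl2_congr h]
  · exfalso
    have h1 : Nat.card M = Fintype.card F * (Fintype.card F ^ 2 - 1) := by
      rw [Nat.card_congr e.toEquiv, card_pgl2, h]
    have h2 := card_psl2_odd (F := F) hodd
    have h3 : Nat.card M ≤ Nat.card (Matrix.ProjectiveSpecialLinearGroup (Fin 2) F) :=
      Subgroup.card_le_card_group M
    have hpos : 0 < Nat.card (Matrix.ProjectiveSpecialLinearGroup (Fin 2) F) := Nat.card_pos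
    omega

/-- `card K ^ m = p` with `p` prime forces `card K = p` -/
lemma card_eq_of_pow_eq_prime {K : Type} [Field K] [Fintype K] (p m : ℕ) (hp : p.Prime)
    (hKm : Fintype.card K ^ m = p) : Fintype.card K = p := by
  have hm : m ≠ 0 := by
    rintro rfl
    rw [pow_zero] at hKm
    exact hp.one_lt.ne hKm
  have hdvd : Fintype.card K ∣ p := by
    rw [← hKm]; exact dvd_pow_self _ hm
  rcases (Nat.dvd_prime hp).mp hdvd with h | h
  · have := Fintype.one_lt_card (α := K)
    omega
  · exact h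

/-- `5 ∣ p (p² - 1)` for a prime `p` -/
lemma five_dvd_cases (p : ℕ) (hp : p.Prime) (h : 5 ∣ p * (p ^ 2 - 1)) :
    p = 5 ∨ p % 5 = 1 ∨ p % 5 = 4 := by
  rcases (Nat.Prime.dvd_mul (by norm_num : Nat.Prime 5)).mp h with h1 | h1
  · left
    exact ((Nat.prime_dvd_prime_iff_eq (by norm_num) hp).mp h1).symm
  · right
    have hpos : 1 ≤ p ^ 2 := Nat.one_le_pow _ _ hp.pos
    have h2 : p ^ 2 % 5 = 1 := by
      obtain ⟨k, hk⟩ := h1
      omega
    rw [pow_two, Nat.mul_mod] at h2
    have : p % 5 < 5 := Nat.mod_lt _ (by norm_num)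
    interval_cases h5 : p % 5 <;> simp_all

/-- the order of a subfield-type group divides `q (q² - 1)` -/
lemma card_dvd_of_subfield_type {X : Type*} [Group X] {K : Type} [Field K] [Fintype K]
    (hM : Nonempty (X ≃* Matrix.ProjectiveSpecialLinearGroup (Fin 2) K) ∨
      Nonempty (X ≃* Matrix.ProjGenLinGroup (Fin 2) K)) :
    Nat.card X ∣ Fintype.card K * (Fintype.card K ^ 2 - 1) := by
  rcases hM with ⟨⟨e⟩⟩ | ⟨⟨e⟩⟩
  · rw [Nat.card_congr e.toEquiv, ← card_psl2]
    exact dvd_mul_right _ _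
  · rw [Nat.card_congr e.toEquiv, card_pgl2]

lemma nine_pow_mod (r : ℕ) (hr : Odd r) : 9 ^ r % 16 = 9 ∧ 9 ^ r % 5 = 4 := by
  obtain ⟨k, rfl⟩ := hr
  constructor
  · rw [pow_succ, pow_mul, Nat.mul_mod, Nat.pow_mod]
    norm_num
  · rw [pow_succ, pow_mul, Nat.mul_mod, Nat.pow_mod]
    norm_num

/-- the order of a subfield-type group in even characteristic -/
lemma card_of_subfield_type_even {X : Type*} [Group X] {K : Type} [Field K] [Fintype K]
    (heven : Even (Fintype.card K))
    (hM : Nonempty (X ≃* Matrix.ProjectiveSpecialLinearGroup (Fin 2) K) ∨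
      Nonempty (X ≃* Matrix.ProjGenLinGroup (Fin 2) K)) :
    Nat.card X = Fintype.card K * (Fintype.card K ^ 2 - 1) := by
  rcases hM with ⟨⟨e⟩⟩ | ⟨⟨e⟩⟩
  · rw [Nat.card_congr e.toEquiv, card_psl2_even heven]
  · rw [Nat.card_congr e.toEquiv, card_pgl2]

theorem S5938_of_dickson {F : Type*} [Field F] [Fintype F] (p : ℕ) [Fact p.Prime]
    (hF : Fintype.card F = p) (hp : p % 8 = 1 ∨ p % 8 = 7)
    (hD : ∀ [CharP F p] (M : Subgroup (Matrix.ProjectiveSpecialLinearGroup (Fin 2) F)),
      DicksonConcl p p M) :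
    ∃ H : Subgroup (Matrix.ProjectiveSpecialLinearGroup (Fin 2) F),
      IsCoatom H ∧ Nonempty (H ≃* Equiv.Perm (Fin 4)) := by
  haveI : CharP F p := charP_of_card_eq_prime hF
  have hpodd : Odd p := by
    rw [Nat.odd_iff]; omega
  have hp7 : 7 ≤ p := by
    have := (Fact.out : p.Prime).two_le
    by_contra hlt
    push Not at hlt
    interval_cases p <;> omega
  have h16 : p ^ 2 % 16 = 1 := by
    have : p % 16 = 1 ∨ p % 16 = 9 ∨ p % 16 = 7 ∨ p % 16 = 15 := by omega
    rw [pow_two, Nat.mul_mod]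
    rcases this with h | h | h | h <;> rw [h]
  obtain ⟨H, ⟨e⟩⟩ := (Cfsg.Agent.S0803.result hF).mpr h16
  have hcardH : Nat.card H = 24 := by rw [Nat.card_congr e.toEquiv, card_S4]
  have hFodd : Odd (Fintype.card F) := by rw [hF]; exact hpodd
  have hG := card_psl2_odd (F := F) hFodd
  rw [hF] at hG
  have hGbig : 24 < Nat.card (Matrix.ProjectiveSpecialLinearGroup (Fin 2) F) := by
    have h1 : 7 * (7 ^ 2 - 1) ≤ p * (p ^ 2 - 1) :=
      Nat.mul_le_mul hp7 (Nat.sub_le_sub_right (Nat.pow_le_pow_left hp7 2) 1)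
    omega
  refine ⟨H, isCoatom_of_forall H ?_ ?_, ⟨e⟩⟩
  · intro htop
    have := (Subgroup.card_eq_iff_eq_top H).mpr htop
    omega
  · intro M hle
    have h1 : ¬ SqComm H := fun h => not_sqComm_S4 (SqComm.of_equiv e.symm h)
    have h2 : ¬ CommPow p H := fun h => not_commPow_S4 p hpodd (CommPow.of_equiv e.symm h)
    have hdvd : Nat.card H ∣ Nat.card M := Subgroup.card_dvd_of_le hle
    rcases overgroup_cases hF p H M hle (hD M) h1 h2 with ⟨⟨e'⟩⟩ | ⟨⟨e'⟩⟩ | ⟨⟨e'⟩⟩ |
      ⟨K, _, _, m, hKm, hM⟩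
    · exfalso
      rw [hcardH, Nat.card_congr e'.toEquiv, card_A4] at hdvd
      omega
    · left
      symm
      apply Subgroup.eq_of_le_of_card_ge hle
      rw [hcardH, Nat.card_congr e'.toEquiv, card_S4]
    · exfalso
      rw [hcardH, Nat.card_congr e'.toEquiv, card_A5] at hdvd
      omega
    · right
      have hK : Fintype.card K = p := by
        have hm : m ≠ 0 := by
          rintro rfl
          rw [pow_zero] at hKm
          omega
        have hdvd : Fintype.card K ∣ p := by
          rw [← hKm]; exact dvd_pow_self _ hm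
        rcases (Nat.dvd_prime (Fact.out : p.Prime)).mp hdvd with h | h
        · have := Fintype.one_lt_card (α := K)
          omega
        · exact h
      exact top_of_same_card (hK.trans hF.symm) hFodd M hM

theorem S5940_of_dickson {F : Type*} [Field F] [Fintype F] (p : ℕ) [Fact p.Prime]
    (hF : Fintype.card F = p) (h5 : 5 ≤ p) (h8 : p % 8 = 3 ∨ p % 8 = 5)
    (h10 : p % 10 ≠ 1 ∧ p % 10 ≠ 9)
    (hD : ∀ [CharP F p] (M : Subgroup (Matrix.ProjectiveSpecialLinearGroup (Fin 2) F)),
      DicksonConcl p p M) :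
    ∃ H : Subgroup (Matrix.ProjectiveSpecialLinearGroup (Fin 2) F),
      IsCoatom H ∧ Nonempty (H ≃* alternatingGroup (Fin 4)) := by
  haveI : CharP F p := charP_of_card_eq_prime hF
  have hpp : p.Prime := Fact.out
  have hpodd : Odd p := by
    rw [Nat.odd_iff]; omega
  obtain ⟨H, ⟨e⟩⟩ := (Cfsg.Agent.S0802.result (F := F) p 1 (by rw [hF, pow_one])).mpr
    (by rintro ⟨h, -⟩; omega)
  have hcardH : Nat.card H = 12 := by rw [Nat.card_congr e.toEquiv, card_A4]
  have hFodd : Odd (Fintype.card F) := by rw [hF]; exact hpodd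
  have hG := card_psl2_odd (F := F) hFodd
  rw [hF] at hG
  have hGbig : 60 ≤ Nat.card (Matrix.ProjectiveSpecialLinearGroup (Fin 2) F) := by
    have h1 : 5 * (5 ^ 2 - 1) ≤ p * (p ^ 2 - 1) :=
      Nat.mul_le_mul h5 (Nat.sub_le_sub_right (Nat.pow_le_pow_left h5 2) 1)
    omega
  refine ⟨H, isCoatom_of_forall H ?_ ?_, ⟨e⟩⟩
  · intro htop
    have := (Subgroup.card_eq_iff_eq_top H).mpr htop
    omega
  · intro M hle
    have h1 : ¬ SqComm H := fun h => not_sqComm_A4 (SqComm.of_equiv e.symm h)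
    have h2 : ¬ CommPow p H := fun h => not_commPow_A4 p hpodd (CommPow.of_equiv e.symm h)
    rcases overgroup_cases hF p H M hle (hD M) h1 h2 with ⟨⟨e'⟩⟩ | ⟨⟨e'⟩⟩ | ⟨⟨e'⟩⟩ |
      ⟨K, _, _, m, hKm, hM⟩
    · left
      symm
      apply Subgroup.eq_of_le_of_card_ge hle
      rw [hcardH, Nat.card_congr e'.toEquiv, card_A4]
    · exfalso
      have h16 := (Cfsg.Agent.S0803.result hF).mp ⟨M, ⟨e'⟩⟩
      have : p % 16 = 3 ∨ p % 16 = 11 ∨ p % 16 = 5 ∨ p % 16 = 13 := by omega
      rw [pow_two, Nat.mul_mod] at h16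
      rcases this with h | h | h | h <;> rw [h] at h16 <;> omega
    · have h60 := (Cfsg.Agent.S0804.result hF).mp ⟨M, ⟨e'⟩⟩
      rcases five_dvd_cases p hpp h60 with h | h | h
      · right
        apply (Subgroup.card_eq_iff_eq_top M).mp
        rw [Nat.card_congr e'.toEquiv, card_A5]
        subst h
        omega
      · exfalso; rcases Nat.odd_iff.mp hpodd with h2; omega
      · exfalso; rcases Nat.odd_iff.mp hpodd with h2; omega
    · right
      have hK : Fintype.card K = p := card_eq_of_pow_eq_prime p m hpp hKm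
      exact top_of_same_card (hK.trans hF.symm) hFodd M hM

theorem S5939_of_dickson {F : Type*} [Field F] [Fintype F] (p : ℕ) [Fact p.Prime] [CharP F p]
    (h : (Fintype.card F = p ∧ (p % 10 = 1 ∨ p % 10 = 9)) ∨
      (Fintype.card F = p ^ 2 ∧ (p % 10 = 3 ∨ p % 10 = 7)))
    (hD : ∀ (M : Subgroup (Matrix.ProjectiveSpecialLinearGroup (Fin 2) F)),
      DicksonConcl (Fintype.card F) p M) :
    ∃ H : Subgroup (Matrix.ProjectiveSpecialLinearGroup (Fin 2) F),
      IsCoatom H ∧ Nonempty (H ≃* alternatingGroup (Fin 5)) := by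
  have hpp : p.Prime := Fact.out
  have hpodd : Odd p := by
    rw [Nat.odd_iff]; omega
  have hFodd : Odd (Fintype.card F) := by
    rcases h with ⟨h, -⟩ | ⟨h, -⟩
    · rw [h]; exact hpodd
    · rw [h]; exact hpodd.pow
  -- 5 divides q (q^2 - 1)
  have h5 : 5 ∣ Fintype.card F * (Fintype.card F ^ 2 - 1) := by
    rcases h with ⟨h, h'⟩ | ⟨h, h'⟩
    · rw [h]
      apply dvd_mul_of_dvd_right
      have hpos : 1 ≤ p ^ 2 := Nat.one_le_pow _ _ hpp.pos
      have : p ^ 2 % 5 = 1 := by
        have h5 : p % 5 = 1 ∨ p % 5 = 4 := by omega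
        rw [pow_two, Nat.mul_mod]
        rcases h5 with h5 | h5 <;> rw [h5]
      omega
    · rw [h]
      apply dvd_mul_of_dvd_right
      have hpos : 1 ≤ (p ^ 2) ^ 2 := Nat.one_le_pow _ _ (Nat.pow_pos hpp.pos)
      have : (p ^ 2) ^ 2 % 5 = 1 := by
        have h5 : p % 5 = 3 ∨ p % 5 = 2 := by omega
        have h6 : p ^ 2 % 5 = 4 := by
          rw [pow_two, Nat.mul_mod]
          rcases h5 with h5 | h5 <;> rw [h5]
        rw [pow_two (p ^ 2), Nat.mul_mod, h6]
      omega
  obtain ⟨H, ⟨e⟩⟩ := (Cfsg.Agent.S0804.result (F := F) rfl).mpr h5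
  have hcardH : Nat.card H = 60 := by rw [Nat.card_congr e.toEquiv, card_A5]
  have hG := card_psl2_odd (F := F) hFodd
  have hq9 : 9 ≤ Fintype.card F := by
    rcases h with ⟨h, h'⟩ | ⟨h, h'⟩
    · rw [h]
      by_contra hlt
      push Not at hlt
      have := hpp.two_le
      interval_cases p <;> omega
    · rw [h]
      have : 3 ≤ p := by
        by_contra hlt
        push Not at hlt
        have := hpp.two_le
        interval_cases p <;> omega
      calc 9 = 3 ^ 2 := by norm_num
        _ ≤ p ^ 2 := Nat.pow_le_pow_left this 2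
  have hGbig : 60 < Nat.card (Matrix.ProjectiveSpecialLinearGroup (Fin 2) F) := by
    have h1 : 9 * (9 ^ 2 - 1) ≤ Fintype.card F * (Fintype.card F ^ 2 - 1) :=
      Nat.mul_le_mul hq9 (Nat.sub_le_sub_right (Nat.pow_le_pow_left hq9 2) 1)
    omega
  refine ⟨H, isCoatom_of_forall H ?_ ?_, ⟨e⟩⟩
  · intro htop
    have := (Subgroup.card_eq_iff_eq_top H).mpr htop
    omega
  · intro M hle
    have h1 : ¬ SqComm H := fun h => not_sqComm_A5 (SqComm.of_equiv e.symm h)
    have h2 : ¬ CommPow (Fintype.card F) H :=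
      fun h => not_commPow_A5 _ hFodd (CommPow.of_equiv e.symm h)
    have hdvd : Nat.card H ∣ Nat.card M := Subgroup.card_dvd_of_le hle
    rcases overgroup_cases rfl p H M hle (hD M) h1 h2 with ⟨⟨e'⟩⟩ | ⟨⟨e'⟩⟩ | ⟨⟨e'⟩⟩ |
      ⟨K, _, _, m, hKm, hM⟩
    · exfalso
      rw [hcardH, Nat.card_congr e'.toEquiv, card_A4] at hdvd
      omega
    · exfalso
      rw [hcardH, Nat.card_congr e'.toEquiv, card_S4] at hdvd
      omega
    · left
      symm
      apply Subgroup.eq_of_le_of_card_ge hle
      rw [hcardH, Nat.card_congr e'.toEquiv, card_A5]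
    · right
      rcases h with ⟨h, h'⟩ | ⟨h, h'⟩
      · have hK : Fintype.card K = p := card_eq_of_pow_eq_prime p m hpp (hKm.trans h)
        exact top_of_same_card (hK.trans h.symm) hFodd M hM
      · -- card K = p or p^2
        have hm : m ≠ 0 := by
          rintro rfl
          rw [pow_zero] at hKm
          omega
        have hdvdK : Fintype.card K ∣ p ^ 2 := by
          rw [← h, ← hKm]; exact dvd_pow_self _ hm
        obtain ⟨i, hi, hKi⟩ := (Nat.dvd_prime_pow hpp).mp hdvdK
        have hK1 := Fintype.one_lt_card (α := K)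
        interval_cases i
        · rw [pow_zero] at hKi; omega
        · exfalso
          rw [pow_one] at hKi
          have h3 := card_dvd_of_subfield_type hM
          rw [hKi] at h3
          have h4 : 5 ∣ p * (p ^ 2 - 1) :=
            dvd_trans (dvd_trans (by norm_num : 5 ∣ 60) (hcardH ▸ hdvd)) h3
          rcases five_dvd_cases p hpp h4 with h6 | h6 | h6 <;> omega
        · exact top_of_same_card (hKi.trans h.symm) hFodd M hM

theorem S5942_of_dickson {F K : Type*} [Field F] [Fintype F] [Field K] [Fintype K] (q r : ℕ)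
    (hK : Fintype.card K = q) (hF : Fintype.card F = q ^ r) (hq : Odd q) (hr : r.Prime)
    (hr2 : r ≠ 2)
    (hD : ∀ (p : ℕ) [Fact p.Prime] [CharP F p]
      (M : Subgroup (Matrix.ProjectiveSpecialLinearGroup (Fin 2) F)), DicksonConcl (q ^ r) p M) :
    ∃ H : Subgroup (Matrix.ProjectiveSpecialLinearGroup (Fin 2) F),
      IsCoatom H ∧ Nonempty (H ≃* Matrix.ProjectiveSpecialLinearGroup (Fin 2) K) := by
  obtain ⟨p, hchar⟩ := CharP.exists F
  haveI := hchar
  have hpp : p.Prime := CharP.char_is_prime F p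
  haveI : Fact p.Prime := ⟨hpp⟩
  have hq3 : 3 ≤ q := by
    have := Fintype.one_lt_card (α := K)
    rcases Nat.odd_iff.mp hq with h
    omega
  have hrodd : Odd r := hr.odd_of_ne_two hr2
  have hFodd : Odd (Fintype.card F) := by rw [hF]; exact hq.pow
  obtain ⟨H, ⟨e⟩⟩ := (Cfsg.Agent.S0805.result (F := F) (K := K) hF hq.pow r hr.one_le
    (by rw [hK])).1
  have hH2 : 2 * Nat.card H = q * (q ^ 2 - 1) := by
    rw [Nat.card_congr e.toEquiv, card_psl2_odd (F := K) (by rw [hK]; exact hq), hK]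
  have hG := card_psl2_odd (F := F) hFodd
  -- q^2 - 1 = 2 s
  obtain ⟨s, hs⟩ : ∃ s, q ^ 2 - 1 = 2 * s := by
    obtain ⟨k, rfl⟩ := hq
    refine ⟨2 * k ^ 2 + 2 * k, ?_⟩
    have : (2 * k + 1) ^ 2 = 2 * (2 * k ^ 2 + 2 * k) + 1 := by ring
    omega
  have hHs : Nat.card H = q * s := by
    have : 2 * Nat.card H = 2 * (q * s) := by rw [hH2, hs]; ring
    omega
  have hqs : q - 1 < s := by
    have h1 : 3 * q ≤ q * q := Nat.mul_le_mul_right q hq3
    have h2 : q ^ 2 = q * q := pow_two q
    omega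
  have hqlt : q < Fintype.card F := by
    rw [hF]
    calc q = q ^ 1 := (pow_one q).symm
      _ < q ^ r := Nat.pow_lt_pow_right (by omega) hr.one_lt
  refine ⟨H, isCoatom_of_forall H ?_ ?_, ⟨e⟩⟩
  · intro htop
    have h1 := (Subgroup.card_eq_iff_eq_top H).mpr htop
    have h2 : q * (q ^ 2 - 1) < Fintype.card F * (Fintype.card F ^ 2 - 1) := by
      have h3 : q ^ 2 < Fintype.card F ^ 2 := Nat.pow_lt_pow_left hqlt (by norm_num)
      have h4 : 1 ≤ q ^ 2 := Nat.one_le_pow _ _ (by omega)
      exact Nat.mul_lt_mul_of_lt_of_le hqlt (by omega) (by omega)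
    omega
  · intro M hle
    have h1 : ¬ SqComm H := fun h =>
      not_sqComm_psl2_of_card (F := K) (by rw [hK]; exact hq3) (SqComm.of_equiv e.symm h)
    have h2 : ¬ CommPow (q ^ r) H := fun h => by
      have := not_commPow_psl2 (F := K) r
      rw [hK] at this
      exact this (CommPow.of_equiv e.symm h)
    have hdvd : Nat.card H ∣ Nat.card M := Subgroup.card_dvd_of_le hle
    have hq357 : q = 3 ∨ q = 5 ∨ 7 ≤ q := by
      rcases Nat.odd_iff.mp hq with h
      omega
    have hbig : 7 ≤ q → 168 ≤ Nat.card H := by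
      intro h7
      have h1 : 7 * (7 ^ 2 - 1) ≤ q * (q ^ 2 - 1) :=
        Nat.mul_le_mul h7 (Nat.sub_le_sub_right (Nat.pow_le_pow_left h7 2) 1)
      omega
    rcases overgroup_cases hF p H M hle (hD p M) h1 h2 with ⟨⟨e'⟩⟩ | ⟨⟨e'⟩⟩ | ⟨⟨e'⟩⟩ |
      ⟨K', _, _, m, hKm, hM⟩
    · -- A4
      have hM12 : Nat.card M = 12 := by rw [Nat.card_congr e'.toEquiv, card_A4]
      rcases hq357 with h3 | h5 | h7
      · left; symm
        apply Subgroup.eq_of_le_of_card_ge hle
        subst h3; omega
      · exfalso; subst h5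
        have : Nat.card H = 60 := by omega
        rw [this, hM12] at hdvd; omega
      · exfalso
        have := hbig h7
        have := Nat.le_of_dvd (by omega) hdvd
        omega
    · -- S4
      have hM24 : Nat.card M = 24 := by rw [Nat.card_congr e'.toEquiv, card_S4]
      rcases hq357 with h3 | h5 | h7
      · exfalso
        have h16 := (Cfsg.Agent.S0803.result hF).mp ⟨M, ⟨e'⟩⟩
        subst h3
        rw [← pow_mul, mul_comm, pow_mul] at h16
        have := (nine_pow_mod r hrodd).1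
        norm_num at h16
        omega
      · exfalso; subst h5
        have : Nat.card H = 60 := by omega
        rw [this, hM24] at hdvd; omega
      · exfalso
        have := hbig h7
        have := Nat.le_of_dvd (by omega) hdvd
        omega
    · -- A5
      have hM60 : Nat.card M = 60 := by rw [Nat.card_congr e'.toEquiv, card_A5]
      rcases hq357 with h3 | h5 | h7
      · exfalso
        have h60 := (Cfsg.Agent.S0804.result hF).mp ⟨M, ⟨e'⟩⟩
        subst h3
        rcases (Nat.Prime.dvd_mul (by norm_num : Nat.Prime 5)).mp h60 with h | h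
        · have := Nat.Prime.dvd_of_dvd_pow (by norm_num : Nat.Prime 5) h
          omega
        · rw [← pow_mul, mul_comm, pow_mul] at h
          have h9 := (nine_pow_mod r hrodd).2
          norm_num at h
          have hpos : 1 ≤ 9 ^ r := Nat.one_le_pow _ _ (by norm_num)
          omega
      · left; symm
        apply Subgroup.eq_of_le_of_card_ge hle
        subst h5; omega
      · exfalso
        have := hbig h7
        have := Nat.le_of_dvd (by omega) hdvd
        omega
    · -- subfield type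
      obtain ⟨a, ha1, hqa⟩ := exists_pow_eq_of_pow_eq_card (F := F) p q r (by omega) hF.symm
      have hK'2 := Fintype.one_lt_card (α := K')
      obtain ⟨b, hb1, hqb⟩ := exists_pow_eq_of_pow_eq_card (F := F) p (Fintype.card K') m
        (by omega) (hKm.trans hF.symm)
      have h3 := card_dvd_of_subfield_type hM
      have h4 : s ∣ Fintype.card K' * (Fintype.card K' ^ 2 - 1) :=
        dvd_trans (dvd_trans (Dvd.intro_left q hHs.symm) hdvd) h3
      have hs1 : s ∣ p ^ (2 * a) - 1 := by
        have : p ^ (2 * a) = q ^ 2 := by rw [hqa]; ring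
        rw [this, hs]; exact dvd_mul_left s 2
      have hcop : Nat.Coprime s (Fintype.card K') := by
        rw [hqb]
        exact Nat.Coprime.coprime_dvd_left hs1 (coprime_pow_sub_one p hpp (2 * a) b (by omega))
      have hs2 : s ∣ p ^ (2 * b) - 1 := by
        have : p ^ (2 * b) = Fintype.card K' ^ 2 := by rw [hqb]; ring
        rw [this]
        exact hcop.dvd_of_dvd_mul_left h4
      have hab : a ∣ b := dvd_of_dvd_pow_sub_one p a b hpp.two_le ha1 s hs1 hs2
        (by rw [← hqa]; exact hqs)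
      have hexp : (p ^ b) ^ m = (p ^ a) ^ r := by rw [← hqb, ← hqa]; exact hKm
      rcases exponent_cases p a b m r hpp.two_le ha1 hb1 hr hab hexp with ⟨hba, hmr⟩ | hbar
      · left
        have hK'q : Fintype.card K' = Fintype.card K := by rw [hqb, hba, ← hqa, hK]
        rcases hM with ⟨⟨e'⟩⟩ | ⟨⟨e'⟩⟩
        · symm
          apply Subgroup.eq_of_le_of_card_ge hle
          rw [Nat.card_congr e'.toEquiv, Nat.card_congr e.toEquiv, card_psl2_congr hK'q]
        · exfalso
          have := Cfsg.Agent.S0805.even_of_pgl (F := F) (K := K') hFodd m (by rw [hmr]; exact hr.one_le)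
            (hKm.trans hF.symm) M e'
          rw [hmr] at this
          exact hr2 ((Nat.Prime.even_iff hr).mp this)
      · right
        have hK'F : Fintype.card K' = Fintype.card F := by
          rw [hqb, hbar, pow_mul, ← hqa, hF]
        exact top_of_same_card hK'F hFodd M hM

theorem S5943_of_dickson {F K : Type*} [Field F] [Fintype F] [Field K] [Fintype K] (q r : ℕ)
    (hK : Fintype.card K = q) (hF : Fintype.card F = q ^ r) (hq : Even q) (hq2 : q ≠ 2)
    (hr : r.Prime)
    (hD : ∀ (p : ℕ) [Fact p.Prime] [CharP F p]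
      (M : Subgroup (Matrix.ProjectiveSpecialLinearGroup (Fin 2) F)), DicksonConcl (q ^ r) p M) :
    ∃ H : Subgroup (Matrix.ProjectiveSpecialLinearGroup (Fin 2) F),
      IsCoatom H ∧ Nonempty (H ≃* Matrix.ProjectiveSpecialLinearGroup (Fin 2) K) := by
  obtain ⟨p, hchar⟩ := CharP.exists F
  haveI := hchar
  have hpp : p.Prime := CharP.char_is_prime F p
  haveI : Fact p.Prime := ⟨hpp⟩
  have hq4 : 4 ≤ q := by
    have := Fintype.one_lt_card (α := K)
    rcases Nat.even_iff.mp hq with h
    omega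
  have hFeven : Even (Fintype.card F) := by
    rw [hF]; exact (Nat.even_pow.mpr ⟨hq, hr.ne_zero⟩)
  obtain ⟨f⟩ := Cfsg.Agent.S0805.exists_ringHom (F := F) (K := K) r hr.one_le (by rw [hK, hF])
  obtain ⟨H, ⟨e⟩⟩ := Cfsg.Agent.S0805.exists_psl f
  have hH : Nat.card H = q * (q ^ 2 - 1) := by
    rw [Nat.card_congr e.toEquiv, card_psl2_even (F := K) (by rw [hK]; exact hq), hK]
  have hG := card_psl2_even (F := F) hFeven
  have hqlt : q < Fintype.card F := by
    rw [hF]
    calc q = q ^ 1 := (pow_one q).symm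
      _ < q ^ r := Nat.pow_lt_pow_right (by omega) hr.one_lt
  have hq21 : 1 ≤ q ^ 2 := Nat.one_le_pow _ _ (by omega)
  refine ⟨H, isCoatom_of_forall H ?_ ?_, ⟨e⟩⟩
  · intro htop
    have h1 := (Subgroup.card_eq_iff_eq_top H).mpr htop
    have h2 : q * (q ^ 2 - 1) < Fintype.card F * (Fintype.card F ^ 2 - 1) := by
      have h3 : q ^ 2 < Fintype.card F ^ 2 := Nat.pow_lt_pow_left hqlt (by norm_num)
      exact Nat.mul_lt_mul_of_lt_of_le hqlt (by omega) (by omega)
    omega
  · intro M hle
    have h1 : ¬ SqComm H := fun h =>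
      not_sqComm_psl2_of_card (F := K) (by rw [hK]; omega) (SqComm.of_equiv e.symm h)
    have h2 : ¬ CommPow (q ^ r) H := fun h => by
      have := not_commPow_psl2 (F := K) r
      rw [hK] at this
      exact this (CommPow.of_equiv e.symm h)
    have hdvd : Nat.card H ∣ Nat.card M := Subgroup.card_dvd_of_le hle
    have hbig : 60 ≤ Nat.card H := by
      have h1 : 4 * (4 ^ 2 - 1) ≤ q * (q ^ 2 - 1) :=
        Nat.mul_le_mul hq4 (Nat.sub_le_sub_right (Nat.pow_le_pow_left hq4 2) 1)
      omega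
    rcases overgroup_cases hF p H M hle (hD p M) h1 h2 with ⟨⟨e'⟩⟩ | ⟨⟨e'⟩⟩ | ⟨⟨e'⟩⟩ |
      ⟨K', _, _, m, hKm, hM⟩
    · exfalso
      have hM12 : Nat.card M = 12 := by rw [Nat.card_congr e'.toEquiv, card_A4]
      have := Nat.le_of_dvd (by omega) hdvd
      omega
    · exfalso
      have hM24 : Nat.card M = 24 := by rw [Nat.card_congr e'.toEquiv, card_S4]
      have := Nat.le_of_dvd (by omega) hdvd
      omega
    · have hM60 : Nat.card M = 60 := by rw [Nat.card_congr e'.toEquiv, card_A5]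
      have := Nat.le_of_dvd (by omega) hdvd
      left; symm
      apply Subgroup.eq_of_le_of_card_ge hle
      omega
    · obtain ⟨a, ha1, hqa⟩ := exists_pow_eq_of_pow_eq_card (F := F) p q r (by omega) hF.symm
      have hK'2 := Fintype.one_lt_card (α := K')
      obtain ⟨b, hb1, hqb⟩ := exists_pow_eq_of_pow_eq_card (F := F) p (Fintype.card K') m
        (by omega) (hKm.trans hF.symm)
      -- p = 2
      have hp2 : p = 2 := by
        have : 2 ∣ p ^ a := by rw [← hqa]; exact hq.two_dvd
        exact ((Nat.prime_dvd_prime_iff_eq Nat.prime_two hpp).mp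
          (Nat.Prime.dvd_of_dvd_pow Nat.prime_two this)).symm
      have hK'even : Even (Fintype.card K') := by
        rw [hqb, hp2]; exact (Nat.even_pow.mpr ⟨even_two, by omega⟩)
      have hMcard := card_of_subfield_type_even hK'even hM
      set s := q ^ 2 - 1 with hs
      have h4 : s ∣ Fintype.card K' * (Fintype.card K' ^ 2 - 1) := by
        rw [← hMcard]
        exact dvd_trans (Dvd.intro_left q hH.symm) hdvd
      have hs1 : s ∣ p ^ (2 * a) - 1 := by
        have : p ^ (2 * a) = q ^ 2 := by rw [hqa]; ring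
        rw [this]
      have hcop : Nat.Coprime s (Fintype.card K') := by
        rw [hqb]
        exact Nat.Coprime.coprime_dvd_left hs1 (coprime_pow_sub_one p hpp (2 * a) b (by omega))
      have hs2 : s ∣ p ^ (2 * b) - 1 := by
        have : p ^ (2 * b) = Fintype.card K' ^ 2 := by rw [hqb]; ring
        rw [this]
        exact hcop.dvd_of_dvd_mul_left h4
      have hqs : q - 1 < s := by
        have h1 : 4 * q ≤ q * q := Nat.mul_le_mul_right q hq4
        have h2 : q ^ 2 = q * q := pow_two q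
        omega
      have hab : a ∣ b := dvd_of_dvd_pow_sub_one p a b hpp.two_le ha1 s hs1 hs2
        (by rw [← hqa]; exact hqs)
      have hexp : (p ^ b) ^ m = (p ^ a) ^ r := by rw [← hqb, ← hqa]; exact hKm
      rcases exponent_cases p a b m r hpp.two_le ha1 hb1 hr hab hexp with ⟨hba, hmr⟩ | hbar
      · left
        have hK'q : Fintype.card K' = q := by rw [hqb, hba, ← hqa]
        symm
        apply Subgroup.eq_of_le_of_card_ge hle
        rw [hMcard, hH, hK'q]
      · right
        have hK'F : Fintype.card K' = Fintype.card F := by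
          rw [hqb, hbar, pow_mul, ← hqa, hF]
        apply (Subgroup.card_eq_iff_eq_top M).mp
        rw [hMcard, hG, hK'F]

theorem S5941_of_dickson {F K : Type*} [Field F] [Fintype F] [Field K] [Fintype K] (q : ℕ)
    (hK : Fintype.card K = q) (hF : Fintype.card F = q ^ 2) (hq : Odd q)
    (hD : ∀ (p : ℕ) [Fact p.Prime] [CharP F p]
      (M : Subgroup (Matrix.ProjectiveSpecialLinearGroup (Fin 2) F)), DicksonConcl (q ^ 2) p M) :
    ∃ H : Subgroup (Matrix.ProjectiveSpecialLinearGroup (Fin 2) F),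
      IsCoatom H ∧ Nonempty (H ≃* Matrix.ProjGenLinGroup (Fin 2) K) := by
  obtain ⟨p, hchar⟩ := CharP.exists F
  haveI := hchar
  have hpp : p.Prime := CharP.char_is_prime F p
  haveI : Fact p.Prime := ⟨hpp⟩
  have hq3 : 3 ≤ q := by
    have := Fintype.one_lt_card (α := K)
    rcases Nat.odd_iff.mp hq with h
    omega
  have hFodd : Odd (Fintype.card F) := by rw [hF]; exact hq.pow
  obtain ⟨H, ⟨e⟩⟩ := (Cfsg.Agent.S0805.result (F := F) (K := K) hF hq.pow 2 (by norm_num)
    (by rw [hK])).2.mpr even_two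
  have hH : Nat.card H = q * (q ^ 2 - 1) := by
    rw [Nat.card_congr e.toEquiv, card_pgl2, hK]
  have hG := card_psl2_odd (F := F) hFodd
  rw [hF] at hG
  have hq21 : 1 ≤ q ^ 2 := Nat.one_le_pow _ _ (by omega)
  have hbig : 24 ≤ Nat.card H := by
    have h1 : 3 * (3 ^ 2 - 1) ≤ q * (q ^ 2 - 1) :=
      Nat.mul_le_mul hq3 (Nat.sub_le_sub_right (Nat.pow_le_pow_left hq3 2) 1)
    omega
  -- the embedding PSL₂(K) → PGL₂(K) → H
  have hinj := Matrix.ProjectiveSpecialLinearGroup.toPGL_injective (n := Fin 2) (R := K)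
  refine ⟨H, isCoatom_of_forall H ?_ ?_, ⟨e⟩⟩
  · intro htop
    have h1 := (Subgroup.card_eq_iff_eq_top H).mpr htop
    -- 2 q (q^2-1) < q^2 (q^4 - 1)
    have h2 : 2 * (q * (q ^ 2 - 1)) < q ^ 2 * ((q ^ 2) ^ 2 - 1) := by
      have h3 : q ≤ q ^ 2 := by
        calc q = q ^ 1 := (pow_one q).symm
          _ ≤ q ^ 2 := Nat.pow_le_pow_right (by omega) (by norm_num)
      have h4 : 9 ≤ q ^ 2 := by
        calc 9 = 3 ^ 2 := by norm_num
          _ ≤ q ^ 2 := Nat.pow_le_pow_left hq3 2
      have h5 : 2 * (q ^ 2 - 1) < (q ^ 2) ^ 2 - 1 := by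
        have : 9 * q ^ 2 ≤ q ^ 2 * q ^ 2 := Nat.mul_le_mul_right _ h4
        have h6 : (q ^ 2) ^ 2 = q ^ 2 * q ^ 2 := pow_two _
        omega
      calc 2 * (q * (q ^ 2 - 1)) = q * (2 * (q ^ 2 - 1)) := by ring
        _ ≤ q ^ 2 * (2 * (q ^ 2 - 1)) := Nat.mul_le_mul_right _ h3
        _ < q ^ 2 * ((q ^ 2) ^ 2 - 1) := Nat.mul_lt_mul_of_pos_left h5 (by omega)
    omega
  · intro M hle
    have h1 : ¬ SqComm H := fun h =>
      not_sqComm_psl2_of_card (F := K) (by rw [hK]; exact hq3)
        (SqComm.of_injective _ hinj (SqComm.of_equiv e.symm h))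
    have h2 : ¬ CommPow (q ^ 2) H := fun h => by
      have := not_commPow_psl2 (F := K) 2
      rw [hK] at this
      exact this (CommPow.of_injective _ hinj (CommPow.of_equiv e.symm h))
    have hdvd : Nat.card H ∣ Nat.card M := Subgroup.card_dvd_of_le hle
    have hq35 : q = 3 ∨ 5 ≤ q := by
      rcases Nat.odd_iff.mp hq with h
      omega
    have hbig5 : 5 ≤ q → 120 ≤ Nat.card H := by
      intro h5
      have h1 : 5 * (5 ^ 2 - 1) ≤ q * (q ^ 2 - 1) :=
        Nat.mul_le_mul h5 (Nat.sub_le_sub_right (Nat.pow_le_pow_left h5 2) 1)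
      omega
    rcases overgroup_cases hF p H M hle (hD p M) h1 h2 with ⟨⟨e'⟩⟩ | ⟨⟨e'⟩⟩ | ⟨⟨e'⟩⟩ |
      ⟨K', _, _, m, hKm, hM⟩
    · exfalso
      have hM12 : Nat.card M = 12 := by rw [Nat.card_congr e'.toEquiv, card_A4]
      have := Nat.le_of_dvd (by omega) hdvd
      omega
    · have hM24 : Nat.card M = 24 := by rw [Nat.card_congr e'.toEquiv, card_S4]
      have := Nat.le_of_dvd (by omega) hdvd
      left; symm
      apply Subgroup.eq_of_le_of_card_ge hle
      omega
    · exfalso
      have hM60 : Nat.card M = 60 := by rw [Nat.card_congr e'.toEquiv, card_A5]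
      rcases hq35 with h3 | h5
      · subst h3
        rw [hH, hM60] at hdvd
        omega
      · have := hbig5 h5
        have := Nat.le_of_dvd (by omega) hdvd
        omega
    · obtain ⟨a, ha1, hqa⟩ := exists_pow_eq_of_pow_eq_card (F := F) p q 2 (by omega) hF.symm
      have hK'2 := Fintype.one_lt_card (α := K')
      obtain ⟨b, hb1, hqb⟩ := exists_pow_eq_of_pow_eq_card (F := F) p (Fintype.card K') m
        (by omega) (hKm.trans hF.symm)
      have h3 := card_dvd_of_subfield_type hM
      have h4 : q ∣ Fintype.card K' * (Fintype.card K' ^ 2 - 1) :=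
        dvd_trans (dvd_trans (Dvd.intro _ hH.symm) hdvd) h3
      have hcop : Nat.Coprime q (Fintype.card K' ^ 2 - 1) := by
        have : Fintype.card K' ^ 2 = p ^ (2 * b) := by rw [hqb]; ring
        rw [this, hqa]
        exact (coprime_pow_sub_one p hpp (2 * b) a (by omega)).symm
      have h5 : q ∣ Fintype.card K' := hcop.dvd_of_dvd_mul_right h4
      have hab : a ≤ b := by
        rw [hqa, hqb] at h5
        exact (Nat.pow_dvd_pow_iff_le_right hpp.one_lt).mp h5
      have hexp : b * m = a * 2 := by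
        have : (p ^ b) ^ m = (p ^ a) ^ 2 := by rw [← hqb, ← hqa]; exact hKm
        rw [← pow_mul, ← pow_mul] at this
        exact Nat.pow_right_injective hpp.two_le this
      have hm12 : (m = 1 ∧ b = 2 * a) ∨ (m = 2 ∧ b = a) := by
        have hm3 : m = 0 ∨ m = 1 ∨ m = 2 ∨ 3 ≤ m := by omega
        rcases hm3 with rfl | rfl | rfl | hm3
        · omega
        · left; omega
        · right; omega
        · exfalso
          have : b * 3 ≤ b * m := Nat.mul_le_mul_left b hm3
          omega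
      rcases hm12 with ⟨-, hb⟩ | ⟨-, hb⟩
      · right
        have hK'F : Fintype.card K' = Fintype.card F := by
          rw [hqb, hb, hF, hqa]; ring
        exact top_of_same_card hK'F hFodd M hM
      · left
        have hK'q : Fintype.card K' = q := by rw [hqb, hb, ← hqa]
        rcases hM with ⟨⟨e'⟩⟩ | ⟨⟨e'⟩⟩
        · exfalso
          have h6 : 2 * Nat.card M = q * (q ^ 2 - 1) := by
            rw [Nat.card_congr e'.toEquiv, card_psl2_odd (F := K') (by rw [hK'q]; exact hq), hK'q]
          have := Nat.le_of_dvd Nat.card_pos hdvd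
          omega
        · symm
          apply Subgroup.eq_of_le_of_card_ge hle
          rw [Nat.card_congr e'.toEquiv, card_pgl2, hK'q, hH]

end Cfsg.Agent.Lib.Helper98.DicksonRows
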