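import Mathlib

set_option autoImplicit false
set_option linter.unusedSimpArgs false
set_option linter.unusedSectionVars false
set_option linter.unusedVariables false
set_option linter.style.haveILetI false

/-!
# S5949 (helper98): counting `m`-dimensional subspaces
-/

namespace Cfsg.Agent.Lib.Helper98.Elus

open Module

variable {F : Type*} [Field F] [Fintype F]

/-- the span map from linearly independent `m`-tuples to `m`-dimensional subspaces -/
noncomputable def spanMap {V : Type*} [AddCommGroup V] [Module F V] (m : ℕ)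
    (s : {s : Fin m → V // LinearIndependent F s}) : {W : Submodule F V // finrank F W = m} :=
  ⟨Submodule.span F (Set.range s.1), by
    rw [finrank_span_eq_card s.2]; simp⟩

/-- the fibre of the span map over `W` is the set of ordered bases of `W` -/
noncomputable def fiberEquiv {V : Type*} [AddCommGroup V] [Module F V] [Module.Finite F V] (m : ℕ)
    (W : {W : Submodule F V // finrank F W = m}) :
    {s : {s : Fin m → V // LinearIndependent F s} // spanMap m s = W} ≃
      {t : Fin m → W.1 // LinearIndependent F t} where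
  toFun s := ⟨fun j => ⟨s.1.1 j, by
      have h := congrArg Subtype.val s.2
      simp only [spanMap] at h
      rw [← h]
      exact Submodule.subset_span ⟨j, rfl⟩⟩, by
    apply LinearIndependent.of_comp W.1.subtype
    exact s.1.2⟩
  invFun t := ⟨⟨fun j => (t.1 j : V), t.2.map' W.1.subtype (Submodule.ker_subtype _)⟩, by
    apply Subtype.ext
    simp only [spanMap]
    have h1 : Submodule.span F (Set.range t.1) = ⊤ := by
      apply LinearIndependent.span_eq_top_of_card_eq_finrank' t.2
      simp [W.2]
    have h2 : Set.range (fun j => (t.1 j : V)) = W.1.subtype '' Set.range t.1 := by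
      ext v
      simp
    rw [h2, Submodule.span_image, h1, Submodule.map_top, Submodule.range_subtype]⟩
  left_inv s := by
    apply Subtype.ext
    apply Subtype.ext
    rfl
  right_inv t := by
    apply Subtype.ext
    rfl

theorem card_subspaces_mul {V : Type*} [AddCommGroup V] [Module F V] [Finite V] (m : ℕ) :
    Nat.card {W : Submodule F V // finrank F W = m} *
        ∏ j : Fin m, (Fintype.card F ^ m - Fintype.card F ^ (j : ℕ)) =
      Nat.card {s : Fin m → V // LinearIndependent F s} := by
  classical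
  haveI : Module.Finite F V := Module.Finite.of_finite
  haveI : Finite {W : Submodule F V // finrank F W = m} := by
    apply Finite.of_injective (fun W => (W.1 : Set V))
    intro a b h
    exact Subtype.ext (SetLike.coe_injective h)
  haveI : Fintype {W : Submodule F V // finrank F W = m} := Fintype.ofFinite _
  rw [Nat.card_congr (Equiv.sigmaFiberEquiv (spanMap (F := F) (V := V) m)).symm, Nat.card_sigma]
  have h : ∀ W : {W : Submodule F V // finrank F W = m},
      Nat.card {s : {s : Fin m → V // LinearIndependent F s} // spanMap m s = W} =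
        ∏ j : Fin m, (Fintype.card F ^ m - Fintype.card F ^ (j : ℕ)) := by
    intro W
    rw [Nat.card_congr (fiberEquiv m W)]
    have := card_linearIndependent (K := F) (V := W.1) (k := m) (by rw [W.2])
    rw [this, W.2]
  simp only [h, Finset.sum_const, Finset.card_univ, smul_eq_mul, Nat.card_eq_fintype_card]



/-- main counting identity on `Fin n → F` -/
theorem card_subspaces_fin (n m : ℕ) (hmn : m ≤ n) :
    Nat.card {W : Submodule F (Fin n → F) // finrank F W = m} *
        ∏ j : Fin m, (Fintype.card F ^ m - Fintype.card F ^ (j : ℕ)) =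
      ∏ j : Fin m, (Fintype.card F ^ n - Fintype.card F ^ (j : ℕ)) := by
  rw [card_subspaces_mul]
  have := card_linearIndependent (K := F) (V := Fin n → F) (k := m) (by simpa using hmn)
  rw [this]
  simp

theorem prod_split (q a m : ℕ) (hq : 1 ≤ q) (ha : m ≤ a) :
    ∏ j : Fin m, (q ^ a - q ^ (j : ℕ)) = (∏ j : Fin m, q ^ (j : ℕ)) * ∏ j : Fin m, (q ^ (a - (j : ℕ)) - 1) := by
  rw [← Finset.prod_mul_distrib]
  apply Finset.prod_congr rfl
  intro j _
  have hj : (j : ℕ) ≤ a := le_trans (le_of_lt j.2) ha
  rw [Nat.mul_sub, mul_one, ← pow_add, Nat.add_sub_cancel' hj]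

/-- the number of `m`-spaces is not divisible by the characteristic -/
theorem not_dvd_card_subspaces {p : ℕ} [Fact p.Prime] [CharP F p] (n m : ℕ) (hmn : m ≤ n) :
    ¬ p ∣ Nat.card {W : Submodule F (Fin n → F) // finrank F W = m} := by
  set q := Fintype.card F with hq
  have hq1 : 1 ≤ q := Fintype.card_pos
  have hpq : p ∣ q := by
    obtain ⟨f, hpp, hf⟩ := FiniteField.card F p
    rw [hq, hf]
    exact dvd_pow_self p f.ne_zero
  have h := card_subspaces_fin (F := F) n m hmn
  rw [prod_split q m m hq1 le_rfl, prod_split q n m hq1 hmn] at h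
  have hpos : 0 < ∏ j : Fin m, q ^ (j : ℕ) := Finset.prod_pos (fun j _ => pow_pos hq1 _)
  have h2 : Nat.card {W : Submodule F (Fin n → F) // finrank F W = m} *
      ∏ j : Fin m, (q ^ (m - (j : ℕ)) - 1) = ∏ j : Fin m, (q ^ (n - (j : ℕ)) - 1) := by
    apply Nat.eq_of_mul_eq_mul_left hpos
    rw [← h]; ring
  have hcast : ∀ k : ℕ, 1 ≤ k → (((q ^ k - 1 : ℕ)) : ZMod p) = -1 := by
    intro k hk
    rw [Nat.cast_sub (Nat.one_le_pow _ _ hq1)]
    have : ((q ^ k : ℕ) : ZMod p) = 0 := by
      rw [ZMod.natCast_eq_zero_iff]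
      exact dvd_trans hpq (dvd_pow_self q (by omega))
    rw [this]; simp
  have h3 := congrArg (fun x : ℕ => (x : ZMod p)) h2
  simp only [Nat.cast_mul, Nat.cast_prod] at h3
  have e1 : ∀ j : Fin m, (((q ^ (m - (j : ℕ)) - 1 : ℕ)) : ZMod p) = -1 :=
    fun j => hcast _ (by have := j.2; omega)
  have e2 : ∀ j : Fin m, (((q ^ (n - (j : ℕ)) - 1 : ℕ)) : ZMod p) = -1 :=
    fun j => hcast _ (by have := j.2; omega)
  simp only [e1, e2] at h3
  intro hdvd
  rw [← ZMod.natCast_eq_zero_iff] at hdvd
  rw [hdvd, zero_mul] at h3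
  simp only [Finset.prod_const, Finset.card_univ, Fintype.card_fin] at h3
  have h4 : ((-1 : ZMod p) ^ m) ≠ 0 := pow_ne_zero _ (by simp)
  exact h4 h3.symm

/-- if `r ≠ p` divides the number of `m`-spaces then `ord_r(q)` divides `n - j` for some `j < m`. -/
theorem exists_dvd_of_dvd_card_subspaces {p : ℕ} [Fact p.Prime] [CharP F p] (n m : ℕ) (hmn : m ≤ n)
    (r : ℕ) [Fact r.Prime] (hrp : r ≠ p)
    (hr : r ∣ Nat.card {W : Submodule F (Fin n → F) // finrank F W = m}) :
    ∃ j < m, orderOf ((Fintype.card F : ℕ) : ZMod r) ∣ n - j := by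
  set q := Fintype.card F with hq
  have hq1 : 1 ≤ q := Fintype.card_pos
  have hrq : ¬ r ∣ q := by
    obtain ⟨f, hpp, hf⟩ := FiniteField.card F p
    rw [hq, hf]
    intro h
    have := (Fact.out : r.Prime).dvd_of_dvd_pow h
    rw [Nat.prime_dvd_prime_iff_eq Fact.out hpp] at this
    exact hrp this
  have h := card_subspaces_fin (F := F) n m hmn
  have h1 : r ∣ ∏ j : Fin m, (q ^ n - q ^ (j : ℕ)) := by
    rw [← h]; exact dvd_mul_of_dvd_left hr _
  rw [(Fact.out : r.Prime).prime.dvd_finsetProd_iff] at h1
  obtain ⟨j, _, hj⟩ := h1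
  refine ⟨j, j.2, ?_⟩
  have hjn : (j : ℕ) ≤ n := le_trans (le_of_lt j.2) hmn
  have h2 : q ^ n - q ^ (j : ℕ) = q ^ (j : ℕ) * (q ^ (n - j) - 1) := by
    rw [Nat.mul_sub, mul_one, ← pow_add, Nat.add_sub_cancel' hjn]
  rw [h2] at hj
  have h3 : r ∣ q ^ (n - j) - 1 := by
    rcases (Fact.out : r.Prime).dvd_mul.mp hj with h | h
    · exact absurd ((Fact.out : r.Prime).dvd_of_dvd_pow h) hrq
    · exact h
  rw [orderOf_dvd_iff_pow_eq_one]
  have h4 := (ZMod.natCast_eq_zero_iff _ _).mpr h3
  rw [Nat.cast_sub (Nat.one_le_pow _ _ hq1)] at h4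
  push_cast at h4
  exact sub_eq_zero.mp h4

end Cfsg.Agent.Lib.Helper98.Elus
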