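import Cfsg.Agent.Lib.Helper98.Elus9

set_option autoImplicit false
set_option linter.unusedSimpArgs false
set_option linter.unusedSectionVars false
set_option linter.unusedVariables false
set_option linter.style.haveILetI false

/-!
# S5950 (helper98): Jordan decomposition of nilpotent endomorphisms (multiset form)
-/

namespace Cfsg.Agent.Lib.Helper98.Elus

open Module Polynomial

universe u
variable {F : Type u} [Field F]

theorem isCompl_of_sup_eq_top_of_finrank_le {V : Type*} [AddCommGroup V] [Module F V]
    [FiniteDimensional F V] (X Y : Submodule F V) (h1 : X ⊔ Y = ⊤)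
    (h2 : finrank F X + finrank F Y ≤ finrank F V) : IsCompl X Y := by
  have h := Submodule.finrank_sup_add_finrank_inf_eq X Y
  rw [h1, finrank_top] at h
  have h3 : finrank F ↥(X ⊓ Y) = 0 := by omega
  refine ⟨disjoint_iff.mpr (Submodule.finrank_eq_zero.mp h3), codisjoint_iff.mpr h1⟩

/-- splitting off a cyclic subspace of maximal length -/
theorem exists_cyclic_compl {V : Type*} [AddCommGroup V] [Module F V] [FiniteDimensional F V]
    (N : V →ₗ[F] V) (e : ℕ) (he1 : 1 ≤ e) (he : N ^ e = 0) (v : V) (hv : (N ^ (e - 1)) v ≠ 0) :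
    ∃ Z W : Submodule F V, Inv N Z ∧ Inv N W ∧ IsCompl Z W ∧ finrank F Z = e := by
  classical
  obtain ⟨φ, hφ⟩ : ∃ φ : Module.Dual F V, φ ((N ^ (e - 1)) v) ≠ 0 := by
    by_contra h
    push Not at h
    exact hv ((Module.forall_dual_apply_eq_zero_iff F _).mp h)
  have hNe : ∀ k, e ≤ k → ∀ w, (N ^ k) w = 0 := by
    intro k hk w
    obtain ⟨j, rfl⟩ := Nat.exists_eq_add_of_le hk
    rw [pow_add, he, zero_mul]; rfl
  set Ψ : V →ₗ[F] (Fin e → F) := LinearMap.pi (fun k => φ ∘ₗ N ^ (k : ℕ)) with hΨ
  set W : Submodule F V := LinearMap.ker Ψ with hW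
  have hmemW : ∀ w, w ∈ W ↔ ∀ k, k < e → φ ((N ^ k) w) = 0 := by
    intro w
    rw [hW, LinearMap.mem_ker, hΨ]
    constructor
    · intro h k hk
      have := congrFun h ⟨k, hk⟩
      simpa using this
    · intro h
      funext k
      simpa using h k k.2
  set b : Fin e → V := fun k => (N ^ (k : ℕ)) v with hb
  set Z : Submodule F V := Submodule.span F (Set.range b) with hZ
  -- key claim
  have key : ∀ c : Fin e → F, (∑ k, c k • b k) ∈ W → c = 0 := by
    intro c hc
    have h : ∀ j : ℕ, ∀ k : Fin e, (k : ℕ) < j → c k = 0 := by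
      intro j
      induction j with
      | zero => intro k hk; omega
      | succ j ih =>
        intro k hk
        rcases Nat.lt_or_ge (k : ℕ) j with h1 | h1
        · exact ih k h1
        · have hkj : (k : ℕ) = j := by omega
          have hje : j < e := hkj ▸ k.2
          have h2 := (hmemW _).mp hc (e - 1 - j) (by omega)
          rw [map_sum] at h2
          have h3 : ∀ i : Fin e, (N ^ (e - 1 - j)) (c i • b i) =
              if i = k then c k • (N ^ (e - 1)) v else 0 := by
            intro i
            rw [map_smul, hb]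
            simp only
            rw [← Module.End.mul_apply, ← pow_add]
            split_ifs with hik
            · rw [hik, hkj, Nat.sub_add_cancel (by omega)]
            · rcases Nat.lt_or_ge (i : ℕ) j with h4 | h4
              · rw [ih i h4, zero_smul]
              · have : (i : ℕ) ≠ j := fun h => hik (Fin.ext (h.trans hkj.symm))
                rw [hNe _ (by omega), smul_zero]
          rw [Finset.sum_congr rfl (fun i _ => h3 i), Finset.sum_ite_eq' Finset.univ k,
            if_pos (Finset.mem_univ _), map_smul, smul_eq_mul] at h2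
          rcases mul_eq_zero.mp h2 with h5 | h5
          · exact h5
          · exact absurd h5 hφ
    funext k
    exact h e k k.2
  have hLI : LinearIndependent F b := by
    rw [Fintype.linearIndependent_iff]
    intro c hc i
    have := key c (by rw [hc]; exact Submodule.zero_mem _)
    rw [this]; rfl
  have hZd : finrank F Z = e := by
    rw [hZ, finrank_span_eq_card hLI, Fintype.card_fin]
  have hdisj : Z ⊓ W = ⊥ := by
    rw [eq_bot_iff]
    intro z hz
    obtain ⟨hzZ, hzW⟩ := Submodule.mem_inf.mp hz
    rw [hZ, Submodule.mem_span_range_iff_exists_fun] at hzZ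
    obtain ⟨c, rfl⟩ := hzZ
    have := key c hzW
    rw [this]
    simp
  have hWd : finrank F V ≤ e + finrank F W := by
    have h1 : finrank F ↥(LinearMap.range Ψ) + finrank F ↥W = finrank F V :=
      LinearMap.finrank_range_add_finrank_ker Ψ
    have h2 : finrank F ↥(LinearMap.range Ψ) ≤ e := by
      have := Submodule.finrank_le (LinearMap.range Ψ)
      rwa [Module.finrank_fin_fun] at this
    omega
  have hInvW : Inv N W := by
    intro w hw
    rw [hmemW] at hw ⊢
    intro k hk
    rw [← Module.End.mul_apply, ← pow_succ]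
    rcases Nat.lt_or_ge (k + 1) e with h1 | h1
    · exact hw _ h1
    · rw [hNe _ h1, map_zero]
  have hInvZ : Inv N Z := by
    intro z hz
    rw [hZ] at hz
    induction hz using Submodule.span_induction with
    | mem x hx =>
      obtain ⟨k, rfl⟩ := hx
      simp only [hb]
      rw [← Module.End.mul_apply, ← pow_succ']
      rcases Nat.lt_or_ge ((k : ℕ) + 1) e with h1 | h1
      · exact Submodule.subset_span ⟨⟨(k : ℕ) + 1, h1⟩, rfl⟩
      · rw [hNe _ h1]; exact Submodule.zero_mem _
    | zero => rw [map_zero]; exact Submodule.zero_mem _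
    | add x z _ _ hx hz => rw [map_add]; exact Submodule.add_mem _ hx hz
    | smul c x _ hx => rw [map_smul]; exact Submodule.smul_mem _ _ hx
  refine ⟨Z, W, hInvZ, hInvW, ?_, hZd⟩
  refine ⟨disjoint_iff.mpr hdisj, codisjoint_iff.mpr ?_⟩
  apply Submodule.eq_top_of_finrank_eq
  have h := Submodule.finrank_sup_add_finrank_inf_eq Z W
  rw [hdisj, finrank_bot] at h
  have := Submodule.finrank_le (Z ⊔ W)
  omega

/-- the Jordan property: a multiset of block sizes all of whose sub-multisets are realised by
invariant direct summands -/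
def JProp (p : ℕ) {V : Type u} [AddCommGroup V] [Module F V] (N : V →ₗ[F] V) : Prop :=
  ∃ μ : Multiset ℕ, (∀ a ∈ μ, 0 < a ∧ a ≤ p) ∧ μ.sum = finrank F V ∧
    ∀ ν : Multiset ℕ, ν ≤ μ → ∃ U W : Submodule F V, Inv N U ∧ Inv N W ∧ IsCompl U W ∧
      finrank F U = ν.sum

theorem inv_map_subtype {V : Type u} [AddCommGroup V] [Module F V] (N : V →ₗ[F] V)
    (W0 : Submodule F V) (hW0 : W0 ≤ W0.comap N) (A : Submodule F W0)
    (hA : Inv (N.restrict hW0) A) : Inv N (A.map W0.subtype) := by
  rintro _ ⟨a, ha, rfl⟩
  exact ⟨(N.restrict hW0) a, hA a ha, rfl⟩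

theorem jordan_prop (p : ℕ) :
    ∀ (n : ℕ) (V : Type u) [AddCommGroup V] [Module F V] [FiniteDimensional F V]
      (N : V →ₗ[F] V), N ^ p = 0 → finrank F V = n → JProp p N := by
  intro n
  induction n using Nat.strong_induction_on with
  | _ n ih =>
    intro V _ _ _ N hN hdim
    by_cases h0 : n = 0
    · subst h0
      refine ⟨0, by simp, by simp [hdim], ?_⟩
      intro ν hν
      have : ν = 0 := Multiset.le_zero.mp hν
      subst this
      refine ⟨⊥, ⊤, inv_bot N, fun _ _ => Submodule.mem_top, isCompl_bot_top, by simp⟩
    · haveI : Nontrivial V := Module.nontrivial_of_finrank_pos (R := F) (by omega)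
      -- the nilpotency index
      have hex : ∃ e, N ^ e = 0 := ⟨p, hN⟩
      classical
      set e := Nat.find hex with he
      have hNe : N ^ e = 0 := Nat.find_spec hex
      have hep : e ≤ p := Nat.find_min' hex hN
      have he1 : 1 ≤ e := by
        by_contra h
        have h0 : e = 0 := by omega
        rw [h0, pow_zero] at hNe
        exact one_ne_zero hNe
      have hmin : N ^ (e - 1) ≠ 0 := Nat.find_min hex (by omega)
      obtain ⟨v, hv⟩ : ∃ v, (N ^ (e - 1)) v ≠ 0 := by
        by_contra h
        push Not at h
        exact hmin (LinearMap.ext h)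
      obtain ⟨Z, W0, hZ, hW0, hZW, hZd⟩ := exists_cyclic_compl N e he1 hNe v hv
      have hW0' : W0 ≤ W0.comap N := hW0
      have hsum := Submodule.finrank_add_eq_of_isCompl hZW
      have hN' : (N.restrict hW0') ^ p = 0 := by
        rw [Module.End.pow_restrict p hW0']
        ext w
        simp [hN]
      obtain ⟨μ', hμ', hμ's, hμ'ν⟩ := ih (finrank F W0) (by omega) W0 (N.restrict hW0') hN' rfl
      refine ⟨e ::ₘ μ', ?_, ?_, ?_⟩
      · intro a ha
        rcases Multiset.mem_cons.mp ha with rfl | ha
        · exact ⟨he1, hep⟩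
        · exact hμ' a ha
      · rw [Multiset.sum_cons, hμ's]; omega
      · intro ν hν
        have hmaptop : (⊤ : Submodule F W0).map W0.subtype = W0 := by
          rw [Submodule.map_top, Submodule.range_subtype]
        by_cases hmem : e ∈ ν
        · have hν' : ν.erase e ≤ μ' := Multiset.erase_le_iff_le_cons.mpr hν
          obtain ⟨A, B, hA, hB, hAB, hAd⟩ := hμ'ν _ hν'
          have hABd := Submodule.finrank_add_eq_of_isCompl hAB
          have hAm : finrank F ↥(A.map W0.subtype) = finrank F A :=
            Submodule.finrank_map_subtype_eq W0 A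
          have hBm : finrank F ↥(B.map W0.subtype) = finrank F B :=
            Submodule.finrank_map_subtype_eq W0 B
          have hinf : Z ⊓ A.map W0.subtype = ⊥ := by
            rw [eq_bot_iff, ← hZW.inf_eq_bot]
            exact inf_le_inf le_rfl (Submodule.map_subtype_le W0 A)
          have hUd : finrank F ↥(Z ⊔ A.map W0.subtype) = e + finrank F A := by
            have h := Submodule.finrank_sup_add_finrank_inf_eq Z (A.map W0.subtype)
            rw [hinf, finrank_bot, hZd, hAm] at h
            omega
          refine ⟨Z ⊔ A.map W0.subtype, B.map W0.subtype, hZ.sup (inv_map_subtype N W0 hW0' A hA),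
            inv_map_subtype N W0 hW0' B hB, ?_, ?_⟩
          · apply isCompl_of_sup_eq_top_of_finrank_le
            · rw [sup_assoc, ← Submodule.map_sup, hAB.sup_eq_top, hmaptop, hZW.sup_eq_top]
            · rw [hUd, hBm]; omega
          · rw [hUd, hAd, ← Multiset.sum_erase hmem]
        · have hν' : ν ≤ μ' := (Multiset.le_cons_of_notMem hmem).mp hν
          obtain ⟨A, B, hA, hB, hAB, hAd⟩ := hμ'ν _ hν'
          have hABd := Submodule.finrank_add_eq_of_isCompl hAB
          have hAm : finrank F ↥(A.map W0.subtype) = finrank F A :=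
            Submodule.finrank_map_subtype_eq W0 A
          have hBm : finrank F ↥(B.map W0.subtype) = finrank F B :=
            Submodule.finrank_map_subtype_eq W0 B
          have hle : finrank F ↥(Z ⊔ B.map W0.subtype) ≤ e + finrank F B := by
            have := Submodule.finrank_add_le_finrank_add_finrank Z (B.map W0.subtype)
            rw [hZd, hBm] at this
            exact this
          refine ⟨A.map W0.subtype, Z ⊔ B.map W0.subtype, inv_map_subtype N W0 hW0' A hA,
            hZ.sup (inv_map_subtype N W0 hW0' B hB), ?_, ?_⟩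
          · apply isCompl_of_sup_eq_top_of_finrank_le
            · rw [sup_comm Z, ← sup_assoc, ← Submodule.map_sup, hAB.sup_eq_top, hmaptop, sup_comm,
                hZW.sup_eq_top]
            · rw [hAm]; omega
          · rw [hAm, hAd]

end Cfsg.Agent.Lib.Helper98.Elus
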