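import Cfsg.Agent.Lib.Helper98.Elus10

set_option autoImplicit false
set_option linter.unusedSimpArgs false
set_option linter.unusedSectionVars false
set_option linter.unusedVariables false
set_option linter.style.haveILetI false

/-!
# S5950 (helper98): kernel-dimension invariants `kap N j U = dim (U ∩ ker N^j)`
-/

namespace Cfsg.Agent.Lib.Helper98.Elus

open Module Polynomial

universe u
variable {F : Type u} [Field F]

section kappa

variable {V : Type*} [AddCommGroup V] [Module F V]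

/-- `κ N j U = dim (U ∩ ker N^j)` -/
noncomputable def kap (N : V →ₗ[F] V) (j : ℕ) (U : Submodule F V) : ℕ :=
  finrank F ↥(U ⊓ LinearMap.ker (N ^ j))

theorem kap_zero (N : V →ₗ[F] V) (U : Submodule F V) : kap N 0 U = 0 := by
  unfold kap
  rw [pow_zero]
  have : LinearMap.ker (1 : V →ₗ[F] V) = ⊥ := by
    rw [eq_bot_iff]
    intro v hv
    rw [LinearMap.mem_ker] at hv
    simpa using hv
  rw [this, inf_bot_eq, finrank_bot]

theorem ker_pow_mono (N : V →ₗ[F] V) {j k : ℕ} (h : j ≤ k) :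
    LinearMap.ker (N ^ j) ≤ LinearMap.ker (N ^ k) := by
  intro v hv
  rw [LinearMap.mem_ker] at hv ⊢
  obtain ⟨l, rfl⟩ := Nat.exists_eq_add_of_le h
  rw [add_comm, pow_add, Module.End.mul_apply, hv, map_zero]

theorem kap_eq_finrank [FiniteDimensional F V] (N : V →ₗ[F] V) (p : ℕ) (hN : N ^ p = 0) (j : ℕ)
    (hj : p ≤ j) (U : Submodule F V) : kap N j U = finrank F U := by
  unfold kap
  have : LinearMap.ker (N ^ j) = ⊤ := by
    rw [eq_top_iff]
    intro v _
    apply ker_pow_mono N hj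
    rw [LinearMap.mem_ker, hN]; rfl
  rw [this, inf_top_eq]

theorem kap_add [FiniteDimensional F V] (N : V →ₗ[F] V) (j : ℕ) (U W : Submodule F V)
    (hU : Inv N U) (hW : Inv N W) (h : IsCompl U W) :
    kap N j ⊤ = kap N j U + kap N j W := by
  unfold kap
  set K := LinearMap.ker (N ^ j) with hK
  have h1 : (U ⊓ K) ⊓ (W ⊓ K) = ⊥ := by
    rw [eq_bot_iff, ← h.inf_eq_bot]
    exact inf_le_inf inf_le_left inf_le_left
  have h2 : (U ⊓ K) ⊔ (W ⊓ K) = ⊤ ⊓ K := by
    rw [top_inf_eq]
    apply le_antisymm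
    · exact sup_le inf_le_right inf_le_right
    · intro v hv
      have hvt : v ∈ U ⊔ W := by rw [h.sup_eq_top]; exact Submodule.mem_top
      obtain ⟨a, ha, b, hb, rfl⟩ := Submodule.mem_sup.mp hvt
      rw [hK, LinearMap.mem_ker, map_add] at hv
      have h3 : (N ^ j) a ∈ U ⊓ W := by
        refine Submodule.mem_inf.mpr ⟨hU.pow_mem j a ha, ?_⟩
        have : (N ^ j) a = -(N ^ j) b := eq_neg_of_add_eq_zero_left hv
        rw [this]
        exact Submodule.neg_mem _ (hW.pow_mem j b hb)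
      rw [h.inf_eq_bot, Submodule.mem_bot] at h3
      have h4 : (N ^ j) b = 0 := by rw [h3, zero_add] at hv; exact hv
      exact Submodule.add_mem _
        (Submodule.mem_sup_left (Submodule.mem_inf.mpr ⟨ha, LinearMap.mem_ker.mpr h3⟩))
        (Submodule.mem_sup_right (Submodule.mem_inf.mpr ⟨hb, LinearMap.mem_ker.mpr h4⟩))
  have h5 := Submodule.finrank_sup_add_finrank_inf_eq (U ⊓ K) (W ⊓ K)
  rw [h1, h2, finrank_bot] at h5
  omega

theorem kap_mono (N : V →ₗ[F] V) [FiniteDimensional F V] (j : ℕ) (U : Submodule F V) :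
    kap N j U ≤ kap N (j + 1) U := by
  unfold kap
  exact Submodule.finrank_mono (inf_le_inf le_rfl (ker_pow_mono N (Nat.le_succ j)))

/-- concavity of `j ↦ κ_j(U)` -/
theorem kap_concave [FiniteDimensional F V] (N : V →ₗ[F] V) (j : ℕ) (U : Submodule F V)
    (hU : Inv N U) : kap N (j + 2) U + kap N j U ≤ 2 * kap N (j + 1) U := by
  unfold kap
  set A := U ⊓ LinearMap.ker (N ^ (j + 2)) with hA
  set B := U ⊓ LinearMap.ker (N ^ (j + 1)) with hB
  set C := U ⊓ LinearMap.ker (N ^ j) with hC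
  have hCB : C ≤ B := inf_le_inf le_rfl (ker_pow_mono N (Nat.le_succ j))
  set S : V →ₗ[F] (V ⧸ C) := C.mkQ ∘ₗ N with hS
  have h1 := finrank_eq_inf_ker_add_map' S A
  have h2 : A ⊓ LinearMap.ker S = B := by
    ext a
    simp only [hA, hB, hC, hS, Submodule.mem_inf, LinearMap.mem_ker, LinearMap.coe_comp,
      Function.comp_apply, Submodule.mkQ_apply, Submodule.Quotient.mk_eq_zero]
    constructor
    · rintro ⟨⟨ha, _⟩, _, h3⟩
      refine ⟨ha, ?_⟩
      rw [pow_succ, Module.End.mul_apply]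
      exact h3
    · rintro ⟨ha, h3⟩
      refine ⟨⟨ha, ?_⟩, hU a ha, ?_⟩
      · rw [pow_succ', Module.End.mul_apply, h3, map_zero]
      · rw [pow_succ, Module.End.mul_apply] at h3
        exact h3
  have h3 : A.map S ≤ B.map C.mkQ := by
    rintro _ ⟨a, ha, rfl⟩
    refine ⟨N a, ?_, rfl⟩
    obtain ⟨ha1, ha2⟩ := Submodule.mem_inf.mp ha
    refine Submodule.mem_inf.mpr ⟨hU a ha1, ?_⟩
    rw [LinearMap.mem_ker] at ha2 ⊢
    rw [pow_succ, Module.End.mul_apply] at ha2
    exact ha2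
  have h4 := finrank_eq_inf_ker_add_map' C.mkQ B
  rw [Submodule.ker_mkQ, inf_eq_right.mpr hCB] at h4
  have h5 := Submodule.finrank_mono h3
  rw [h2] at h1
  omega

end kappa

end Cfsg.Agent.Lib.Helper98.Elus
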