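import Cfsg.Agent.Lib.Helper98.Elus11

set_option autoImplicit false
set_option linter.unusedSimpArgs false
set_option linter.unusedSectionVars false
set_option linter.unusedVariables false
set_option linter.style.haveILetI false

/-!
# S5950 (helper98): sub-multisets from concave kernel-dimension sequences; the Jordan model
-/

namespace Cfsg.Agent.Lib.Helper98.Elus

open Module Polynomial

universe u
variable {F : Type u} [Field F]

/-- `count a μ` from the truncated sums `K_μ(j) = Σ_b min(j,b)` -/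
theorem count_eq_trunc (μ : Multiset ℕ) (a : ℕ) (ha : 1 ≤ a) :
    (μ.count a : ℤ) = 2 * ((μ.map (min a)).sum : ℤ) - ((μ.map (min (a - 1))).sum : ℤ)
      - ((μ.map (min (a + 1))).sum : ℤ) := by
  induction μ using Multiset.induction_on with
  | empty => simp
  | cons b μ ih =>
    rw [Multiset.count_cons, Multiset.map_cons, Multiset.map_cons, Multiset.map_cons,
      Multiset.sum_cons, Multiset.sum_cons, Multiset.sum_cons]
    push_cast
    rw [ih]
    have h : ((if a = b then 1 else 0 : ℕ) : ℤ) =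
        2 * ((min a b : ℕ) : ℤ) - ((min (a - 1) b : ℕ) : ℤ) - ((min (a + 1) b : ℕ) : ℤ) := by
      split_ifs with hab
      · subst hab
        rw [min_self, min_eq_left (Nat.sub_le a 1), min_eq_right (Nat.le_succ a)]
        push_cast [Nat.cast_sub ha]
        ring
      · rcases Nat.lt_or_ge a b with h1 | h1
        · rw [min_eq_left h1.le, min_eq_left (by omega), min_eq_left (by omega)]
          push_cast [Nat.cast_sub ha]
          ring
        · have h2 : b < a := lt_of_le_of_ne h1 (Ne.symm hab)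
          rw [min_eq_right h1, min_eq_right (by omega), min_eq_right (by omega)]
          push_cast
          ring
    push_cast at h ⊢
    linarith

/-- Abel summation -/
theorem abel_sum (k : ℕ → ℤ) (P : ℕ) :
    ∑ j ∈ Finset.Icc 1 P, (j : ℤ) * (2 * k j - k (j - 1) - k (j + 1)) =
      k P - k 0 - P * (k (P + 1) - k P) := by
  induction P with
  | zero => simp
  | succ P ih =>
    rw [Finset.sum_Icc_succ_top (by omega), ih]
    simp only [Nat.add_sub_cancel]
    push_cast
    ring

theorem exists_sub_multiset (p : ℕ) (μ : Multiset ℕ)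
    (kU kW : ℕ → ℕ) (hU0 : kU 0 = 0) (hUc : ∀ j, kU (j + 2) + kU j ≤ 2 * kU (j + 1))
    (hWc : ∀ j, kW (j + 2) + kW j ≤ 2 * kW (j + 1)) (hUp : kU (p + 1) = kU p)
    (hsum : ∀ j, kU j + kW j = (μ.map (min j)).sum) :
    ∃ ν : Multiset ℕ, ν ≤ μ ∧ ν.sum = kU p := by
  classical
  set c : ℕ → ℕ := fun j => 2 * kU j - kU (j - 1) - kU (j + 1) with hc
  have hcZ : ∀ j, 1 ≤ j → (c j : ℤ) = 2 * (kU j : ℤ) - kU (j - 1) - kU (j + 1) := by
    intro j hj
    obtain ⟨i, rfl⟩ := Nat.exists_eq_add_of_le hj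
    have := hUc i
    simp only [hc]
    have e1 : 1 + i - 1 = i := by omega
    have e2 : 1 + i + 1 = i + 2 := by omega
    have e3 : 1 + i = i + 1 := by omega
    rw [e1, e2, e3]
    omega
  set ν : Multiset ℕ := ∑ j ∈ Finset.Icc 1 p, Multiset.replicate (c j) j with hν
  have hcount : ∀ a, ν.count a = if a ∈ Finset.Icc 1 p then c a else 0 := by
    intro a
    rw [hν, Multiset.count_sum']
    simp only [Multiset.count_replicate]
    rw [Finset.sum_ite_eq' (Finset.Icc 1 p) a]
  refine ⟨ν, ?_, ?_⟩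
  · rw [Multiset.le_iff_count]
    intro a
    rw [hcount]
    split_ifs with ha
    · have ha1 : 1 ≤ a := (Finset.mem_Icc.mp ha).1
      have h1 := count_eq_trunc μ a ha1
      have h2 := hcZ a ha1
      have h3 := hsum a
      have h4 := hsum (a - 1)
      have h5 := hsum (a + 1)
      obtain ⟨i, rfl⟩ := Nat.exists_eq_add_of_le ha1
      have h6 := hWc i
      have e1 : 1 + i - 1 = i := by omega
      have e2 : 1 + i + 1 = i + 2 := by omega
      have e3 : 1 + i = i + 1 := by omega
      rw [e1] at h4 h1 h2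
      rw [e2] at h5 h1 h2
      rw [e3] at h3 h1 h2 ⊢
      rw [← h3, ← h4, ← h5] at h1
      push_cast at h1
      omega
    · exact Nat.zero_le _
  · have h1 : ν.sum = ∑ j ∈ Finset.Icc 1 p, c j * j := by
      rw [hν, ← Multiset.coe_sumAddMonoidHom, map_sum]
      apply Finset.sum_congr rfl
      intro j _
      rw [Multiset.coe_sumAddMonoidHom, Multiset.sum_replicate, smul_eq_mul]
    have h2 := abel_sum (fun j => (kU j : ℤ)) p
    have h3 : ((∑ j ∈ Finset.Icc 1 p, c j * j : ℕ) : ℤ) =
        ∑ j ∈ Finset.Icc 1 p, (j : ℤ) * (2 * (kU j : ℤ) - kU (j - 1) - kU (j + 1)) := by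
      push_cast
      apply Finset.sum_congr rfl
      intro j hj
      rw [hcZ j (Finset.mem_Icc.mp hj).1]
      ring
    rw [h2] at h3
    simp only [hUp, hU0] at h3
    rw [h1]
    have : ((∑ j ∈ Finset.Icc 1 p, c j * j : ℕ) : ℤ) = (kU p : ℤ) := by
      rw [h3]; push_cast; ring
    exact_mod_cast this


section model

variable (F) (μ : Multiset ℕ)

/-- index set of the Jordan model: pairs (block, position) -/
abbrev JI : Type := Σ b : μ.ToType, Fin b.1

/-- the Jordan model space -/
abbrev JV : Type u := JI μ → F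

/-- the nilpotent shift on the Jordan model -/
noncomputable def JN : JV F μ →ₗ[F] JV F μ :=
  LinearMap.pi (fun i : JI μ =>
    if h : i.2.1 + 1 < i.1.1 then LinearMap.proj (⟨i.1, ⟨i.2.1 + 1, h⟩⟩ : JI μ) else 0)

variable {F μ}

theorem JN_apply (v : JV F μ) (i : JI μ) :
    JN F μ v i = if h : i.2.1 + 1 < i.1.1 then v ⟨i.1, ⟨i.2.1 + 1, h⟩⟩ else 0 := by
  unfold JN
  rw [LinearMap.pi_apply]
  split_ifs with h
  · rfl
  · rfl

theorem JN_pow_apply (j : ℕ) (v : JV F μ) (i : JI μ) :
    (JN F μ ^ j) v i = if h : i.2.1 + j < i.1.1 then v ⟨i.1, ⟨i.2.1 + j, h⟩⟩ else 0 := by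
  induction j generalizing v with
  | zero =>
    rw [pow_zero, Module.End.one_apply, dif_pos (by simp)]
    rfl
  | succ j ih =>
    rw [pow_succ, Module.End.mul_apply, ih]
    by_cases h : i.2.1 + j < i.1.1
    · rw [dif_pos h, JN_apply]
      by_cases h' : i.2.1 + (j + 1) < i.1.1
      · rw [dif_pos h', dif_pos (by simpa [add_assoc] using h')]
        rfl
      · rw [dif_neg h', dif_neg (by simpa [add_assoc] using h')]
    · rw [dif_neg h, dif_neg (by omega)]

theorem JN_pow_eq_zero (p : ℕ) (hμ : ∀ a ∈ μ, a ≤ p) : JN F μ ^ p = 0 := by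
  apply LinearMap.ext
  intro v
  funext i
  rw [JN_pow_apply, dif_neg]
  · rfl
  · have := hμ i.1.1 Multiset.coe_mem
    omega

theorem mem_ker_JN_pow (j : ℕ) (v : JV F μ) :
    v ∈ LinearMap.ker (JN F μ ^ j) ↔ ∀ i : JI μ, j ≤ i.2.1 → v i = 0 := by
  rw [LinearMap.mem_ker]
  constructor
  · intro h i hi
    have h1 := congrFun h ⟨i.1, ⟨i.2.1 - j, by have := i.2.2; omega⟩⟩
    rw [JN_pow_apply] at h1
    have h2 : i.2.1 - j + j < i.1.1 := by have := i.2.2; omega
    simp only at h1
    rw [dif_pos h2] at h1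
    have h3 : (⟨i.1, ⟨i.2.1 - j + j, h2⟩⟩ : JI μ) = i := by
      obtain ⟨b, k⟩ := i
      congr
      simp only at hi ⊢
      omega
    rw [h3] at h1
    exact h1
  · intro h
    funext i
    rw [JN_pow_apply]
    split_ifs with h1
    · exact h _ (by simp)
    · rfl

theorem finrank_JV : finrank F (JV F μ) = μ.sum := by
  rw [Module.finrank_fintype_fun_eq_card, Fintype.card_sigma]
  simp only [Fintype.card_fin]
  rw [Finset.sum_eq_multiset_sum, Multiset.map_univ_coe]

theorem card_lt_eq (j : ℕ) :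
    Fintype.card {i : JI μ // ¬ j ≤ i.2.1} = (μ.map (min j)).sum := by
  classical
  rw [Fintype.card_subtype, Finset.card_filter, Fintype.sum_sigma]
  have h : ∀ b : μ.ToType, (∑ k : Fin b.1, if ¬ j ≤ (⟨b, k⟩ : JI μ).2.1 then 1 else 0) =
      min j b.1 := by
    intro b
    simp only
    rw [Fin.sum_univ_eq_sum_range (fun k => if ¬ j ≤ k then 1 else 0) b.1, Finset.sum_boole]
    have : (Finset.range b.1).filter (fun k => ¬ j ≤ k) = Finset.range (min j b.1) := by
      ext k
      simp only [Finset.mem_filter, Finset.mem_range]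
      omega
    rw [this, Finset.card_range]
    simp
  rw [Finset.sum_congr rfl (fun b _ => h b), Finset.sum_eq_multiset_sum]
  exact congrArg Multiset.sum (Multiset.map_univ μ (min j))

theorem finrank_ker_JN_pow (j : ℕ) :
    finrank F (LinearMap.ker (JN F μ ^ j)) = (μ.map (min j)).sum := by
  classical
  set R : JV F μ →ₗ[F] ({i : JI μ // j ≤ i.2.1} → F) :=
    LinearMap.funLeft F F (Subtype.val : {i : JI μ // j ≤ i.2.1} → JI μ) with hR
  have hker : LinearMap.ker (JN F μ ^ j) = LinearMap.ker R := by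
    ext v
    rw [mem_ker_JN_pow, LinearMap.mem_ker]
    constructor
    · intro h
      funext i
      exact h i.1 i.2
    · intro h i hi
      exact congrFun h ⟨i, hi⟩
  have hsurj : Function.Surjective R :=
    LinearMap.funLeft_surjective_of_injective F F _ Subtype.val_injective
  have h1 := LinearMap.finrank_range_add_finrank_ker R
  rw [LinearMap.range_eq_top.mpr hsurj, finrank_top, Module.finrank_fintype_fun_eq_card,
    Module.finrank_fintype_fun_eq_card] at h1
  have h2 := Fintype.card_subtype_compl (fun i : JI μ => j ≤ i.2.1)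
  rw [hker, ← card_lt_eq]
  have h3 := Fintype.card_subtype_le (fun i : JI μ => j ≤ i.2.1)
  omega

theorem kap_JN_top (j : ℕ) : kap (JN F μ) j ⊤ = (μ.map (min j)).sum := by
  unfold kap
  rw [top_inf_eq, finrank_ker_JN_pow]

theorem JN_ne_zero (b : ℕ) (hb : b ∈ μ) (hb2 : 2 ≤ b) : JN F μ ≠ 0 := by
  classical
  intro h
  set b' : μ.ToType := ⟨b, ⟨0, Multiset.count_pos.mpr hb⟩⟩ with hb'
  have hb1 : b'.1 = b := rfl
  set i1 : JI μ := ⟨b', ⟨1, by rw [hb1]; omega⟩⟩ with hi1
  set i0 : JI μ := ⟨b', ⟨0, by rw [hb1]; omega⟩⟩ with hi0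
  have h1 := congrFun (LinearMap.congr_fun h (Pi.single i1 (1 : F))) i0
  rw [JN_apply] at h1
  have h2 : i0.2.1 + 1 < i0.1.1 := by
    show 0 + 1 < b
    omega
  rw [dif_pos h2] at h1
  have h3 : (⟨i0.1, ⟨i0.2.1 + 1, h2⟩⟩ : JI μ) = i1 := rfl
  rw [h3, Pi.single_eq_same] at h1
  simp at h1

end model

end Cfsg.Agent.Lib.Helper98.Elus
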