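import Cfsg.Agent.Lib.Helper98.Elus12
import Cfsg.Agent.Lib.Helper98.Elus10

set_option autoImplicit false
set_option linter.unusedSimpArgs false
set_option linter.unusedSectionVars false
set_option linter.unusedVariables false
set_option linter.style.haveILetI false

/-!
# S5950 (helper98): unipotent elements and decompositions `U ⊕ W` (the case `r = p`)
-/

namespace Cfsg.Agent.Lib.Helper98.Elus

open Module Polynomial

universe u
variable {F : Type u} [Field F]

/-- Krull–Schmidt for the Jordan model, in numerical form -/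
theorem ks_model (p : ℕ) (μ : Multiset ℕ) (hμ : ∀ a ∈ μ, a ≤ p) (U W : Submodule F (JV F μ))
    (hU : Inv (JN F μ) U) (hW : Inv (JN F μ) W) (h : IsCompl U W) :
    ∃ ν : Multiset ℕ, ν ≤ μ ∧ ν.sum = finrank F U := by
  have hN := JN_pow_eq_zero (F := F) p hμ
  obtain ⟨ν, hν, hs⟩ := exists_sub_multiset p μ (fun j => kap (JN F μ) j U)
    (fun j => kap (JN F μ) j W)
    (kap_zero _ _) (fun j => kap_concave _ j U hU) (fun j => kap_concave _ j W hW)
    (by
      show kap (JN F μ) (p + 1) U = kap (JN F μ) p U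
      rw [kap_eq_finrank _ p hN (p + 1) (Nat.le_succ p), kap_eq_finrank _ p hN p le_rfl])
    (fun j => by
      show kap (JN F μ) j U + kap (JN F μ) j W = _
      rw [← kap_add _ j U W hU hW h, kap_JN_top])
  refine ⟨ν, hν, ?_⟩
  rw [hs]
  exact kap_eq_finrank _ p hN p le_rfl U

section charp

variable (p : ℕ) [Fact p.Prime] [CharP F p]

theorem one_add_pow_char_end {V : Type*} [AddCommGroup V] [Module F V] (N : V →ₗ[F] V) :
    (1 + N) ^ p = 1 + N ^ p := by
  have h : ((1 : F[X]) + X) ^ p = 1 + X ^ p := by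
    rw [add_pow_char, one_pow]
  have h2 := congrArg (aeval N) h
  simpa using h2

theorem sub_one_pow_char_end {V : Type*} [AddCommGroup V] [Module F V] (y : V →ₗ[F] V) :
    (y - 1) ^ p = y ^ p - 1 := by
  have h : ((X : F[X]) - 1) ^ p = X ^ p - 1 := by
    rw [sub_pow_char, one_pow]
  have h2 := congrArg (aeval y) h
  simpa using h2

theorem eq_one_of_pow_char_eq_one (z : F) (h : z ^ p = 1) : z = 1 := by
  have h1 : (z - 1) ^ p = 0 := by rw [sub_pow_char, one_pow, h, sub_self]
  exact sub_eq_zero.mp (pow_eq_zero_iff (Fact.out : p.Prime).ne_zero |>.mp h1)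

end charp

theorem all_ones (μ : Multiset ℕ) (h : ∀ a ∈ μ, a = 1) (m : ℕ) (hm : m ≤ μ.sum) :
    ∃ ν : Multiset ℕ, ν ≤ μ ∧ ν.sum = m := by
  have h1 : μ = Multiset.replicate (Multiset.card μ) 1 := Multiset.eq_replicate_card.mpr h
  have h2 : μ.sum = Multiset.card μ := by
    conv_lhs => rw [h1]
    rw [Multiset.sum_replicate, smul_eq_mul, mul_one]
  refine ⟨Multiset.replicate m 1, ?_, ?_⟩
  · rw [h1, Multiset.replicate_le_replicate]
    omega
  · rw [Multiset.sum_replicate, smul_eq_mul, mul_one]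

/-- the unipotent element with Jordan type `μ` forces a sub-multiset of sum `m` -/
theorem unipotent_forward (p : ℕ) [Fact p.Prime] [CharP F p] (n m : ℕ) (hmn : m ≤ n)
    (hL : ∀ x : Matrix.SpecialLinearGroup (Fin n) F,
      (∃ c : F, ((x ^ p : Matrix.SpecialLinearGroup (Fin n) F) : Matrix (Fin n) (Fin n) F) =
        c • (1 : Matrix (Fin n) (Fin n) F)) →
      (∀ c : F, (x : Matrix (Fin n) (Fin n) F) ≠ c • (1 : Matrix (Fin n) (Fin n) F)) →
      ∃ U W : Submodule F (Fin n → F), IsCompl U W ∧ Module.finrank F ↥U = m ∧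
        U.map (Matrix.toLin' (x : Matrix (Fin n) (Fin n) F)) ≤ U ∧
        W.map (Matrix.toLin' (x : Matrix (Fin n) (Fin n) F)) ≤ W)
    (μ : Multiset ℕ) (hμ : ∀ a ∈ μ, 0 < a ∧ a ≤ p) (hs : μ.sum = n) :
    ∃ ν : Multiset ℕ, ν ≤ μ ∧ ν.sum = m := by
  classical
  have hp : p.Prime := Fact.out
  by_cases hall : ∀ a ∈ μ, a = 1
  · exact all_ones μ hall m (by rw [hs]; exact hmn)
  · push Not at hall
    obtain ⟨b, hb, hb1⟩ := hall
    have hb2 : 2 ≤ b := by have := (hμ b hb).1; omega
    set N := JN F μ with hN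
    have hNp : N ^ p = 0 := JN_pow_eq_zero p (fun a ha => (hμ a ha).2)
    have hN0 : N ≠ 0 := JN_ne_zero b hb hb2
    set y : JV F μ →ₗ[F] JV F μ := 1 + N with hy
    have hyp : y ^ p = 1 := by rw [hy, one_add_pow_char_end, hNp, add_zero]
    have hV : finrank F (JV F μ) = n := by rw [finrank_JV, hs]
    have hdet : LinearMap.det y = 1 := by
      apply eq_one_of_pow_char_eq_one p
      rw [← map_pow, hyp, map_one]
    have hns : ∀ d : F, y ≠ d • 1 := by
      intro d hd
      have h1 : N = (d - 1) • (1 : JV F μ →ₗ[F] JV F μ) := by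
        have h0 : N = y - 1 := by rw [hy, add_sub_cancel_left]
        rw [h0, hd]
        module
      have h2 : (d - 1) ^ p • (1 : JV F μ →ₗ[F] JV F μ) = 0 := by
        rw [← hNp, h1, _root_.smul_pow, one_pow]
      by_cases hd1 : d - 1 = 0
      · apply hN0
        rw [h1, hd1, zero_smul]
      · apply hN0
        have h3 : (1 : JV F μ →ₗ[F] JV F μ) = 0 := by
          rcases smul_eq_zero.mp h2 with h4 | h4
          · exact absurd (pow_eq_zero_iff hp.ne_zero |>.mp h4) hd1
          · exact h4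
        rw [h1, h3, smul_zero]
    obtain ⟨x, hx1, hx2, e, he⟩ := transport' n hV y hdet p 1 (by rw [hyp, one_smul]) hns
    obtain ⟨U, W, hUW, hUm, hUx, hWx⟩ := hL x ⟨1, hx1⟩ hx2
    have hyN : ∀ X : Submodule F (JV F μ), Inv y X → Inv N X := by
      intro X hX v hv
      have h1 := hX v hv
      rw [hy, LinearMap.add_apply, Module.End.one_apply] at h1
      have h2 := X.sub_mem h1 hv
      rwa [add_sub_cancel_left] at h2
    have hU' := hyN _ (he U hUx)
    have hW' := hyN _ (he W hWx)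
    have hc : IsCompl (U.map (e : (Fin n → F) →ₗ[F] JV F μ)) (W.map (e : (Fin n → F) →ₗ[F] JV F μ)) :=
      (Submodule.orderIsoMapComap e).isCompl hUW
    obtain ⟨ν, hν, hνs⟩ := ks_model p μ (fun a ha => (hμ a ha).2) _ _ hU' hW' hc
    refine ⟨ν, hν, ?_⟩
    rw [hνs, LinearEquiv.finrank_map_eq, hUm]


theorem unipotent_backward (p : ℕ) [Fact p.Prime] [CharP F p] (n m : ℕ) (hn : 1 ≤ n)
    (x : Matrix.SpecialLinearGroup (Fin n) F) (c d : F) (hd : d ^ p = c)
    (hc : ((x ^ p : Matrix.SpecialLinearGroup (Fin n) F) : Matrix (Fin n) (Fin n) F) =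
        c • (1 : Matrix (Fin n) (Fin n) F))
    (H : ∀ μ : Multiset ℕ, (∀ a ∈ μ, 0 < a ∧ a ≤ p) → μ.sum = n →
      ∃ ν : Multiset ℕ, ν ≤ μ ∧ ν.sum = m) :
    ∃ U W : Submodule F (Fin n → F), IsCompl U W ∧ Module.finrank F ↥U = m ∧
        U.map (Matrix.toLin' (x : Matrix (Fin n) (Fin n) F)) ≤ U ∧
        W.map (Matrix.toLin' (x : Matrix (Fin n) (Fin n) F)) ≤ W := by
  classical
  have hp : p.Prime := Fact.out
  have hfin : Module.finrank F (Fin n → F) = n := Module.finrank_fin_fun F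
  set f0 : (Fin n → F) →ₗ[F] (Fin n → F) :=
    Matrix.toLin' (x : Matrix (Fin n) (Fin n) F) with hf0
  have hf : f0 ^ p = c • 1 := by
    rw [hf0, ← Matrix.toLin'_pow, ← Matrix.SpecialLinearGroup.coe_pow, hc, map_smul,
      Matrix.toLin'_one]
    rfl
  have hdet0 : LinearMap.det f0 = 1 := by
    rw [hf0, LinearMap.det_toLin']
    exact x.2
  have hc0 : c ≠ 0 := by
    intro h0
    have h1 := congrArg LinearMap.det hf
    rw [map_pow, hdet0, one_pow, LinearMap.det_smul, map_one, mul_one, hfin, h0,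
      zero_pow (by omega)] at h1
    exact one_ne_zero h1
  have hd0 : d ≠ 0 := by
    intro h0
    rw [h0, zero_pow hp.ne_zero] at hd
    exact hc0 hd.symm
  set y : (Fin n → F) →ₗ[F] (Fin n → F) := d⁻¹ • f0 with hy
  have hyp : y ^ p = 1 := by
    rw [hy, _root_.smul_pow, hf, smul_smul, inv_pow, hd, inv_mul_cancel₀ hc0, one_smul]
  set N : (Fin n → F) →ₗ[F] (Fin n → F) := y - 1 with hN
  have hNp : N ^ p = 0 := by
    rw [hN, sub_one_pow_char_end p, hyp, sub_self]
  obtain ⟨μ, hμ, hμs, hreal⟩ := jordan_prop p n (Fin n → F) N hNp hfin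
  obtain ⟨ν, hν, hνs⟩ := H μ hμ (hμs.trans hfin)
  obtain ⟨U, W, hU, hW, hUW, hUd⟩ := hreal ν hν
  have hf0N : ∀ v, f0 v = d • (v + N v) := by
    intro v
    rw [hN, LinearMap.sub_apply, Module.End.one_apply, add_sub_cancel, hy, LinearMap.smul_apply,
      smul_smul, mul_inv_cancel₀ hd0, one_smul]
  have hinv : ∀ X : Submodule F (Fin n → F), Inv N X → X.map f0 ≤ X := by
    rintro X hX _ ⟨v, hv, rfl⟩
    rw [hf0N]
    exact X.smul_mem d (X.add_mem hv (hX v hv))
  exact ⟨U, W, hUW, by rw [hUd, hνs], hinv U hU, hinv W hW⟩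

theorem sum_eq_of_parts_le_two (μ : Multiset ℕ) (h : ∀ a ∈ μ, 0 < a ∧ a ≤ 2) :
    μ.sum = 2 * μ.count 2 + μ.count 1 := by
  induction μ using Multiset.induction_on with
  | empty => simp
  | cons b μ ih =>
    have hb := h b (Multiset.mem_cons_self b μ)
    have ih' := ih (fun a ha => h a (Multiset.mem_cons_of_mem ha))
    rw [Multiset.sum_cons, Multiset.count_cons, Multiset.count_cons, ih']
    have : b = 1 ∨ b = 2 := by omega
    rcases this with rfl | rfl
    · simp; omega
    · simp; omega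

theorem two_parts (n m : ℕ) (hmn : m ≤ n) (hpar : Odd n ∨ Even m) (μ : Multiset ℕ)
    (hμ : ∀ a ∈ μ, 0 < a ∧ a ≤ 2) (hs : μ.sum = n) :
    ∃ ν : Multiset ℕ, ν ≤ μ ∧ ν.sum = m := by
  have h1 := sum_eq_of_parts_le_two μ hμ
  rw [hs] at h1
  set a := μ.count 2 with ha
  set b := μ.count 1 with hb
  set a' := min (m / 2) a with ha'
  set b' := m - 2 * a' with hb'
  have hpar' : n % 2 = 1 ∨ m % 2 = 0 := by
    rcases hpar with h | h
    · exact Or.inl (Nat.odd_iff.mp h)
    · exact Or.inr (Nat.even_iff.mp h)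
  have ha'a : a' ≤ a := min_le_right _ _
  have ha'm : 2 * a' ≤ m := by
    have : a' ≤ m / 2 := min_le_left _ _
    omega
  have hb'b : b' ≤ b := by
    rcases Nat.lt_or_ge a (m / 2) with h | h
    · have : a' = a := min_eq_right h.le
      omega
    · have : a' = m / 2 := min_eq_left h
      omega
  refine ⟨Multiset.replicate a' 2 + Multiset.replicate b' 1, ?_, ?_⟩
  · rw [Multiset.le_iff_count]
    intro x
    rw [Multiset.count_add, Multiset.count_replicate, Multiset.count_replicate]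
    by_cases h2 : 2 = x
    · subst h2
      simp
      exact ha'a
    · by_cases h3 : 1 = x
      · subst h3
        simp
        exact hb'b
      · rw [if_neg h2, if_neg h3]
        exact Nat.zero_le _
  · rw [Multiset.sum_add, Multiset.sum_replicate, Multiset.sum_replicate, smul_eq_mul, smul_eq_mul]
    omega

theorem two_parts_conv (n m : ℕ)
    (H : ∀ μ : Multiset ℕ, (∀ a ∈ μ, 0 < a ∧ a ≤ 2) → μ.sum = n →
      ∃ ν : Multiset ℕ, ν ≤ μ ∧ ν.sum = m) : Odd n ∨ Even m := by
  by_contra hcon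
  push Not at hcon
  obtain ⟨h1, h2⟩ := hcon
  rw [Nat.not_odd_iff_even] at h1
  obtain ⟨k, hk⟩ := h1
  obtain ⟨ν, hν, hνs⟩ := H (Multiset.replicate k 2)
    (fun a ha => by rw [Multiset.eq_of_mem_replicate ha]; omega)
    (by rw [Multiset.sum_replicate, smul_eq_mul]; omega)
  obtain ⟨k', _, rfl⟩ := Multiset.le_replicate_iff.mp hν
  apply h2
  rw [← hνs, Multiset.sum_replicate, smul_eq_mul]
  exact ⟨k', by ring⟩

end Cfsg.Agent.Lib.Helper98.Elus
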