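import Cfsg.Agent.Lib.Helper98.Elus9

set_option autoImplicit false
set_option linter.unusedSimpArgs false
set_option linter.unusedSectionVars false
set_option linter.unusedVariables false
set_option linter.style.haveILetI false

/-!
# S5958 (helper98): tools for direct sum decompositions
-/

namespace Cfsg.Agent.Lib.Helper98.Elus

open Module

universe u
variable {F : Type u} [Field F] {V : Type*} [AddCommGroup V] [Module F V]

/-- dimension of the supremum of an independent family -/
theorem finrank_iSup_of_indep [FiniteDimensional F V] {ι : Type*} [Fintype ι]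
    (D : ι → Submodule F V) (hD : iSupIndep D) :
    finrank F ↥(⨆ i, D i) = ∑ i, finrank F (D i) := by
  classical
  have h := iSupIndep_iff_supIndep_univ.mp hD
  have key : ∀ s : Finset ι, finrank F ↥(s.sup D) = ∑ i ∈ s, finrank F (D i) := by
    intro s
    induction s using Finset.induction_on with
    | empty => simp
    | insert i s his ih =>
      rw [Finset.sup_insert, Finset.sum_insert his, ← ih]
      have hdis : Disjoint (D i) (s.sup D) :=
        h (Finset.subset_univ s) (Finset.mem_univ i) his
      have h2 := Submodule.finrank_sup_add_finrank_inf_eq (D i) (s.sup D)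
      rw [hdis.eq_bot, finrank_bot] at h2
      omega
  rw [← key Finset.univ, Finset.sup_univ_eq_iSup]

/-- independence of `Fin.cons` -/
theorem indep_cons {t : ℕ} (W : Submodule F V) (D : Fin t → Submodule F V) (hD : iSupIndep D)
    (hW : Disjoint W (⨆ i, D i)) :
    iSupIndep (Fin.cons W D : Fin (t + 1) → Submodule F V) := by
  rw [iSupIndep_def]
  intro i
  refine Fin.cases ?_ ?_ i
  · rw [Fin.cons_zero]
    refine hW.mono_right ?_
    apply iSup₂_le
    intro j hj
    obtain ⟨j', rfl⟩ := Fin.exists_succ_eq.mpr hj
    rw [Fin.cons_succ]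
    exact le_iSup D j'
  · intro s
    rw [Fin.cons_succ]
    have h1 : Disjoint (D s) (⨆ (j) (_ : j ≠ s), D j) := (iSupIndep_def.mp hD) s
    have h2 : Disjoint (D s ⊔ ⨆ (j) (_ : j ≠ s), D j) W := by
      refine hW.symm.mono_left ?_
      apply sup_le (le_iSup D s)
      exact iSup₂_le fun j _ => le_iSup D j
    have h3 := h1.disjoint_sup_right_of_disjoint_sup_left h2
    refine h3.mono_right ?_
    apply iSup₂_le
    intro j hj
    cases j using Fin.cases with
    | zero =>
      rw [Fin.cons_zero]
      exact le_sup_right
    | succ j' =>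
      rw [Fin.cons_succ]
      refine le_trans ?_ le_sup_left
      have : j' ≠ s := fun h => hj (by rw [h])
      exact le_iSup₂_of_le j' this le_rfl

theorem iSup_cons {t : ℕ} (W : Submodule F V) (D : Fin t → Submodule F V) :
    (⨆ i, (Fin.cons W D : Fin (t + 1) → Submodule F V) i) = W ⊔ ⨆ i, D i := by
  apply le_antisymm
  · apply iSup_le
    intro i
    refine Fin.cases ?_ ?_ i
    · rw [Fin.cons_zero]; exact le_sup_left
    · intro j
      rw [Fin.cons_succ]
      exact le_trans (le_iSup D j) le_sup_right
  · apply sup_le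
    · have := le_iSup (Fin.cons W D : Fin (t + 1) → Submodule F V) 0
      rwa [Fin.cons_zero] at this
    · apply iSup_le
      intro j
      have := le_iSup (Fin.cons W D : Fin (t + 1) → Submodule F V) j.succ
      rwa [Fin.cons_succ] at this

/-- an invariant subspace of an invertible map is mapped onto itself -/
theorem map_eq_of_inv (r : ℕ) (hr : r ≠ 0) (z : F) (hz : z ≠ 0) (f : V →ₗ[F] V)
    (hf : f ^ r = z • 1) (W : Submodule F V) (hW : Inv f W) : W.map f = W := by
  apply le_antisymm
  · rintro _ ⟨w, hw, rfl⟩
    exact hW w hw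
  · intro w hw
    refine ⟨z⁻¹ • (f ^ (r - 1)) w, Submodule.smul_mem _ _ (hW.pow_mem _ w hw), ?_⟩
    rw [map_smul, ← Module.End.mul_apply, ← pow_succ', Nat.sub_add_cancel
      (Nat.one_le_iff_ne_zero.mpr hr), hf, LinearMap.smul_apply, Module.End.one_apply, smul_smul,
      inv_mul_cancel₀ hz, one_smul]

/-- a basis permuted up to scalars, together with a colouring of the basis vectors compatible
with the permutation, gives a decomposition permuted by the map -/
theorem mono_decomp {κ : Type*} [Fintype κ] (B : Basis κ F V) (x : V →ₗ[F] V)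
    (π : Equiv.Perm κ) (u : κ → F) (hu : ∀ k, u k ≠ 0) (hx : ∀ k, x (B k) = u k • B (π k))
    {t a : ℕ} (E : κ ≃ Fin t × Fin a) (σ : Equiv.Perm (Fin t))
    (hcol : ∀ k, (E (π k)).1 = σ (E k).1) :
    ∃ D : Fin t → Submodule F V, (∀ s, finrank F (D s) = a) ∧ iSupIndep D ∧ iSup D = ⊤ ∧
      ∀ s, (D s).map x = D (σ s) := by
  classical
  refine ⟨fun s => Submodule.span F (B '' {k | (E k).1 = s}), ?_, ?_, ?_, ?_⟩
  · intro s
    have h1 : B '' {k | (E k).1 = s} = Set.range (fun k : {k // (E k).1 = s} => B k) := by
      ext v
      constructor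
      · rintro ⟨k, hk, rfl⟩
        exact ⟨⟨k, hk⟩, rfl⟩
      · rintro ⟨⟨k, hk⟩, rfl⟩
        exact ⟨k, hk, rfl⟩
    show finrank F ↥(Submodule.span F (B '' {k | (E k).1 = s})) = a
    rw [h1]
    have hli : LinearIndependent F (fun k : {k // (E k).1 = s} => B k) :=
      B.linearIndependent.comp _ Subtype.val_injective
    rw [finrank_span_eq_card hli]
    have e2 : {k // (E k).1 = s} ≃ Fin a :=
      { toFun := fun k => (E k.1).2
        invFun := fun i => ⟨E.symm (s, i), by simp⟩
        left_inv := by
          rintro ⟨k, hk⟩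
          apply Subtype.ext
          simp only
          rw [← hk, Prod.mk.eta, Equiv.symm_apply_apply]
        right_inv := by
          intro i
          simp }
    rw [Fintype.card_congr e2, Fintype.card_fin]
  · rw [iSupIndep_def]
    intro s
    have h1 : (⨆ (j) (_ : j ≠ s), Submodule.span F (B '' {k | (E k).1 = j})) ≤
        Submodule.span F (B '' {k | (E k).1 ≠ s}) := by
      apply iSup₂_le
      intro j hj
      apply Submodule.span_mono
      apply Set.image_mono
      intro k hk
      simp only [Set.mem_ofPred_eq] at hk ⊢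
      rw [hk]; exact hj
    refine Disjoint.mono_right h1 ?_
    apply B.linearIndependent.disjoint_span_image
    rw [Set.disjoint_left]
    intro k hk hk'
    exact hk' hk
  · rw [eq_top_iff, ← B.span_eq]
    apply Submodule.span_le.mpr
    rintro _ ⟨k, rfl⟩
    have : B k ∈ Submodule.span F (B '' {k' | (E k').1 = (E k).1}) :=
      Submodule.subset_span ⟨k, rfl, rfl⟩
    exact (le_iSup (fun s => Submodule.span F (B '' {k | (E k).1 = s})) (E k).1) this
  · intro s
    rw [Submodule.map_span]
    apply le_antisymm
    · apply Submodule.span_le.mpr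
      rintro _ ⟨_, ⟨k, hk, rfl⟩, rfl⟩
      rw [hx]
      apply Submodule.smul_mem
      apply Submodule.subset_span
      refine ⟨π k, ?_, rfl⟩
      simp only [Set.mem_ofPred_eq] at hk ⊢
      rw [hcol, hk]
    · apply Submodule.span_le.mpr
      rintro _ ⟨k, hk, rfl⟩
      simp only [Set.mem_ofPred_eq] at hk
      have h1 : (E (π.symm k)).1 = s := by
        apply σ.injective
        rw [← hcol, Equiv.apply_symm_apply, hk]
      have h2 : B k = (u (π.symm k))⁻¹ • x (B (π.symm k)) := by
        rw [hx, Equiv.apply_symm_apply, smul_smul, inv_mul_cancel₀ (hu _), one_smul]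
      rw [h2]
      apply Submodule.smul_mem
      apply Submodule.subset_span
      exact ⟨B (π.symm k), ⟨π.symm k, h1, rfl⟩, rfl⟩

end Cfsg.Agent.Lib.Helper98.Elus
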