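import Cfsg.Agent.Lib.Helper98.Elus14

set_option autoImplicit false
set_option linter.unusedSimpArgs false
set_option linter.unusedSectionVars false
set_option linter.unusedVariables false
set_option linter.style.haveILetI false

/-!
# S5958 (helper98): elements whose `r`-th power is a scalar that is not an `r`-th power
-/

namespace Cfsg.Agent.Lib.Helper98.Elus

open Module Polynomial

universe u
variable {F : Type u} [Field F] {V : Type u} [AddCommGroup V] [Module F V]

/-- a basis of the form `x ^ k (e j)` -/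
theorem exists_cyclic_basis [FiniteDimensional F V] (r : ℕ) [Fact r.Prime] (z : F)
    (hz : ∀ d : F, d ^ r ≠ z) (x : V →ₗ[F] V) (hx : x ^ r = z • 1) :
    ∃ (m : ℕ) (B : Basis (Fin r × Fin m) F V) (e : Fin m → V), r * m = finrank F V ∧
      ∀ k j, B (k, j) = (x ^ (k : ℕ)) (e j) := by
  classical
  have hr : r.Prime := Fact.out
  have hirr : Irreducible (X ^ r - C z : F[X]) := X_pow_sub_C_irreducible_of_prime hr hz
  haveI : Fact (Irreducible (X ^ r - C z : F[X])) := ⟨hirr⟩
  have hne : (X ^ r - C z : F[X]) ≠ 0 := hirr.ne_zero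
  have hdeg : (X ^ r - C z : F[X]).natDegree = r := natDegree_X_pow_sub_C
  have haev : aeval x (X ^ r - C z : F[X]) = 0 := by
    rw [map_sub, map_pow, aeval_X, aeval_C, hx, Algebra.algebraMap_eq_smul_one, sub_self]
  let φ : AdjoinRoot (X ^ r - C z : F[X]) →ₐ[F] Module.End F V :=
    Ideal.Quotient.liftₐ (Ideal.span {(X ^ r - C z : F[X])}) (aeval x) (by
      intro g hg
      obtain ⟨h, rfl⟩ := Ideal.mem_span_singleton.mp hg
      rw [map_mul, haev, zero_mul])
  have hφroot : φ (AdjoinRoot.root _) = x := by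
    show φ (AdjoinRoot.mk _ X) = x
    show (aeval x) X = x
    exact aeval_X x
  letI : Module (AdjoinRoot (X ^ r - C z : F[X])) V := Module.compHom V (φ : _ →+* Module.End F V)
  have hsmul : ∀ (k : AdjoinRoot (X ^ r - C z : F[X])) (v : V), k • v = φ k v := fun _ _ => rfl
  haveI : IsScalarTower F (AdjoinRoot (X ^ r - C z : F[X])) V := ⟨fun a k v => by
    rw [hsmul, hsmul, map_smul, LinearMap.smul_apply]⟩
  haveI : Module.Finite (AdjoinRoot (X ^ r - C z : F[X])) V :=
    Module.Finite.of_restrictScalars_finite F _ V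
  let pb := AdjoinRoot.powerBasis hne
  have hpbdim : pb.dim = r := by rw [AdjoinRoot.powerBasis_dim, hdeg]
  have hfinK : finrank F (AdjoinRoot (X ^ r - C z : F[X])) = r := by
    rw [pb.finrank, hpbdim]
  have hmul := Module.finrank_mul_finrank F (AdjoinRoot (X ^ r - C z : F[X])) V
  rw [hfinK] at hmul
  let bK := Module.finBasis (AdjoinRoot (X ^ r - C z : F[X])) V
  let B0 := pb.basis.smulTower bK
  let B := B0.reindex (Equiv.prodCongr (finCongr hpbdim) (Equiv.refl _))
  refine ⟨_, B, fun j => bK j, hmul, ?_⟩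
  intro k j
  show (B0.reindex (Equiv.prodCongr (finCongr hpbdim) (Equiv.refl _))) (k, j) = _
  rw [Basis.reindex_apply]
  show (pb.basis.smulTower bK) ((finCongr hpbdim).symm k, j) = _
  rw [Basis.smulTower_apply, PowerBasis.coe_basis, hsmul]
  show φ (pb.gen ^ (((finCongr hpbdim).symm k : Fin pb.dim) : ℕ)) (bK j) = _
  rw [map_pow, AdjoinRoot.powerBasis_gen, hφroot]
  rfl

/-- decomposition permuted by an element whose `r`-th power is not an `r`-th power -/
theorem typeII_decomp [FiniteDimensional F V] (r : ℕ) [Fact r.Prime] (z : F)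
    (hz : ∀ d : F, d ^ r ≠ z) (x : V →ₗ[F] V) (hx : x ^ r = z • 1) (a t : ℕ)
    (hV : finrank F V = a * t) (hcase : r ∣ a ∨ r ∣ t) :
    ∃ D : Fin t → Submodule F V, (∀ s, finrank F (D s) = a) ∧ iSupIndep D ∧ iSup D = ⊤ ∧
      ∃ σ : Equiv.Perm (Fin t), ∀ s, (D s).map x = D (σ s) := by
  classical
  have hr : r.Prime := Fact.out
  haveI : NeZero r := ⟨hr.ne_zero⟩
  have hr2 : 2 ≤ r := hr.two_le
  obtain ⟨m, B, e, hm, hB⟩ := exists_cyclic_basis r z hz x hx
  have hz0 : z ≠ 0 := by
    intro h
    apply hz 0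
    rw [h, zero_pow hr.ne_zero]
  let π : Equiv.Perm (Fin r × Fin m) :=
    Equiv.prodCongr (Equiv.addRight (1 : Fin r)) (Equiv.refl (Fin m))
  let u : Fin r × Fin m → F := fun q => if (q.1 : ℕ) + 1 = r then z else 1
  have hu : ∀ q, u q ≠ 0 := by
    intro q
    show (if (q.1 : ℕ) + 1 = r then z else 1) ≠ 0
    split_ifs
    · exact hz0
    · exact one_ne_zero
  have hxB : ∀ q, x (B q) = u q • B (π q) := by
    rintro ⟨k, j⟩
    show x (B (k, j)) = (if (k : ℕ) + 1 = r then z else 1) • B (k + 1, j)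
    rw [hB, hB, ← Module.End.mul_apply, ← pow_succ', Fin.val_add, Fin.val_one', Nat.add_mod_mod]
    split_ifs with h
    · rw [h, Nat.mod_self, pow_zero, hx]
      rfl
    · have hk := k.2
      rw [Nat.mod_eq_of_lt (by omega), one_smul]
  rw [hV] at hm
  rcases hcase with ⟨a0, ha0⟩ | ⟨t0, ht0⟩
  · -- invariant summands
    have hm' : m = t * a0 := by
      rw [ha0, mul_assoc] at hm
      have := Nat.eq_of_mul_eq_mul_left hr.pos hm
      rw [this, mul_comm]
    let e1 : Fin m ≃ Fin t × Fin a0 := (finCongr hm').trans finProdFinEquiv.symm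
    let ea : Fin r × Fin a0 ≃ Fin a := finProdFinEquiv.trans (finCongr ha0.symm)
    let E : Fin r × Fin m ≃ Fin t × Fin a :=
      { toFun := fun q => ((e1 q.2).1, ea (q.1, (e1 q.2).2))
        invFun := fun q => ((ea.symm q.2).1, e1.symm (q.1, (ea.symm q.2).2))
        left_inv := by
          rintro ⟨k, j⟩
          simp
        right_inv := by
          rintro ⟨s, i⟩
          simp }
    obtain ⟨D, h1, h2, h3, h4⟩ := mono_decomp B x π u hu hxB E 1 (by
      rintro ⟨k, j⟩
      rfl)
    exact ⟨D, h1, h2, h3, 1, h4⟩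
  · -- summands permuted in cycles of length `r`
    have hm' : m = t0 * a := by
      rw [ht0] at hm
      have h : r * m = r * (t0 * a) := by rw [hm]; ring
      exact Nat.eq_of_mul_eq_mul_left hr.pos h
    let e1 : Fin m ≃ Fin t0 × Fin a := (finCongr hm').trans finProdFinEquiv.symm
    let et : Fin r × Fin t0 ≃ Fin t := finProdFinEquiv.trans (finCongr ht0.symm)
    let E : Fin r × Fin m ≃ Fin t × Fin a :=
      { toFun := fun q => (et (q.1, (e1 q.2).1), (e1 q.2).2)
        invFun := fun q => ((et.symm q.1).1, e1.symm ((et.symm q.1).2, q.2))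
        left_inv := by
          rintro ⟨k, j⟩
          simp
        right_inv := by
          rintro ⟨s, i⟩
          simp }
    let σ : Equiv.Perm (Fin t) :=
      et.symm.trans ((Equiv.prodCongr (Equiv.addRight (1 : Fin r)) (Equiv.refl (Fin t0))).trans et)
    obtain ⟨D, h1, h2, h3, h4⟩ := mono_decomp B x π u hu hxB E σ (by
      rintro ⟨k, j⟩
      show et (k + 1, (e1 j).1) = et (Equiv.prodCongr (Equiv.addRight (1 : Fin r))
        (Equiv.refl (Fin t0)) (et.symm (et (k, (e1 j).1))))
      rw [Equiv.symm_apply_apply]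
      rfl)
    exact ⟨D, h1, h2, h3, σ, h4⟩

end Cfsg.Agent.Lib.Helper98.Elus
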