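import Cfsg.Agent.Lib.Helper98.Elus15

set_option autoImplicit false
set_option linter.unusedSimpArgs false
set_option linter.unusedSectionVars false
set_option linter.unusedVariables false
set_option linter.style.haveILetI false

/-!
# S5958 (helper98): numerical consequences of a decomposition permuted by an element of order `r`
-/

namespace Cfsg.Agent.Lib.Helper98.Elus

open Module Polynomial

universe u
variable {F : Type u} [Field F] {V : Type u} [AddCommGroup V] [Module F V]

theorem gsum_mul_pow (r : ℕ) (y : V →ₗ[F] V) (hy : y ^ r = 1) (k : ℕ) :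
    gsum r y * y ^ k = gsum r y := by
  induction k with
  | zero => simp
  | succ k ih => rw [pow_succ, ← mul_assoc, ih, gsum_comm, mul_gsum r y hy]

section Perm

variable (r : ℕ) [hrf : Fact r.Prime] (y : V →ₗ[F] V) (hy : y ^ r = 1) {t a : ℕ}
  (D : Fin t → Submodule F V) (hDd : ∀ j, finrank F (D j) = a) (ha : 1 ≤ a)
  (hind : iSupIndep D) (σ : Equiv.Perm (Fin t)) (hσ : ∀ j, (D j).map y = D (σ j))

include hσ in
theorem pd_map_pow (k : ℕ) (j : Fin t) : (D j).map (y ^ k) = D ((σ ^ k) j) := by
  induction k with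
  | zero => simp [Module.End.one_eq_id]
  | succ k ih =>
    rw [pow_succ', Module.End.mul_eq_comp, Submodule.map_comp, ih, hσ, pow_succ',
      Equiv.Perm.mul_apply]

include hσ in
theorem pd_pow_mem (k : ℕ) (j : Fin t) (d : V) (hd : d ∈ D j) : (y ^ k) d ∈ D ((σ ^ k) j) := by
  rw [← pd_map_pow y D σ hσ k j]
  exact ⟨d, hd, rfl⟩

include hDd ha hind in
theorem pd_injective [FiniteDimensional F V] : Function.Injective D := by
  apply hind.injective
  intro i h
  have := hDd i
  rw [h, finrank_bot] at this
  omega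

include hy hDd ha hind hσ in
theorem pd_pow_r [FiniteDimensional F V] (j : Fin t) : (σ ^ r) j = j := by
  apply pd_injective D hDd ha hind
  rw [← pd_map_pow y D σ hσ r j, hy, Module.End.one_eq_id, Submodule.map_id]

include hy hDd ha hind hσ in
theorem pd_pow_ne [FiniteDimensional F V] (j : Fin t) (hj : σ j ≠ j) (k : ℕ) (hk0 : 0 < k)
    (hkr : k < r) : (σ ^ k) j ≠ j := by
  have hr : r.Prime := hrf.out
  intro h
  have h1 : Function.IsPeriodicPt σ k j := by
    rw [Function.IsPeriodicPt, Function.IsFixedPt, Equiv.Perm.iterate_eq_pow]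
    exact h
  have h2 : Function.IsPeriodicPt σ r j := by
    rw [Function.IsPeriodicPt, Function.IsFixedPt, Equiv.Perm.iterate_eq_pow]
    exact pd_pow_r r y hy D hDd ha hind σ hσ j
  have h3 := h1.gcd h2
  have hcop : Nat.Coprime k r := by
    apply Nat.Coprime.symm
    rw [Nat.Prime.coprime_iff_not_dvd hr]
    intro hd
    have := Nat.le_of_dvd hk0 hd
    omega
  rw [hcop] at h3
  apply hj
  have h4 : σ^[1] j = j := h3
  simpa using h4

include hy hDd ha hind hσ in
theorem pd_rest_mem [FiniteDimensional F V] (j : Fin t) (hj : σ j ≠ j) (d : V) (hd : d ∈ D j)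
    (r' : ℕ) (hr' : r = r' + 1) :
    ∑ k ∈ Finset.range r', (y ^ (k + 1)) d ∈ ⨆ (i) (_ : i ≠ j), D i := by
  apply Submodule.sum_mem
  intro k hk
  have hk' := Finset.mem_range.mp hk
  have hne : (σ ^ (k + 1)) j ≠ j :=
    pd_pow_ne r y hy D hDd ha hind σ hσ j hj (k + 1) (by omega) (by omega)
  exact Submodule.mem_iSup_of_mem _ (Submodule.mem_iSup_of_mem hne
    (pd_pow_mem y D σ hσ (k + 1) j d hd))

include hy hDd ha hind hσ in
/-- the geometric sum is injective on a summand that is moved -/
theorem pd_gsum_inj [FiniteDimensional F V] (j : Fin t) (hj : σ j ≠ j) (d : V) (hd : d ∈ D j)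
    (hG : gsum r y d = 0) : d = 0 := by
  have hr : r.Prime := hrf.out
  obtain ⟨r', hr'⟩ : ∃ r', r = r' + 1 := ⟨r - 1, by have := hr.two_le; omega⟩
  have hrest := pd_rest_mem r y hy D hDd ha hind σ hσ j hj d hd r' hr'
  rw [gsum_apply, hr', Finset.sum_range_succ', pow_zero, Module.End.one_apply] at hG
  have hd' : d = -∑ k ∈ Finset.range r', (y ^ (k + 1)) d := by
    rw [eq_neg_iff_add_eq_zero, add_comm]
    exact hG
  have hdis := (iSupIndep_def.mp hind) j
  rw [Submodule.disjoint_def] at hdis
  apply hdis d hd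
  rw [hd']
  exact Submodule.neg_mem _ hrest

include hy hDd ha hind hσ in
theorem pd_le_range [FiniteDimensional F V] (j : Fin t) (hj : σ j ≠ j) :
    a ≤ finrank F (LinearMap.range (gsum r y)) := by
  have h1 := finrank_eq_inf_ker_add_map (gsum r y) (D j)
  have h2 : D j ⊓ LinearMap.ker (gsum r y) = ⊥ := by
    rw [eq_bot_iff]
    intro d hd
    obtain ⟨hd1, hd2⟩ := Submodule.mem_inf.mp hd
    rw [Submodule.mem_bot]
    exact pd_gsum_inj r y hy D hDd ha hind σ hσ j hj d hd1 (LinearMap.mem_ker.mp hd2)
  rw [h2, finrank_bot, zero_add, hDd j] at h1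
  rw [h1]
  exact Submodule.finrank_mono (LinearMap.map_le_range)

include hy hind hσ in
theorem pd_sum_fixed [FiniteDimensional F V] (hsup : iSup D = ⊤) (hfix : ∀ j, σ j = j) :
    ∑ j, finrank F ↥((D j).map (gsum r y)) = finrank F (LinearMap.range (gsum r y)) := by
  have hinv : ∀ j, Inv y (D j) := by
    intro j v hv
    have : y v ∈ (D j).map y := ⟨v, hv, rfl⟩
    rwa [hσ, hfix] at this
  have hmapD : ∀ j, (D j).map (gsum r y) ≤ D j := by
    rintro j _ ⟨v, hv, rfl⟩
    exact gsum_mem_of_inv r y (D j) (hinv j) v hv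
  have hind' : iSupIndep (fun j => (D j).map (gsum r y)) := hind.mono hmapD
  have h1 : LinearMap.range (gsum r y) = ⨆ j, (D j).map (gsum r y) := by
    rw [← Submodule.map_top, ← hsup, Submodule.map_iSup]
  rw [h1, finrank_iSup_of_indep _ hind']

include hy hDd ha hind hσ in
theorem pd_cycle_bound [FiniteDimensional F V] (j : Fin t) (hj : σ j ≠ j) :
    r * a ≤ finrank F (LinearMap.ker (gsum r y)) + a := by
  have hr : r.Prime := hrf.out
  let f : Fin r → Fin t := fun k => (σ ^ (k : ℕ)) j
  have hlt : ∀ k k' : Fin r, (k : ℕ) < (k' : ℕ) → f k ≠ f k' := by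
    intro k k' hkk' h
    have h1 : (σ ^ (k' : ℕ)) j = (σ ^ (k : ℕ)) ((σ ^ ((k' : ℕ) - (k : ℕ))) j) := by
      rw [← Equiv.Perm.mul_apply, ← pow_add, Nat.add_sub_cancel' (le_of_lt hkk')]
    have h2 : (σ ^ ((k' : ℕ) - (k : ℕ))) j = j := by
      apply (σ ^ (k : ℕ)).injective
      rw [← h1]
      exact h.symm
    exact pd_pow_ne r y hy D hDd ha hind σ hσ j hj _ (by omega) (by have := k'.2; omega) h2
  have hf : Function.Injective f := by
    intro k k' h
    rcases lt_trichotomy (k : ℕ) (k' : ℕ) with h1 | h1 | h1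
    · exact absurd h (hlt k k' h1)
    · exact Fin.ext h1
    · exact absurd h.symm (hlt k' k h1)
  have hindS : iSupIndep (fun k => D (f k)) := hind.comp hf
  have hS := finrank_iSup_of_indep _ hindS
  simp only [hDd, Finset.sum_const, Finset.card_univ, Fintype.card_fin, smul_eq_mul] at hS
  have hmap : (⨆ k, D (f k)).map (gsum r y) ≤ (D j).map (gsum r y) := by
    rw [Submodule.map_iSup]
    apply iSup_le
    intro k
    rintro _ ⟨w, hw, rfl⟩
    have hw' : w ∈ (D j).map (y ^ (k : ℕ)) := by
      rw [pd_map_pow y D σ hσ]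
      exact hw
    obtain ⟨d, hd, rfl⟩ := hw'
    refine ⟨d, hd, ?_⟩
    rw [← Module.End.mul_apply, gsum_mul_pow r y hy]
  have h1 := finrank_eq_inf_ker_add_map (gsum r y) (⨆ k, D (f k))
  have h2 := Submodule.finrank_mono hmap
  have h3 := Submodule.finrank_map_le (gsum r y) (D j)
  rw [hDd j] at h3
  have h4 : finrank F ↥((⨆ k, D (f k)) ⊓ LinearMap.ker (gsum r y)) ≤
      finrank F (LinearMap.ker (gsum r y)) := Submodule.finrank_mono inf_le_right
  omega

include hy hind hσ in
/-- a decomposition into lines permuted by `y`: the number of lines is at most `r` times the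
dimension of the image of the geometric sum -/
theorem pd_lines_bound [FiniteDimensional F V] (hD1 : ∀ j, finrank F (D j) = 1)
    (hfix : ∀ i, σ i = i → ∀ d ∈ D i, gsum r y d = 0 → d = 0) :
    t ≤ r * finrank F (LinearMap.range (gsum r y)) := by
  classical
  have hr : r.Prime := hrf.out
  obtain ⟨r', hr'⟩ : ∃ r', r = r' + 1 := ⟨r - 1, by have := hr.two_le; omega⟩
  have hne : ∀ j, ∃ w ∈ D j, w ≠ 0 := by
    intro j
    apply Submodule.exists_mem_ne_zero_of_ne_bot
    intro h
    have := hD1 j
    rw [h, finrank_bot] at this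
    omega
  choose w hwD hw0 using hne
  have hdisj : ∀ i, ∀ v ∈ D i, v ∈ (⨆ (i') (_ : i' ≠ i), D i') → v = 0 := by
    intro i
    have hdis := (iSupIndep_def.mp hind) i
    rw [Submodule.disjoint_def] at hdis
    exact hdis
  let orb : Fin t → Finset (Fin t) := fun j => (Finset.range r).image (fun k => (σ ^ k) j)
  -- claim B
  have hB : ∀ i j, i ∉ orb j → gsum r y (w j) ∈ ⨆ (i') (_ : i' ≠ i), D i' := by
    intro i j hij
    rw [gsum_apply]
    apply Submodule.sum_mem
    intro k hk
    have hne : (σ ^ k) j ≠ i := by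
      intro h
      apply hij
      exact Finset.mem_image.mpr ⟨k, hk, h⟩
    exact Submodule.mem_iSup_of_mem _ (Submodule.mem_iSup_of_mem hne
      (pd_pow_mem y D σ hσ k j (w j) (hwD j)))
  -- claim A
  have hA : ∀ i, gsum r y (w i) ∉ ⨆ (i') (_ : i' ≠ i), D i' := by
    intro i hmem
    by_cases hi : σ i = i
    · have hinv : Inv y (D i) := by
        intro v hv
        have : y v ∈ (D i).map y := ⟨v, hv, rfl⟩
        rwa [hσ, hi] at this
      have h1 : gsum r y (w i) ∈ D i := gsum_mem_of_inv r y (D i) hinv _ (hwD i)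
      have h2 := hdisj i _ h1 hmem
      exact hw0 i (hfix i hi (w i) (hwD i) h2)
    · have hrest := pd_rest_mem r y hy D hD1 le_rfl hind σ hσ i hi (w i) (hwD i) r' hr'
      have h1 : gsum r y (w i) = ∑ k ∈ Finset.range r', (y ^ (k + 1)) (w i) + w i := by
        rw [gsum_apply, hr', Finset.sum_range_succ', pow_zero, Module.End.one_apply]
      have h2 : w i ∈ ⨆ (i') (_ : i' ≠ i), D i' := by
        have := Submodule.sub_mem _ hmem hrest
        rwa [h1, add_sub_cancel_left] at this
      exact hw0 i (hdisj i _ (hwD i) h2)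
  -- a basis of the span of the `gsum (w j)`
  obtain ⟨bset, hbsub, hbspan, hbli⟩ :=
    exists_linearIndependent F (Set.range (fun j => gsum r y (w j)))
  have hbfin : bset.Finite := Set.Finite.subset (Set.finite_range _) hbsub
  haveI : Fintype bset := hbfin.fintype
  have hcardb : bset.toFinset.card ≤ finrank F (LinearMap.range (gsum r y)) := by
    rw [← finrank_span_set_eq_card (R := F) hbli]
    apply Submodule.finrank_mono
    rw [hbspan]
    apply Submodule.span_le.mpr
    rintro _ ⟨j, rfl⟩
    exact LinearMap.mem_range_self _ _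
  have hpick : ∀ β : bset, ∃ j, gsum r y (w j) = β := fun β => hbsub β.2
  choose pick hpickβ using hpick
  let S : Finset (Fin t) := Finset.univ.image pick
  have hScard : S.card ≤ bset.toFinset.card := by
    calc S.card ≤ (Finset.univ : Finset bset).card := Finset.card_image_le
      _ = bset.toFinset.card := by
        rw [Finset.card_univ, Set.toFinset_card]
  have hcover : ∀ i, ∃ j ∈ S, i ∈ orb j := by
    intro i
    by_contra hcon
    push Not at hcon
    apply hA i
    have h1 : gsum r y (w i) ∈ Submodule.span F bset := by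
      rw [hbspan]
      exact Submodule.subset_span ⟨i, rfl⟩
    have h2 : Submodule.span F bset ≤ ⨆ (i') (_ : i' ≠ i), D i' := by
      apply Submodule.span_le.mpr
      intro β hβ
      have h3 := hpickβ ⟨β, hβ⟩
      simp only at h3
      rw [← h3]
      apply hB
      apply hcon
      exact Finset.mem_image.mpr ⟨⟨β, hβ⟩, Finset.mem_univ _, rfl⟩
    exact h2 h1
  have hsub : (Finset.univ : Finset (Fin t)) ⊆ S.biUnion orb := by
    intro i _
    obtain ⟨j, hj, hij⟩ := hcover i
    exact Finset.mem_biUnion.mpr ⟨j, hj, hij⟩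
  have h1 := Finset.card_le_card hsub
  rw [Finset.card_univ, Fintype.card_fin] at h1
  have h2 : (S.biUnion orb).card ≤ S.card * r := by
    calc (S.biUnion orb).card ≤ ∑ j ∈ S, (orb j).card := Finset.card_biUnion_le
      _ ≤ ∑ j ∈ S, r := by
        apply Finset.sum_le_sum
        intro j _
        calc (orb j).card ≤ (Finset.range r).card := Finset.card_image_le
          _ = r := Finset.card_range r
      _ = S.card * r := by rw [Finset.sum_const, smul_eq_mul]
  calc t ≤ S.card * r := le_trans h1 h2
    _ ≤ finrank F (LinearMap.range (gsum r y)) * r :=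
      Nat.mul_le_mul_right r (le_trans hScard hcardb)
    _ = r * finrank F (LinearMap.range (gsum r y)) := mul_comm _ _

end Perm

end Cfsg.Agent.Lib.Helper98.Elus
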