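import Cfsg.Agent.Lib.Helper98.Elus14

set_option autoImplicit false
set_option linter.unusedSimpArgs false
set_option linter.unusedSectionVars false
set_option linter.unusedVariables false
set_option linter.style.haveILetI false

/-!
# S5958 (helper98): counting ordered decompositions into subspaces of equal dimension
-/

namespace Cfsg.Agent.Lib.Helper98.Elus

open Module

universe u
variable {F : Type u} [Field F] {V : Type u} [AddCommGroup V] [Module F V]

/-- ordered decompositions into subspaces of dimension `a` -/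
def IsDec (a : ℕ) {t : ℕ} (D : Fin t → Submodule F V) : Prop :=
  (∀ i, finrank F (D i) = a) ∧ iSupIndep D ∧ iSup D = ⊤

theorem IsDec.injective [FiniteDimensional F V] {a t : ℕ} (ha : 1 ≤ a)
    {D : Fin t → Submodule F V} (hD : IsDec a D) : Function.Injective D := by
  apply hD.2.1.injective
  intro i h
  have := hD.1 i
  rw [h, finrank_bot] at this
  omega

/-- existence of a decomposition -/
theorem exists_isDec [FiniteDimensional F V] (a t : ℕ) (hV : finrank F V = a * t) :
    ∃ D : Fin t → Submodule F V, IsDec a D := by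
  classical
  have hV' : finrank F V = Fintype.card (Fin t × Fin a) := by
    rw [Fintype.card_prod, Fintype.card_fin, Fintype.card_fin, hV, mul_comm]
  let B : Basis (Fin t × Fin a) F V :=
    (Module.finBasisOfFinrankEq F V hV).reindex
      ((finCongr (mul_comm a t)).trans finProdFinEquiv.symm)
  obtain ⟨D, h1, h2, h3, _⟩ := mono_decomp B LinearMap.id 1 (fun _ => 1) (fun _ => one_ne_zero)
    (fun k => by simp) (Equiv.refl _) 1 (fun k => rfl)
  exact ⟨D, h1, h2, h3⟩

/-- the linear group is transitive on decompositions -/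
theorem exists_equiv_of_isDec [FiniteDimensional F V] {a t : ℕ} (D D' : Fin t → Submodule F V)
    (hD : IsDec a D) (hD' : IsDec a D') :
    ∃ g : V ≃ₗ[F] V, ∀ i, (D i).map (g : V →ₗ[F] V) = D' i := by
  classical
  have hI := DirectSum.isInternal_submodule_of_iSupIndep_of_iSup_eq_top hD.2.1 hD.2.2
  have hI' := DirectSum.isInternal_submodule_of_iSupIndep_of_iSup_eq_top hD'.2.1 hD'.2.2
  let β : ∀ i, Basis (Fin a) F (D i) := fun i => Module.finBasisOfFinrankEq F (D i) (hD.1 i)
  let β' : ∀ i, Basis (Fin a) F (D' i) := fun i => Module.finBasisOfFinrankEq F (D' i) (hD'.1 i)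
  let cb := hI.collectedBasis β
  let cb' := hI'.collectedBasis β'
  let g := cb.equiv cb' (Equiv.refl _)
  have hg : ∀ q, g (cb q) = cb' q := by
    intro q
    simp [g]
  have hspan : ∀ i, D i = Submodule.span F (Set.range (fun s : Fin a => cb ⟨i, s⟩)) := by
    intro i
    have h1 : (fun s : Fin a => cb ⟨i, s⟩) = (D i).subtype ∘ (β i) := by
      funext s
      simp [cb, DirectSum.IsInternal.collectedBasis_coe]
    rw [h1, Set.range_comp, ← Submodule.map_span, (β i).span_eq, Submodule.map_subtype_top]
  have hspan' : ∀ i, D' i = Submodule.span F (Set.range (fun s : Fin a => cb' ⟨i, s⟩)) := by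
    intro i
    have h1 : (fun s : Fin a => cb' ⟨i, s⟩) = (D' i).subtype ∘ (β' i) := by
      funext s
      simp [cb', DirectSum.IsInternal.collectedBasis_coe]
    rw [h1, Set.range_comp, ← Submodule.map_span, (β' i).span_eq, Submodule.map_subtype_top]
  refine ⟨g, fun i => ?_⟩
  conv_lhs => rw [hspan i]
  rw [hspan' i, Submodule.map_span, ← Set.range_comp]
  congr 2
  funext s
  exact hg ⟨i, s⟩

/-- the number of decompositions divides the order of the linear group -/
theorem card_isDec_dvd [Finite F] [FiniteDimensional F V] (a t : ℕ) (hV : finrank F V = a * t) :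
    Nat.card {D : Fin t → Submodule F V // IsDec a D} ∣ Nat.card (V ≃ₗ[F] V) := by
  classical
  haveI : Finite V := Module.finite_of_finite F
  obtain ⟨D0, hD0⟩ := exists_isDec (F := F) (V := V) a t hV
  letI act : MulAction (V ≃ₗ[F] V) {D : Fin t → Submodule F V // IsDec a D} :=
    { smul := fun g D => ⟨fun i => (D.1 i).map (g : V →ₗ[F] V), by
        refine ⟨fun i => ?_, ?_, ?_⟩
        · rw [LinearEquiv.finrank_map_eq]
          exact D.2.1 i
        · have h := D.2.2.1.map_orderIso (Submodule.orderIsoMapComap g)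
          exact h
        · show (⨆ i, (D.1 i).map (g : V →ₗ[F] V)) = ⊤
          rw [← Submodule.map_iSup]
          have h3 : (⨆ i, D.1 i) = ⊤ := D.2.2.2
          rw [h3, Submodule.map_top, LinearEquiv.range]⟩
      one_smul := by
        rintro ⟨D, hD⟩
        apply Subtype.ext
        funext i
        show (D i).map ((1 : V ≃ₗ[F] V) : V →ₗ[F] V) = D i
        ext v
        simp
      mul_smul := by
        rintro g h ⟨D, hD⟩
        apply Subtype.ext
        funext i
        show (D i).map ((g * h : V ≃ₗ[F] V) : V →ₗ[F] V) =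
          ((D i).map (h : V →ₗ[F] V)).map (g : V →ₗ[F] V)
        ext v
        simp only [Submodule.mem_map, LinearEquiv.coe_coe, LinearEquiv.mul_apply]
        constructor
        · rintro ⟨w, hw, rfl⟩
          exact ⟨h w, ⟨w, hw, rfl⟩, rfl⟩
        · rintro ⟨_, ⟨w, hw, rfl⟩, rfl⟩
          exact ⟨w, hw, rfl⟩ }
  haveI : MulAction.IsPretransitive (V ≃ₗ[F] V) {D : Fin t → Submodule F V // IsDec a D} := by
    refine ⟨fun D D' => ?_⟩
    obtain ⟨g, hg⟩ := exists_equiv_of_isDec D.1 D'.1 D.2 D'.2
    refine ⟨g, ?_⟩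
    apply Subtype.ext
    funext i
    exact hg i
  have h1 := MulAction.index_stabilizer (V ≃ₗ[F] V)
    (⟨D0, hD0⟩ : {D : Fin t → Submodule F V // IsDec a D})
  rw [MulAction.orbit_eq_univ, Set.ncard_univ] at h1
  rw [← h1]
  exact Subgroup.index_dvd_card _

/-- the symmetric group acts freely on ordered decompositions -/
theorem factorial_dvd_card_isDec [Finite F] [FiniteDimensional F V] (a t : ℕ) (ha : 1 ≤ a) :
    t.factorial ∣ Nat.card {D : Fin t → Submodule F V // IsDec a D} := by
  classical
  haveI : Finite V := Module.finite_of_finite F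
  haveI : Fintype {D : Fin t → Submodule F V // IsDec a D} := Fintype.ofFinite _
  letI act : MulAction (Equiv.Perm (Fin t)) {D : Fin t → Submodule F V // IsDec a D} :=
    { smul := fun σ D => ⟨fun i => D.1 (σ⁻¹ i), by
        refine ⟨fun i => D.2.1 _, ?_, ?_⟩
        · exact D.2.2.1.comp (σ⁻¹ : Equiv.Perm (Fin t)).injective
        · show (⨆ i, D.1 ((σ⁻¹ : Equiv.Perm (Fin t)) i)) = ⊤
          rw [Equiv.iSup_comp (g := D.1) (σ⁻¹ : Equiv.Perm (Fin t))]
          exact D.2.2.2⟩
      one_smul := by
        rintro ⟨D, hD⟩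
        apply Subtype.ext
        funext i
        show D ((1 : Equiv.Perm (Fin t))⁻¹ i) = D i
        simp
      mul_smul := by
        rintro g h ⟨D, hD⟩
        apply Subtype.ext
        funext i
        show D ((g * h)⁻¹ i) = D (h⁻¹ (g⁻¹ i))
        simp [mul_inv_rev] }
  have hfree : ∀ (σ : Equiv.Perm (Fin t)) (D : {D : Fin t → Submodule F V // IsDec a D}),
      σ • D = D → σ = 1 := by
    intro σ D h
    have h1 : ∀ i, D.1 (σ⁻¹ i) = D.1 i := by
      intro i
      have := congrArg (fun E : {D : Fin t → Submodule F V // IsDec a D} => E.1 i) h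
      exact this
    have h2 : ∀ i, σ⁻¹ i = i := fun i => IsDec.injective ha D.2 (h1 i)
    have h3 : σ⁻¹ = 1 := Equiv.ext h2
    exact inv_eq_one.mp h3
  have hB := MulAction.sum_card_fixedBy_eq_card_orbits_mul_card_group (Equiv.Perm (Fin t))
    {D : Fin t → Submodule F V // IsDec a D}
  rw [Finset.sum_eq_single (1 : Equiv.Perm (Fin t))] at hB
  · have h1 : Fintype.card ↑(MulAction.fixedBy {D : Fin t → Submodule F V // IsDec a D}
        (1 : Equiv.Perm (Fin t))) = Fintype.card {D : Fin t → Submodule F V // IsDec a D} := by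
      apply Fintype.card_congr
      refine ⟨fun D => D.1, fun D => ⟨D, by simp⟩, fun D => rfl, fun D => rfl⟩
    rw [h1, Fintype.card_perm, Fintype.card_fin] at hB
    rw [Nat.card_eq_fintype_card, hB]
    exact Dvd.intro_left _ rfl
  · intro σ _ hσ
    rw [Fintype.card_eq_zero_iff]
    refine ⟨fun D => hσ (hfree σ D.1 D.2)⟩
  · intro h
    exact absurd (Finset.mem_univ _) h

/-- a prime dividing the number of unordered decompositions has small order of `q` -/
theorem le_of_dvd_card_isDec {F : Type u} [Field F] [Fintype F] {p : ℕ} [Fact p.Prime]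
    [CharP F p] (n a t : ℕ) (hn : n = a * t) (ha : 1 ≤ a) (hn0 : 0 < n) (r : ℕ)
    [Fact r.Prime] (hrp : r ≠ p)
    (h : r ∣ Nat.card {D : Fin t → Submodule F (Fin n → F) // IsDec a D} / t.factorial) :
    orderOf ((Fintype.card F : ℕ) : ZMod r) ≤ n := by
  classical
  obtain ⟨M, hM⟩ := factorial_dvd_card_isDec (F := F) (V := Fin n → F) a t ha
  rw [hM, Nat.mul_div_cancel_left _ (Nat.factorial_pos t)] at h
  have h1 : r ∣ Nat.card {D : Fin t → Submodule F (Fin n → F) // IsDec a D} := by
    rw [hM]
    exact Dvd.dvd.mul_left h _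
  have h2 := card_isDec_dvd (F := F) (V := Fin n → F) a t (by rw [Module.finrank_fin_fun, hn])
  have h3 : Nat.card ((Fin n → F) ≃ₗ[F] (Fin n → F)) = Nat.card (GL (Fin n) F) := by
    apply Nat.card_congr
    exact ((Matrix.GeneralLinearGroup.toLin (n := Fin n) (R := F)).trans
      (LinearMap.GeneralLinearGroup.generalLinearEquiv F (Fin n → F))).toEquiv.symm
  rw [h3, Matrix.card_GL_field] at h2
  have h4 : r ∣ Bprod (Fintype.card F) n n := by
    unfold Bprod
    exact dvd_trans h1 h2
  obtain ⟨j, hj, hdvd⟩ := dvd_Bprod (F := F) (p := p) r hrp n n le_rfl h4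
  have := Nat.le_of_dvd (by omega) hdvd
  omega

end Cfsg.Agent.Lib.Helper98.Elus
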