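import Cfsg.Agent.Lib.Helper98.Elus4

set_option autoImplicit false
set_option linter.unusedSimpArgs false
set_option linter.unusedSectionVars false
set_option linter.unusedVariables false
set_option linter.style.haveILetI false

/-!
# S5949 (helper98): the element with irreducible minimal polynomial `X^r - c`; transport to `SL_n`
-/

namespace Cfsg.Agent.Lib.Helper98.Elus

open Module Polynomial

universe u
variable {F : Type u} [Field F]

section B1

variable (c : F) (r k : ℕ)

/-- the space `A^k`, `A = F[X]/(X^r - c)` -/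
abbrev VA : Type u := Fin k → AdjoinRoot (X ^ r - C c : F[X])

/-- multiplication by the root -/
noncomputable def fA : VA c r k →ₗ[F] VA c r k where
  toFun v := fun j => AdjoinRoot.root (X ^ r - C c : F[X]) * v j
  map_add' := by
    intro v w
    ext; simp [mul_add]
  map_smul' := by
    intro a v
    ext; simp [mul_smul_comm]

theorem fA_pow (n : ℕ) (v : VA c r k) :
    (fA c r k ^ n) v = fun j => AdjoinRoot.root (X ^ r - C c : F[X]) ^ n * v j := by
  induction n with
  | zero => simp
  | succ n ih =>
    rw [pow_succ', Module.End.mul_apply, ih]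
    simp only [fA, LinearMap.coe_mk, AddHom.coe_mk]
    funext j
    rw [pow_succ', mul_assoc]

theorem rootA_pow : AdjoinRoot.root (X ^ r - C c : F[X]) ^ r = algebraMap F _ c := by
  have h : aeval (AdjoinRoot.root (X ^ r - C c : F[X])) (X ^ r - C c : F[X]) = 0 := by
    rw [AdjoinRoot.aeval_eq, AdjoinRoot.mk_self]
  simpa [sub_eq_zero] using h

theorem fA_pow_r : fA c r k ^ r = c • 1 := by
  apply LinearMap.ext
  intro v
  funext j
  rw [fA_pow, rootA_pow]
  simp [Algebra.smul_def]

theorem finrank_VA [Fintype F] (hr : r ≠ 0) : finrank F (VA c r k) = k * r := by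
  have hm : (X ^ r - C c : F[X]).Monic := monic_X_pow_sub_C c hr
  haveI := hm.finite_adjoinRoot
  haveI := hm.free_adjoinRoot
  have hA : finrank F (AdjoinRoot (X ^ r - C c : F[X])) = r := by
    rw [(AdjoinRoot.powerBasis' hm).finrank, AdjoinRoot.powerBasis'_dim, natDegree_X_pow_sub_C]
  rw [Module.finrank_pi_fintype]
  simp [hA]

end B1

/-- transport of an abstract endomorphism to a matrix in `SL_n` -/
theorem transport {V : Type*} [AddCommGroup V] [Module F V] [FiniteDimensional F V] (n : ℕ)
    (hV : finrank F V = n) (f : V →ₗ[F] V) (hdet : LinearMap.det f = 1) (r : ℕ) (c : F)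
    (hf : f ^ r = c • 1) (hns : ∀ d : F, f ≠ d • 1) (m : ℕ)
    (hno : ∀ W : Submodule F V, Inv f W → finrank F W ≠ m) :
    ∃ x : Matrix.SpecialLinearGroup (Fin n) F,
      ((x ^ r : Matrix.SpecialLinearGroup (Fin n) F) : Matrix (Fin n) (Fin n) F) =
          c • (1 : Matrix (Fin n) (Fin n) F) ∧
      (∀ d : F, (x : Matrix (Fin n) (Fin n) F) ≠ d • (1 : Matrix (Fin n) (Fin n) F)) ∧
      ¬ ∃ W : Submodule F (Fin n → F), finrank F W = m ∧
        W.map (Matrix.toLin' (x : Matrix (Fin n) (Fin n) F)) ≤ W := by
  classical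
  have e : V ≃ₗ[F] (Fin n → F) := LinearEquiv.ofFinrankEq _ _ (by rw [hV, Module.finrank_fin_fun])
  set g : (Fin n → F) →ₗ[F] (Fin n → F) := e.conj f with hg
  set M : Matrix (Fin n) (Fin n) F := LinearMap.toMatrix' g with hM
  have hMdet : M.det = 1 := by
    rw [hM, LinearMap.det_toMatrix', hg, LinearEquiv.conj_apply, LinearMap.comp_assoc,
      LinearMap.det_conj]
    exact hdet
  have hgM : Matrix.toLin' M = g := by rw [hM, Matrix.toLin'_toMatrix']
  have hgk : ∀ k : ℕ, ∀ v, (g ^ k) v = e ((f ^ k) (e.symm v)) := by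
    intro k
    induction k with
    | zero => intro v; simp
    | succ k ih =>
      intro v
      rw [pow_succ', Module.End.mul_apply, ih, pow_succ', Module.End.mul_apply, hg]
      simp [LinearEquiv.conj_apply]
  have hgr : g ^ r = c • 1 := by
    apply LinearMap.ext
    intro v
    rw [hgk, hf]
    simp
  let x : Matrix.SpecialLinearGroup (Fin n) F := ⟨M, hMdet⟩
  refine ⟨x, ?_, ?_, ?_⟩
  · rw [Matrix.SpecialLinearGroup.coe_pow]
    show M ^ r = _
    apply Matrix.toLin'.injective
    rw [Matrix.toLin'_pow, hgM, hgr]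
    ext v
    simp
  · intro d hd
    change M = d • 1 at hd
    apply hns d
    have h1 : g = d • 1 := by
      rw [← hgM, hd]
      ext v
      simp
    have h2 : f = e.symm.conj g := by
      rw [hg]
      ext v
      simp [LinearEquiv.conj_apply]
    rw [h2, h1]
    ext v
    simp [LinearEquiv.conj_apply]
  · rintro ⟨W, hWd, hW⟩
    change W.map (Matrix.toLin' M) ≤ W at hW
    rw [hgM] at hW
    apply hno (W.map (e.symm : (Fin n → F) →ₗ[F] V))
    · rintro _ ⟨w, hw, rfl⟩
      refine ⟨g w, hW ⟨w, hw, rfl⟩, ?_⟩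
      rw [hg]
      simp [LinearEquiv.conj_apply]
    · rw [← hWd]
      exact LinearEquiv.finrank_map_eq e.symm W

end Cfsg.Agent.Lib.Helper98.Elus
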