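import Mathlib

set_option autoImplicit false
set_option linter.unusedSimpArgs false
set_option linter.unusedSectionVars false
set_option linter.unusedVariables false
set_option linter.style.haveILetI false

/-!
# S5949 (helper98): arithmetic of `r`-th powers in a finite field
-/

namespace Cfsg.Agent.Lib.Helper98.Elus

variable {F : Type*} [Field F] [Fintype F]

theorem exists_pow_eq_of_coprime (r : ℕ) (hcop : Nat.Coprime (Fintype.card F - 1) r) (c : F)
    (hc : c ≠ 0) : ∃ d : F, d ^ r = c := by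
  classical
  have h1 : Nat.card Fˣ = Fintype.card F - 1 := by
    rw [Nat.card_eq_fintype_card, Fintype.card_units]
  have hcop' : (Nat.card Fˣ).Coprime r := by rw [h1]; exact hcop
  obtain ⟨d, hd⟩ := (powCoprime hcop').surjective (Units.mk0 c hc)
  refine ⟨(d : F), ?_⟩
  have := congrArg (fun u : Fˣ => (u : F)) hd
  simpa using this

theorem eq_one_of_pow_eq_one_of_coprime (r : ℕ) (hr : r ≠ 0)
    (hcop : Nat.Coprime (Fintype.card F - 1) r)
    (a : F) (ha : a ^ r = 1) : a = 1 := by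
  have ha0 : a ≠ 0 := by
    intro h
    rw [h, zero_pow hr] at ha
    exact zero_ne_one ha
  have h1 : a ^ (Fintype.card F - 1) = 1 := FiniteField.pow_card_sub_one_eq_one a ha0
  have h2 : orderOf a ∣ Nat.gcd (Fintype.card F - 1) r :=
    Nat.dvd_gcd (orderOf_dvd_of_pow_eq_one h1) (orderOf_dvd_of_pow_eq_one ha)
  rw [hcop, Nat.dvd_one] at h2
  exact orderOf_eq_one_iff.mp h2

theorem orderOf_eq_one_iff_dvd (r : ℕ) [Fact r.Prime] :
    orderOf ((Fintype.card F : ℕ) : ZMod r) = 1 ↔ r ∣ Fintype.card F - 1 := by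
  have hq : 1 ≤ Fintype.card F := Fintype.card_pos
  rw [orderOf_eq_one_iff, ← ZMod.natCast_eq_zero_iff, Nat.cast_sub hq, Nat.cast_one, sub_eq_zero]

/-- a generator of the multiplicative group, as an element of the field -/
theorem exists_gen : ∃ g : Fˣ, orderOf g = Fintype.card F - 1 ∧ ∀ c : F, c ≠ 0 → ∃ s : ℕ, c = (g : F) ^ s := by
  classical
  obtain ⟨g, hg⟩ := IsCyclic.exists_generator (α := Fˣ)
  have h1 : orderOf g = Fintype.card F - 1 := by
    rw [orderOf_eq_card_of_forall_mem_zpowers hg, Nat.card_eq_fintype_card, Fintype.card_units]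
  refine ⟨g, h1, ?_⟩
  intro c hc
  have h2 := hg (Units.mk0 c hc)
  rw [← mem_powers_iff_mem_zpowers] at h2
  obtain ⟨s, hs⟩ := h2
  refine ⟨s, ?_⟩
  have := congrArg (fun u : Fˣ => (u : F)) hs
  simpa using this.symm

theorem gen_pow_isPow_iff (r : ℕ) (hr : r ∣ Fintype.card F - 1) (g : Fˣ)
    (hg : orderOf g = Fintype.card F - 1)
    (hgen : ∀ c : F, c ≠ 0 → ∃ s : ℕ, c = (g : F) ^ s) (hr0 : r ≠ 0) (s : ℕ) :
    (∃ d : F, d ^ r = (g : F) ^ s) ↔ r ∣ s := by
  constructor
  · rintro ⟨d, hd⟩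
    have hd0 : d ≠ 0 := by
      intro h
      rw [h, zero_pow hr0] at hd
      exact pow_ne_zero s (Units.ne_zero g) hd.symm
    obtain ⟨j, hj⟩ := hgen d hd0
    rw [hj, ← pow_mul] at hd
    have h3 : g ^ (j * r) = g ^ s := by
      apply Units.ext
      simpa using hd
    rw [pow_eq_pow_iff_modEq, hg] at h3
    exact (h3.dvd_iff hr).mp (dvd_mul_left r j)
  · rintro ⟨s', rfl⟩
    exact ⟨(g : F) ^ s', by rw [← pow_mul, mul_comm]⟩

theorem mul_not_pow (r : ℕ) (c z : F) (hz : z ≠ 0) (hc : ∀ d : F, d ^ r ≠ c) :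
    ∀ d : F, d ^ r ≠ z ^ r * c := by
  intro d hd
  apply hc (d / z)
  rw [div_pow, hd, mul_comm, mul_div_assoc, div_self (pow_ne_zero r hz), mul_one]

/-- the sign `(-1)^(r+1)` is an `r`-th power unless `r = 2` and `q ≡ 3 mod 4`. -/
theorem sign_isPow (r : ℕ) [Fact r.Prime] (h : r = 2 → Fintype.card F % 4 ≠ 3) :
    ∃ z : F, z ≠ 0 ∧ z ^ r = (-1) ^ (r + 1) := by
  have hr : r.Prime := Fact.out
  rcases hr.eq_two_or_odd' with h2 | hodd
  · subst h2
    have := (FiniteField.isSquare_neg_one_iff (F := F)).mpr (h rfl)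
    obtain ⟨z, hz⟩ := this
    refine ⟨z, ?_, ?_⟩
    · intro h0
      rw [h0, mul_zero] at hz
      exact neg_ne_zero.mpr one_ne_zero hz
    · rw [pow_two, ← hz]; norm_num
  · refine ⟨1, one_ne_zero, ?_⟩
    rw [one_pow, Even.neg_one_pow]
    exact Odd.add_one hodd

theorem no_c (r : ℕ) [Fact r.Prime] (hr1 : r ∣ Fintype.card F - 1) (n : ℕ) (hn0 : n ≠ 0)
    (hok : padicValNat r n ≤ padicValNat r (Fintype.card F - 1) ∧
      (r = 2 → Even n → Fintype.card F % 4 = 1))
    (c : F) (hc : ∀ d : F, d ^ r ≠ c) (hrn : r ∣ n)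
    (h1 : ((-1) ^ (r + 1) * c) ^ (n / r) = 1) : False := by
  have hr : r.Prime := Fact.out
  have hsign : r = 2 → Fintype.card F % 4 ≠ 3 := by
    intro h2
    have hev : Even n := by rw [even_iff_two_dvd, ← h2]; exact hrn
    have := hok.2 h2 hev
    omega
  obtain ⟨z, hz0, hz⟩ := sign_isPow (F := F) r hsign
  have hc' : ∀ d : F, d ^ r ≠ (-1) ^ (r + 1) * c := by
    rw [← hz]; exact mul_not_pow r c z hz0 hc
  set e' : F := (-1) ^ (r + 1) * c with he'
  have he0 : e' ≠ 0 := by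
    intro h
    exact hc' 0 (by rw [zero_pow hr.ne_zero, h])
  obtain ⟨g, hg, hgen⟩ := exists_gen (F := F)
  obtain ⟨s, hs⟩ := hgen e' he0
  have hrs : ¬ r ∣ s := by
    intro h
    obtain ⟨d, hd⟩ := (gen_pow_isPow_iff r hr1 g hg hgen hr.ne_zero s).mpr h
    exact hc' d (by rw [hd, hs])
  rw [hs, ← pow_mul] at h1
  have h2 : g ^ (s * (n / r)) = 1 := by
    apply Units.ext
    simpa using h1
  have h3 : Fintype.card F - 1 ∣ s * (n / r) := by
    rw [← hg]; exact orderOf_dvd_of_pow_eq_one h2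
  set a := padicValNat r (Fintype.card F - 1) with ha
  have h4 : r ^ a ∣ s * (n / r) := dvd_trans pow_padicValNat_dvd h3
  have hcop : Nat.Coprime (r ^ a) s :=
    Nat.Coprime.pow_left a ((Nat.Prime.coprime_iff_not_dvd hr).mpr hrs)
  have h5 : r ^ a ∣ n / r := hcop.dvd_of_dvd_mul_left h4
  have h6 : r ^ (a + 1) ∣ n := by
    rw [← Nat.mul_div_cancel' hrn, pow_succ']
    exact Nat.mul_dvd_mul_left r h5
  have h7 := (padicValNat_dvd_iff_le hn0).mp h6
  have := hok.1
  omega

theorem exists_c (r : ℕ) [Fact r.Prime] (hr1 : r ∣ Fintype.card F - 1) (n : ℕ) (hn0 : n ≠ 0)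
    (hfail : ¬ (padicValNat r n ≤ padicValNat r (Fintype.card F - 1) ∧
      (r = 2 → Even n → Fintype.card F % 4 = 1))) :
    ∃ c : F, (∀ d : F, d ^ r ≠ c) ∧ r ∣ n ∧ ((-1) ^ (r + 1) * c) ^ (n / r) = 1 := by
  have hr : r.Prime := Fact.out
  have hq2 : 2 ≤ Fintype.card F := Fintype.one_lt_card
  by_cases h23 : r = 2 ∧ Fintype.card F % 4 = 3
  · obtain ⟨h2, h3⟩ := h23
    subst h2
    have hev : Even n := by
      by_contra hodd
      apply hfail
      refine ⟨?_, fun _ he => absurd he hodd⟩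
      rw [padicValNat.eq_zero_of_not_dvd (by rwa [even_iff_two_dvd] at hodd)]
      exact Nat.zero_le _
    refine ⟨-1, ?_, even_iff_two_dvd.mp hev, ?_⟩
    · intro d hd
      have : IsSquare (-1 : F) := ⟨d, by rw [← hd, pow_two]⟩
      rw [FiniteField.isSquare_neg_one_iff] at this
      exact this h3
    · norm_num
  · have hsign : r = 2 → Fintype.card F % 4 ≠ 3 := fun h2 h3 => h23 ⟨h2, h3⟩
    have hsecond : r = 2 → Even n → Fintype.card F % 4 = 1 := by
      intro h2 _
      have h3 := hsign h2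
      obtain ⟨k, hk⟩ := hr1
      rw [h2] at hk
      omega
    set a := padicValNat r (Fintype.card F - 1) with ha
    have hlt : a + 1 ≤ padicValNat r n := by
      by_contra h
      exact hfail ⟨by omega, hsecond⟩
    have h6 : r ^ (a + 1) ∣ n := (padicValNat_dvd_iff_le hn0).mpr hlt
    have hrn : r ∣ n := dvd_trans (dvd_pow_self r (by omega)) h6
    have h5 : r ^ a ∣ n / r := by
      rw [← Nat.mul_div_cancel' hrn, pow_succ'] at h6
      exact Nat.dvd_of_mul_dvd_mul_left hr.pos h6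
    have hq0 : Fintype.card F - 1 ≠ 0 := by omega
    set u := (Fintype.card F - 1) / r ^ a with hu
    have hru : ¬ r ∣ u := by
      have := Nat.not_dvd_ordCompl hr hq0
      rw [Nat.factorization_def _ hr] at this
      exact this
    have hqu : Fintype.card F - 1 = r ^ a * u := (Nat.mul_div_cancel' pow_padicValNat_dvd).symm
    obtain ⟨g, hg, hgen⟩ := exists_gen (F := F)
    have he' : ∀ d : F, d ^ r ≠ (g : F) ^ u := by
      intro d hd
      exact hru ((gen_pow_isPow_iff r hr1 g hg hgen hr.ne_zero u).mp ⟨d, hd⟩)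
    have hpow : ((g : F) ^ u) ^ (n / r) = 1 := by
      obtain ⟨w, hw⟩ := h5
      have : g ^ (u * (n / r)) = 1 := by
        rw [← orderOf_dvd_iff_pow_eq_one, hg, hqu, hw]
        exact ⟨w, by ring⟩
      rw [← pow_mul]
      have h := congrArg (fun v : Fˣ => (v : F)) this
      simpa using h
    obtain ⟨z, hz0, hz⟩ := sign_isPow (F := F) r hsign
    refine ⟨z ^ r * (g : F) ^ u, mul_not_pow r _ z hz0 he', hrn, ?_⟩
    rw [hz, ← mul_assoc, ← pow_add, Even.neg_one_pow ⟨r + 1, rfl⟩, one_mul]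
    exact hpow

end Cfsg.Agent.Lib.Helper98.Elus
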