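import Cfsg.Agent.Lib.Helper98.Elus1

set_option autoImplicit false
set_option linter.unusedSimpArgs false
set_option linter.unusedSectionVars false
set_option linter.unusedVariables false
set_option linter.style.haveILetI false

/-!
# S5951 (helper98): Gaussian binomial symmetry, counting flags
-/

namespace Cfsg.Agent.Lib.Helper98.Elus

open Module

variable {F : Type*} [Field F] [Fintype F]

/-- `A q m = ∏_{j<m} (q^m - q^j)`-type products -/
def Bprod (q N m : ℕ) : ℕ := ∏ j : Fin m, (q ^ N - q ^ (j : ℕ))

theorem Bprod_pos (q N m : ℕ) (hq : 2 ≤ q) (hm : m ≤ N) : 0 < Bprod q N m := by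
  unfold Bprod
  apply Finset.prod_pos
  intro j _
  have hj : (j : ℕ) < N := lt_of_lt_of_le j.2 hm
  have := Nat.pow_lt_pow_right (show 1 < q by omega) hj
  omega

theorem card_subspaces_general {V : Type*} [AddCommGroup V] [Module F V] [Finite V] (m : ℕ)
    (hm : m ≤ finrank F V) :
    Nat.card {W : Submodule F V // finrank F W = m} * Bprod (Fintype.card F) m m =
      Bprod (Fintype.card F) (finrank F V) m := by
  unfold Bprod
  rw [card_subspaces_mul]
  exact card_linearIndependent (K := F) (V := V) (k := m) hm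

theorem card_subspaces_congr {V V' : Type*} [AddCommGroup V] [Module F V] [Finite V]
    [AddCommGroup V'] [Module F V'] [Finite V'] (h : finrank F V = finrank F V') (m : ℕ)
    (hm : m ≤ finrank F V) :
    Nat.card {W : Submodule F V // finrank F W = m} =
      Nat.card {W : Submodule F V' // finrank F W = m} := by
  have h1 := card_subspaces_general (F := F) (V := V) m hm
  have h2 := card_subspaces_general (F := F) (V := V') m (h ▸ hm)
  rw [← h, ← h1] at h2
  exact (Nat.eq_of_mul_eq_mul_right (Bprod_pos _ m m Fintype.one_lt_card le_rfl) h2).symm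

theorem Bprod_split (q N K : ℕ) (hK : K ≤ N) :
    Bprod q N N = Bprod q N K * (q ^ (K * (N - K)) * Bprod q (N - K) (N - K)) := by
  unfold Bprod
  rw [← Finset.prod_range (fun j => q ^ N - q ^ j), ← Finset.prod_range (fun j => q ^ N - q ^ j),
    ← Finset.prod_range (fun j => q ^ (N - K) - q ^ j)]
  obtain ⟨L, rfl⟩ := Nat.exists_eq_add_of_le hK
  rw [Finset.prod_range_add, Nat.add_sub_cancel_left]
  congr 1
  have : ∀ j ∈ Finset.range L, q ^ (K + L) - q ^ (K + j) = q ^ K * (q ^ L - q ^ j) := by
    intro j _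
    rw [Nat.mul_sub, ← pow_add, ← pow_add]
  rw [Finset.prod_congr rfl this, Finset.prod_mul_distrib, Finset.prod_const, Finset.card_range,
    ← pow_mul]

/-- symmetry of the Gaussian binomial coefficient -/
theorem card_subspaces_symm {V : Type*} [AddCommGroup V] [Module F V] [Finite V] (K : ℕ)
    (hK : K ≤ finrank F V) :
    Nat.card {W : Submodule F V // finrank F W = K} =
      Nat.card {W : Submodule F V // finrank F W = finrank F V - K} := by
  set N := finrank F V with hN
  set q := Fintype.card F with hq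
  have hq2 : 2 ≤ q := Fintype.one_lt_card
  have h1 := card_subspaces_general (F := F) (V := V) K hK
  have h2 := card_subspaces_general (F := F) (V := V) (N - K) (Nat.sub_le _ _)
  rw [← hN, ← hq] at h1 h2
  have s1 := Bprod_split q N K hK
  have s2 := Bprod_split q N (N - K) (Nat.sub_le _ _)
  rw [Nat.sub_sub_self hK] at s2
  rw [← h1] at s1
  rw [← h2] at s2
  have hpos : 0 < Bprod q K K * (q ^ (K * (N - K)) * Bprod q (N - K) (N - K)) := by
    apply Nat.mul_pos (Bprod_pos q K K hq2 le_rfl)
    exact Nat.mul_pos (pow_pos (by omega) _) (Bprod_pos q _ _ hq2 le_rfl)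
  apply Nat.eq_of_mul_eq_mul_right hpos
  calc _ = Bprod q N N := by rw [s1]; ring
    _ = _ := by rw [s2]; ring

theorem card_subspaces_cast_eq_one {V : Type*} [AddCommGroup V] [Module F V] [Finite V]
    {p : ℕ} [Fact p.Prime] [CharP F p] (m : ℕ) (hm : m ≤ finrank F V) :
    ((Nat.card {W : Submodule F V // finrank F W = m} : ℕ) : ZMod p) = 1 := by
  set q := Fintype.card F with hq
  set n := finrank F V with hn
  have hq1 : 1 ≤ q := Fintype.card_pos
  have hpq : p ∣ q := by
    obtain ⟨f, hpp, hf⟩ := FiniteField.card F p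
    rw [hq, hf]
    exact dvd_pow_self p f.ne_zero
  have h := card_subspaces_general (F := F) (V := V) m hm
  unfold Bprod at h
  rw [← hq, ← hn, prod_split q m m hq1 le_rfl, prod_split q n m hq1 hm] at h
  have hpos : 0 < ∏ j : Fin m, q ^ (j : ℕ) := Finset.prod_pos (fun j _ => pow_pos hq1 _)
  have h2 : Nat.card {W : Submodule F V // finrank F W = m} *
      ∏ j : Fin m, (q ^ (m - (j : ℕ)) - 1) = ∏ j : Fin m, (q ^ (n - (j : ℕ)) - 1) := by
    apply Nat.eq_of_mul_eq_mul_left hpos
    rw [← h]; ring
  have hcast : ∀ k : ℕ, 1 ≤ k → (((q ^ k - 1 : ℕ)) : ZMod p) = -1 := by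
    intro k hk
    rw [Nat.cast_sub (Nat.one_le_pow _ _ hq1)]
    have : ((q ^ k : ℕ) : ZMod p) = 0 := by
      rw [ZMod.natCast_eq_zero_iff]
      exact dvd_trans hpq (dvd_pow_self q (by omega))
    rw [this]; simp
  have h3 := congrArg (fun x : ℕ => (x : ZMod p)) h2
  simp only [Nat.cast_mul, Nat.cast_prod] at h3
  have e1 : ∀ j : Fin m, (((q ^ (m - (j : ℕ)) - 1 : ℕ)) : ZMod p) = -1 :=
    fun j => hcast _ (by have := j.2; omega)
  have e2 : ∀ j : Fin m, (((q ^ (n - (j : ℕ)) - 1 : ℕ)) : ZMod p) = -1 :=
    fun j => hcast _ (by have := j.2; omega)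
  simp only [e1, e2, Finset.prod_const, Finset.card_univ, Fintype.card_fin] at h3
  have h4 : ((-1 : ZMod p) ^ m) ≠ 0 := pow_ne_zero _ (by simp)
  have h5 : (-1 : ZMod p) ^ m * ((Nat.card {W : Submodule F V // finrank F W = m} : ℕ) : ZMod p) =
      (-1 : ZMod p) ^ m * 1 := by rw [mul_one, mul_comm]; exact h3
  exact mul_left_cancel₀ h4 h5

section flags

variable (F) (V : Type*) [AddCommGroup V] [Module F V] (m k : ℕ)

/-- flags `U ≤ W` with `dim U = m`, `dim W = k` -/
abbrev Flags : Type _ :=
  {P : Submodule F V × Submodule F V // P.1 ≤ P.2 ∧ finrank F P.1 = m ∧ finrank F P.2 = k}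

variable {F V m k}

def flagTop (P : Flags F V m k) : {W : Submodule F V // finrank F W = k} := ⟨P.1.2, P.2.2.2⟩

theorem finrank_comap_subtype_of_le (U W : Submodule F V) (h : U ≤ W) :
    finrank F ↥(U.comap W.subtype) = finrank F U := by
  rw [← Submodule.finrank_map_subtype_eq W (U.comap W.subtype), Submodule.map_comap_subtype,
    inf_eq_right.mpr h]

noncomputable def flagFiber (W : {W : Submodule F V // finrank F W = k}) :
    {P : Flags F V m k // flagTop P = W} ≃ {U : Submodule F W.1 // finrank F U = m} where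
  toFun P := ⟨P.1.1.1.comap W.1.subtype, by
    have h1 : P.1.1.2 = W.1 := congrArg Subtype.val P.2
    have h2 : P.1.1.1 ≤ W.1 := h1 ▸ P.1.2.1
    rw [finrank_comap_subtype_of_le _ _ h2]
    exact P.1.2.2.1⟩
  invFun U := ⟨⟨(U.1.map W.1.subtype, W.1), Submodule.map_subtype_le _ _, by
      show finrank F ↥(U.1.map W.1.subtype) = m
      rw [Submodule.finrank_map_subtype_eq]; exact U.2, W.2⟩, Subtype.ext rfl⟩
  left_inv P := by
    have h1 : P.1.1.2 = W.1 := congrArg Subtype.val P.2
    have h2 : P.1.1.1 ≤ W.1 := h1 ▸ P.1.2.1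
    apply Subtype.ext
    apply Subtype.ext
    apply Prod.ext
    · show (P.1.1.1.comap W.1.subtype).map W.1.subtype = P.1.1.1
      rw [Submodule.map_comap_subtype, inf_eq_right.mpr h2]
    · exact h1.symm
  right_inv U := by
    apply Subtype.ext
    show (U.1.map W.1.subtype).comap W.1.subtype = U.1
    exact Submodule.comap_map_eq_of_injective W.1.injective_subtype _

theorem card_flags [Finite V] :
    Nat.card (Flags F V m k) =
      ∑ᶠ W : {W : Submodule F V // finrank F W = k},
        Nat.card {U : Submodule F W.1 // finrank F U = m} := by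
  classical
  haveI : Finite {W : Submodule F V // finrank F W = k} := by
    apply Finite.of_injective (fun W => (W.1 : Set V))
    intro a b h
    exact Subtype.ext (SetLike.coe_injective h)
  haveI : Fintype {W : Submodule F V // finrank F W = k} := Fintype.ofFinite _
  haveI : Finite (Flags F V m k) := by
    apply Finite.of_injective (fun P => ((P.1.1 : Set V), (P.1.2 : Set V)))
    intro a b h
    apply Subtype.ext
    apply Prod.ext
    · exact SetLike.coe_injective (congrArg Prod.fst h)
    · exact SetLike.coe_injective (congrArg Prod.snd h)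
  rw [Nat.card_congr (Equiv.sigmaFiberEquiv (flagTop (F := F) (V := V) (m := m) (k := k))).symm,
    Nat.card_sigma, finsum_eq_sum_of_fintype]
  apply Finset.sum_congr rfl
  intro W _
  exact Nat.card_congr (flagFiber W)

theorem card_flags_cast_eq_one [Finite V] {p : ℕ} [Fact p.Prime] [CharP F p] (hmk : m ≤ k)
    (hk : k ≤ finrank F V) : ((Nat.card (Flags F V m k) : ℕ) : ZMod p) = 1 := by
  classical
  haveI : Finite {W : Submodule F V // finrank F W = k} := by
    apply Finite.of_injective (fun W => (W.1 : Set V))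
    intro a b h
    exact Subtype.ext (SetLike.coe_injective h)
  haveI : Fintype {W : Submodule F V // finrank F W = k} := Fintype.ofFinite _
  rw [card_flags, finsum_eq_sum_of_fintype, Nat.cast_sum]
  have h1 : ∀ W : {W : Submodule F V // finrank F W = k},
      ((Nat.card {U : Submodule F W.1 // finrank F U = m} : ℕ) : ZMod p) = 1 := by
    intro W
    exact card_subspaces_cast_eq_one (F := F) (V := W.1) m (by rw [W.2]; exact hmk)
  simp only [h1, Finset.sum_const, Finset.card_univ, nsmul_eq_mul, mul_one]
  rw [← Nat.card_eq_fintype_card]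
  exact card_subspaces_cast_eq_one (F := F) (V := V) k hk

theorem card_flags_mul [Finite V] (hmk : m ≤ k) :
    Nat.card (Flags F V m k) * Bprod (Fintype.card F) m m =
      Nat.card {W : Submodule F V // finrank F W = k} * Bprod (Fintype.card F) k m := by
  classical
  haveI : Finite {W : Submodule F V // finrank F W = k} := by
    apply Finite.of_injective (fun W => (W.1 : Set V))
    intro a b h
    exact Subtype.ext (SetLike.coe_injective h)
  haveI : Fintype {W : Submodule F V // finrank F W = k} := Fintype.ofFinite _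
  rw [card_flags, finsum_eq_sum_of_fintype, Finset.sum_mul]
  have h1 : ∀ W : {W : Submodule F V // finrank F W = k},
      Nat.card {U : Submodule F W.1 // finrank F U = m} * Bprod (Fintype.card F) m m =
        Bprod (Fintype.card F) k m := by
    intro W
    rw [card_subspaces_general (F := F) (V := W.1) m (by rw [W.2]; exact hmk), W.2]
  simp only [h1, Finset.sum_const, Finset.card_univ, smul_eq_mul, Nat.card_eq_fintype_card]

end flags

theorem dvd_Bprod {p : ℕ} [Fact p.Prime] [CharP F p] (r : ℕ) [Fact r.Prime] (hrp : r ≠ p)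
    (N m : ℕ) (hm : m ≤ N) (h1 : r ∣ Bprod (Fintype.card F) N m) :
    ∃ j < m, orderOf ((Fintype.card F : ℕ) : ZMod r) ∣ N - j := by
  set q := Fintype.card F with hq
  have hq1 : 1 ≤ q := Fintype.card_pos
  have hrq : ¬ r ∣ q := by
    obtain ⟨f, hpp, hf⟩ := FiniteField.card F p
    rw [hq, hf]
    intro h
    have := (Fact.out : r.Prime).dvd_of_dvd_pow h
    rw [Nat.prime_dvd_prime_iff_eq Fact.out hpp] at this
    exact hrp this
  unfold Bprod at h1
  rw [(Fact.out : r.Prime).prime.dvd_finsetProd_iff] at h1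
  obtain ⟨j, _, hj⟩ := h1
  refine ⟨j, j.2, ?_⟩
  have hjn : (j : ℕ) ≤ N := le_trans (le_of_lt j.2) hm
  have h2 : q ^ N - q ^ (j : ℕ) = q ^ (j : ℕ) * (q ^ (N - j) - 1) := by
    rw [Nat.mul_sub, mul_one, ← pow_add, Nat.add_sub_cancel' hjn]
  rw [h2] at hj
  have h3 : r ∣ q ^ (N - j) - 1 := by
    rcases (Fact.out : r.Prime).dvd_mul.mp hj with h | h
    · exact absurd ((Fact.out : r.Prime).dvd_of_dvd_pow h) hrq
    · exact h
  rw [orderOf_dvd_iff_pow_eq_one]
  have h4 := (ZMod.natCast_eq_zero_iff _ _).mpr h3
  rw [Nat.cast_sub (Nat.one_le_pow _ _ hq1)] at h4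
  push_cast at h4
  exact sub_eq_zero.mp h4

theorem flags_dvd_cases {p : ℕ} [Fact p.Prime] [CharP F p] (n m : ℕ) (hmn : 2 * m < n) (r : ℕ)
    [Fact r.Prime] (hrp : r ≠ p)
    (hr : r ∣ Nat.card (Flags F (Fin n → F) m (n - m))) :
    (∃ j < m, orderOf ((Fintype.card F : ℕ) : ZMod r) ∣ n - j) ∨
      (∃ j < m, orderOf ((Fintype.card F : ℕ) : ZMod r) ∣ n - m - j) := by
  have hfin : finrank F (Fin n → F) = n := Module.finrank_fin_fun F
  have h1 := card_flags_mul (F := F) (V := Fin n → F) (m := m) (k := n - m) (by omega)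
  have h2 : r ∣ Nat.card {W : Submodule F (Fin n → F) // finrank F W = n - m} *
      Bprod (Fintype.card F) (n - m) m := by
    rw [← h1]; exact dvd_mul_of_dvd_left hr _
  rcases (Fact.out : r.Prime).dvd_mul.mp h2 with h | h
  · left
    have hs := card_subspaces_symm (F := F) (V := Fin n → F) m (by rw [hfin]; omega)
    rw [hfin] at hs
    rw [← hs] at h
    exact exists_dvd_of_dvd_card_subspaces (F := F) (p := p) n m (by omega) r hrp h
  · right
    exact dvd_Bprod (F := F) (p := p) r hrp (n - m) m (by omega) h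

end Cfsg.Agent.Lib.Helper98.Elus
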