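import Cfsg.Agent.Lib.Helper37.G2InvDefs
import Cfsg.Agent.Lib.Helper26.G2InvC2
import Cfsg.Agent.Lib.Helper86.G2InvZ
import Cfsg.Agent.Lib.Helper81.G2InvI1
import Cfsg.Agent.Lib.Helper54.G2InvB1

/-!
# K-G2I pack (S2177), leaf A: involutions `x6(s) x8(t8) z`, `s ≠ 0`
-/

set_option autoImplicit false
set_option linter.unusedSectionVars false
set_option linter.unusedVariables false

namespace Cfsg.Agent.Lib.Helper98.G2Inv

open Cfsg.Agent.Lib.Helper37.G2Inv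

variable {F : Type*} [Field F] [CharP F 2] {G : Type*} [Group G] (D : UData F G)

-- leaves used
theorem c79 (c a : F) : D.x 7 c * D.x 9 a * (D.x 7 c)⁻¹ = D.x 9 a * D.x 10 (c * a) :=
  Cfsg.Agent.Lib.Helper81.G2Inv.i1_c79 D c a
theorem c78 (c s : F) :
    D.x 7 c * D.x 8 s * (D.x 7 c)⁻¹ = D.x 8 s * (D.x 10 (c ^ 2 * s) * D.x 11 (c * s ^ 2)) :=
  Cfsg.Agent.Lib.Helper26.G2Inv.c78 D c s
theorem z_mul (α β γ α' β' γ' : F) : D.z α β γ * D.z α' β' γ' = D.z (α + α') (β + β') (γ + γ') :=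
  Cfsg.Agent.Lib.Helper86.G2Inv.z_mul D α β γ α' β' γ'
theorem z_conj7 (c α β γ : F) : D.x 7 c * D.z α β γ * (D.x 7 c)⁻¹ = D.z α (β + c * α) γ :=
  Cfsg.Agent.Lib.Helper86.G2Inv.z_conj7 D c α β γ
theorem z_conj8 (c α β γ : F) : D.x 8 c * D.z α β γ * (D.x 8 c)⁻¹ = D.z α β (γ + c * α) :=
  Cfsg.Agent.Lib.Helper86.G2Inv.z_conj8 D c α β γ
theorem z_conj10 (c α β γ : F) : D.x 10 c * D.z α β γ * (D.x 10 c)⁻¹ = D.z α β γ :=
  Cfsg.Agent.Lib.Helper86.G2Inv.z_conj10 D c α β γ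
theorem z_eq_one_iff (α β γ : F) : D.z α β γ = 1 ↔ α = 0 ∧ β = 0 ∧ γ = 0 :=
  Cfsg.Agent.Lib.Helper86.G2Inv.z_eq_one_iff D α β γ
theorem inv6z (s α β γ : F) (h : D.x 6 s * D.z α β γ * (D.x 6 s * D.z α β γ) = 1) : s * β = 0 :=
  Cfsg.Agent.Lib.Helper81.G2Inv.inv6z D s α β γ h
theorem good_z (α β γ : F) (h : D.z α β γ ≠ 1) : D.Good (D.z α β γ) :=
  Cfsg.Agent.Lib.Helper54.G2Inv.good_z D α β γ h

theorem c106 (c s : F) : D.x 10 c * D.x 6 s * (D.x 10 c)⁻¹ = D.x 6 s * D.x 11 (c * s) := by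
  have h := D.r610 s c
  calc D.x 10 c * D.x 6 s * (D.x 10 c)⁻¹
      = D.x 6 s * D.x 10 c * D.x 11 (s * c) * (D.x 10 c)⁻¹ := by rw [h]
    _ = D.x 6 s * (D.x 10 c * D.x 11 (s * c)) * (D.x 10 c)⁻¹ := by group
    _ = D.x 6 s * (D.x 11 (s * c) * D.x 10 c) * (D.x 10 c)⁻¹ := by rw [D.c1011]
    _ = D.x 6 s * D.x 11 (c * s) := by rw [mul_comm s c]; group

theorem k710 (c b : F) : D.x 7 c * D.x 10 b * (D.x 7 c)⁻¹ = D.x 10 b := by
  rw [D.c710, mul_assoc, mul_inv_cancel, mul_one]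

theorem z_0b0' (b : F) : D.x 10 b = D.z 0 b 0 := by
  unfold UData.z
  rw [D.x_zero, D.x_zero, one_mul, mul_one]

theorem z_ab0' (a b : F) : D.x 9 a * D.x 10 b = D.z a b 0 := by
  unfold UData.z
  rw [D.x_zero, mul_one]

theorem z_0bc' (b c : F) : D.x 10 b * D.x 11 c = D.z 0 b c := by
  unfold UData.z
  rw [D.x_zero, one_mul]

theorem c76 (c s : F) : D.x 7 c * D.x 6 s * (D.x 7 c)⁻¹ =
    D.x 6 s * (D.x 8 (c * s) * (D.x 9 (c ^ 2 * s) * (D.x 10 (c ^ 3 * s) * D.x 11 (c ^ 3 * s ^ 2)))) := by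
  have h2 : (2 : F) = 0 := CharTwo.two_eq_zero
  have h := D.r67 s c
  have e : D.x 7 c * D.x 6 s * (D.x 7 c)⁻¹ = D.x 6 s * ((D.x 7 c * D.x 8 (s * c) * (D.x 7 c)⁻¹) *
      ((D.x 7 c * D.x 9 (s * c ^ 2) * (D.x 7 c)⁻¹) * (D.x 7 c * D.x 10 (s * c ^ 3) * (D.x 7 c)⁻¹))) := by
    rw [h]; group
  rw [e, c78, c79, k710, z_0bc', z_ab0', z_0b0' D (s * c ^ 3), z_mul, mul_assoc, z_mul]
  have e1 : D.x 9 (c ^ 2 * s) * (D.x 10 (c ^ 3 * s) * D.x 11 (c ^ 3 * s ^ 2)) =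
      D.z (c ^ 2 * s) (c ^ 3 * s) (c ^ 3 * s ^ 2) := rfl
  rw [e1]
  have k1 : (0 : F) + (s * c ^ 2 + 0) = c ^ 2 * s := by ring
  have k2 : c ^ 2 * (s * c) + (c * (s * c ^ 2) + s * c ^ 3) = c ^ 3 * s := by
    linear_combination (c ^ 3 * s) * h2
  have k3 : c * (s * c) ^ 2 + ((0 : F) + 0) = c ^ 3 * s ^ 2 := by ring
  rw [k1, k2, k3, mul_comm s c]

/-! ### small helpers -/

theorem conj_mul' (g u v : G) : g * (u * v) * g⁻¹ = g * u * g⁻¹ * (g * v * g⁻¹) := by group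

theorem z_a00 (a : F) : D.z a 0 0 = D.x 9 a := by
  unfold UData.z
  rw [D.x_zero, D.x_zero, mul_one, mul_one]

theorem z_0bc (b c : F) : D.z 0 b c = D.x 10 b * D.x 11 c := by
  unfold UData.z
  rw [D.x_zero, one_mul]

theorem z_00c (c : F) : D.z 0 0 c = D.x 11 c := by
  rw [z_0bc, D.x_zero, one_mul]

theorem z_ab0 (a b : F) : D.z a b 0 = D.x 9 a * D.x 10 b := by
  unfold UData.z
  rw [D.x_zero, mul_one]

/-- moving `x8` to the left of an element of `Z` -/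
theorem z_x8 (t α β γ : F) : D.z α β γ * D.x 8 t = D.x 8 t * D.z α β (γ + t * α) := by
  have h := z_conj8 D t α β (γ + t * α)
  have e : γ + t * α + t * α = γ := by
    rw [add_assoc, CharTwo.add_self_eq_zero, add_zero]
  rw [e] at h
  rw [← h]
  group

/-- step 1: conjugating by `x7(c)`, `c s = t8` -/
theorem step1 (s t8 c α β γ : F) (hc : c * s = t8) :
    ∃ α' β' γ' : F, D.x 7 c * (D.x 6 s * (D.x 8 t8 * D.z α β γ)) * (D.x 7 c)⁻¹ =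
      D.x 6 s * D.z α' β' γ' := by
  rw [conj_mul', conj_mul', c76, c78, z_conj7, hc]
  have e1 : D.x 9 (c ^ 2 * s) * (D.x 10 (c ^ 3 * s) * D.x 11 (c ^ 3 * s ^ 2)) =
      D.z (c ^ 2 * s) (c ^ 3 * s) (c ^ 3 * s ^ 2) := rfl
  rw [e1, ← z_0bc]
  refine ⟨c ^ 2 * s + (0 + α), c ^ 3 * s + (c ^ 2 * t8 + (β + c * α)),
    c ^ 3 * s ^ 2 + t8 * (c ^ 2 * s) + (c * t8 ^ 2 + γ), ?_⟩
  calc D.x 6 s * (D.x 8 t8 * D.z (c ^ 2 * s) (c ^ 3 * s) (c ^ 3 * s ^ 2)) *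
        (D.x 8 t8 * D.z 0 (c ^ 2 * t8) (c * t8 ^ 2) * D.z α (β + c * α) γ)
      = D.x 6 s * (D.x 8 t8 * (D.z (c ^ 2 * s) (c ^ 3 * s) (c ^ 3 * s ^ 2) * D.x 8 t8) *
        (D.z 0 (c ^ 2 * t8) (c * t8 ^ 2) * D.z α (β + c * α) γ)) := by group
    _ = D.x 6 s * ((D.x 8 t8 * D.x 8 t8) * (D.z (c ^ 2 * s) (c ^ 3 * s) (c ^ 3 * s ^ 2 + t8 * (c ^ 2 * s)) *
        (D.z 0 (c ^ 2 * t8) (c * t8 ^ 2) * D.z α (β + c * α) γ))) := by
          rw [z_x8]; group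
    _ = _ := by
          rw [D.x_sq, one_mul, z_mul, z_mul]

/-- `x6 s` is good -/
theorem good_x6 (s : F) (hs : s ≠ 0) : D.Good (D.x 6 s) := by
  obtain ⟨g, hg⟩ := D.w6_11 s
  obtain ⟨h, hh⟩ := D.torus11 s hs
  apply D.good_of_conj g
  rw [hg]
  exact ⟨h, Or.inl hh⟩

/-- **leaf A** -/
theorem good_68z (s t8 α β γ : F) (hs : s ≠ 0)
    (h : D.x 6 s * (D.x 8 t8 * D.z α β γ) * (D.x 6 s * (D.x 8 t8 * D.z α β γ)) = 1) :
    D.Good (D.x 6 s * (D.x 8 t8 * D.z α β γ)) := by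
  have h2 : (2 : F) = 0 := CharTwo.two_eq_zero
  -- step 1
  obtain ⟨α', β', γ', h1⟩ := step1 D s t8 (t8 / s) α β γ (div_mul_cancel₀ t8 hs)
  apply D.good_of_conj (D.x 7 (t8 / s))
  rw [h1]
  -- step 2: `β' = 0`
  have hinv : D.x 6 s * D.z α' β' γ' * (D.x 6 s * D.z α' β' γ') = 1 := by
    rw [← h1]
    have e : ∀ g u : G, g * u * g⁻¹ * (g * u * g⁻¹) = g * (u * u) * g⁻¹ := by intro g u; group
    rw [e, h, mul_one, mul_inv_cancel]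
  have hβ : β' = 0 := by
    rcases mul_eq_zero.mp (inv6z D s α' β' γ' hinv) with h0 | h0
    · exact absurd h0 hs
    · exact h0
  subst hβ
  -- step 3: conjugate by `x10 (γ'/s)`
  apply D.good_of_conj (D.x 10 (γ' / s))
  rw [conj_mul', c106, z_conj10, div_mul_cancel₀ γ' hs, mul_assoc, ← z_00c D γ', z_mul,
    zero_add, zero_add, CharTwo.add_self_eq_zero, z_a00]
  -- step 4
  by_cases hα : α' = 0
  · rw [hα, D.x_zero, mul_one]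
    exact good_x6 D s hs
  · obtain ⟨e, he⟩ := D.sqrt (α' / s)
    have hes : e ^ 2 * s = α' := by
      rw [pow_two, he, div_mul_cancel₀ α' hs]
    have he0 : e ≠ 0 := by
      rintro rfl
      rw [mul_zero] at he
      exact hα (by rw [← hes]; simp)
    apply D.good_of_conj (D.x 7 e)
    rw [conj_mul', c76, c79]
    have e1 : D.x 9 (e ^ 2 * s) * (D.x 10 (e ^ 3 * s) * D.x 11 (e ^ 3 * s ^ 2)) =
        D.z (e ^ 2 * s) (e ^ 3 * s) (e ^ 3 * s ^ 2) := rfl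
    have e2 : D.x 6 s * (D.x 8 (e * s) * D.z (e ^ 2 * s) (e ^ 3 * s) (e ^ 3 * s ^ 2)) *
        (D.x 9 α' * D.x 10 (e * α')) = D.x 6 s * (D.x 8 (e * s) * D.x 11 (e ^ 3 * s ^ 2)) := by
      rw [← z_ab0, mul_assoc, mul_assoc, z_mul]
      have k1 : e ^ 2 * s + α' = 0 := by rw [hes, CharTwo.add_self_eq_zero]
      have k2 : e ^ 3 * s + e * α' = 0 := by
        have : e ^ 3 * s + e * α' = e * (e ^ 2 * s + α') := by ring
        rw [this, k1, mul_zero]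
      rw [k1, k2, add_zero, z_00c]
    rw [e1, e2]
    apply D.good_of_conj (D.x 10 (e ^ 3 * s))
    have e3 : D.x 10 (e ^ 3 * s) * (D.x 6 s * (D.x 8 (e * s) * D.x 11 (e ^ 3 * s ^ 2))) *
        (D.x 10 (e ^ 3 * s))⁻¹ = D.x 6 s * D.x 8 (e * s) := by
      rw [conj_mul', c106, conj_mul']
      have k3 : D.x 10 (e ^ 3 * s) * D.x 8 (e * s) * (D.x 10 (e ^ 3 * s))⁻¹ = D.x 8 (e * s) := by
        rw [← D.c810, mul_assoc, mul_inv_cancel, mul_one]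
      have k4 : D.x 10 (e ^ 3 * s) * D.x 11 (e ^ 3 * s ^ 2) * (D.x 10 (e ^ 3 * s))⁻¹ =
          D.x 11 (e ^ 3 * s ^ 2) := by
        rw [D.c1011, mul_assoc, mul_inv_cancel, mul_one]
      rw [k3, k4, mul_assoc, ← mul_assoc (D.x 11 _), ← D.c811, mul_assoc, D.add]
      have k5 : e ^ 3 * s * s + e ^ 3 * s ^ 2 = 0 := by
        have : e ^ 3 * s * s = e ^ 3 * s ^ 2 := by ring
        rw [this, CharTwo.add_self_eq_zero]
      rw [k5, D.x_zero, mul_one]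
    rw [e3]
    obtain ⟨g, hg⟩ := D.w68 s (e * s)
    apply D.good_of_conj g
    rw [hg, ← D.c910, ← z_ab0]
    apply good_z
    rw [Ne, z_eq_one_iff]
    rintro ⟨_, h0, _⟩
    exact hs h0

end Cfsg.Agent.Lib.Helper98.G2Inv
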