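import Mathlib
import Cfsg.Agent.S3995
import Cfsg.Agent.S3994
import Cfsg.Agent.Lib.Helper22.NseDefs
import Cfsg.Agent.Lib.Helper05.N3Defs

/-!
# K-N3-W (keystone 400402, pack S4004): Weisner's theorem in numeric form

`weisnerHyp_of_group`: for a finite group `G`, any divisor `M` of `|G|` coprime to `d` divides the
number of elements whose order is a multiple of `d`, written as a sum of the same-order counts.
-/

set_option autoImplicit false

namespace Cfsg.Agent.Lib.Helper98.N3

open Cfsg.Agent.Lib.Helper05.N3 Cfsg.Agent.Lib.Helper22.Nse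
open Cfsg.Agent.S3995 (s)

/-- the number of elements of order divisible by `d` is the sum of the same-order counts -/
theorem card_dvd_orderOf_eq_sum {G : Type*} [Group G] [Finite G] (d : ℕ) :
    Nat.card {g : G // d ∣ orderOf g} =
      ∑ k ∈ (Nat.card G).divisors.filter (fun k => d ∣ k), s G k := by
  classical
  let _ : Fintype G := Fintype.ofFinite G
  rw [Nat.card_eq_fintype_card, Fintype.card_subtype]
  have hmaps : ∀ g ∈ Finset.univ.filter (fun g : G => d ∣ orderOf g),
      orderOf g ∈ (Nat.card G).divisors.filter (fun k => d ∣ k) := by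
    intro g hg
    rw [Finset.mem_filter] at hg ⊢
    refine ⟨?_, hg.2⟩
    rw [Nat.mem_divisors]
    exact ⟨orderOf_dvd_natCard g, Nat.card_pos.ne'⟩
  rw [Finset.card_eq_sum_card_fiberwise hmaps]
  refine Finset.sum_congr rfl (fun k hk => ?_)
  rw [Finset.mem_filter] at hk
  unfold Cfsg.Agent.S3995.s
  rw [Nat.card_eq_fintype_card, Fintype.card_subtype]
  congr 1
  ext g
  simp only [Finset.mem_filter, Finset.mem_univ, true_and]
  constructor
  · rintro ⟨_, h⟩
    exact h
  · intro h
    exact ⟨h ▸ hk.2, h⟩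

theorem weisnerHyp_of_group {G : Type*} [Group G] [Finite G] : WeisnerHyp (Nat.card G) (s G) := by
  intro d M hd hMN hcop
  rw [← card_dvd_orderOf_eq_sum]
  refine dvd_trans ?_ (Cfsg.Agent.S3994.weisner (G := G) d)
  set g := Nat.gcd (Nat.card G) (d ^ Nat.card G) with hg
  have hgN : g ∣ Nat.card G := Nat.gcd_dvd_left _ _
  have hgd : g ∣ d ^ Nat.card G := Nat.gcd_dvd_right _ _
  have hMg : Nat.Coprime M g := Nat.Coprime.coprime_dvd_right hgd (Nat.Coprime.pow_right _ hcop)
  have hN : Nat.card G = g * (Nat.card G / g) := (Nat.mul_div_cancel' hgN).symm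
  rw [hN] at hMN
  exact hMg.dvd_of_dvd_mul_left hMN

end Cfsg.Agent.Lib.Helper98.N3
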