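import Mathlib

set_option autoImplicit false
set_option linter.unusedSimpArgs false
set_option linter.unusedSectionVars false
set_option linter.style.haveILetI false

/-!
# Generic lemmas on normalizers being maximal (helper98)
-/

namespace Cfsg.Agent.Lib.Helper98.NormMax

open Subgroup

/-- preimages of maximal subgroups under surjections are maximal -/
theorem isCoatom_comap_of_surjective {E G : Type*} [Group E] [Group G] (π : E →* G)
    (hπ : Function.Surjective π) (M : Subgroup G) (hM : IsCoatom M) : IsCoatom (M.comap π) := by
  constructor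
  · intro h
    apply hM.1
    rw [← Subgroup.map_comap_eq_self_of_surjective hπ M, h]
    exact Subgroup.map_top_of_surjective _ hπ
  · intro L hL
    have hker : π.ker ≤ L := (Subgroup.ker_le_comap π M).trans hL.le
    have h1 : M ≤ L.map π := by
      rw [← Subgroup.map_comap_eq_self_of_surjective hπ M]
      exact Subgroup.map_mono hL.le
    have h2 : M ≠ L.map π := by
      intro h
      apply hL.not_ge
      rw [h]
      exact Subgroup.le_comap_map π L
    have h3 : L.map π = ⊤ := hM.2 _ (lt_of_le_of_ne h1 h2)
    rw [eq_top_iff]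
    intro x _
    have hx : π x ∈ L.map π := by rw [h3]; trivial
    obtain ⟨l, hl, hlx⟩ := hx
    have hk : l⁻¹ * x ∈ π.ker := by
      rw [MonoidHom.mem_ker, map_mul, map_inv, hlx, inv_mul_cancel]
    have : x = l * (l⁻¹ * x) := by group
    rw [this]
    exact L.mul_mem hl (hker hk)

/-- a simple group with Sylow `2`-subgroups of order four: `3` divides the order of the
normalizer -/
theorem three_dvd_card_normalizer {G : Type*} [Group G] [Finite G] [IsSimpleGroup G]
    (P : Sylow 2 G) (hP : Nat.card P = 4) (hG : 4 < Nat.card G) :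
    3 ∣ Nat.card (Subgroup.normalizer ((P : Subgroup G) : Set G)) := by
  classical
  haveI : Fact (Nat.Prime 2) := ⟨Nat.prime_two⟩
  by_contra h3
  haveI : IsMulCommutative (P : Subgroup G) :=
    IsPGroup.isMulCommutative_of_card_eq_prime_sq (p := 2) (by rw [hP]; norm_num)
  have hle : Subgroup.normalizer ((P : Subgroup G) : Set G) ≤
      Subgroup.centralizer ((P : Subgroup G) : Set G) := by
    have key := Subgroup.card_dvd_of_injective _
      (QuotientGroup.kerLift_injective (P : Subgroup G).normalizerMonoidHom)
    rw [Subgroup.normalizerMonoidHom_ker, ← Subgroup.index, ← Subgroup.relIndex] at key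
    have h24 : Nat.card (MulAut (P : Subgroup G)) ∣ 24 := by
      have h1 := Subgroup.card_dvd_of_injective (MulAut.toPerm (P : Subgroup G))
        (fun a b h => MulEquiv.toEquiv_injective h)
      rw [Nat.card_perm, hP] at h1
      exact h1
    have hrel : (Subgroup.centralizer ((P : Subgroup G) : Set G)).relIndex
        (Subgroup.normalizer ((P : Subgroup G) : Set G)) ∣
        (P : Subgroup G).relIndex (Subgroup.normalizer ((P : Subgroup G) : Set G)) :=
      Subgroup.relIndex_dvd_of_le_left _ (P : Subgroup G).le_centralizer
    have hcop : Nat.Coprime 24 ((P : Subgroup G).relIndex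
        (Subgroup.normalizer ((P : Subgroup G) : Set G))) := by
      have h2 : Nat.Coprime 2 ((P : Subgroup G).relIndex
          (Subgroup.normalizer ((P : Subgroup G) : Set G))) := by
        rw [Nat.Prime.coprime_iff_not_dvd Nat.prime_two]
        intro h
        exact P.not_dvd_index (h.trans (Subgroup.relIndex_dvd_index_of_le Subgroup.le_normalizer))
      have h3' : Nat.Coprime 3 ((P : Subgroup G).relIndex
          (Subgroup.normalizer ((P : Subgroup G) : Set G))) := by
        rw [Nat.Prime.coprime_iff_not_dvd Nat.prime_three]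
        intro h
        exact h3 (h.trans (Subgroup.relIndex_dvd_card _ _))
      have : (24 : ℕ) = 2 ^ 3 * 3 := by norm_num
      rw [this]
      exact (Nat.Coprime.pow_left 3 h2).mul_left h3'
    exact Subgroup.relIndex_eq_one.mp
      (Nat.eq_one_of_dvd_coprimes hcop (key.trans h24) hrel)
  have hcomp := MonoidHom.ker_transferSylow_isComplement' P hle
  have hcard := hcomp.card_mul_card
  have hnorm : (MonoidHom.transferSylow P hle).ker.Normal := MonoidHom.normal_ker _
  rcases hnorm.eq_bot_or_eq_top with hb | ht
  · rw [hb, Subgroup.card_bot, one_mul, hP] at hcard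
    omega
  · rw [ht, Subgroup.card_top, hP] at hcard
    have : 0 < Nat.card G := Nat.card_pos
    nlinarith

/-- a simple group with Sylow `2`-subgroups of order four: `12` divides the order of the
normalizer -/
theorem twelve_dvd_card_normalizer {G : Type*} [Group G] [Finite G] [IsSimpleGroup G]
    (P : Sylow 2 G) (hP : Nat.card P = 4) (hG : 4 < Nat.card G) :
    12 ∣ Nat.card (Subgroup.normalizer ((P : Subgroup G) : Set G)) := by
  have h3 := three_dvd_card_normalizer P hP hG
  have h4 : 4 ∣ Nat.card (Subgroup.normalizer ((P : Subgroup G) : Set G)) := by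
    rw [← hP]
    exact Subgroup.card_dvd_of_le Subgroup.le_normalizer
  have : (12 : ℕ) = 3 * 4 := by norm_num
  rw [this]
  exact Nat.Coprime.mul_dvd_of_dvd_of_dvd (by norm_num) h3 h4

/-- subgroups of a direct product of groups of coprime orders split -/
theorem mem_of_coprime_prod {K S : Type*} [Group K] [Group S] [Finite K] [Finite S]
    (hKS : (Nat.card K).Coprime (Nat.card S)) (H : Subgroup (K × S)) (k : K) (s : S)
    (h : (k, s) ∈ H) : (k, (1 : S)) ∈ H ∧ ((1 : K), s) ∈ H := by
  have h1 : (k, (1 : S)) ∈ H := by
    obtain ⟨n, hn1, hn0⟩ := Nat.chineseRemainder hKS 1 0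
    have hp := H.pow_mem h n
    have hk : k ^ n = k := by
      have : k ^ n = k ^ 1 := by
        rw [pow_eq_pow_iff_modEq]
        exact hn1.of_dvd (orderOf_dvd_natCard k)
      rw [this, pow_one]
    have hs : s ^ n = 1 := by
      have : s ^ n = s ^ 0 := by
        rw [pow_eq_pow_iff_modEq]
        exact hn0.of_dvd (orderOf_dvd_natCard s)
      rw [this, pow_zero]
    have : (k, s) ^ n = (k, (1 : S)) := by
      rw [Prod.pow_mk, hk, hs]
    rw [← this]
    exact hp
  refine ⟨h1, ?_⟩
  have : ((1 : K), s) = (k, (1 : S))⁻¹ * (k, s) := by simp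
  rw [this]
  exact H.mul_mem (H.inv_mem h1) h

/-- the direct product with an abelian group of coprime order inherits the property that
non-normal subgroups have maximal normalizers -/
theorem prod_normalizer_isCoatom {K S : Type*} [Group K] [CommGroup S] [Finite K] [Finite S]
    (hKS : (Nat.card K).Coprime (Nat.card S))
    (hK : ∀ B : Subgroup K, ¬ B.Normal → IsCoatom (Subgroup.normalizer (B : Set K)))
    (H : Subgroup (K × S)) (hH : ¬ H.Normal) :
    IsCoatom (Subgroup.normalizer (H : Set (K × S))) := by
  set HK : Subgroup K := H.comap (MonoidHom.inl K S) with hHK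
  have hmemHK : ∀ k, k ∈ HK ↔ (k, (1 : S)) ∈ H := fun k => Iff.rfl
  have hmem : ∀ k s, (k, s) ∈ H ↔ k ∈ HK ∧ ((1 : K), s) ∈ H := by
    intro k s
    constructor
    · intro h
      exact mem_of_coprime_prod hKS H k s h
    · rintro ⟨h1, h2⟩
      have : (k, s) = (k, (1 : S)) * ((1 : K), s) := by simp
      rw [this]
      exact H.mul_mem h1 h2
  have hnorm : ∀ x y, (x, y) ∈ Subgroup.normalizer (H : Set (K × S)) ↔
      x ∈ Subgroup.normalizer (HK : Set K) := by
    intro x y
    rw [Subgroup.mem_normalizer_iff, Subgroup.mem_normalizer_iff]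
    constructor
    · intro h k
      have := h (k, 1)
      rw [hmemHK, hmemHK]
      have e : (x, y) * (k, (1 : S)) * (x, y)⁻¹ = (x * k * x⁻¹, 1) := by simp
      rw [e] at this
      exact this
    · intro h ks
      obtain ⟨k, s⟩ := ks
      have e : (x, y) * (k, s) * (x, y)⁻¹ = (x * k * x⁻¹, s) := by
        simp [mul_comm y s]
      rw [e, hmem, hmem (x * k * x⁻¹) s, h k]
  have hHKn : ¬ HK.Normal := by
    intro hn
    apply hH
    rw [← Subgroup.normalizer_eq_top_iff, eq_top_iff]
    rintro ⟨x, y⟩ -
    rw [hnorm, Subgroup.normalizer_eq_top_iff.2 hn]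
    trivial
  have hco := hK HK hHKn
  constructor
  · intro htop
    apply hco.1
    rw [eq_top_iff]
    intro x _
    rw [← hnorm x 1, htop]
    trivial
  · intro X hX
    set XK : Subgroup K := X.comap (MonoidHom.inl K S) with hXK
    have hS : ∀ s : S, ((1 : K), s) ∈ X := by
      intro s
      apply hX.le
      rw [hnorm]
      exact Subgroup.one_mem _
    have hle : Subgroup.normalizer (HK : Set K) ≤ XK := by
      intro x hx
      show (x, (1 : S)) ∈ X
      apply hX.le
      rw [hnorm]
      exact hx
    have hne : Subgroup.normalizer (HK : Set K) ≠ XK := by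
      intro heq
      apply hX.not_ge
      rintro ⟨k, s⟩ hks
      rw [hnorm, heq]
      show (k, (1 : S)) ∈ X
      have : (k, (1 : S)) = (k, s) * ((1 : K), s)⁻¹ := by simp
      rw [this]
      exact X.mul_mem hks (X.inv_mem (hS s))
    have htop : XK = ⊤ := hco.2 _ (lt_of_le_of_ne hle hne)
    rw [eq_top_iff]
    rintro ⟨k, s⟩ -
    have h1 : (k, (1 : S)) ∈ X := by
      have : k ∈ XK := by rw [htop]; trivial
      exact this
    have : (k, s) = (k, (1 : S)) * ((1 : K), s) := by simp
    rw [this]
    exact X.mul_mem h1 (hS s)

/-- central extensions by a group of order two generated by the unique involution inherit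
the property that non-normal subgroups have maximal normalizers -/
theorem normalizer_isCoatom_of_quotient {E G : Type*} [Group E] [Group G] [Finite E]
    (π : E →* G) (hπ : Function.Surjective π) (z : E)
    (hker : ∀ x : E, π x = 1 ↔ x = 1 ∨ x = z)
    (hinv : ∀ x : E, x ^ 2 = 1 → x = 1 ∨ x = z)
    (hG : ∀ A : Subgroup G, A ≠ ⊥ → A ≠ ⊤ → IsCoatom (Subgroup.normalizer (A : Set G)))
    (B : Subgroup E) (hB : ¬ B.Normal) :
    IsCoatom (Subgroup.normalizer (B : Set E)) := by
  classical
  -- `z` is central
  have hzc : ∀ x : E, x * z * x⁻¹ = z := by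
    intro x
    have h1 : π (x * z * x⁻¹) = 1 := by
      rw [map_mul, map_mul, map_inv, (hker z).2 (Or.inr rfl), mul_one, mul_inv_cancel]
    rcases (hker _).1 h1 with h | h
    · have : z = 1 := by
        have : z = x⁻¹ * (x * z * x⁻¹) * x := by group
        rw [this, h]; group
      rw [this]; group
    · exact h
  have hzc' : ∀ x : E, x * z = z * x := by
    intro x
    have := hzc x
    calc x * z = (x * z * x⁻¹) * x := by group
      _ = z * x := by rw [this]
  have hz2 : z ^ 2 = 1 := by
    have h1 : π (z ^ 2) = 1 := by
      rw [map_pow, (hker z).2 (Or.inr rfl), one_pow]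
    rcases (hker _).1 h1 with h | h
    · exact h
    · have : z = 1 := by
        have h' : z * z = z := by rw [← sq]; exact h
        calc z = z * z * z⁻¹ := by group
          _ = z * z⁻¹ := by rw [h']
          _ = 1 := by group
      rw [this]; simp
  set A : Subgroup G := B.map π with hA
  have hAbot : A ≠ ⊥ := by
    intro h
    apply hB
    constructor
    intro b hb x
    have h1 : π b = 1 := by
      have : π b ∈ A := ⟨b, hb, rfl⟩
      rw [h] at this
      exact Subgroup.mem_bot.1 this
    rcases (hker b).1 h1 with h2 | h2
    · rw [h2]; simp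
    · rw [h2, hzc x, ← h2]; exact hb
  have hAtop : A ≠ ⊤ := by
    intro h
    apply hB
    constructor
    intro b hb x
    have hx : π x ∈ A := by rw [h]; trivial
    obtain ⟨b', hb', hbx⟩ := hx
    have h1 : π (b'⁻¹ * x) = 1 := by
      rw [map_mul, map_inv, hbx, inv_mul_cancel]
    rcases (hker _).1 h1 with h2 | h2
    · have : x = b' := by
        calc x = b' * (b'⁻¹ * x) := by group
          _ = b' := by rw [h2, mul_one]
      rw [this]
      exact B.mul_mem (B.mul_mem hb' hb) (B.inv_mem hb')
    · have hxe : x = b' * z := by
        calc x = b' * (b'⁻¹ * x) := by group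
          _ = b' * z := by rw [h2]
      have : x * b * x⁻¹ = b' * b * b'⁻¹ := by
        rw [hxe]
        calc b' * z * b * (b' * z)⁻¹ = b' * (z * b * z⁻¹) * b'⁻¹ := by group
          _ = b' * b * b'⁻¹ := by
            have : z * b * z⁻¹ = b := by
              rw [← hzc' b]; group
            rw [this]
      rw [this]
      exact B.mul_mem (B.mul_mem hb' hb) (B.inv_mem hb')
  have hco := hG A hAbot hAtop
  -- conjugation preserves `B` as soon as it does so modulo the kernel
  have key : ∀ x : E, π x ∈ Subgroup.normalizer (A : Set G) → ∀ b ∈ B, x * b * x⁻¹ ∈ B := by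
    intro x hx b hb
    have h1 : π (x * b * x⁻¹) ∈ A := by
      rw [map_mul, map_mul, map_inv]
      exact (Subgroup.mem_normalizer_iff.1 hx (π b)).1 ⟨b, hb, rfl⟩
    obtain ⟨b', hb', hbx⟩ := h1
    have h2 : π (b'⁻¹ * (x * b * x⁻¹)) = 1 := by
      rw [map_mul, map_inv, hbx, inv_mul_cancel]
    rcases (hker _).1 h2 with h3 | h3
    · have : x * b * x⁻¹ = b' := by
        calc x * b * x⁻¹ = b' * (b'⁻¹ * (x * b * x⁻¹)) := by group
          _ = b' := by rw [h3, mul_one]
      rw [this]; exact hb'
    · have he : x * b * x⁻¹ = b' * z := by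
        calc x * b * x⁻¹ = b' * (b'⁻¹ * (x * b * x⁻¹)) := by group
          _ = b' * z := by rw [h3]
      by_cases hzB : z ∈ B
      · rw [he]; exact B.mul_mem hb' hzB
      · exfalso
        -- `B` has odd order
        have hodd : ¬ 2 ∣ Nat.card B := by
          intro h2
          haveI : Fact (Nat.Prime 2) := ⟨Nat.prime_two⟩
          obtain ⟨t, ht⟩ := exists_prime_orderOf_dvd_card' (G := B) 2 h2
          have ht2 : (t : E) ^ 2 = 1 := by
            have : t ^ 2 = 1 := by rw [← ht]; exact pow_orderOf_eq_one t
            exact_mod_cast congrArg Subtype.val this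
          rcases hinv _ ht2 with h4 | h4
          · have : t = 1 := Subtype.ext h4
            rw [this, orderOf_one] at ht
            omega
          · apply hzB
            rw [← h4]; exact t.2
        set k := orderOf b with hk
        have hkodd : ¬ 2 ∣ k := by
          intro h
          apply hodd
          have : orderOf (⟨b, hb⟩ : B) = k := by
            rw [hk]; exact Subgroup.orderOf_mk b hb
          rw [← this] at h
          exact h.trans (orderOf_dvd_natCard _)
        have hpow : (x * b * x⁻¹) ^ k = 1 := by
          have : (x * b * x⁻¹) ^ k = x * b ^ k * x⁻¹ := by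
            rw [← conj_pow]
          rw [this, hk, pow_orderOf_eq_one]; group
        rw [he] at hpow
        have hcomm : Commute b' z := hzc' b'
        rw [hcomm.mul_pow] at hpow
        have hzk : z ^ k = z := by
          obtain ⟨j, hj⟩ : ∃ j, k = 2 * j + 1 := ⟨k / 2, by omega⟩
          rw [hj, pow_succ, pow_mul, hz2, one_pow, one_mul]
        rw [hzk] at hpow
        apply hzB
        have : z = (b' ^ k)⁻¹ := by
          calc z = (b' ^ k)⁻¹ * (b' ^ k * z) := by group
            _ = (b' ^ k)⁻¹ := by rw [hpow, mul_one]
        rw [this]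
        exact B.inv_mem (B.pow_mem hb' k)
  have hN : Subgroup.normalizer (B : Set E) = (Subgroup.normalizer (A : Set G)).comap π := by
    ext x
    rw [Subgroup.mem_comap]
    constructor
    · intro hx
      rw [Subgroup.mem_normalizer_iff]
      intro a
      constructor
      · rintro ⟨b, hb, rfl⟩
        refine ⟨x * b * x⁻¹, (Subgroup.mem_normalizer_iff.1 hx b).1 hb, ?_⟩
        rw [map_mul, map_mul, map_inv]
      · rintro ⟨b, hb, hbx⟩
        have hx' : x⁻¹ ∈ Subgroup.normalizer (B : Set E) := Subgroup.inv_mem _ hx
        refine ⟨x⁻¹ * b * x, ?_, ?_⟩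
        · have := (Subgroup.mem_normalizer_iff.1 hx' b).1 hb
          rw [inv_inv] at this
          exact this
        · rw [map_mul, map_mul, map_inv, hbx]; group
    · intro hx
      rw [Subgroup.mem_normalizer_iff]
      intro b
      constructor
      · intro hb
        exact key x hx b hb
      · intro hb
        have hx' : π x⁻¹ ∈ Subgroup.normalizer (A : Set G) := by
          rw [map_inv]; exact Subgroup.inv_mem _ hx
        have := key x⁻¹ hx' _ hb
        rw [inv_inv] at this
        have e : x⁻¹ * (x * b * x⁻¹) * x = b := by group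
        rw [e] at this
        exact this
  rw [hN]
  exact isCoatom_comap_of_surjective π hπ _ hco

end Cfsg.Agent.Lib.Helper98.NormMax
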