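import Mathlib
import Cfsg.Agent.Lib.Helper48.Dickson.TorusMinus

set_option autoImplicit false
set_option linter.unusedSimpArgs false
set_option linter.unusedSectionVars false
set_option linter.style.haveILetI false
set_option maxHeartbeats 800000

/-!
# Pulling back a Dickson structure along an injective homomorphism (helper98)
-/

namespace Cfsg.Agent.Lib.Helper98.PGL2

open Cfsg.Agent.Lib.Helper48.Dickson

section pullback
variable {G G' : Type*} [Group G] [Group G'] {p : ℕ}

theorem map_ne_one (J : G →* G') (hJ : Function.Injective J) {g : G} (hg : g ≠ 1) : J g ≠ 1 := by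
  intro h
  exact hg (hJ (by rw [h, map_one]))

/-- elements normalizing a pulled back component map into the normalizer of the component -/
theorem map_mem_nrm (D : DStruct G' p) (J : G →* G') (hJ : Function.Injective J) {g n : G}
    (hg : g ≠ 1) (hn : n ∈ nrm ((D.comp (J g)).comap J)) : J n ∈ nrm (D.comp (J g)) := by
  rw [D.mem_nrm_comp_iff (map_ne_one J hJ hg)]
  have h1 : n * g * n⁻¹ ∈ (D.comp (J g)).comap J :=
    (mem_nrm_iff.1 hn g).1 (by rw [Subgroup.mem_comap]; exact D.mem_comp _)
  rw [Subgroup.mem_comap, map_mul, map_mul, map_inv] at h1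
  exact D.comp_eq_of_mem (map_ne_one J hJ hg) (DStruct.conj_ne_one (map_ne_one J hJ hg)) h1

theorem mem_nrm_of_map (D : DStruct G' p) (J : G →* G') {g n : G}
    (hn : J n ∈ nrm (D.comp (J g))) : n ∈ nrm ((D.comp (J g)).comap J) := by
  rw [mem_nrm_iff]
  intro h
  rw [Subgroup.mem_comap, Subgroup.mem_comap, map_mul, map_mul, map_inv]
  exact mem_nrm_iff.1 hn (J h)

theorem orderOf_map_inj (J : G →* G') (hJ : Function.Injective J) (n : G) :
    orderOf (J n) = orderOf n := orderOf_injective J hJ n

/-- a `p`-element of a group of order prime to `p` is trivial -/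
theorem elt_trivial {H : Type*} [Group H] (h : H) (k : ℕ) (hk : h ^ p ^ k = 1)
    (hc : (Nat.card H).Coprime p) : h = 1 := by
  have h2 : orderOf h ∣ p ^ k := orderOf_dvd_of_pow_eq_one hk
  have h3 : orderOf h ∣ Nat.card H := orderOf_dvd_natCard _
  have h4 : orderOf h = 1 := Nat.eq_one_of_dvd_coprimes (Nat.Coprime.pow_right k hc) h3 h2
  exact orderOf_eq_one_iff.1 h4

theorem card_comap_dvd (C : Subgroup G') (J : G →* G') (hJ : Function.Injective J) :
    Nat.card (C.comap J) ∣ Nat.card C := by
  have e : (C.comap J) ≃* ((C.comap J).map J) := Subgroup.equivMapOfInjective _ J hJ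
  rw [Nat.card_congr e.toEquiv]
  exact Subgroup.card_dvd_of_le (Subgroup.map_comap_le J _)

theorem not_both (D : DStruct G' p) (J : G →* G') (hJ : Function.Injective J) {g : G}
    (hg : g ≠ 1) (h1 : IsPGroup p ((D.comp (J g)).comap J))
    (h2 : (Nat.card ((D.comp (J g)).comap J)).Coprime p) : False := by
  obtain ⟨k, hk⟩ := h1 ⟨g, by rw [Subgroup.mem_comap]; exact D.mem_comp _⟩
  have := elt_trivial _ k hk h2
  exact hg (congrArg Subtype.val this)

theorem pgroup_up (D : DStruct G' p) (J : G →* G') (hJ : Function.Injective J) {g : G}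
    (hg : g ≠ 1) (h1 : IsPGroup p ((D.comp (J g)).comap J)) : IsPGroup p (D.comp (J g)) := by
  rcases D.dich (J g) (map_ne_one J hJ hg) with h | h
  · exact h
  · exact (not_both D J hJ hg h1
      (Nat.Coprime.coprime_dvd_left (card_comap_dvd _ J hJ) h)).elim

theorem coprime_up (D : DStruct G' p) (J : G →* G') (hJ : Function.Injective J) {g : G}
    (hg : g ≠ 1) (h1 : (Nat.card ((D.comp (J g)).comap J)).Coprime p) :
    (Nat.card (D.comp (J g))).Coprime p := by
  rcases D.dich (J g) (map_ne_one J hJ hg) with h | h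
  · exact (not_both D J hJ hg (h.comap_of_injective J hJ) h1).elim
  · exact h

/-- the pullback of a Dickson structure along an injective homomorphism -/
noncomputable def pullback [Finite G] [Fact p.Prime] (D : DStruct G' p) (J : G →* G')
    (hJ : Function.Injective J) : DStruct G p where
  comp g := (D.comp (J g)).comap J
  mem_comp g := by rw [Subgroup.mem_comap]; exact D.mem_comp _
  comp_comm g hg a ha b hb := by
    apply hJ
    rw [map_mul, map_mul]
    exact D.comp_comm (J g) (map_ne_one J hJ hg) _ ha _ hb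
  comp_eq g hg g' hg' hg'1 := by
    rw [Subgroup.mem_comap] at hg'
    rw [D.comp_eq (J g) (map_ne_one J hJ hg) (J g') hg' (map_ne_one J hJ hg'1)]
  comp_conj x g y hg := by
    rw [Subgroup.mem_comap, Subgroup.mem_comap, map_mul, map_mul, map_inv, map_mul, map_mul,
      map_inv]
    exact D.comp_conj (J x) (J g) (J y) (map_ne_one J hJ hg)
  dich g hg := by
    rcases D.dich (J g) (map_ne_one J hJ hg) with h | h
    · left
      exact h.comap_of_injective J hJ
    · right
      exact Nat.Coprime.coprime_dvd_left (card_comap_dvd _ J hJ) h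
  u_not_dvd g hg hp n hn hnc := by
    rw [← orderOf_map_inj J hJ n]
    exact D.u_not_dvd (J g) (map_ne_one J hJ hg) (pgroup_up D J hJ hg hp) (J n)
      (map_mem_nrm D J hJ hg hn) hnc
  u_cyc g hg hp := by
    have hJg := map_ne_one J hJ hg
    have hU := pgroup_up D J hJ hg hp
    have hcyc := D.isCyclic_quot hJg hU
    set C := (D.comp (J g)).comap J with hC
    -- the induced map on quotients
    let φ : nrm C →* nrm (D.comp (J g)) :=
      (J.comp (nrm C).subtype).codRestrict _ (fun n => map_mem_nrm D J hJ hg n.2)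
    have hφ : C.subgroupOf (nrm C) ≤
        ((D.comp (J g)).subgroupOf (nrm (D.comp (J g)))).comap φ := by
      intro n hn
      rw [Subgroup.mem_comap, Subgroup.mem_subgroupOf]
      exact hn
    let ψ := QuotientGroup.map _ _ φ hφ
    have hψ : Function.Injective ψ := by
      rw [injective_iff_map_eq_one]
      intro x hx
      obtain ⟨n, rfl⟩ := QuotientGroup.mk_surjective x
      rw [QuotientGroup.map_mk, QuotientGroup.eq_one_iff, Subgroup.mem_subgroupOf] at hx
      rw [QuotientGroup.eq_one_iff, Subgroup.mem_subgroupOf]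
      exact hx
    haveI : IsCyclic (nrm C ⧸ C.subgroupOf (nrm C)) := isCyclic_of_injective ψ hψ
    obtain ⟨c, hc⟩ := IsCyclic.exists_monoid_generator (α := nrm C ⧸ C.subgroupOf (nrm C))
    obtain ⟨n1, rfl⟩ := QuotientGroup.mk_surjective c
    refine ⟨n1.1⁻¹, (nrm C).inv_mem n1.2, fun n hn => ?_⟩
    obtain ⟨i, hi⟩ := hc (QuotientGroup.mk ⟨n, hn⟩)
    refine ⟨i, ?_⟩
    have h1 : (QuotientGroup.mk ((⟨n, hn⟩ : nrm C) * (n1⁻¹) ^ i) :
        nrm C ⧸ C.subgroupOf (nrm C)) = 1 := by
      rw [QuotientGroup.mk_mul, QuotientGroup.mk_pow, QuotientGroup.mk_inv, ← hi]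
      simp
    rw [QuotientGroup.eq_one_iff, Subgroup.mem_subgroupOf] at h1
    simpa using h1
  u_free g hg hp n hn hnc c hc hc1 := by
    intro h
    apply D.u_free (J g) (map_ne_one J hJ hg) (pgroup_up D J hJ hg hp) (J n)
      (map_mem_nrm D J hJ hg hn) hnc (J c) hc (map_ne_one J hJ hc1)
    rw [← map_inv, ← map_mul, ← map_mul, h]
  u_comp g hg hp n hn hnc := by
    intro y hy
    apply mem_nrm_of_map D J
    exact D.u_comp (J g) (map_ne_one J hJ hg) (pgroup_up D J hJ hg hp) (J n)
      (map_mem_nrm D J hJ hg hn) hnc hy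
  u_sylow S hS hne := by
    obtain ⟨s, hs1⟩ := (Subgroup.ne_bot_iff_exists_ne_one).mp hne
    have hs1' : s.1 ≠ 1 := fun h => hs1 (Subtype.ext h)
    have hne' : S.map J ≠ ⊥ := by
      intro h
      have : J s.1 ∈ S.map J := Subgroup.mem_map_of_mem J s.2
      rw [h, Subgroup.mem_bot] at this
      exact map_ne_one J hJ hs1' this
    obtain ⟨g', hg', hp', hle⟩ := D.u_sylow (S.map J) (hS.map J) hne'
    have hsg : J s.1 ∈ D.comp g' := hle (Subgroup.mem_map_of_mem J s.2)
    have hcs : D.comp (J s.1) = D.comp g' := D.comp_eq g' hg' _ hsg (map_ne_one J hJ hs1')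
    refine ⟨s.1, hs1', ?_, ?_⟩
    · rw [hcs]; exact hp'.comap_of_injective J hJ
    · intro x hx
      rw [Subgroup.mem_comap, hcs]
      exact hle (Subgroup.mem_map_of_mem J hx)
  t_cyc g hg hc := by
    haveI := D.t_cyc (J g) (map_ne_one J hJ hg) (coprime_up D J hJ hg hc)
    let φ : (D.comp (J g)).comap J →* D.comp (J g) :=
      (J.comp ((D.comp (J g)).comap J).subtype).codRestrict _ (fun n => n.2)
    have hφ : Function.Injective φ := by
      intro a b hab
      apply Subtype.ext
      apply hJ
      exact congrArg Subtype.val hab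
    exact isCyclic_of_injective φ hφ
  t_inv g hg hc n hn hnc := by
    obtain ⟨h1, h2⟩ := D.t_inv (J g) (map_ne_one J hJ hg) (coprime_up D J hJ hg hc) (J n)
      (map_mem_nrm D J hJ hg hn) hnc
    refine ⟨hJ (by rw [map_pow, h1, map_one]), fun c hc' => hJ ?_⟩
    rw [map_mul, map_mul, map_inv, map_inv]
    exact h2 (J c) hc'
  t_idx g hg hc n hn n' hn' hnc hnc' := by
    rw [Subgroup.mem_comap, map_mul]
    exact D.t_idx (J g) (map_ne_one J hJ hg) (coprime_up D J hJ hg hc) (J n)
      (map_mem_nrm D J hJ hg hn) (J n') (map_mem_nrm D J hJ hg hn') hnc hnc'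

theorem pullback_comp [Finite G] [Fact p.Prime] (D : DStruct G' p) (J : G →* G')
    (hJ : Function.Injective J) (g : G) :
    (pullback D J hJ).comp g = (D.comp (J g)).comap J := rfl

end pullback

end Cfsg.Agent.Lib.Helper98.PGL2
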