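import Mathlib
import Cfsg.Agent.Lib.Helper19.TwoTrans

set_option autoImplicit false
set_option linter.unusedSimpArgs false
set_option linter.unusedSectionVars false
set_option linter.style.haveILetI false
set_option maxHeartbeats 800000

/-!
# Embedding `PGL₂(q)` into `PSL₂(q²)` (helper98)
-/

namespace Cfsg.Agent.Lib.Helper98.PGL2

open Cfsg.Agent.Lib.Helper19.TwoTrans

section ext
variable {F : Type*} [Field F] [Fintype F]

/-- a quadratic extension of a finite field -/
theorem exists_quadratic_ext (p : ℕ) [Fact p.Prime] [CharP F p] :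
    ∃ (K : Type) (_ : Field K) (_ : Fintype K) (_ : CharP K p) (_ : F →+* K),
      Fintype.card K = Fintype.card F ^ 2 := by
  have pp : p.Prime := Fact.out
  letI : Algebra (ZMod p) F := ZMod.algebra _ _
  have h1 := FiniteField.pow_finrank_eq_card p F
  set n := Module.finrank (ZMod p) F with hn
  have hn0 : n ≠ 0 := by
    intro h
    rw [h, pow_zero] at h1
    have : 1 < Fintype.card F := Fintype.one_lt_card
    omega
  have h2n0 : 2 * n ≠ 0 := by omega
  let _ : Fintype (GaloisField p (2 * n)) := Fintype.ofFinite _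
  have hcK : Fintype.card (GaloisField p (2 * n)) = p ^ (2 * n) := by
    rw [← Nat.card_eq_fintype_card, GaloisField.card p (2 * n) h2n0]
  have h3 : Module.finrank (ZMod p) (GaloisField p (2 * n)) = 2 * n := GaloisField.finrank p h2n0
  obtain ⟨f⟩ := FiniteField.nonempty_algHom_of_finrank_dvd (F := ZMod p) (K := F)
    (L := GaloisField p (2 * n)) (by rw [h3]; exact dvd_mul_left _ _)
  refine ⟨GaloisField p (2 * n), inferInstance, inferInstance, inferInstance, f.toRingHom, ?_⟩
  rw [hcK, ← h1, ← pow_mul, mul_comm]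

/-- elements of the small field are squares in a quadratic extension -/
theorem isSquare_of_card_sq {K : Type*} [Field K] [Fintype K] (f : F →+* K)
    (hodd : Odd (Fintype.card F)) (hK : Fintype.card K = Fintype.card F ^ 2) (c : F) (hc : c ≠ 0) :
    IsSquare (f c) := by
  have hK2 : ringChar K ≠ 2 := by
    intro h
    have h1 : (2 : K) = 0 := by
      have := ringChar.Nat.cast_ringChar (R := K)
      rw [h] at this
      exact_mod_cast this
    have h2 : ringChar K ∣ Fintype.card K := by
      have : ((Fintype.card K : ℕ) : K) = 0 := Nat.cast_card_eq_zero K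
      exact (ringChar.spec K _).1 this
    rw [h, hK] at h2
    have := hodd.pow (n := 2)
    rw [← Nat.not_even_iff_odd] at this
    exact this (even_iff_two_dvd.2 h2)
  have hfc : f c ≠ 0 := by
    intro h
    exact hc (f.injective (by rw [h, map_zero]))
  rw [FiniteField.isSquare_iff hK2 hfc, hK]
  obtain ⟨m, hm⟩ := hodd
  have hq : Fintype.card F ^ 2 / 2 = (Fintype.card F - 1) * (m + 1) := by
    rw [hm]
    have : (2 * m + 1) ^ 2 = 2 * ((2 * m + 1 - 1) * (m + 1)) + 1 := by
      have : 2 * m + 1 - 1 = 2 * m := by omega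
      rw [this]; ring
    omega
  rw [hq, pow_mul, ← map_pow, FiniteField.pow_card_sub_one_eq_one c hc, map_one, one_pow]

end ext

section jmap
variable {F : Type*} [Field F] {K : Type*} [Field K] (f : F →+* K)
  (hsq : ∀ c : F, c ≠ 0 → IsSquare (f c))

theorem gl_det_ne_zero (A : GL (Fin 2) F) : (A : Matrix (Fin 2) (Fin 2) F).det ≠ 0 := by
  rw [← Matrix.GeneralLinearGroup.val_det_apply]; exact Units.ne_zero _

/-- a chosen square root of the determinant -/
noncomputable def sqr (A : GL (Fin 2) F) : K := Classical.choose (hsq _ (gl_det_ne_zero A))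

theorem sqr_spec (A : GL (Fin 2) F) :
    sqr f hsq A * sqr f hsq A = f (A : Matrix (Fin 2) (Fin 2) F).det :=
  (Classical.choose_spec (hsq _ (gl_det_ne_zero A))).symm

theorem sqr_ne_zero (A : GL (Fin 2) F) : sqr f hsq A ≠ 0 := by
  intro h
  have := sqr_spec f hsq A
  rw [h, mul_zero] at this
  exact gl_det_ne_zero A (f.injective (by rw [← this, map_zero]))

/-- the embedding `GL₂(F) → PSL₂(K)` for a field `K` in which the elements of `F` are squares -/
noncomputable def jj : GL (Fin 2) F →* Matrix.ProjectiveSpecialLinearGroup (Fin 2) K :=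
  MonoidHom.mk' (fun A => QuotientGroup.mk (normMat' f 1 one_ne_zero (sqr f hsq A)
    (A : Matrix (Fin 2) (Fin 2) F) (sqr_spec f hsq A) (sqr_ne_zero f hsq A)))
    (fun A B => normMat'_mul f 1 one_ne_zero (sqr f hsq A) (sqr f hsq B) (sqr f hsq (A * B))
      A B (sqr_spec f hsq A) (sqr_ne_zero f hsq A) (sqr_spec f hsq B) (sqr_ne_zero f hsq B)
      (sqr_spec f hsq (A * B)) (sqr_ne_zero f hsq (A * B)))

theorem normMat'_congr (s t : K) (A : Matrix (Fin 2) (Fin 2) F) (hs : s * s = f A.det)
    (hs0 : s ≠ 0) (ht : t * t = f A.det) (ht0 : t ≠ 0) :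
    (QuotientGroup.mk (normMat' f 1 one_ne_zero s A hs hs0) :
      Matrix.ProjectiveSpecialLinearGroup (Fin 2) K) =
    QuotientGroup.mk (normMat' f 1 one_ne_zero t A ht ht0) := by
  rcases mul_self_eq_mul_self_iff.mp (hs.trans ht.symm) with h | h
  · subst h; rfl
  · rw [Cfsg.Agent.S0807.mk_eq_mk_iff]
    right
    apply Subtype.ext
    rw [Matrix.SpecialLinearGroup.coe_neg]
    simp only [normMat']
    rw [h, inv_neg, neg_smul]

theorem jj_eq (A : GL (Fin 2) F) (s : K) (hs : s * s = f (A : Matrix (Fin 2) (Fin 2) F).det)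
    (hs0 : s ≠ 0) :
    jj f hsq A = QuotientGroup.mk (normMat' f 1 one_ne_zero s A hs hs0) :=
  normMat'_congr f _ _ _ _ _ _ _

theorem jj_ker : (jj f hsq).ker = Subgroup.center (GL (Fin 2) F) := by
  ext A
  rw [MonoidHom.mem_ker, Matrix.GeneralLinearGroup.center_eq_range_scalar, MonoidHom.mem_range]
  show (QuotientGroup.mk (normMat' f 1 one_ne_zero (sqr f hsq A) A (sqr_spec f hsq A)
    (sqr_ne_zero f hsq A)) : Matrix.ProjectiveSpecialLinearGroup (Fin 2) K) = 1 ↔ _
  rw [QuotientGroup.eq_one_iff, Matrix.SpecialLinearGroup.mem_center_iff]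
  constructor
  · rintro ⟨r, hr, hrA⟩
    have hM : ∀ i j, twf f 1 (A : Matrix (Fin 2) (Fin 2) F) i j =
        sqr f hsq A * (Matrix.scalar (Fin 2) r) i j := by
      intro i j
      rw [hrA]
      simp only [normMat', Matrix.smul_apply, smul_eq_mul]
      rw [← mul_assoc, mul_inv_cancel₀ (sqr_ne_zero f hsq A), one_mul]
    have h01 : (A : Matrix (Fin 2) (Fin 2) F) 0 1 = 0 := by
      apply f.injective
      have := hM 0 1
      rw [twf01] at this
      rw [map_zero]
      have h2 : (1 : K) * f ((A : Matrix (Fin 2) (Fin 2) F) 0 1) = 0 := by rw [this]; simp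
      exact (mul_eq_zero.mp h2).resolve_left one_ne_zero
    have h10 : (A : Matrix (Fin 2) (Fin 2) F) 1 0 = 0 := by
      apply f.injective
      have := hM 1 0
      rw [twf10] at this
      rw [map_zero]
      have h2 : (1 : K)⁻¹ * f ((A : Matrix (Fin 2) (Fin 2) F) 1 0) = 0 := by rw [this]; simp
      exact (mul_eq_zero.mp h2).resolve_left (inv_ne_zero one_ne_zero)
    have h11 : (A : Matrix (Fin 2) (Fin 2) F) 1 1 = (A : Matrix (Fin 2) (Fin 2) F) 0 0 := by
      apply f.injective
      have h1 := hM 1 1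
      have h0 := hM 0 0
      rw [twf11] at h1
      rw [twf00] at h0
      rw [h1, h0]; simp
    have h00 : (A : Matrix (Fin 2) (Fin 2) F) 0 0 ≠ 0 := by
      intro h
      apply gl_det_ne_zero A
      rw [Matrix.det_fin_two, h01, h10, h11, h]
      ring
    refine ⟨Units.mk0 _ h00, ?_⟩
    apply Units.ext
    rw [Matrix.GeneralLinearGroup.coe_scalar]
    ext i j
    fin_cases i <;> fin_cases j <;> simp [h01, h10, h11]
  · rintro ⟨u, rfl⟩
    have hs := sqr_spec f hsq (Matrix.GeneralLinearGroup.scalar (Fin 2) u)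
    have hdet : ((Matrix.GeneralLinearGroup.scalar (Fin 2) u : GL (Fin 2) F) :
        Matrix (Fin 2) (Fin 2) F).det = (u : F) * u := by
      rw [Matrix.GeneralLinearGroup.coe_scalar]
      simp [pow_two]
    have hu0 : f (u : F) ≠ 0 := by
      intro h
      exact u.ne_zero (f.injective (by rw [h, map_zero]))
    rw [hdet, map_mul] at hs
    rcases mul_self_eq_mul_self_iff.mp hs with h | h
    · refine ⟨1, by simp, ?_⟩
      ext i j
      fin_cases i <;> fin_cases j <;>
        simp [normMat', h, hu0, Matrix.GeneralLinearGroup.coe_scalar]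
    · refine ⟨-1, by simp, ?_⟩
      ext i j
      fin_cases i <;> fin_cases j <;>
        simp [normMat', h, hu0, Matrix.GeneralLinearGroup.coe_scalar]

/-- the embedding of `PGL₂(F)` -/
noncomputable def jbar :
    Matrix.ProjGenLinGroup (Fin 2) F →* Matrix.ProjectiveSpecialLinearGroup (Fin 2) K :=
  QuotientGroup.lift (Subgroup.center (GL (Fin 2) F)) (jj f hsq) (le_of_eq (jj_ker f hsq).symm)

theorem jbar_mk (A : GL (Fin 2) F) :
    jbar f hsq (Matrix.ProjGenLinGroup.mk A) = jj f hsq A := rfl

theorem jbar_injective : Function.Injective (jbar f hsq) :=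
  (QuotientGroup.injective_lift_iff _ _ _).2 (jj_ker f hsq).symm

theorem jj_toGL (B : Matrix.SpecialLinearGroup (Fin 2) F) :
    jj f hsq (Matrix.SpecialLinearGroup.toGL B) = rho f 1 one_ne_zero B := by
  have hdet : f ((Matrix.SpecialLinearGroup.toGL B : GL (Fin 2) F) :
      Matrix (Fin 2) (Fin 2) F).det = 1 := by
    rw [Matrix.SpecialLinearGroup.coe_GL_coe_matrix, B.2, map_one]
  rw [jj_eq f hsq _ 1 (by rw [hdet, mul_one]) one_ne_zero]
  show _ = (QuotientGroup.mk (tau f 1 one_ne_zero B) : Matrix.ProjectiveSpecialLinearGroup (Fin 2) K)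
  congr 1
  apply Subtype.ext
  simp only [normMat', tau_coe]
  rw [inv_one, one_smul, Matrix.SpecialLinearGroup.coe_GL_coe_matrix]

end jmap

end Cfsg.Agent.Lib.Helper98.PGL2
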