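import Mathlib
import Cfsg.Agent.Lib.Helper98.PSL2Max

set_option autoImplicit false
set_option linter.unusedSimpArgs false
set_option linter.unusedSectionVars false
set_option linter.style.haveILetI false

/-!
# The embedded form of the two-transitive case for odd `q`, with the torus elements of the
`PGL₂`-type (helper98)
-/

namespace Cfsg.Agent.Lib.Helper98.PSL2MaxOdd

open Matrix Cfsg.Agent.Lib.Helper60 Cfsg.Agent.S0807 Cfsg.Agent.S0808 Cfsg.Agent.S0802
open Cfsg.Agent.Lib.Helper19.TwoTrans Cfsg.Agent.Lib.Helper98.PSL2Max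

section embedded
variable {F : Type*} [Field F]

theorem embedded_normalized_odd [Fintype F] (p : ℕ) [Fact p.Prime] [CharP F p]
    (hqodd : Odd (Fintype.card F))
    (H Q : Subgroup (Matrix.ProjectiveSpecialLinearGroup (Fin 2) F)) (P k : ℕ)
    (hyp : Hyp p P k H Q) (hP : 1 < P) (hk : k = P - 1 ∨ 2 * k = P - 1)
    (hQU : Q ≤ Ubar F) (h₁ : Matrix.SpecialLinearGroup (Fin 2) F)
    (h₁H : (QuotientGroup.mk h₁ : Matrix.ProjectiveSpecialLinearGroup (Fin 2) F) ∈ H)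
    (h₁0 : h₁.1 0 0 = 0) :
    ∃ (K : Subfield F) (a₀ : F), a₀ ≠ 0 ∧ (K : Set F).ncard = P ∧
      (∀ x, x ∈ K ↔
        (QuotientGroup.mk (umat (a₀ * x)) : Matrix.ProjectiveSpecialLinearGroup (Fin 2) F) ∈ H) ∧
      (∀ M : Matrix.SpecialLinearGroup (Fin 2) F, M.1 0 0 ∈ K → a₀⁻¹ * M.1 0 1 ∈ K →
        a₀ * M.1 1 0 ∈ K → M.1 1 1 ∈ K →
        (QuotientGroup.mk M : Matrix.ProjectiveSpecialLinearGroup (Fin 2) F) ∈ H) ∧
      (k = P - 1 → ∀ c ∈ K, c ≠ 0 → ∃ (t : F) (ht : t ≠ 0), t * t = c ∧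
        (QuotientGroup.mk (tmat t ht) : Matrix.ProjectiveSpecialLinearGroup (Fin 2) F) ∈ H) := by
  classical
  have pp : p.Prime := Fact.out
  set L : Subgroup (Matrix.SpecialLinearGroup (Fin 2) F) :=
    H.comap (QuotientGroup.mk' (Subgroup.center _)) with hL
  have hmemL : ∀ x, x ∈ L ↔
      (QuotientGroup.mk x : Matrix.ProjectiveSpecialLinearGroup (Fin 2) F) ∈ H := fun x => Iff.rfl
  have hQeq : H ⊓ Ubar F = Q :=
    sylow_max p hyp hP hk (H ⊓ Ubar F) ((Ubar_pGroup p).to_le inf_le_right)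
      (le_inf hyp.hQH hQU) inf_le_left
  have hAmem : ∀ a, a ∈ Aset L ↔
      (QuotientGroup.mk (umat a) : Matrix.ProjectiveSpecialLinearGroup (Fin 2) F) ∈ Q := by
    intro a
    rw [← hQeq, Subgroup.mem_inf]
    exact ⟨fun h => ⟨h, a, rfl⟩, fun h => h.1⟩
  have hAc : (Aset L).ncard = P := by
    rw [← hyp.hQ, ← Nat.card_coe_set_eq]
    apply Nat.card_congr
    apply Equiv.ofBijective (fun a : Aset L =>
      (⟨QuotientGroup.mk (umat a.1), (hAmem a.1).mp a.2⟩ : Q))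
    constructor
    · intro a b hab
      exact Subtype.ext (mk_umat_inj (congrArg Subtype.val hab))
    · rintro ⟨x, hx⟩
      obtain ⟨a, rfl⟩ := hQU hx
      exact ⟨⟨a, (hAmem a).mpr hx⟩, rfl⟩
  set d := Nat.card (Subgroup.center (Matrix.SpecialLinearGroup (Fin 2) F)) with hd
  have hLcard : Nat.card L = (P + 1) * (d * P * k) := by
    rw [hL, card_comap_mk, hyp.hH]; ring
  obtain ⟨a₀, ha₀, ha₀0⟩ : ∃ a, a ∈ Aset L ∧ a ≠ 0 := by
    by_contra hcon
    push Not at hcon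
    have h1 : Aset L ⊆ {0} := fun a ha => hcon a ha
    have h2 := Set.ncard_le_ncard h1 (Set.finite_singleton _)
    rw [hAc, Set.ncard_singleton] at h2
    omega
  have hNle : d * P * k ≤
      Nat.card {h : Matrix.SpecialLinearGroup (Fin 2) F // h ∈ L ∧ h.1 1 0 = 0} := by
    have hc : Nat.card ((H ⊓ Subgroup.normalizer (Q : Set _) : Subgroup _).comap
        (QuotientGroup.mk' (Subgroup.center (Matrix.SpecialLinearGroup (Fin 2) F)))) =
        d * (P * k) := by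
      rw [card_comap_mk, hyp.hN]
    rw [mul_assoc, ← hc]
    have hprop : ∀ x : ((H ⊓ Subgroup.normalizer (Q : Set _) : Subgroup _).comap
        (QuotientGroup.mk' (Subgroup.center (Matrix.SpecialLinearGroup (Fin 2) F)))),
        x.1 ∈ L ∧ x.1.1 1 0 = 0 := by
      rintro ⟨x, hx⟩
      have hx' : (QuotientGroup.mk x : Matrix.ProjectiveSpecialLinearGroup (Fin 2) F) ∈
          H ⊓ Subgroup.normalizer (Q : Set _) := hx
      rw [Subgroup.mem_inf] at hx'
      refine ⟨hx'.1, ?_⟩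
      have h1 := (Subgroup.mem_normalizer_iff.mp hx'.2 _).mp ((hAmem a₀).mp ha₀)
      rw [← QuotientGroup.mk_mul, ← QuotientGroup.mk_inv, ← QuotientGroup.mk_mul] at h1
      obtain ⟨a', ha'⟩ := hQU h1
      rw [mk_eq_mk_iff] at ha'
      have h2 : (x * umat a₀ * x⁻¹).1 1 0 = 0 := by
        rcases ha' with h | h
        · rw [h]; simp
        · rw [h]; simp
      rw [conj_u10] at h2
      have h3 : a₀ * (x.1 1 0) ^ 2 = 0 := neg_eq_zero.mp h2
      rcases mul_eq_zero.mp h3 with h | h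
      · exact absurd h ha₀0
      · exact pow_eq_zero_iff (two_ne_zero) |>.mp h
    apply Nat.card_le_card_of_injective (fun x => (⟨x.1, hprop x⟩ :
      {h : Matrix.SpecialLinearGroup (Fin 2) F // h ∈ L ∧ h.1 1 0 = 0}))
    intro x y hxy
    have h3 : x.1 = y.1 := congrArg (fun z :
      {h : Matrix.SpecialLinearGroup (Fin 2) F // h ∈ L ∧ h.1 1 0 = 0} => z.1) hxy
    exact Subtype.ext h3
  obtain ⟨hstar, hNcard⟩ := star L (Aset L) P (d * P * k) hAc (fun a ha => ha) h₁ h₁H h₁0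
    hNle hLcard
  obtain ⟨K, hK⟩ := exists_subfield L p hstar h₁ h₁H h₁0 a₀ ha₀ ha₀0
  have hw : ∀ (a : F) (ha : a ≠ 0), a ∈ Aset L → wmat a ha ∈ L :=
    fun a ha haA => w_mem L hstar h₁ h₁H h₁0 haA ha
  have ht : ∀ (a b : F) (ha : a ≠ 0) (hb : b ≠ 0), a ∈ Aset L → b ∈ Aset L →
      tmat (a / b) (div_ne_zero ha hb) ∈ L :=
    fun a b ha hb haA hbA => t_mem L hstar h₁ h₁H h₁0 haA ha hbA hb
  refine ⟨K, a₀, ha₀0, ?_, ?_, ?_, ?_⟩
  · rw [ncard_subfield L K a₀ ha₀0 hK, hAc]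
  · intro x
    rw [hK x]
    exact Iff.rfl
  · intro M h00 h01 h10 h11
    rw [← hmemL]
    exact mem_of_tw L K a₀ ha₀0 hK hw ht M h00 h01 h10 h11
  · intro hk1 c hc hc0
    have hd2 : d = 2 := card_center_two hqodd
    have hNB : Nat.card {h : Matrix.SpecialLinearGroup (Fin 2) F // h ∈ L ∧ h.1 1 0 = 0} =
        2 * P * (P - 1) := by rw [hNcard, hd2, hk1]
    obtain ⟨t, ht0, htt, htL⟩ := torus L hstar K a₀ ha₀0 hK (hw a₀ ha₀0 ha₀) P hAc hNB c hc hc0
    exact ⟨t, ht0, htt, (hmemL _).mp htL⟩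

end embedded

end Cfsg.Agent.Lib.Helper98.PSL2MaxOdd
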