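import Mathlib
import Cfsg.Agent.Lib.Helper98.PSL2MaxOddA

set_option autoImplicit false
set_option linter.unusedSimpArgs false
set_option linter.unusedSectionVars false
set_option linter.style.haveILetI false

/-!
# Twisted `PGL₂(K)`-type subgroups of `PSL₂(F)` and auxiliary facts for the odd subfield case
(helper98)
-/

namespace Cfsg.Agent.Lib.Helper98.PSL2MaxOdd

open Matrix Cfsg.Agent.Lib.Helper60 Cfsg.Agent.S0807 Cfsg.Agent.S0808 Cfsg.Agent.S0802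
open Cfsg.Agent.Lib.Helper19.TwoTrans Cfsg.Agent.Lib.Helper98.PSL2Max

section tw
variable {F : Type*} [Field F]

local notation "SL2" => Matrix.SpecialLinearGroup (Fin 2) F
local notation "PSL2" => Matrix.ProjectiveSpecialLinearGroup (Fin 2) F

/-- twisted `PGL₂(K)`-type matrices -/
def twSL (K : Subfield F) (a₀ : F) (ha₀ : a₀ ≠ 0) : Subgroup SL2 where
  carrier := {B | ∃ s : F, s ≠ 0 ∧ s ^ 2 ∈ K ∧ s * B.1 0 0 ∈ K ∧ s * (a₀⁻¹ * B.1 0 1) ∈ K ∧
    s * (a₀ * B.1 1 0) ∈ K ∧ s * B.1 1 1 ∈ K}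
  one_mem' := by
    refine ⟨1, one_ne_zero, by rw [one_pow]; exact K.one_mem, ?_, ?_, ?_, ?_⟩ <;>
      simp [K.one_mem, K.zero_mem]
  mul_mem' := by
    rintro A B ⟨s, hs, hs2, hA00, hA01, hA10, hA11⟩ ⟨t, ht, ht2, hB00, hB01, hB10, hB11⟩
    refine ⟨s * t, mul_ne_zero hs ht, by rw [mul_pow]; exact K.mul_mem hs2 ht2, ?_, ?_, ?_, ?_⟩
    · have : s * t * (A * B).1 0 0 = (s * A.1 0 0) * (t * B.1 0 0) +
          (s * (a₀⁻¹ * A.1 0 1)) * (t * (a₀ * B.1 1 0)) := by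
        rw [m00]; field_simp
      rw [this]
      exact K.add_mem (K.mul_mem hA00 hB00) (K.mul_mem hA01 hB10)
    · have : s * t * (a₀⁻¹ * (A * B).1 0 1) = (s * A.1 0 0) * (t * (a₀⁻¹ * B.1 0 1)) +
          (s * (a₀⁻¹ * A.1 0 1)) * (t * B.1 1 1) := by
        rw [m01]; field_simp
      rw [this]
      exact K.add_mem (K.mul_mem hA00 hB01) (K.mul_mem hA01 hB11)
    · have : s * t * (a₀ * (A * B).1 1 0) = (s * (a₀ * A.1 1 0)) * (t * B.1 0 0) +
          (s * A.1 1 1) * (t * (a₀ * B.1 1 0)) := by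
        rw [m10]; field_simp
      rw [this]
      exact K.add_mem (K.mul_mem hA10 hB00) (K.mul_mem hA11 hB10)
    · have : s * t * (A * B).1 1 1 = (s * (a₀ * A.1 1 0)) * (t * (a₀⁻¹ * B.1 0 1)) +
          (s * A.1 1 1) * (t * B.1 1 1) := by
        rw [m11]; field_simp
      rw [this]
      exact K.add_mem (K.mul_mem hA10 hB01) (K.mul_mem hA11 hB11)
  inv_mem' := by
    rintro A ⟨s, hs, hs2, hA00, hA01, hA10, hA11⟩
    refine ⟨s, hs, hs2, ?_, ?_, ?_, ?_⟩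
    · rw [i00]; exact hA11
    · rw [i01, mul_neg, mul_neg]; exact K.neg_mem hA01
    · rw [i10, mul_neg, mul_neg]; exact K.neg_mem hA10
    · rw [i11]; exact hA00

/-- the twisted `PGL₂(K)`-type subgroup of `PSL₂(F)` -/
def twPGL (K : Subfield F) (a₀ : F) (ha₀ : a₀ ≠ 0) : Subgroup PSL2 :=
  (twSL K a₀ ha₀).map (QuotientGroup.mk' (Subgroup.center SL2))

theorem neg_mem_twSL (K : Subfield F) (a₀ : F) (ha₀ : a₀ ≠ 0) (B : SL2) (h : B ∈ twSL K a₀ ha₀) :
    -B ∈ twSL K a₀ ha₀ := by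
  obtain ⟨s, hs, hs2, h00, h01, h10, h11⟩ := h
  refine ⟨s, hs, hs2, ?_, ?_, ?_, ?_⟩
  · have : (-B).1 0 0 = -(B.1 0 0) := by simp
    rw [this, mul_neg]; exact K.neg_mem h00
  · have : (-B).1 0 1 = -(B.1 0 1) := by simp
    rw [this, mul_neg, mul_neg]; exact K.neg_mem h01
  · have : (-B).1 1 0 = -(B.1 1 0) := by simp
    rw [this, mul_neg, mul_neg]; exact K.neg_mem h10
  · have : (-B).1 1 1 = -(B.1 1 1) := by simp
    rw [this, mul_neg]; exact K.neg_mem h11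

theorem mk_mem_twPGL_iff (K : Subfield F) (a₀ : F) (ha₀ : a₀ ≠ 0) (B : SL2) :
    (QuotientGroup.mk B : PSL2) ∈ twPGL K a₀ ha₀ ↔ B ∈ twSL K a₀ ha₀ := by
  constructor
  · rintro ⟨C, hC, hCB⟩
    have hCB' : (QuotientGroup.mk C : PSL2) = QuotientGroup.mk B := hCB
    rw [mk_eq_mk_iff] at hCB'
    rcases hCB' with h | h
    · rw [← h]; exact hC
    · have : B = -C := by rw [h, neg_neg]
      rw [this]; exact neg_mem_twSL K a₀ ha₀ C hC
  · intro h
    exact ⟨B, h, rfl⟩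

theorem twSub_le_twPGL (K : Subfield F) (a₀ : F) (ha₀ : a₀ ≠ 0) :
    twSub K a₀ ha₀ ≤ twPGL K a₀ ha₀ := by
  apply twSub_le
  intro M h00 h01 h10 h11
  rw [mk_mem_twPGL_iff]
  refine ⟨1, one_ne_zero, by rw [one_pow]; exact K.one_mem, ?_, ?_, ?_, ?_⟩
  · rw [one_mul]; exact h00
  · rw [one_mul]; exact h01
  · rw [one_mul]; exact h10
  · rw [one_mul]; exact h11

theorem twPGL_eq_top (K : Subfield F) (a₀ : F) (ha₀ : a₀ ≠ 0) (h : twPGL K a₀ ha₀ = ⊤) :
    ∀ x : F, x ∈ K := by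
  intro x
  have h1 : (QuotientGroup.mk (umat (a₀ * x)) : PSL2) ∈ twPGL K a₀ ha₀ := by rw [h]; trivial
  rw [mk_mem_twPGL_iff] at h1
  obtain ⟨s, hs, hs2, h00, h01, -, -⟩ := h1
  rw [umat00, mul_one] at h00
  rw [umat01, ← mul_assoc a₀⁻¹, inv_mul_cancel₀ ha₀, one_mul] at h01
  have : x = s⁻¹ * (s * x) := by rw [← mul_assoc, inv_mul_cancel₀ hs, one_mul]
  rw [this]
  exact K.mul_mem (K.inv_mem h00) h01

theorem mk_tmat_mem_twPGL (K : Subfield F) (a₀ : F) (ha₀ : a₀ ≠ 0) (t : F) (ht : t ≠ 0)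
    (ht2 : t * t ∈ K) : (QuotientGroup.mk (tmat t ht) : PSL2) ∈ twPGL K a₀ ha₀ := by
  rw [mk_mem_twPGL_iff]
  refine ⟨t, ht, by rw [pow_two]; exact ht2, ?_, ?_, ?_, ?_⟩
  · rw [tmat00]; exact ht2
  · rw [tmat01, mul_zero, mul_zero]; exact K.zero_mem
  · rw [tmat10, mul_zero, mul_zero]; exact K.zero_mem
  · rw [tmat11, mul_inv_cancel₀ ht]; exact K.one_mem

theorem mk_tmat_mem_twSub (K : Subfield F) (a₀ : F) (ha₀ : a₀ ≠ 0) (t : F) (ht : t ≠ 0)
    (h : (QuotientGroup.mk (tmat t ht) : PSL2) ∈ twSub K a₀ ha₀) : t ∈ K := by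
  obtain ⟨N, hN⟩ := h
  have hN' : (QuotientGroup.mk (tau K.subtype a₀ ha₀ N) : PSL2) = QuotientGroup.mk (tmat t ht) := hN
  rw [mk_eq_mk_iff] at hN'
  rcases hN' with h | h
  · have h00 := congrArg (fun M : SL2 => M.1 0 0) h
    simp only [tau_coe, twf00, tmat00] at h00
    rw [← h00]; exact (N.1 0 0).2
  · have h00 := congrArg (fun M : SL2 => M.1 0 0) h
    simp only [tau_coe, twf00] at h00
    have : t = -K.subtype (N.1 0 0) := by
      rw [h00]; simp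
    rw [this]; exact K.neg_mem (N.1 0 0).2

theorem mem_twSub_of_entries (K : Subfield F) (a₀ : F) (ha₀ : a₀ ≠ 0) (M : SL2)
    (h00 : M.1 0 0 ∈ K) (h01 : a₀⁻¹ * M.1 0 1 ∈ K) (h10 : a₀ * M.1 1 0 ∈ K) (h11 : M.1 1 1 ∈ K) :
    (QuotientGroup.mk M : PSL2) ∈ twSub K a₀ ha₀ := by
  have hdet : M.1 0 0 * M.1 1 1 - M.1 0 1 * M.1 1 0 = 1 := by
    rw [← Matrix.det_fin_two]; exact M.2
  refine ⟨⟨!![⟨_, h00⟩, ⟨_, h01⟩; ⟨_, h10⟩, ⟨_, h11⟩], ?_⟩, ?_⟩
  · rw [Matrix.det_fin_two_of]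
    apply Subtype.ext
    simp only [Subfield.coe_sub, Subfield.coe_mul, Subfield.coe_one]
    have e : M.1 0 0 * M.1 1 1 - a₀⁻¹ * M.1 0 1 * (a₀ * M.1 1 0) =
        M.1 0 0 * M.1 1 1 - M.1 0 1 * M.1 1 0 := by field_simp
    exact e.trans hdet
  · show (QuotientGroup.mk (tau K.subtype a₀ ha₀ _) : PSL2) = _
    congr 1
    apply sl_ext
    · rfl
    · show a₀ * (a₀⁻¹ * M.1 0 1) = M.1 0 1
      rw [← mul_assoc, mul_inv_cancel₀ ha₀, one_mul]
    · show a₀⁻¹ * (a₀ * M.1 1 0) = M.1 1 0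
      rw [← mul_assoc, inv_mul_cancel₀ ha₀, one_mul]
    · rfl

end tw

section inter
variable {F : Type*} [Field F]

/-- a proper intermediate subfield when the degree is composite -/
theorem exists_intermediate' [Fintype F] (p : ℕ) [Fact p.Prime] [CharP F p] (K : Subfield F)
    (P i a b : ℕ) (hPdef : P = p ^ i) (hK : (K : Set F).ncard = P) (hi : i ≠ 0)
    (hq : Fintype.card F = P ^ (a * b)) (ha : 1 < a) (hb : 1 < b) :
    ∃ K₂ : Subfield F, K ≤ K₂ ∧ (∀ x, x ∈ K₂ ↔ x ^ P ^ a = x) ∧ (∃ x, x ∈ K₂ ∧ x ∉ K) ∧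
      (∃ y, y ∉ K₂) := by
  classical
  have pp : p.Prime := Fact.out
  have hP2 : 2 ≤ P := by
    rw [hPdef]
    calc 2 ≤ p := pp.two_le
      _ = p ^ 1 := (pow_one p).symm
      _ ≤ p ^ i := Nat.pow_le_pow_right pp.pos (by omega)
  have : ExpChar F p := ExpChar.prime pp
  let K₂ : Subfield F := (iterateFrobenius F p (i * a)).eqLocusField (RingHom.id F)
  have hmem : ∀ x : F, x ∈ K₂ ↔ x ^ P ^ a = x := by
    intro x
    show (iterateFrobenius F p (i * a)) x = (RingHom.id F) x ↔ _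
    rw [iterateFrobenius_def, RingHom.id_apply, hPdef, ← pow_mul]
  have hcardK : Fintype.card K = P := by
    rw [← Nat.card_eq_fintype_card, ← hK]
    exact (Nat.card_coe_set_eq (K : Set F))
  have hKpow : ∀ x ∈ K, x ^ P = x := by
    intro x hx
    have h1 := FiniteField.pow_card (⟨x, hx⟩ : K)
    rw [hcardK] at h1
    have h2 := congrArg (fun y : K => (y : F)) h1
    simpa using h2
  have hKpow1 : ∀ x ∈ K, x ≠ 0 → x ^ (P - 1) = 1 := by
    intro x hx hx0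
    have hne : (⟨x, hx⟩ : K) ≠ 0 := fun h => hx0 (congrArg (fun y : K => (y : F)) h)
    have h1 := FiniteField.pow_card_sub_one_eq_one (⟨x, hx⟩ : K) hne
    rw [hcardK] at h1
    have h2 := congrArg (fun y : K => (y : F)) h1
    simpa using h2
  obtain ⟨ζ, hζ⟩ := IsCyclic.exists_generator (α := Fˣ)
  have hord : orderOf ζ = Fintype.card F - 1 := by
    rw [orderOf_eq_card_of_forall_mem_zpowers hζ, Nat.card_eq_fintype_card, Fintype.card_units]
  set q := Fintype.card F with hqdef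
  have hPa : P ^ a ≥ P * P := by
    calc P ^ a ≥ P ^ 2 := Nat.pow_le_pow_right (by omega) ha
      _ = P * P := pow_two P
  have hqPa : q ≥ P ^ a * P ^ a := by
    rw [hq, pow_mul]
    calc (P ^ a) ^ b ≥ (P ^ a) ^ 2 := Nat.pow_le_pow_right (by positivity) hb
      _ = P ^ a * P ^ a := pow_two _
  have hPP : P * P ≥ 2 * P := Nat.mul_le_mul_right P hP2
  set d := P ^ a - 1 with hd
  have hd1 : d + 1 = P ^ a := by omega
  have hdn : d ∣ q - 1 := by
    have := Nat.sub_dvd_pow_sub_pow (P ^ a) 1 b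
    rw [one_pow, ← pow_mul, ← hq] at this
    exact this
  obtain ⟨c, hc⟩ := hdn
  have hPa2 : P ^ a ≥ 2 := by nlinarith
  have hq4 : q ≥ 2 * P ^ a := by
    calc q ≥ P ^ a * P ^ a := hqPa
      _ ≥ 2 * P ^ a := Nat.mul_le_mul_right _ hPa2
  have hq1 : q - 1 ≥ 1 := by omega
  have hc0 : 0 < c := by
    rcases Nat.eq_zero_or_pos c with h | h
    · rw [h, mul_zero] at hc; omega
    · exact h
  refine ⟨K₂, ?_, hmem, ?_, ?_⟩
  · intro x hx
    rw [hmem]
    exact pow_pow_eq_self_of (hKpow x hx) a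
  · refine ⟨((ζ ^ c : Fˣ) : F), ?_, ?_⟩
    · rw [hmem, ← hd1, pow_succ]
      have : ((ζ ^ c : Fˣ) : F) ^ d = 1 := by
        rw [← Units.val_pow_eq_pow_val, ← pow_mul, mul_comm, ← hc, ← hord, pow_orderOf_eq_one]
        rfl
      rw [this, one_mul]
    · intro hxK
      have h1 := hKpow1 _ hxK (Units.ne_zero _)
      rw [← Units.val_pow_eq_pow_val, ← pow_mul] at h1
      have h2 : ζ ^ (c * (P - 1)) = 1 := Units.ext h1
      have h3 : q - 1 ∣ c * (P - 1) := by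
        rw [← hord]; exact orderOf_dvd_of_pow_eq_one h2
      rw [hc, mul_comm d c] at h3
      have h4 : d ∣ P - 1 := Nat.dvd_of_mul_dvd_mul_left hc0 h3
      have h5 := Nat.le_of_dvd (by omega) h4
      omega
  · refine ⟨(ζ : F), ?_⟩
    rw [hmem, ← hd1, pow_succ]
    intro h
    have h1 : (ζ : F) ^ d = 1 := by
      have hz : (ζ : F) ≠ 0 := Units.ne_zero _
      have : (ζ : F) ^ d * (ζ : F) = 1 * (ζ : F) := by rw [h, one_mul]
      exact mul_right_cancel₀ hz this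
    rw [← Units.val_pow_eq_pow_val] at h1
    have h2 : ζ ^ d = 1 := Units.ext h1
    have h3 : q - 1 ∣ d := by
      rw [← hord]; exact orderOf_dvd_of_pow_eq_one h2
    have h4 := Nat.le_of_dvd (by omega) h3
    omega

end inter

/-- for odd `x` and odd `m`, `x ^ m - 1 = (x - 1) * S` with `S` odd -/
theorem odd_geom (x : ℕ) (hx : Odd x) (j : ℕ) :
    ∃ S : ℕ, Odd S ∧ x ^ (2 * j + 1) - 1 = (x - 1) * S := by
  have hx1 : 1 ≤ x := hx.pos
  induction j with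
  | zero => exact ⟨1, odd_one, by simp⟩
  | succ j ih =>
    obtain ⟨S, hS, hSe⟩ := ih
    refine ⟨x ^ 2 * S + (x + 1), ?_, ?_⟩
    · have h1 : Odd (x ^ 2 * S) := (hx.pow).mul hS
      have h2 : Even (x + 1) := hx.add_one
      exact h1.add_even h2
    · have hp : 1 ≤ x ^ (2 * j + 1) := Nat.one_le_pow _ _ hx1
      have e1 : x ^ (2 * (j + 1) + 1) = x ^ 2 * x ^ (2 * j + 1) := by ring
      obtain ⟨y, rfl⟩ : ∃ y, x = y + 1 := ⟨x - 1, by omega⟩
      have e2 : (y + 1) ^ (2 * j + 1) = y * S + 1 := by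
        have : y + 1 - 1 = y := by omega
        rw [this] at hSe
        omega
      rw [e1, e2]
      have : y + 1 - 1 = y := by omega
      rw [this]
      have e3 : (y + 1) ^ 2 * (y * S + 1) = y * ((y + 1) ^ 2 * S + (y + 1 + 1)) + 1 := by ring
      rw [e3]
      omega

end Cfsg.Agent.Lib.Helper98.PSL2MaxOdd
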