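import Mathlib
import Cfsg.Agent.Lib.Helper98.PSL2MaxOddB
import Cfsg.Agent.Lib.Helper98.PSL2MaxEven

set_option autoImplicit false
set_option linter.unusedSimpArgs false
set_option linter.unusedSectionVars false
set_option linter.style.haveILetI false
set_option maxHeartbeats 800000

/-!
# The subfield case for odd `q` (helper98)
-/

namespace Cfsg.Agent.Lib.Helper98.PSL2MaxOdd

open Matrix Cfsg.Agent.Lib.Helper60 Cfsg.Agent.S0807 Cfsg.Agent.S0808 Cfsg.Agent.S0802
open Cfsg.Agent.Lib.Helper19.TwoTrans Cfsg.Agent.Lib.Helper98.PSL2Max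
open Cfsg.Agent.Lib.Helper98.PSL2Max2

section
variable {F : Type*} [Field F] [Fintype F]

local notation "SL2" => Matrix.SpecialLinearGroup (Fin 2) F
local notation "PSL2" => Matrix.ProjectiveSpecialLinearGroup (Fin 2) F

theorem nat_PP (P : ℕ) (hP : 1 ≤ P) : P * (P ^ 2 - 1) = (P + 1) * P * (P - 1) := by
  obtain ⟨j, rfl⟩ : ∃ j, P = j + 1 := ⟨P - 1, by omega⟩
  have e1 : (j + 1) ^ 2 - 1 = j * (j + 2) := by
    have : (j + 1) ^ 2 = j * (j + 2) + 1 := by ring
    rw [this]; omega
  have e2 : j + 1 - 1 = j := by omega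
  rw [e1, e2]; ring

/-- a nonsquare of a subfield, with its basic properties in the big field -/
theorem exists_nonsquare_sub (K : Subfield F) (h2 : (2 : F) ≠ 0) :
    ∃ ν : F, ν ∈ K ∧ ν ≠ 0 ∧ (∀ t : F, t ∈ K → t * t ≠ ν) ∧ ν ^ (Nat.card K - 1) = 1 := by
  classical
  have hchar : ringChar K ≠ 2 := by
    intro h
    apply h2
    have := ringChar.Nat.cast_ringChar (R := K)
    rw [h] at this
    have h3 := congrArg (fun x : K => (x : F)) this
    simp only [ZeroMemClass.coe_zero] at h3
    rw [← h3]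
    norm_cast
  obtain ⟨ν, hν⟩ := FiniteField.exists_nonsquare (F := K) hchar
  have hν0 : ν ≠ 0 := by
    rintro rfl
    exact hν ⟨0, by simp⟩
  refine ⟨(ν : F), ν.2, ?_, ?_, ?_⟩
  · intro h
    apply hν0
    exact Subtype.ext h
  · intro t ht htt
    apply hν
    exact ⟨⟨t, ht⟩, Subtype.ext htt.symm⟩
  · have h1 := FiniteField.pow_card_sub_one_eq_one ν hν0
    rw [← Nat.card_eq_fintype_card] at h1
    have h3 := congrArg (fun x : K => (x : F)) h1
    simpa using h3

/-- existence of a square root in `F` of an element of a subfield `K` with `[F : K]` even -/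
theorem exists_sqrt_of_even (h2 : (2 : F) ≠ 0) (P b : ℕ) (hP : 1 ≤ P)
    (hPodd : Odd P) (hq : Fintype.card F = P ^ (2 * b)) (ν : F) (hν0 : ν ≠ 0)
    (hν : ν ^ (P - 1) = 1) : ∃ t : F, t * t = ν := by
  have hchar : ringChar F ≠ 2 := by
    intro h
    apply h2
    have := ringChar.Nat.cast_ringChar (R := F)
    rw [h] at this
    exact_mod_cast this
  have hsq : IsSquare ν := by
    rw [FiniteField.isSquare_iff hchar hν0]
    -- `q / 2` is a multiple of `P - 1`
    have h1 : P ^ 2 - 1 ∣ Fintype.card F - 1 := by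
      have := Nat.sub_dvd_pow_sub_pow (P ^ 2) 1 b
      rw [one_pow, ← pow_mul, ← hq] at this
      exact this
    obtain ⟨c, hc⟩ := h1
    obtain ⟨e, he⟩ := hPodd
    have h3 : P ^ 2 - 1 = (P - 1) * (2 * (e + 1)) := by
      have h4 : P * (P ^ 2 - 1) = (P + 1) * P * (P - 1) := nat_PP P hP
      have h5 : P * (P ^ 2 - 1) = P * ((P - 1) * (2 * (e + 1))) := by
        rw [h4]
        have : P + 1 = 2 * (e + 1) := by omega
        rw [this]; ring
      exact Nat.eq_of_mul_eq_mul_left (by omega) h5
    have hqodd : Fintype.card F % 2 = 1 := FiniteField.odd_card_of_char_ne_two hchar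
    have h6 : Fintype.card F / 2 = (P - 1) * ((e + 1) * c) := by
      have : Fintype.card F - 1 = 2 * ((P - 1) * ((e + 1) * c)) := by
        rw [hc, h3]; ring
      omega
    rw [h6, pow_mul, hν, one_pow]
  obtain ⟨t, ht⟩ := hsq
  exact ⟨t, ht.symm⟩

/-- the subfield case for odd `q` -/
theorem subfield_case_odd (p : ℕ) [Fact p.Prime] [CharP F p] (hodd : Odd (Fintype.card F))
    (M : Subgroup PSL2) (hM : IsCoatom M) (Q : Subgroup PSL2) (P k : ℕ)
    (hyp : Hyp p P k M Q) (hP : 1 < P) (hk : k = P - 1 ∨ 2 * k = P - 1) :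
    (∃ (F₀ : Type) (_ : Field F₀) (_ : Fintype F₀), Fintype.card F = Fintype.card F₀ ^ 2 ∧
        Nonempty (M ≃* Matrix.ProjGenLinGroup (Fin 2) F₀)) ∨
    (∃ (F₀ : Type) (_ : Field F₀) (_ : Fintype F₀) (r : ℕ), r.Prime ∧ Odd r ∧
        Fintype.card F = Fintype.card F₀ ^ r ∧
        Nonempty (M ≃* Matrix.ProjectiveSpecialLinearGroup (Fin 2) F₀)) := by
  classical
  have pp : p.Prime := Fact.out
  obtain ⟨x, hQU, h₁, h₁H, h₁0⟩ := normalize p M Q P k hyp hP hk
  set M' := M.map (MulAut.conj x).toMonoidHom with hM'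
  have hyp' := hyp.conj x
  have hM'co : IsCoatom M' := isCoatom_map_conj M hM x
  obtain ⟨K, a₀, ha₀, hKP, hKmem, hsub, htor⟩ :=
    embedded_normalized_odd p hodd M' _ P k hyp' hP hk hQU h₁ h₁H h₁0
  obtain ⟨i, hi⟩ := hyp.hQp.exists_card_eq
  rw [hyp.hQ] at hi
  have hi0 : i ≠ 0 := by
    rintro rfl
    rw [pow_zero] at hi; omega
  have hpq : p ∣ Fintype.card F := by
    rw [← CharP.cast_eq_zero_iff F p]
    exact Nat.cast_card_eq_zero F
  have hpodd : Odd p := by
    rcases pp.eq_two_or_odd' with h | h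
    · exfalso
      rw [h] at hpq
      obtain ⟨c, hc⟩ := hodd
      omega
    · exact h
  have hPodd : Odd P := by rw [hi]; exact hpodd.pow
  have h2F : (2 : F) ≠ 0 := by
    intro h
    have h1 : ((2 : ℕ) : F) = 0 := by exact_mod_cast h
    rw [CharP.cast_eq_zero_iff F p] at h1
    have := Nat.le_of_dvd (by norm_num) h1
    have := pp.two_le
    obtain ⟨c, hc⟩ := hpodd
    omega
  have hcardK : Fintype.card K = P := by
    rw [← Nat.card_eq_fintype_card, ← hKP]
    exact (Nat.card_coe_set_eq (K : Set F))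
  have hPSLK : 2 * Nat.card (Matrix.ProjectiveSpecialLinearGroup (Fin 2) K) =
      (P + 1) * P * (P - 1) := by
    have h1 := Cfsg.Agent.Lib.Helper98.DicksonMax.card_psl2_odd (F := K)
      (by rw [hcardK]; exact hPodd)
    rw [h1, hcardK]
    exact nat_PP P (by omega)
  have hT : twSub K a₀ ha₀ ≤ M' := twSub_le K a₀ ha₀ M' hsub
  have hTc : 2 * Nat.card (twSub K a₀ ha₀) = (P + 1) * P * (P - 1) := by
    rw [card_twSub, hPSLK]
  have hqm : Fintype.card F = P ^ Module.finrank K F := by
    rw [← hcardK]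
    exact Module.card_eq_pow_finrank
  set m := Module.finrank K F with hm
  have hG : 2 * Nat.card PSL2 = Fintype.card F * (Fintype.card F ^ 2 - 1) :=
    Cfsg.Agent.Lib.Helper98.DicksonMax.card_psl2_odd hodd
  have hm0 : m ≠ 0 := by
    intro h0
    rw [h0, pow_zero] at hqm
    have : 1 < Fintype.card F := Fintype.one_lt_card
    omega
  -- `K = ⊤` forces `m = 1`
  have hKtop : (∀ x : F, x ∈ K) → m = 1 := by
    intro hall
    have h1 : Fintype.card K = Fintype.card F :=
      Fintype.card_congr (Equiv.subtypeUnivEquiv hall)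
    rw [hcardK, hqm] at h1
    have h2 : P ^ 1 = P ^ m := by rw [pow_one]; exact h1
    exact (Nat.pow_right_injective (by omega : 2 ≤ P) h2).symm
  -- the small field
  let e : Shrink.{0} ↥K ≃+* ↥K := Shrink.ringEquiv.{0} ↥K
  let f : Shrink.{0} ↥K →+* F := K.subtype.comp e.toRingHom
  have hfin : Finite (Shrink.{0} ↥K) := Finite.of_equiv _ e.toEquiv.symm
  let _ : Fintype (Shrink.{0} ↥K) := Fintype.ofFinite _
  have hfK : ∀ x : Shrink.{0} ↥K, f x ∈ K := fun x => (e x).2
  have hcardS : Fintype.card (Shrink.{0} ↥K) = P := by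
    rw [← Nat.card_eq_fintype_card, Nat.card_congr e.toEquiv, Nat.card_eq_fintype_card, hcardK]
  have hSodd : Odd (Fintype.card (Shrink.{0} ↥K)) := by rw [hcardS]; exact hPodd
  have e0 : M ≃* M' := M.equivMapOfInjective _ (MulAut.conj x).injective
  obtain ⟨ν, hνK, hν0, hνns, hνpow⟩ := exists_nonsquare_sub K h2F
  rw [Nat.card_eq_fintype_card, hcardK] at hνpow
  rcases hk with hk1 | hk2
  · -- `PGL₂` type
    left
    have hM'card : Nat.card M' = (P + 1) * P * (P - 1) := by rw [hyp'.hH, hk1]
    obtain ⟨t, ht0, htt, htM⟩ := htor hk1 ν hνK hν0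
    have htK : t ∉ K := fun h => hνns t h htt
    have hmeven : Even m := by
      rw [← Nat.not_odd_iff_even]
      rintro ⟨j, hj⟩
      obtain ⟨c, hc⟩ := Subgroup.card_subgroup_dvd_card M'
      rw [hM'card] at hc
      obtain ⟨S, hSodd, hS⟩ := odd_geom (P ^ 2) (hPodd.pow) j
      have hq2 : Fintype.card F ^ 2 - 1 = (P ^ 2 - 1) * S := by
        rw [hqm, hj, ← hS, ← pow_mul, ← pow_mul]
        congr 2
        ring
      have h1 : 2 * ((P + 1) * P * (P - 1) * c) = P ^ m * ((P ^ 2 - 1) * S) := by
        rw [← hc, hG, hq2, hqm]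
      rw [← nat_PP P (by omega)] at h1
      have h2 : (P ^ 2 - 1) * (2 * (P * c)) = (P ^ 2 - 1) * (P ^ m * S) := by
        calc (P ^ 2 - 1) * (2 * (P * c)) = 2 * (P * (P ^ 2 - 1) * c) := by ring
          _ = P ^ m * ((P ^ 2 - 1) * S) := h1
          _ = (P ^ 2 - 1) * (P ^ m * S) := by ring
      have hpos : 0 < P ^ 2 - 1 := by
        have : 2 ^ 2 ≤ P ^ 2 := Nat.pow_le_pow_left (by omega) 2
        omega
      have h3 := Nat.eq_of_mul_eq_mul_left hpos h2
      have h4 : Odd (P ^ m * S) := (hPodd.pow).mul hSodd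
      rw [← h3] at h4
      rw [← Nat.not_even_iff_odd] at h4
      exact h4 ⟨P * c, by ring⟩
    obtain ⟨b, hb⟩ := hmeven
    have hb' : m = 2 * b := by omega
    have hb0 : b ≠ 0 := by omega
    by_cases hb1 : b = 1
    · -- degree two
      have hm2 : m = 2 := by omega
      refine ⟨Shrink.{0} ↥K, inferInstance, inferInstance, ?_, ?_⟩
      · rw [hcardS, hqm, hm2]
      · set L : Subgroup SL2 := M'.comap (QuotientGroup.mk' (Subgroup.center _)) with hL
        have hmemL : ∀ X, X ∈ L ↔ (QuotientGroup.mk X : PSL2) ∈ M' := fun X => Iff.rfl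
        have hneg1 : ∀ X : SL2, X ∈ L → -X ∈ L := by
          intro X hX
          rw [hmemL, Cfsg.Agent.S0807.mk_neg]; exact hX
        have hPGL : Nat.card (Matrix.ProjGenLinGroup (Fin 2) (Shrink.{0} ↥K)) =
            (P + 1) * P * (P - 1) := by
          rw [Cfsg.Agent.Lib.Helper98.DicksonMax.card_pgl2, hcardS]
          exact nat_PP P (by omega)
        have hiso : Nonempty (M' ≃* Matrix.ProjGenLinGroup (Fin 2) (Shrink.{0} ↥K)) := by
          apply pgl_of_embed f a₀ ha₀ M'
          · intro c hc0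
            have hfc0 : f c ≠ 0 := by
              intro h; exact hc0 (f.injective (by rw [h, map_zero]))
            obtain ⟨t', _, htt', _⟩ := htor hk1 (f c) (hfK c) hfc0
            exact ⟨t', htt'.symm⟩
          · intro A s hs hs0
            rw [← hmemL]
            have hc : f A.det ∈ K := hfK _
            have hc0 : f A.det ≠ 0 := by rw [← hs]; exact mul_ne_zero hs0 hs0
            obtain ⟨t', ht0', htt', htL'⟩ := htor hk1 (f A.det) hc hc0
            have hsL : tmat s hs0 ∈ L := by
              rcases mul_self_eq_mul_self_iff.mp (hs.trans htt'.symm) with h | h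
              · rw [tmat_congr h hs0 ht0']; exact htL'
              · rw [tmat_congr h hs0 (neg_ne_zero.mpr ht0'), tmat_neg t' ht0']
                exact hneg1 _ htL'
            have hentry : ∀ i j, (normMat' f a₀ ha₀ s A hs hs0).1 i j = s⁻¹ * twf f a₀ A i j :=
              fun i j => rfl
            have hN : normMat' f a₀ ha₀ s A hs hs0 * tmat s hs0 ∈ L := by
              rw [hmemL]
              apply hsub
              · have e1 : (normMat' f a₀ ha₀ s A hs hs0 * tmat s hs0).1 0 0 = f (A 0 0) := by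
                  rw [m00, hentry, hentry]; simp; field_simp
                rw [e1]; exact hfK _
              · have e1 : a₀⁻¹ * (normMat' f a₀ ha₀ s A hs hs0 * tmat s hs0).1 0 1 =
                    f (A 0 1) * (f A.det)⁻¹ := by
                  rw [m01, hentry, hentry, ← hs]; simp; field_simp
                rw [e1]; exact K.mul_mem (hfK _) (K.inv_mem hc)
              · have e1 : a₀ * (normMat' f a₀ ha₀ s A hs hs0 * tmat s hs0).1 1 0 = f (A 1 0) := by
                  rw [m10, hentry, hentry]; simp; field_simp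
                rw [e1]; exact hfK _
              · have e1 : (normMat' f a₀ ha₀ s A hs hs0 * tmat s hs0).1 1 1 =
                    f (A 1 1) * (f A.det)⁻¹ := by
                  rw [m11, hentry, hentry, ← hs]; simp; field_simp
                rw [e1]; exact K.mul_mem (hfK _) (K.inv_mem hc)
            have e2 : normMat' f a₀ ha₀ s A hs hs0 =
                (normMat' f a₀ ha₀ s A hs hs0 * tmat s hs0) * (tmat s hs0)⁻¹ := by group
            rw [e2]; exact L.mul_mem hN (L.inv_mem hsL)
          · rw [hM'card, hPGL]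
        obtain ⟨e'⟩ := hiso
        exact ⟨e0.trans e'⟩
    · -- degree at least four: an intermediate field
      exfalso
      have hb2 : 1 < b := by omega
      obtain ⟨K₂, hKK₂, hmem₂, ⟨x₂, hx₂, hx₂K⟩, ⟨y, hy⟩⟩ :=
        exists_intermediate' p K P i 2 b hi hKP hi0 (by rw [hqm, hb']) (by norm_num) hb2
      have htK₂ : t ∈ K₂ := by
        rw [hmem₂]
        obtain ⟨e₁, he₁⟩ := hPodd
        have h3 : P ^ 2 = (P - 1) * (2 * (e₁ + 1)) + 1 := by
          have h4 : P * (P ^ 2 - 1) = (P + 1) * P * (P - 1) := nat_PP P (by omega)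
          have h5 : P * (P ^ 2 - 1) = P * ((P - 1) * (2 * (e₁ + 1))) := by
            rw [h4]
            have : P + 1 = 2 * (e₁ + 1) := by omega
            rw [this]; ring
          have h6 := Nat.eq_of_mul_eq_mul_left (by omega : 0 < P) h5
          have : 2 ^ 2 ≤ P ^ 2 := Nat.pow_le_pow_left (by omega) 2
          omega
        rw [h3, pow_succ]
        have : t ^ ((P - 1) * (2 * (e₁ + 1))) = 1 := by
          have e3 : (P - 1) * (2 * (e₁ + 1)) = 2 * ((P - 1) * (e₁ + 1)) := by ring
          rw [e3, pow_mul, pow_two, htt, pow_mul, hνpow, one_pow]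
        rw [this, one_mul]
      set h : PSL2 := QuotientGroup.mk (tmat t ht0) with hh
      have hhT : h ∉ twSub K a₀ ha₀ := fun hmem => htK (mk_tmat_mem_twSub K a₀ ha₀ t ht0 hmem)
      have hhK₂ : h ∈ twSub K₂ a₀ ha₀ := by
        apply mem_twSub_of_entries
        · rw [tmat00]; exact htK₂
        · rw [tmat01, mul_zero]; exact K₂.zero_mem
        · rw [tmat10, mul_zero]; exact K₂.zero_mem
        · rw [tmat11]; exact K₂.inv_mem htK₂
      set S := twSub K a₀ ha₀ ⊔ Subgroup.zpowers h with hS
      have hSM' : S ≤ M' := sup_le hT (by rw [Subgroup.zpowers_le]; exact htM)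
      have hTS : twSub K a₀ ha₀ ≤ S := le_sup_left
      have hhS : h ∈ S := (le_sup_right : Subgroup.zpowers h ≤ S) (Subgroup.mem_zpowers h)
      have hSeq : S = M' := by
        apply Subgroup.eq_of_le_of_card_ge hSM'
        obtain ⟨c, hc⟩ := Subgroup.card_dvd_of_le hTS
        have hc1 : c ≠ 1 := by
          intro h1
          rw [h1, mul_one] at hc
          have : twSub K a₀ ha₀ = S := Subgroup.eq_of_le_of_card_ge hTS (by rw [hc])
          apply hhT
          rw [this]; exact hhS
        have hc0 : c ≠ 0 := by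
          rintro rfl
          rw [mul_zero] at hc
          have : 0 < Nat.card S := Nat.card_pos
          omega
        have hpos : 0 < Nat.card (twSub K a₀ ha₀) := Nat.card_pos
        have : 2 * Nat.card (twSub K a₀ ha₀) ≤ Nat.card S := by
          rw [hc]
          calc 2 * Nat.card (twSub K a₀ ha₀) = Nat.card (twSub K a₀ ha₀) * 2 := by ring
            _ ≤ Nat.card (twSub K a₀ ha₀) * c := Nat.mul_le_mul_left _ (by omega)
        omega
      have hle : M' ≤ twSub K₂ a₀ ha₀ := by
        rw [← hSeq]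
        apply sup_le (twSub_mono hKK₂ a₀ ha₀)
        rw [Subgroup.zpowers_le]; exact hhK₂
      rcases (hM'co.le_iff).1 hle with h' | h'
      · apply hy
        rw [← mk_umat_mem_twSub_iff K₂ a₀ ha₀, h']
        exact Subgroup.mem_top _
      · apply hx₂K
        rw [hKmem, ← h', mk_umat_mem_twSub_iff]
        exact hx₂
  · -- `PSL₂` type
    right
    have hM'card : Nat.card M' = (P + 1) * P * k := hyp'.hH
    have h2M' : 2 * Nat.card M' = (P + 1) * P * (P - 1) := by
      rw [hM'card, ← hk2]; ring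
    have htw : twSub K a₀ ha₀ = M' := by
      apply Subgroup.eq_of_le_of_card_ge hT
      omega
    have hm1 : m ≠ 1 := by
      intro h1
      rw [h1, pow_one] at hqm
      apply hM'co.1
      apply Subgroup.eq_top_of_card_eq
      have : 2 * Nat.card PSL2 = (P + 1) * P * (P - 1) := by
        rw [hG, hqm]; exact nat_PP P (by omega)
      omega
    have hmodd : Odd m := by
      rw [← Nat.not_even_iff_odd]
      rintro ⟨b, hb⟩
      have hb' : m = 2 * b := by omega
      obtain ⟨t, htt⟩ := exists_sqrt_of_even h2F P b (by omega) hPodd (by rw [hqm, hb'])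
        ν hν0 hνpow
      have ht0 : t ≠ 0 := by
        rintro rfl
        apply hν0
        rw [← htt, mul_zero]
      have htK : t ∉ K := fun h => hνns t h htt
      have h1 : (QuotientGroup.mk (tmat t ht0) : PSL2) ∈ twPGL K a₀ ha₀ :=
        mk_tmat_mem_twPGL K a₀ ha₀ t ht0 (by rw [htt]; exact hνK)
      have h2 : (QuotientGroup.mk (tmat t ht0) : PSL2) ∉ twSub K a₀ ha₀ :=
        fun h => htK (mk_tmat_mem_twSub K a₀ ha₀ t ht0 h)
      have hle : M' ≤ twPGL K a₀ ha₀ := by rw [← htw]; exact twSub_le_twPGL K a₀ ha₀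
      rcases (hM'co.le_iff).1 hle with h | h
      · have := hKtop (twPGL_eq_top K a₀ ha₀ h)
        omega
      · apply h2
        rw [htw, ← h]; exact h1
    have hmprime : m.Prime := by
      by_contra hnp
      have hm2 : 2 ≤ m := by omega
      obtain ⟨a, ha_dvd, ha2, ham⟩ := Nat.exists_dvd_of_not_prime2 hm2 hnp
      obtain ⟨b, hb⟩ := ha_dvd
      have hb1 : 1 < b := by
        rcases Nat.lt_or_ge 1 b with h | h
        · exact h
        · exfalso
          interval_cases b
          · omega
          · omega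
      obtain ⟨K₂, hKK₂, ⟨x₂, hx₂, hx₂K⟩, ⟨y, hy⟩⟩ :=
        exists_intermediate p K P i a b hi hKP hi0 (by rw [hqm, hb]) (by omega) hb1
      have hle : M' ≤ twSub K₂ a₀ ha₀ := by
        rw [← htw]; exact twSub_mono hKK₂ a₀ ha₀
      rcases (hM'co.le_iff).1 hle with h | h
      · apply hy
        rw [← mk_umat_mem_twSub_iff K₂ a₀ ha₀, h]
        exact Subgroup.mem_top _
      · apply hx₂K
        rw [← mk_umat_mem_twSub_iff K a₀ ha₀, htw, ← h, mk_umat_mem_twSub_iff]
        exact hx₂
    refine ⟨Shrink.{0} ↥K, inferInstance, inferInstance, m, hmprime, hmodd, ?_, ?_⟩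
    · rw [hcardS]; exact hqm
    · have hτ : ∀ N : Matrix.SpecialLinearGroup (Fin 2) (Shrink.{0} ↥K),
          (QuotientGroup.mk (tau f a₀ ha₀ N) : PSL2) ∈ M' := by
        intro N
        apply hsub
        · exact hfK _
        · show a₀⁻¹ * (a₀ * f (N.1 0 1)) ∈ K
          rw [← mul_assoc, inv_mul_cancel₀ ha₀, one_mul]; exact hfK _
        · show a₀ * (a₀⁻¹ * f (N.1 1 0)) ∈ K
          rw [← mul_assoc, mul_inv_cancel₀ ha₀, one_mul]; exact hfK _
        · exact hfK _
      have hcard' : Nat.card M' =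
          Nat.card (Matrix.ProjectiveSpecialLinearGroup (Fin 2) (Shrink.{0} ↥K)) := by
        have h1 := Cfsg.Agent.Lib.Helper98.DicksonMax.card_psl2_odd (F := Shrink.{0} ↥K) hSodd
        rw [hcardS, nat_PP P (by omega)] at h1
        omega
      obtain ⟨e'⟩ := psl_of_embed f a₀ ha₀ M' hτ hcard'
      exact ⟨e0.trans e'⟩

end

end Cfsg.Agent.Lib.Helper98.PSL2MaxOdd
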