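import Mathlib
import Cfsg.Agent.S0807

set_option autoImplicit false

namespace Cfsg.Agent.Lib.Helper98.PSL2NF

open Matrix

variable {F : Type*} [Field F]

local notation "SL2" => Matrix.SpecialLinearGroup (Fin 2) F
local notation "PSL2" => Matrix.ProjectiveSpecialLinearGroup (Fin 2) F

/-- conjugation by an invertible matrix, as an automorphism of `SL₂` -/
def conjSL (P : (Matrix (Fin 2) (Fin 2) F)ˣ) : SL2 ≃* SL2 where
  toFun A := ⟨(P : Matrix (Fin 2) (Fin 2) F) * A.1 * ((P⁻¹ : (Matrix (Fin 2) (Fin 2) F)ˣ) : Matrix (Fin 2) (Fin 2) F),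
    by rw [Matrix.det_units_conj]; exact A.2⟩
  invFun A := ⟨((P⁻¹ : (Matrix (Fin 2) (Fin 2) F)ˣ) : Matrix (Fin 2) (Fin 2) F) * A.1 * (P : Matrix (Fin 2) (Fin 2) F),
    by rw [Matrix.det_units_conj']; exact A.2⟩
  left_inv A := by
    apply Subtype.ext
    simp only
    rw [← mul_assoc, ← mul_assoc, Units.inv_mul, one_mul, mul_assoc, Units.inv_mul, mul_one]
  right_inv A := by
    apply Subtype.ext
    simp only
    rw [← mul_assoc, ← mul_assoc, Units.mul_inv, one_mul, mul_assoc, Units.mul_inv, mul_one]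
  map_mul' A B := by
    apply Subtype.ext
    show (P : Matrix (Fin 2) (Fin 2) F) * (A.1 * B.1) * ((P⁻¹ : (Matrix (Fin 2) (Fin 2) F)ˣ) : Matrix (Fin 2) (Fin 2) F) =
      ((P : Matrix (Fin 2) (Fin 2) F) * A.1 * ((P⁻¹ : (Matrix (Fin 2) (Fin 2) F)ˣ) : Matrix (Fin 2) (Fin 2) F)) *
      ((P : Matrix (Fin 2) (Fin 2) F) * B.1 * ((P⁻¹ : (Matrix (Fin 2) (Fin 2) F)ˣ) : Matrix (Fin 2) (Fin 2) F))
    have h : ∀ X Y Z W V U : Matrix (Fin 2) (Fin 2) F, (X * Y * Z) * (W * V * U) = X * Y * (Z * W) * V * U := by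
      intro X Y Z W V U
      simp only [mul_assoc]
    rw [h, Units.inv_mul, mul_one]
    simp only [mul_assoc]

theorem conjSL_val (P : (Matrix (Fin 2) (Fin 2) F)ˣ) (A : SL2) :
    (conjSL P A).1 = (P : Matrix (Fin 2) (Fin 2) F) * A.1 * ((P⁻¹ : (Matrix (Fin 2) (Fin 2) F)ˣ) : Matrix (Fin 2) (Fin 2) F) := rfl

/-- if `P A = B P` then conjugation by `P` sends `A` to `B` -/
theorem conjSL_eq_of (P : (Matrix (Fin 2) (Fin 2) F)ˣ) (A B : SL2)
    (h : (P : Matrix (Fin 2) (Fin 2) F) * A.1 = B.1 * (P : Matrix (Fin 2) (Fin 2) F)) : conjSL P A = B := by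
  apply Subtype.ext
  rw [conjSL_val, h, mul_assoc, Units.mul_inv, mul_one]

/-- conjugation by an invertible matrix, as an automorphism of `PSL₂` -/
noncomputable def conjPSL (P : (Matrix (Fin 2) (Fin 2) F)ˣ) : PSL2 ≃* PSL2 :=
  QuotientGroup.congr (Subgroup.center SL2) (Subgroup.center SL2) (conjSL P)
    (Subgroup.characteristic_iff_map_eq.mp Subgroup.centerCharacteristic (conjSL P))

theorem conjPSL_mk (P : (Matrix (Fin 2) (Fin 2) F)ˣ) (A : SL2) :
    conjPSL P (QuotientGroup.mk A : PSL2) = QuotientGroup.mk (conjSL P A) :=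
  QuotientGroup.congr_mk _ _ _ _ A

/-- the target matrix -/
def yMat (s β γ u₀ w₀ : F) : Matrix (Fin 2) (Fin 2) F :=
  !![β / 2 + u₀, s ^ 2 * w₀ + s * γ / 2; w₀ - γ / (2 * s), β / 2 - u₀]

/-- elements of the centralizer of `!![0, -s; s⁻¹, 0]` -/
def cMat (s x y : F) : Matrix (Fin 2) (Fin 2) F := !![x, -(s ^ 2 * y); y, x]

theorem cMat_det (s x y : F) : (cMat s x y).det = x ^ 2 + s ^ 2 * y ^ 2 := by
  simp [cMat, Matrix.det_fin_two_of]; ring

theorem cMat_comm (s x y : F) (hs : s ≠ 0) :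
    cMat s x y * !![0, -s; s⁻¹, 0] = !![0, -s; s⁻¹, 0] * cMat s x y := by
  ext i j
  fin_cases i <;> fin_cases j <;> simp [cMat, Matrix.mul_apply, Fin.sum_univ_two] <;> field_simp

theorem yMat_det (h2 : (2 : F) ≠ 0) (s β γ u w : F) (hs : s ≠ 0) :
    (yMat s β γ u w).det = (β ^ 2 + γ ^ 2) / 4 - (u ^ 2 + s ^ 2 * w ^ 2) := by
  have h4 : (4 : F) ≠ 0 := by
    have : (4 : F) = 2 * 2 := by norm_num
    rw [this]; exact mul_ne_zero h2 h2
  simp only [yMat, Matrix.det_fin_two_of]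
  field_simp
  ring

theorem eq_yMat (h2 : (2 : F) ≠ 0) (a b c d s : F) (hs : s ≠ 0) :
    !![a, b; c, d] = yMat s (a + d) (b / s - s * c) ((a - d) / 2) (c + (b / s - s * c) / (2 * s)) := by
  ext i j
  fin_cases i <;> fin_cases j <;> simp [yMat] <;> field_simp <;> ring

theorem nf2 (h2 : (2 : F) ≠ 0) (s β γ u w u₀ w₀ ρ : F) (hs : s ≠ 0)
    (h : u ^ 2 + s ^ 2 * w ^ 2 = ρ) (h₀ : u₀ ^ 2 + s ^ 2 * w₀ ^ 2 = ρ) (hρ : ρ ≠ 0) :
    ∃ x y : F, x ^ 2 + s ^ 2 * y ^ 2 ≠ 0 ∧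
      cMat s x y * yMat s β γ u w = yMat s β γ u₀ w₀ * cMat s x y := by
  by_cases hN : (u₀ + u) ^ 2 + s ^ 2 * (w₀ - w) ^ 2 = 0
  · -- the bad case: `u₀ = -u`, `w₀ = w`
    have h1 : u * u₀ - s ^ 2 * w * w₀ = -ρ := by
      have : 2 * (u * u₀ - s ^ 2 * w * w₀) = 2 * (-ρ) := by
        linear_combination hN - h - h₀
      exact mul_left_cancel₀ h2 this
    have h3 : (u * w₀ + w * u₀) ^ 2 = 0 := by
      have hs2 : s ^ 2 ≠ 0 := pow_ne_zero 2 hs
      have : s ^ 2 * (u * w₀ + w * u₀) ^ 2 = 0 := by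
        linear_combination (u₀ ^ 2 + s ^ 2 * w₀ ^ 2) * h + ρ * h₀ - (u * u₀ - s ^ 2 * w * w₀ - ρ) * h1
      rcases mul_eq_zero.mp this with h | h
      · exact absurd h hs2
      · exact h
    have h3' : u * w₀ + w * u₀ = 0 := pow_eq_zero_iff (two_ne_zero) |>.mp h3
    have hu0 : u₀ = -u := by
      have : ρ * (u₀ + u) = 0 := by
        linear_combination u * h1 + s ^ 2 * w * h3' - u₀ * h
      rcases mul_eq_zero.mp this with h | h
      · exact absurd h hρ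
      · linear_combination h
    have hw0 : w₀ = w := by
      have : ρ * (w₀ - w) = 0 := by
        linear_combination u * h3' - w * h1 - w₀ * h
      rcases mul_eq_zero.mp this with h | h
      · exact absurd h hρ
      · linear_combination h
    refine ⟨s ^ 2 * w, u, ?_, ?_⟩
    · have : (s ^ 2 * w) ^ 2 + s ^ 2 * u ^ 2 = s ^ 2 * (u ^ 2 + s ^ 2 * w ^ 2) := by ring
      rw [this, h]
      exact mul_ne_zero (pow_ne_zero 2 hs) hρ
    · rw [hu0, hw0]
      ext i j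
      fin_cases i <;> fin_cases j <;>
        simp [cMat, yMat, Matrix.mul_apply, Fin.sum_univ_two] <;> field_simp <;> ring
  · refine ⟨u₀ + u, w₀ - w, hN, ?_⟩
    have hΔ : u ^ 2 + s ^ 2 * w ^ 2 = u₀ ^ 2 + s ^ 2 * w₀ ^ 2 := by rw [h, h₀]
    ext i j
    fin_cases i <;> fin_cases j <;>
      simp [cMat, yMat, Matrix.mul_apply, Fin.sum_univ_two] <;> field_simp
    · linear_combination (2 : F) * hΔ
    · ring
    · ring
    · linear_combination (-2 : F) * hΔ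

/-- the standard form of a trace-zero element -/
def xMat (s : F) : Matrix (Fin 2) (Fin 2) F := !![0, -s; s⁻¹, 0]

theorem nf1 (h2 : (2 : F) ≠ 0) (a b c d s : F) (hs : s ≠ 0) (htr : a + d = 0)
    (hdet : a * d - b * c = 1) :
    ∃ P : Matrix (Fin 2) (Fin 2) F, P.det ≠ 0 ∧ P * !![a, b; c, d] = xMat s * P := by
  have hd : d = -a := by linear_combination htr
  subst hd
  have key : ∀ v₁ v₂ : F, c * v₁ ^ 2 - 2 * a * v₁ * v₂ - b * v₂ ^ 2 ≠ 0 →
      ∃ P : Matrix (Fin 2) (Fin 2) F, P.det ≠ 0 ∧ P * !![a, b; c, -a] = xMat s * P := by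
    intro v₁ v₂ hv
    refine ⟨!![s * (c * v₁ - a * v₂), -(s * (a * v₁ + b * v₂)); -v₂, v₁], ?_, ?_⟩
    · rw [Matrix.det_fin_two_of]
      have : s * (c * v₁ - a * v₂) * v₁ - -(s * (a * v₁ + b * v₂)) * -v₂ =
          s * (c * v₁ ^ 2 - 2 * a * v₁ * v₂ - b * v₂ ^ 2) := by ring
      rw [this]
      exact mul_ne_zero hs hv
    · ext i j
      fin_cases i <;> fin_cases j <;>
        simp [xMat, Matrix.mul_apply, Fin.sum_univ_two]
      · linear_combination (s * v₂) * hdet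
      · linear_combination (-s * v₁) * hdet
      · field_simp
        ring
      · field_simp
        ring
  by_cases hc : c = 0
  · by_cases hb : b = 0
    · apply key 1 1
      rw [hc, hb]
      have ha : a ≠ 0 := by
        intro ha
        rw [ha, hb] at hdet
        simp at hdet
      have : (0 : F) * 1 ^ 2 - 2 * a * 1 * 1 - 0 * 1 ^ 2 = -(2 * a) := by ring
      rw [this]
      exact neg_ne_zero.mpr (mul_ne_zero h2 ha)
    · apply key 0 1
      have : c * 0 ^ 2 - 2 * a * 0 * 1 - b * 1 ^ 2 = -b := by ring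
      rw [this]
      exact neg_ne_zero.mpr hb
  · apply key 1 0
    have : c * 1 ^ 2 - 2 * a * 1 * 0 - b * 0 ^ 2 = c := by ring
    rw [this]
    exact hc


theorem xMat_eq (s : F) : xMat s = !![0, -s; s⁻¹, 0] := rfl

/-- **Normal form** of a pair `(X, Y)` with `tr X = 0` under `GL₂`-conjugation. -/
theorem nf (h2 : (2 : F) ≠ 0) (X Y : SL2) (s u₀ w₀ : F) (hs : s ≠ 0)
    (hX : Matrix.trace X.1 = 0)
    (hc : u₀ ^ 2 + s ^ 2 * w₀ ^ 2 =
      ((Matrix.trace Y.1) ^ 2 + (Matrix.trace (X.1 * Y.1)) ^ 2) / 4 - 1)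
    (hρ : ((Matrix.trace Y.1) ^ 2 + (Matrix.trace (X.1 * Y.1)) ^ 2) / 4 - 1 ≠ 0) :
    ∃ P : (Matrix (Fin 2) (Fin 2) F)ˣ,
      (P : Matrix (Fin 2) (Fin 2) F) * X.1 = xMat s * (P : Matrix (Fin 2) (Fin 2) F) ∧
      (P : Matrix (Fin 2) (Fin 2) F) * Y.1 =
        yMat s (Matrix.trace Y.1) (Matrix.trace (X.1 * Y.1)) u₀ w₀ * (P : Matrix (Fin 2) (Fin 2) F) := by
  have hXeta : X.1 = !![X.1 0 0, X.1 0 1; X.1 1 0, X.1 1 1] := Matrix.eta_fin_two X.1
  have hXtr : X.1 0 0 + X.1 1 1 = 0 := by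
    rw [← hX, Matrix.trace_fin_two]
  have hXdet : X.1 0 0 * X.1 1 1 - X.1 0 1 * X.1 1 0 = 1 := by
    rw [← Matrix.det_fin_two]; exact X.2
  obtain ⟨P₁, hP₁d, hP₁⟩ := nf1 h2 _ _ _ _ s hs hXtr hXdet
  rw [← hXeta] at hP₁
  set U₁ : (Matrix (Fin 2) (Fin 2) F)ˣ := Matrix.GeneralLinearGroup.mkOfDetNeZero P₁ hP₁d with hU₁
  have hU₁c : (U₁ : Matrix (Fin 2) (Fin 2) F) = P₁ := rfl
  set Y₁ : Matrix (Fin 2) (Fin 2) F := (U₁ : Matrix (Fin 2) (Fin 2) F) * Y.1 *
    ((U₁⁻¹ : (Matrix (Fin 2) (Fin 2) F)ˣ) : Matrix (Fin 2) (Fin 2) F) with hY₁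
  have hY₁tr : Matrix.trace Y₁ = Matrix.trace Y.1 := Matrix.trace_units_conj U₁ Y.1
  have hY₁det : Y₁.det = 1 := by rw [hY₁, Matrix.det_units_conj]; exact Y.2
  have hUY : (U₁ : Matrix (Fin 2) (Fin 2) F) * Y.1 = Y₁ * (U₁ : Matrix (Fin 2) (Fin 2) F) := by
    rw [hY₁, mul_assoc, Units.inv_mul, mul_one]
  have hXY₁ : xMat s * Y₁ = (U₁ : Matrix (Fin 2) (Fin 2) F) * (X.1 * Y.1) *
      ((U₁⁻¹ : (Matrix (Fin 2) (Fin 2) F)ˣ) : Matrix (Fin 2) (Fin 2) F) := by
    rw [hY₁, ← mul_assoc, ← mul_assoc, hU₁c, ← hP₁, mul_assoc P₁]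
  have hγ : Matrix.trace (xMat s * Y₁) = Matrix.trace (X.1 * Y.1) := by
    rw [hXY₁]; exact Matrix.trace_units_conj U₁ _
  have hYeta : Y₁ = !![Y₁ 0 0, Y₁ 0 1; Y₁ 1 0, Y₁ 1 1] := Matrix.eta_fin_two Y₁
  have hβ' : Y₁ 0 0 + Y₁ 1 1 = Matrix.trace Y.1 := by
    rw [← hY₁tr, Matrix.trace_fin_two]
  have hγ' : Y₁ 0 1 / s - s * Y₁ 1 0 = Matrix.trace (X.1 * Y.1) := by
    rw [← hγ, Matrix.trace_fin_two]
    simp [xMat, Matrix.mul_apply, Fin.sum_univ_two]
    field_simp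
    ring
  have hY₁y := eq_yMat h2 (Y₁ 0 0) (Y₁ 0 1) (Y₁ 1 0) (Y₁ 1 1) s hs
  rw [← hYeta, hβ', hγ'] at hY₁y
  obtain ⟨u, hu⟩ : ∃ u : F, u = (Y₁ 0 0 - Y₁ 1 1) / 2 := ⟨_, rfl⟩
  obtain ⟨w, hw⟩ : ∃ w : F, w = Y₁ 1 0 + Matrix.trace (X.1 * Y.1) / (2 * s) := ⟨_, rfl⟩
  rw [← hu, ← hw] at hY₁y
  have hcirc : u ^ 2 + s ^ 2 * w ^ 2 =
      ((Matrix.trace Y.1) ^ 2 + (Matrix.trace (X.1 * Y.1)) ^ 2) / 4 - 1 := by
    have := yMat_det h2 s (Matrix.trace Y.1) (Matrix.trace (X.1 * Y.1)) u w hs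
    rw [← hY₁y, hY₁det] at this
    linear_combination this
  obtain ⟨x, y, hN, hC⟩ := nf2 h2 s (Matrix.trace Y.1) (Matrix.trace (X.1 * Y.1)) u w u₀ w₀ _ hs
    hcirc hc hρ
  rw [← hY₁y] at hC
  have hCd : (cMat s x y).det ≠ 0 := by rw [cMat_det]; exact hN
  set C : (Matrix (Fin 2) (Fin 2) F)ˣ := Matrix.GeneralLinearGroup.mkOfDetNeZero (cMat s x y) hCd
    with hCdef
  have hCc : (C : Matrix (Fin 2) (Fin 2) F) = cMat s x y := rfl
  refine ⟨C * U₁, ?_, ?_⟩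
  · rw [Units.val_mul, mul_assoc, hU₁c, hP₁, ← mul_assoc, hCc, xMat_eq, cMat_comm s x y hs, mul_assoc]
  · rw [Units.val_mul, mul_assoc, hUY, ← mul_assoc, hCc, hC, mul_assoc]


/-- Cayley–Hamilton in `SL₂` -/
theorem ch2 (A : SL2) : A.1 ^ 2 = (Matrix.trace A.1) • A.1 - 1 := by
  have hdet : A.1 0 0 * A.1 1 1 - A.1 0 1 * A.1 1 0 = 1 := by
    rw [← Matrix.det_fin_two]; exact A.2
  rw [pow_two]
  ext i j
  fin_cases i <;> fin_cases j <;>
    simp [Matrix.mul_apply, Fin.sum_univ_two, Matrix.trace_fin_two]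
  · linear_combination -hdet
  · ring
  · ring
  · linear_combination -hdet

theorem ch3 (A : SL2) : A.1 ^ 3 =
    ((Matrix.trace A.1) ^ 2 - 1) • A.1 - (Matrix.trace A.1) • (1 : Matrix (Fin 2) (Fin 2) F) := by
  rw [pow_succ, ch2, sub_mul, smul_mul_assoc, ← pow_two, ch2, one_mul]
  module

theorem ch4 (A : SL2) : A.1 ^ 4 =
    ((Matrix.trace A.1) ^ 3 - 2 * Matrix.trace A.1) • A.1 -
      ((Matrix.trace A.1) ^ 2 - 1) • (1 : Matrix (Fin 2) (Fin 2) F) := by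
  rw [pow_succ, ch3, sub_mul, smul_mul_assoc, ← pow_two, ch2, smul_mul_assoc, one_mul]
  module

theorem ch5 (A : SL2) : A.1 ^ 5 =
    ((Matrix.trace A.1) ^ 4 - 3 * (Matrix.trace A.1) ^ 2 + 1) • A.1 -
      ((Matrix.trace A.1) ^ 3 - 2 * Matrix.trace A.1) • (1 : Matrix (Fin 2) (Fin 2) F) := by
  rw [pow_succ, ch4, sub_mul, smul_mul_assoc, ← pow_two, ch2, smul_mul_assoc, one_mul]
  module

/-- a non-central element satisfies no scalar relation -/
theorem scalar_rel (A : SL2) (hA : (QuotientGroup.mk A : PSL2) ≠ 1) (a b : F)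
    (h : a • A.1 = b • (1 : Matrix (Fin 2) (Fin 2) F)) : a = 0 ∧ b = 0 := by
  have ha : a = 0 := by
    by_contra ha
    apply hA
    rw [QuotientGroup.eq_one_iff, Matrix.SpecialLinearGroup.mem_center_iff]
    have hA1 : A.1 = (b / a) • (1 : Matrix (Fin 2) (Fin 2) F) := by
      have : a⁻¹ • (a • A.1) = a⁻¹ • (b • (1 : Matrix (Fin 2) (Fin 2) F)) := by rw [h]
      rw [smul_smul, inv_mul_cancel₀ ha, one_smul, smul_smul] at this
      rw [this, div_eq_inv_mul]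
    have hdet : (b / a) ^ 2 = 1 := by
      have := A.2
      rw [hA1] at this
      simpa [Matrix.det_smul] using this
    refine ⟨b / a, by simpa using hdet, ?_⟩
    rw [hA1]
    ext i j
    fin_cases i <;> fin_cases j <;> simp [Matrix.scalar_apply]
  refine ⟨ha, ?_⟩
  rw [ha, zero_smul] at h
  have := congrFun (congrFun h 0) 0
  simpa using this.symm

theorem mk_pow_cases (A : SL2) (n : ℕ) (h : (QuotientGroup.mk A : PSL2) ^ n = 1) :
    A.1 ^ n = 1 ∨ A.1 ^ n = -1 := by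
  rw [← QuotientGroup.mk_pow, Cfsg.Agent.S0807.mk_eq_one_iff] at h
  rcases h with h | h
  · left
    have := congrArg Subtype.val h
    simpa using this
  · right
    have := congrArg Subtype.val h
    simpa using this

theorem trace_of_order_two (A : SL2) (hA : (QuotientGroup.mk A : PSL2) ≠ 1)
    (h : (QuotientGroup.mk A : PSL2) ^ 2 = 1) : Matrix.trace A.1 = 0 := by
  rcases mk_pow_cases A 2 h with h | h
  · rw [ch2] at h
    have : (Matrix.trace A.1) • A.1 = (2 : F) • (1 : Matrix (Fin 2) (Fin 2) F) := by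
      rw [sub_eq_iff_eq_add] at h
      rw [h]; module
    exact (scalar_rel A hA _ _ this).1
  · rw [ch2] at h
    have : (Matrix.trace A.1) • A.1 = (0 : F) • (1 : Matrix (Fin 2) (Fin 2) F) := by
      rw [sub_eq_iff_eq_add] at h
      rw [h]; module
    exact (scalar_rel A hA _ _ this).1

theorem trace_of_order_three (A : SL2) (hA : (QuotientGroup.mk A : PSL2) ≠ 1)
    (h : (QuotientGroup.mk A : PSL2) ^ 3 = 1) :
    Matrix.trace A.1 = 1 ∨ Matrix.trace A.1 = -1 := by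
  have key : (Matrix.trace A.1) ^ 2 - 1 = 0 := by
    rcases mk_pow_cases A 3 h with h | h
    · rw [ch3] at h
      have : ((Matrix.trace A.1) ^ 2 - 1) • A.1 =
          (Matrix.trace A.1 + 1) • (1 : Matrix (Fin 2) (Fin 2) F) := by
        rw [sub_eq_iff_eq_add] at h
        rw [h]; module
      exact (scalar_rel A hA _ _ this).1
    · rw [ch3] at h
      have : ((Matrix.trace A.1) ^ 2 - 1) • A.1 =
          (Matrix.trace A.1 - 1) • (1 : Matrix (Fin 2) (Fin 2) F) := by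
        rw [sub_eq_iff_eq_add] at h
        rw [h]; module
      exact (scalar_rel A hA _ _ this).1
  have : (Matrix.trace A.1 - 1) * (Matrix.trace A.1 + 1) = 0 := by linear_combination key
  rcases mul_eq_zero.mp this with h | h
  · left; linear_combination h
  · right; linear_combination h

theorem trace_of_order_four (A : SL2)
    (hA : (QuotientGroup.mk A : PSL2) ^ 2 ≠ 1)
    (h : (QuotientGroup.mk A : PSL2) ^ 4 = 1) : (Matrix.trace A.1) ^ 2 = 2 := by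
  have hA1 : (QuotientGroup.mk A : PSL2) ≠ 1 := by
    intro h1; apply hA; rw [h1, one_pow]
  have key : (Matrix.trace A.1) ^ 3 - 2 * Matrix.trace A.1 = 0 ∧
      ((Matrix.trace A.1) ^ 2 = 0 ∨ (Matrix.trace A.1) ^ 2 = 2) := by
    rcases mk_pow_cases A 4 h with h | h
    · rw [ch4] at h
      have : ((Matrix.trace A.1) ^ 3 - 2 * Matrix.trace A.1) • A.1 =
          ((Matrix.trace A.1) ^ 2) • (1 : Matrix (Fin 2) (Fin 2) F) := by
        rw [sub_eq_iff_eq_add] at h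
        rw [h]; module
      have := scalar_rel A hA1 _ _ this
      exact ⟨this.1, Or.inl this.2⟩
    · rw [ch4] at h
      have : ((Matrix.trace A.1) ^ 3 - 2 * Matrix.trace A.1) • A.1 =
          ((Matrix.trace A.1) ^ 2 - 2) • (1 : Matrix (Fin 2) (Fin 2) F) := by
        rw [sub_eq_iff_eq_add] at h
        rw [h]; module
      have := scalar_rel A hA1 _ _ this
      exact ⟨this.1, Or.inr (by linear_combination this.2)⟩
  rcases key.2 with h0 | h0
  · exfalso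
    apply hA
    have ht : Matrix.trace A.1 = 0 := pow_eq_zero_iff (two_ne_zero) |>.mp h0
    rw [← QuotientGroup.mk_pow, Cfsg.Agent.S0807.mk_eq_one_iff]
    right
    apply Subtype.ext
    have := ch2 A
    rw [ht, zero_smul, zero_sub] at this
    simpa using this
  · exact h0

theorem trace_of_order_five (A : SL2) (hA : (QuotientGroup.mk A : PSL2) ≠ 1)
    (h : (QuotientGroup.mk A : PSL2) ^ 5 = 1) :
    (Matrix.trace A.1) ^ 2 + Matrix.trace A.1 - 1 = 0 ∨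
      (Matrix.trace A.1) ^ 2 - Matrix.trace A.1 - 1 = 0 := by
  have key : (Matrix.trace A.1) ^ 4 - 3 * (Matrix.trace A.1) ^ 2 + 1 = 0 := by
    rcases mk_pow_cases A 5 h with h | h
    · rw [ch5] at h
      have : ((Matrix.trace A.1) ^ 4 - 3 * (Matrix.trace A.1) ^ 2 + 1) • A.1 =
          ((Matrix.trace A.1) ^ 3 - 2 * Matrix.trace A.1 + 1) • (1 : Matrix (Fin 2) (Fin 2) F) := by
        rw [sub_eq_iff_eq_add] at h
        rw [h]; module
      exact (scalar_rel A hA _ _ this).1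
    · rw [ch5] at h
      have : ((Matrix.trace A.1) ^ 4 - 3 * (Matrix.trace A.1) ^ 2 + 1) • A.1 =
          ((Matrix.trace A.1) ^ 3 - 2 * Matrix.trace A.1 - 1) • (1 : Matrix (Fin 2) (Fin 2) F) := by
        rw [sub_eq_iff_eq_add] at h
        rw [h]; module
      exact (scalar_rel A hA _ _ this).1
  have : ((Matrix.trace A.1) ^ 2 + Matrix.trace A.1 - 1) *
      ((Matrix.trace A.1) ^ 2 - Matrix.trace A.1 - 1) = 0 := by linear_combination key
  exact mul_eq_zero.mp this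

end Cfsg.Agent.Lib.Helper98.PSL2NF
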