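import Mathlib
import Cfsg.Agent.Lib.Helper98.PSL2Max
import Cfsg.Agent.Lib.Helper98.PSL2NFa

set_option autoImplicit false

namespace Cfsg.Agent.Lib.Helper98.PSL2NF

open Matrix Cfsg.Agent.S0802 Cfsg.Agent.S0807 Cfsg.Agent.S0808 Cfsg.Agent.Lib.Helper19.TwoTrans
open Cfsg.Agent.Lib.Helper98.PSL2Max

variable {F : Type*} [Field F]

local notation "SL2" => Matrix.SpecialLinearGroup (Fin 2) F
local notation "PSL2" => Matrix.ProjectiveSpecialLinearGroup (Fin 2) F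

/-- matrices which become `K`-rational after scaling by a square root of an element of `K` -/
def stdSL (K : Subfield F) : Subgroup SL2 where
  carrier := {B | ∃ s : F, s ≠ 0 ∧ s ^ 2 ∈ K ∧ ∀ i j, s * B.1 i j ∈ K}
  one_mem' := by
    refine ⟨1, one_ne_zero, by rw [one_pow]; exact K.one_mem, fun i j => ?_⟩
    rw [one_mul]
    fin_cases i <;> fin_cases j <;> simp [K.one_mem, K.zero_mem]
  mul_mem' := by
    rintro A B ⟨s, hs, hs2, hA⟩ ⟨t, ht, ht2, hB⟩
    refine ⟨s * t, mul_ne_zero hs ht, by rw [mul_pow]; exact K.mul_mem hs2 ht2, fun i j => ?_⟩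
    have : s * t * (A * B).1 i j = (s * A.1 i 0) * (t * B.1 0 j) + (s * A.1 i 1) * (t * B.1 1 j) := by
      rw [Matrix.SpecialLinearGroup.coe_mul, Matrix.mul_apply, Fin.sum_univ_two]; ring
    rw [this]
    exact K.add_mem (K.mul_mem (hA _ _) (hB _ _)) (K.mul_mem (hA _ _) (hB _ _))
  inv_mem' := by
    rintro A ⟨s, hs, hs2, hA⟩
    refine ⟨s, hs, hs2, fun i j => ?_⟩
    obtain ⟨i00, i01, i10, i11⟩ := inv_entries A
    fin_cases i <;> fin_cases j
    · show s * (A⁻¹).1 0 0 ∈ K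
      rw [i00]; exact hA _ _
    · show s * (A⁻¹).1 0 1 ∈ K
      rw [i01, mul_neg]; exact K.neg_mem (hA _ _)
    · show s * (A⁻¹).1 1 0 ∈ K
      rw [i10, mul_neg]; exact K.neg_mem (hA _ _)
    · show s * (A⁻¹).1 1 1 ∈ K
      rw [i11]; exact hA _ _

theorem mem_stdSL (K : Subfield F) (B : SL2) :
    B ∈ stdSL K ↔ ∃ s : F, s ≠ 0 ∧ s ^ 2 ∈ K ∧ ∀ i j, s * B.1 i j ∈ K := Iff.rfl

/-- the `PGL₂(K)`-type subgroup of `PSL₂(F)` in standard position -/
def stdPGL (K : Subfield F) : Subgroup PSL2 :=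
  (stdSL K).map (QuotientGroup.mk' (Subgroup.center SL2))

theorem mk_mem_stdPGL (K : Subfield F) (B : SL2) (h : B ∈ stdSL K) :
    (QuotientGroup.mk B : PSL2) ∈ stdPGL K := ⟨B, h, rfl⟩

theorem neg_mem_stdSL (K : Subfield F) (B : SL2) (h : B ∈ stdSL K) : -B ∈ stdSL K := by
  obtain ⟨s, hs, hs2, hB⟩ := h
  refine ⟨s, hs, hs2, fun i j => ?_⟩
  have : (-B).1 i j = -(B.1 i j) := by simp
  rw [this, mul_neg]
  exact K.neg_mem (hB i j)

theorem mk_mem_stdPGL_iff (K : Subfield F) (B : SL2) :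
    (QuotientGroup.mk B : PSL2) ∈ stdPGL K ↔ B ∈ stdSL K := by
  constructor
  · rintro ⟨C, hC, hCB⟩
    have hCB' : (QuotientGroup.mk C : PSL2) = QuotientGroup.mk B := hCB
    rw [mk_eq_mk_iff] at hCB'
    rcases hCB' with h | h
    · rw [← h]; exact hC
    · have : B = -C := by rw [h, neg_neg]
      rw [this]; exact neg_mem_stdSL K C hC
  · exact mk_mem_stdPGL K B

theorem twSub_le_stdPGL (K : Subfield F) : twSub K 1 one_ne_zero ≤ stdPGL K := by
  apply twSub_le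
  intro M h00 h01 h10 h11
  apply mk_mem_stdPGL
  refine ⟨1, one_ne_zero, by rw [one_pow]; exact K.one_mem, fun i j => ?_⟩
  rw [one_mul]
  fin_cases i <;> fin_cases j
  · exact h00
  · simpa using h01
  · simpa using h10
  · exact h11

theorem stdPGL_eq_top (K : Subfield F) (h : stdPGL K = ⊤) : ∀ x : F, x ∈ K := by
  intro x
  have h1 : (QuotientGroup.mk (umat x) : PSL2) ∈ stdPGL K := by rw [h]; trivial
  rw [mk_mem_stdPGL_iff] at h1
  obtain ⟨s, hs, hs2, hB⟩ := h1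
  have h00 := hB 0 0
  have h01 := hB 0 1
  rw [umat00, mul_one] at h00
  rw [umat01] at h01
  have : x = s⁻¹ * (s * x) := by rw [← mul_assoc, inv_mul_cancel₀ hs, one_mul]
  rw [this]
  exact K.mul_mem (K.inv_mem h00) h01

/-- **the engine**: a pair with a trace-zero first member can be moved to standard position by an
automorphism of `PSL₂(F)` -/
theorem engine (h2 : (2 : F) ≠ 0) (X Y : SL2) (s u₀ w₀ : F) (hs : s ≠ 0)
    (hX : Matrix.trace X.1 = 0)
    (hc : u₀ ^ 2 + s ^ 2 * w₀ ^ 2 =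
      ((Matrix.trace Y.1) ^ 2 + (Matrix.trace (X.1 * Y.1)) ^ 2) / 4 - 1)
    (hρ : ((Matrix.trace Y.1) ^ 2 + (Matrix.trace (X.1 * Y.1)) ^ 2) / 4 - 1 ≠ 0) :
    ∃ (φ : PSL2 ≃* PSL2) (X' Y' : SL2), X'.1 = xMat s ∧
      Y'.1 = yMat s (Matrix.trace Y.1) (Matrix.trace (X.1 * Y.1)) u₀ w₀ ∧
      φ (QuotientGroup.mk X) = QuotientGroup.mk X' ∧ φ (QuotientGroup.mk Y) = QuotientGroup.mk Y' := by
  obtain ⟨P, hPX, hPY⟩ := nf h2 X Y s u₀ w₀ hs hX hc hρ
  refine ⟨conjPSL P, conjSL P X, conjSL P Y, ?_, ?_, conjPSL_mk P X, conjPSL_mk P Y⟩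
  · rw [conjSL_val, hPX, mul_assoc, Units.mul_inv, mul_one]
  · rw [conjSL_val, hPY, mul_assoc, Units.mul_inv, mul_one]

end Cfsg.Agent.Lib.Helper98.PSL2NF
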