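import Mathlib
import Cfsg.Agent.Lib.Helper98.PSL2Max
import Cfsg.Agent.Lib.Helper98.PSL2NFa
import Cfsg.Agent.Lib.Helper98.PSL2NFb

set_option autoImplicit false

namespace Cfsg.Agent.Lib.Helper98.PSL2NF

open Matrix Cfsg.Agent.S0802 Cfsg.Agent.S0807 Cfsg.Agent.S0808 Cfsg.Agent.Lib.Helper19.TwoTrans
open Cfsg.Agent.Lib.Helper98.PSL2Max

theorem exists_circle {K : Type*} [Field K] [Finite K] (h2 : (2 : K) ≠ 0) (δ ρ : K) (hδ : δ ≠ 0) :
    ∃ u w : K, u ^ 2 + δ * w ^ 2 = ρ := by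
  have := Fintype.ofFinite K
  have hodd : Fintype.card K % 2 = 1 := by
    apply FiniteField.odd_card_of_char_ne_two
    intro h
    apply h2
    have := ringChar.Nat.cast_ringChar (R := K)
    rw [h] at this
    exact_mod_cast this
  have hf : (Polynomial.X ^ 2 : Polynomial K).degree = 2 := Polynomial.degree_X_pow 2
  have hg : (Polynomial.C δ * Polynomial.X ^ 2 + Polynomial.C 0 * Polynomial.X +
      Polynomial.C (-ρ) : Polynomial K).degree = 2 := Polynomial.degree_quadratic hδ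
  obtain ⟨a, b, hab⟩ := FiniteField.exists_root_sum_quadratic hf hg hodd
  refine ⟨a, b, ?_⟩
  simp at hab
  linear_combination hab

variable {F : Type*} [Field F] [Finite F]

local notation "SL2" => Matrix.SpecialLinearGroup (Fin 2) F
local notation "PSL2" => Matrix.ProjectiveSpecialLinearGroup (Fin 2) F

/-- pairs with the same traces are conjugate under an automorphism -/
theorem conj_pair (h2 : (2 : F) ≠ 0) (X Y X' Y' : SL2)
    (hX : Matrix.trace X.1 = 0) (hX' : Matrix.trace X'.1 = 0)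
    (hβ : Matrix.trace Y.1 = Matrix.trace Y'.1)
    (hγ : Matrix.trace (X.1 * Y.1) = Matrix.trace (X'.1 * Y'.1))
    (hρ : (Matrix.trace Y.1) ^ 2 + (Matrix.trace (X.1 * Y.1)) ^ 2 ≠ 4) :
    ∃ ψ : PSL2 ≃* PSL2, ψ (QuotientGroup.mk X) = QuotientGroup.mk X' ∧
      ψ (QuotientGroup.mk Y) = QuotientGroup.mk Y' := by
  have h4 : (4 : F) ≠ 0 := by
    have : (4 : F) = 2 * 2 := by norm_num
    rw [this]; exact mul_ne_zero h2 h2
  have hρ' : ((Matrix.trace Y.1) ^ 2 + (Matrix.trace (X.1 * Y.1)) ^ 2) / 4 - 1 ≠ 0 := by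
    intro h
    apply hρ
    field_simp at h
    linear_combination h
  obtain ⟨u₀, w₀, hc⟩ := exists_circle h2 (1 : F)
    (((Matrix.trace Y.1) ^ 2 + (Matrix.trace (X.1 * Y.1)) ^ 2) / 4 - 1) one_ne_zero
  have hc1 : u₀ ^ 2 + (1 : F) ^ 2 * w₀ ^ 2 =
      ((Matrix.trace Y.1) ^ 2 + (Matrix.trace (X.1 * Y.1)) ^ 2) / 4 - 1 := by
    rw [one_pow]; exact hc
  obtain ⟨φ₁, X₁, Y₁, hX₁, hY₁, hφX, hφY⟩ := engine h2 X Y 1 u₀ w₀ one_ne_zero hX hc1 hρ'
  have hc2 := hc1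
  rw [hβ, hγ] at hc2 hρ'
  obtain ⟨φ₂, X₂, Y₂, hX₂, hY₂, hφX', hφY'⟩ := engine h2 X' Y' 1 u₀ w₀ one_ne_zero hX' hc2 hρ'
  have e1 : X₁ = X₂ := Subtype.ext (by rw [hX₁, hX₂])
  have e2 : Y₁ = Y₂ := Subtype.ext (by rw [hY₁, hY₂, hβ, hγ])
  refine ⟨φ₁.trans φ₂.symm, ?_, ?_⟩
  · rw [MulEquiv.trans_apply, hφX, e1, ← hφX', MulEquiv.symm_apply_apply]
  · rw [MulEquiv.trans_apply, hφY, e2, ← hφY', MulEquiv.symm_apply_apply]

/-- a pair with traces in a subfield (up to the scaling `s`) can be moved into the standard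
`PGL₂(K)`-type subgroup -/
theorem sub_pair (h2 : (2 : F) ≠ 0) (K : Subfield F) (X Y : SL2) (s : F) (hs : s ≠ 0)
    (hs2 : s ^ 2 ∈ K) (hX : Matrix.trace X.1 = 0) (hβ : Matrix.trace Y.1 ∈ K)
    (hγ : s * Matrix.trace (X.1 * Y.1) ∈ K)
    (hρ : (Matrix.trace Y.1) ^ 2 + (Matrix.trace (X.1 * Y.1)) ^ 2 ≠ 4) :
    ∃ φ : PSL2 ≃* PSL2, φ (QuotientGroup.mk X) ∈ stdPGL K ∧ φ (QuotientGroup.mk Y) ∈ stdPGL K := by
  have h4 : (4 : F) ≠ 0 := by
    have : (4 : F) = 2 * 2 := by norm_num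
    rw [this]; exact mul_ne_zero h2 h2
  have hρ' : ((Matrix.trace Y.1) ^ 2 + (Matrix.trace (X.1 * Y.1)) ^ 2) / 4 - 1 ≠ 0 := by
    intro h
    apply hρ
    field_simp at h
    linear_combination h
  have h2K : (2 : F) ∈ K := by
    have : (2 : F) = 1 + 1 := by norm_num
    rw [this]; exact K.add_mem K.one_mem K.one_mem
  have h4K : (4 : F) ∈ K := by
    have : (4 : F) = 2 * 2 := by norm_num
    rw [this]; exact K.mul_mem h2K h2K
  have hγ2 : (Matrix.trace (X.1 * Y.1)) ^ 2 ∈ K := by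
    have : (Matrix.trace (X.1 * Y.1)) ^ 2 = (s * Matrix.trace (X.1 * Y.1)) ^ 2 * (s ^ 2)⁻¹ := by
      field_simp
    rw [this]
    exact K.mul_mem (K.pow_mem hγ 2) (K.inv_mem hs2)
  have hρK : ((Matrix.trace Y.1) ^ 2 + (Matrix.trace (X.1 * Y.1)) ^ 2) / 4 - 1 ∈ K :=
    K.sub_mem (K.div_mem (K.add_mem (K.pow_mem hβ 2) hγ2) h4K) K.one_mem
  have h2K' : (2 : K) ≠ 0 := by
    intro h
    apply h2
    have := congrArg (fun x : K => (x : F)) h
    simp only [ZeroMemClass.coe_zero] at this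
    rw [← this]
    norm_cast
  have hδK : (⟨s ^ 2, hs2⟩ : K) ≠ 0 := by
    intro h
    have := congrArg (fun x : K => (x : F)) h
    exact pow_ne_zero 2 hs (by simpa using this)
  obtain ⟨u, w, huw⟩ := exists_circle h2K' (⟨s ^ 2, hs2⟩ : K) ⟨_, hρK⟩ hδK
  have hc : (u : F) ^ 2 + s ^ 2 * (w : F) ^ 2 =
      ((Matrix.trace Y.1) ^ 2 + (Matrix.trace (X.1 * Y.1)) ^ 2) / 4 - 1 := by
    have := congrArg (fun x : K => (x : F)) huw
    simpa using this
  obtain ⟨φ, X₁, Y₁, hX₁, hY₁, hφX, hφY⟩ := engine h2 X Y s u w hs hX hc hρ'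
  refine ⟨φ, ?_, ?_⟩
  · rw [hφX]
    apply mk_mem_stdPGL
    refine ⟨s, hs, hs2, fun i j => ?_⟩
    rw [hX₁]
    fin_cases i <;> fin_cases j
    · simp [xMat, K.zero_mem]
    · simp only [xMat, Fin.zero_eta, Fin.mk_one, Matrix.of_apply, Matrix.cons_val_zero, Matrix.cons_val_one]
      have : s * -s = -(s ^ 2) := by ring
      rw [this]; exact K.neg_mem hs2
    · simp only [xMat, Fin.zero_eta, Fin.mk_one, Matrix.of_apply, Matrix.cons_val_zero, Matrix.cons_val_one]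
      rw [mul_inv_cancel₀ hs]; exact K.one_mem
    · simp [xMat, K.zero_mem]
  · rw [hφY]
    apply mk_mem_stdPGL
    refine ⟨1, one_ne_zero, by rw [one_pow]; exact K.one_mem, fun i j => ?_⟩
    rw [hY₁, one_mul]
    have hγs : Matrix.trace (X.1 * Y.1) / (2 * s) ∈ K := by
      have : Matrix.trace (X.1 * Y.1) / (2 * s) =
          (s * Matrix.trace (X.1 * Y.1)) * (2 * s ^ 2)⁻¹ := by
        field_simp
      rw [this]
      exact K.mul_mem hγ (K.inv_mem (K.mul_mem h2K hs2))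
    fin_cases i <;> fin_cases j
    · show Matrix.trace Y.1 / 2 + (u : F) ∈ K
      exact K.add_mem (K.div_mem hβ h2K) u.2
    · show s ^ 2 * (w : F) + s * Matrix.trace (X.1 * Y.1) / 2 ∈ K
      exact K.add_mem (K.mul_mem hs2 w.2) (K.div_mem hγ h2K)
    · show (w : F) - Matrix.trace (X.1 * Y.1) / (2 * s) ∈ K
      exact K.sub_mem w.2 hγs
    · show Matrix.trace Y.1 / 2 - (u : F) ∈ K
      exact K.sub_mem (K.div_mem hβ h2K) u.2

end Cfsg.Agent.Lib.Helper98.PSL2NF
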