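import Mathlib
import Cfsg.Agent.Lib.Helper98.PSL2NFc

set_option autoImplicit false
set_option linter.unusedSectionVars false

namespace Cfsg.Agent.Lib.Helper98.PSL2NF

open Matrix Cfsg.Agent.S0802 Cfsg.Agent.S0807 Cfsg.Agent.S0808 Cfsg.Agent.Lib.Helper19.TwoTrans
open Cfsg.Agent.Lib.Helper98.PSL2Max

theorem isCoatom_map_equiv {G G' : Type*} [Group G] [Group G'] (φ : G ≃* G') (M : Subgroup G)
    (hM : IsCoatom M) : IsCoatom (M.map φ.toMonoidHom) :=
  (φ.mapSubgroup.isCoatom_iff M).mpr hM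

theorem map_closure_pair {G G' : Type*} [Group G] [Group G'] (φ : G →* G') (x y : G) :
    (Subgroup.closure {x, y}).map φ = Subgroup.closure {φ x, φ y} := by
  rw [MonoidHom.map_closure, Set.image_pair]

variable {F : Type*} [Field F] [Finite F]

local notation "SL2" => Matrix.SpecialLinearGroup (Fin 2) F
local notation "PSL2" => Matrix.ProjectiveSpecialLinearGroup (Fin 2) F

/-- a maximal subgroup generated by a pair which an automorphism moves into a proper subgroup of
a different order: contradiction -/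
theorem not_coatom_of_pair (M : Subgroup PSL2) (hM : IsCoatom M) (x y : PSL2)
    (hgen : M = Subgroup.closure {x, y}) (H : Subgroup PSL2) (hH : H ≠ ⊤)
    (hcard : Nat.card H ≠ Nat.card M) (ψ : PSL2 ≃* PSL2) (hx : ψ x ∈ H) (hy : ψ y ∈ H) : False := by
  have hle : M.map ψ.toMonoidHom ≤ H := by
    rw [hgen, map_closure_pair, Subgroup.closure_le]
    intro z hz
    rcases hz with rfl | rfl
    · exact hx
    · exact hy
  have hco := isCoatom_map_equiv ψ M hM
  rcases (hco.le_iff).1 hle with h | h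
  · exact hH h
  · apply hcard
    rw [h, Subgroup.card_map_of_injective ψ.injective]

/-- the conjugacy core -/
theorem core_conj (h2 : (2 : F) ≠ 0) (M : Subgroup PSL2) (hM : IsCoatom M) (X Y X' Y' : SL2)
    (hgen : M = Subgroup.closure {(QuotientGroup.mk X : PSL2), QuotientGroup.mk Y})
    (H : Subgroup PSL2) (hH : H ≠ ⊤) (hcard : Nat.card H ≠ Nat.card M)
    (hx' : (QuotientGroup.mk X' : PSL2) ∈ H) (hy' : (QuotientGroup.mk Y' : PSL2) ∈ H)
    (hX : Matrix.trace X.1 = 0) (hX' : Matrix.trace X'.1 = 0)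
    (hβ : Matrix.trace Y.1 = Matrix.trace Y'.1)
    (hγ : Matrix.trace (X.1 * Y.1) = Matrix.trace (X'.1 * Y'.1))
    (hρ : (Matrix.trace Y.1) ^ 2 + (Matrix.trace (X.1 * Y.1)) ^ 2 ≠ 4) : False := by
  obtain ⟨ψ, hψx, hψy⟩ := conj_pair h2 X Y X' Y' hX hX' hβ hγ hρ
  exact not_coatom_of_pair M hM _ _ hgen H hH hcard ψ (by rw [hψx]; exact hx') (by rw [hψy]; exact hy')

/-- the subfield core -/
theorem core_sub (h2 : (2 : F) ≠ 0) (M : Subgroup PSL2) (hM : IsCoatom M) (X Y : SL2)
    (hgen : M = Subgroup.closure {(QuotientGroup.mk X : PSL2), QuotientGroup.mk Y})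
    (K : Subfield F) (s : F) (hs : s ≠ 0)
    (hs2 : s ^ 2 ∈ K) (hX : Matrix.trace X.1 = 0) (hβ : Matrix.trace Y.1 ∈ K)
    (hγ : s * Matrix.trace (X.1 * Y.1) ∈ K)
    (hρ : (Matrix.trace Y.1) ^ 2 + (Matrix.trace (X.1 * Y.1)) ^ 2 ≠ 4) :
    (∀ x : F, x ∈ K) ∨ Nat.card (Matrix.ProjectiveSpecialLinearGroup (Fin 2) K) ∣ Nat.card M := by
  obtain ⟨φ, hφx, hφy⟩ := sub_pair h2 K X Y s hs hs2 hX hβ hγ hρ
  have hle : M.map φ.toMonoidHom ≤ stdPGL K := by
    rw [hgen, map_closure_pair, Subgroup.closure_le]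
    intro z hz
    rcases hz with rfl | rfl
    · exact hφx
    · exact hφy
  have hco := isCoatom_map_equiv φ M hM
  rcases (hco.le_iff).1 hle with h | h
  · left
    exact stdPGL_eq_top K h
  · right
    have e1 : Nat.card (M.map φ.toMonoidHom) = Nat.card M :=
      Subgroup.card_map_of_injective (f := φ.toMonoidHom) φ.injective
    rw [← e1, ← h, ← card_twSub K 1 one_ne_zero]
    exact Subgroup.card_dvd_of_le (twSub_le_stdPGL K)

/-- sign changes of lifts -/
theorem trace_neg (A : SL2) : Matrix.trace (-A).1 = -Matrix.trace A.1 := by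
  simp [Matrix.trace_fin_two]

theorem trace_neg_mul (A B : SL2) : Matrix.trace ((-A).1 * B.1) = -Matrix.trace (A.1 * B.1) := by
  have : (-A).1 = -A.1 := by simp
  rw [this, neg_mul, Matrix.trace_neg]

theorem trace_mul_neg (A B : SL2) : Matrix.trace (A.1 * (-B).1) = -Matrix.trace (A.1 * B.1) := by
  have : (-B).1 = -B.1 := by simp
  rw [this, mul_neg, Matrix.trace_neg]

end Cfsg.Agent.Lib.Helper98.PSL2NF
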