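import Mathlib
import Cfsg.Agent.Lib.Helper98.PSL2NFd

set_option autoImplicit false
set_option linter.unusedSectionVars false

namespace Cfsg.Agent.Lib.Helper98.PSL2NF

open Matrix Cfsg.Agent.S0802 Cfsg.Agent.S0807 Cfsg.Agent.S0808 Cfsg.Agent.Lib.Helper19.TwoTrans
open Cfsg.Agent.Lib.Helper98.PSL2Max

theorem ord_facts {G : Type*} [Group G] (z : G) (n : ℕ) (h : orderOf z = n) (hn : 2 ≤ n) :
    z ≠ 1 ∧ z ^ n = 1 := by
  refine ⟨?_, by rw [← h]; exact pow_orderOf_eq_one z⟩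
  intro h1
  rw [h1, orderOf_one] at h
  omega

theorem ord_four {G : Type*} [Group G] (z : G) (h : orderOf z = 4) : z ^ 2 ≠ 1 := by
  intro h1
  have := orderOf_dvd_of_pow_eq_one h1
  rw [h] at this
  omega

variable {F : Type*} [Field F] [Finite F]

local notation "SL2" => Matrix.SpecialLinearGroup (Fin 2) F
local notation "PSL2" => Matrix.ProjectiveSpecialLinearGroup (Fin 2) F

theorem exists_lift (x : PSL2) : ∃ X : SL2, (QuotientGroup.mk X : PSL2) = x :=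
  QuotientGroup.mk_surjective x

/-- lifts of a pair of orders `2`, `3` -/
theorem lift23 (x y : PSL2) (hx : orderOf x = 2) (hy : orderOf y = 3) :
    ∃ X Y : SL2, (QuotientGroup.mk X : PSL2) = x ∧ (QuotientGroup.mk Y : PSL2) = y ∧
      Matrix.trace X.1 = 0 ∧ Matrix.trace Y.1 = -1 := by
  obtain ⟨X, rfl⟩ := exists_lift x
  obtain ⟨Y, rfl⟩ := exists_lift y
  obtain ⟨hx1, hx2⟩ := ord_facts _ 2 hx le_rfl
  obtain ⟨hy1, hy3⟩ := ord_facts _ 3 hy (by norm_num)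
  have hX := trace_of_order_two X hx1 hx2
  rcases trace_of_order_three Y hy1 hy3 with h | h
  · refine ⟨X, -Y, rfl, mk_neg Y, hX, ?_⟩
    rw [trace_neg, h]
  · exact ⟨X, Y, rfl, rfl, hX, h⟩

/-- normalized lifts of a pair of type `(2,3,3)` -/
theorem lift233 (x y : PSL2) (hx : orderOf x = 2) (hy : orderOf y = 3) (hxy : orderOf (x * y) = 3) :
    ∃ X Y : SL2, (QuotientGroup.mk X : PSL2) = x ∧ (QuotientGroup.mk Y : PSL2) = y ∧
      Matrix.trace X.1 = 0 ∧ Matrix.trace Y.1 = -1 ∧ Matrix.trace (X.1 * Y.1) = -1 := by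
  obtain ⟨X, Y, rfl, rfl, hX, hY⟩ := lift23 x y hx hy
  obtain ⟨hz1, hz3⟩ := ord_facts _ 3 hxy (by norm_num)
  rw [← QuotientGroup.mk_mul] at hz1 hz3
  rcases trace_of_order_three (X * Y) hz1 hz3 with h | h
  · refine ⟨-X, Y, mk_neg X, rfl, ?_, hY, ?_⟩
    · rw [trace_neg, hX, neg_zero]
    · rw [trace_neg_mul]
      rw [Matrix.SpecialLinearGroup.coe_mul] at h
      rw [h]
  · exact ⟨X, Y, rfl, rfl, hX, hY, by rw [Matrix.SpecialLinearGroup.coe_mul] at h; exact h⟩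

/-- lifts of a pair of type `(2,3,4)` -/
theorem lift234 (x y : PSL2) (hx : orderOf x = 2) (hy : orderOf y = 3) (hxy : orderOf (x * y) = 4) :
    ∃ X Y : SL2, (QuotientGroup.mk X : PSL2) = x ∧ (QuotientGroup.mk Y : PSL2) = y ∧
      Matrix.trace X.1 = 0 ∧ Matrix.trace Y.1 = -1 ∧ (Matrix.trace (X.1 * Y.1)) ^ 2 = 2 := by
  obtain ⟨X, Y, rfl, rfl, hX, hY⟩ := lift23 x y hx hy
  obtain ⟨hz1, hz4⟩ := ord_facts _ 4 hxy (by norm_num)
  have hz2 := ord_four _ hxy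
  rw [← QuotientGroup.mk_mul] at hz2 hz4
  have h := trace_of_order_four (X * Y) hz2 hz4
  rw [Matrix.SpecialLinearGroup.coe_mul] at h
  exact ⟨X, Y, rfl, rfl, hX, hY, h⟩

/-- normalized lifts of a pair of type `(2,3,5)` -/
theorem lift235 (x y : PSL2) (hx : orderOf x = 2) (hy : orderOf y = 3) (hxy : orderOf (x * y) = 5) :
    ∃ X Y : SL2, (QuotientGroup.mk X : PSL2) = x ∧ (QuotientGroup.mk Y : PSL2) = y ∧
      Matrix.trace X.1 = 0 ∧ Matrix.trace Y.1 = -1 ∧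
      (Matrix.trace (X.1 * Y.1)) ^ 2 + Matrix.trace (X.1 * Y.1) - 1 = 0 := by
  obtain ⟨X, Y, rfl, rfl, hX, hY⟩ := lift23 x y hx hy
  obtain ⟨hz1, hz5⟩ := ord_facts _ 5 hxy (by norm_num)
  rw [← QuotientGroup.mk_mul] at hz1 hz5
  rcases trace_of_order_five (X * Y) hz1 hz5 with h | h
  · exact ⟨X, Y, rfl, rfl, hX, hY, by rw [Matrix.SpecialLinearGroup.coe_mul] at h; exact h⟩
  · refine ⟨-X, Y, mk_neg X, rfl, ?_, hY, ?_⟩
    · rw [trace_neg, hX, neg_zero]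
    · rw [trace_neg_mul]
      rw [Matrix.SpecialLinearGroup.coe_mul] at h
      linear_combination h

/-- lifts of a dihedral pair -/
theorem lift2k2 (x y : PSL2) (hx : orderOf x = 2) (hxy : orderOf (x * y) = 2) (X Y : SL2)
    (hX : (QuotientGroup.mk X : PSL2) = x) (hY : (QuotientGroup.mk Y : PSL2) = y) :
    Matrix.trace X.1 = 0 ∧ Matrix.trace (X.1 * Y.1) = 0 := by
  subst hX hY
  obtain ⟨hx1, hx2⟩ := ord_facts _ 2 hx le_rfl
  obtain ⟨hz1, hz2⟩ := ord_facts _ 2 hxy le_rfl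
  rw [← QuotientGroup.mk_mul] at hz1 hz2
  refine ⟨trace_of_order_two X hx1 hx2, ?_⟩
  have := trace_of_order_two (X * Y) hz1 hz2
  rwa [Matrix.SpecialLinearGroup.coe_mul] at this

end Cfsg.Agent.Lib.Helper98.PSL2NF
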