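import Mathlib
import Cfsg.Agent.Lib.Helper98.PSL2NFe

set_option autoImplicit false
set_option linter.unusedSectionVars false

namespace Cfsg.Agent.Lib.Helper98.PSL2NF

open Matrix Cfsg.Agent.S0802 Cfsg.Agent.S0807 Cfsg.Agent.S0808 Cfsg.Agent.Lib.Helper19.TwoTrans
open Cfsg.Agent.Lib.Helper98.PSL2Max

variable {F : Type*} [Field F] [Finite F]

local notation "SL2" => Matrix.SpecialLinearGroup (Fin 2) F
local notation "PSL2" => Matrix.ProjectiveSpecialLinearGroup (Fin 2) F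

theorem four_ne_zero' (h2 : (2 : F) ≠ 0) : (4 : F) ≠ 0 := by
  have : (4 : F) = 2 * 2 := by norm_num
  rw [this]; exact mul_ne_zero h2 h2

/-- a maximal subgroup generated by a `(2,3,3)`-pair is not contained (up to automorphism) in a
proper subgroup of different order containing a `(2,3,3)`-pair -/
theorem a4_contra (h2 : (2 : F) ≠ 0) (M : Subgroup PSL2) (hM : IsCoatom M) (x y : PSL2)
    (hgen : M = Subgroup.closure {x, y}) (hx : orderOf x = 2) (hy : orderOf y = 3)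
    (hxy : orderOf (x * y) = 3) (H : Subgroup PSL2) (hH : H ≠ ⊤) (hcard : Nat.card H ≠ Nat.card M)
    (x' y' : PSL2) (hx'H : x' ∈ H) (hy'H : y' ∈ H) (hx' : orderOf x' = 2) (hy' : orderOf y' = 3)
    (hxy' : orderOf (x' * y') = 3) : False := by
  obtain ⟨X, Y, rfl, rfl, hX, hY, hZ⟩ := lift233 x y hx hy hxy
  obtain ⟨X', Y', rfl, rfl, hX', hY', hZ'⟩ := lift233 x' y' hx' hy' hxy'
  refine core_conj h2 M hM X Y X' Y' hgen H hH hcard hx'H hy'H hX hX' (by rw [hY, hY'])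
    (by rw [hZ, hZ']) ?_
  rw [hY, hZ]
  intro h
  apply h2
  linear_combination -h

/-- dihedral pairs: order `2` -/
theorem dih_contra2 (h2 : (2 : F) ≠ 0) (M : Subgroup PSL2) (hM : IsCoatom M) (x y : PSL2)
    (hgen : M = Subgroup.closure {x, y}) (hx : orderOf x = 2) (hy : orderOf y = 2)
    (hxy : orderOf (x * y) = 2) (H : Subgroup PSL2) (hH : H ≠ ⊤) (hcard : Nat.card H ≠ Nat.card M)
    (x' y' : PSL2) (hx'H : x' ∈ H) (hy'H : y' ∈ H) (hx' : orderOf x' = 2) (hy' : orderOf y' = 2)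
    (hxy' : orderOf (x' * y') = 2) : False := by
  obtain ⟨X, rfl⟩ := exists_lift x
  obtain ⟨Y, rfl⟩ := exists_lift y
  obtain ⟨X', rfl⟩ := exists_lift x'
  obtain ⟨Y', rfl⟩ := exists_lift y'
  obtain ⟨hX, hZ⟩ := lift2k2 _ _ hx hxy X Y rfl rfl
  obtain ⟨hX', hZ'⟩ := lift2k2 _ _ hx' hxy' X' Y' rfl rfl
  obtain ⟨hy1, hy2⟩ := ord_facts _ 2 hy le_rfl
  obtain ⟨hy1', hy2'⟩ := ord_facts _ 2 hy' le_rfl
  have hY := trace_of_order_two Y hy1 hy2
  have hY' := trace_of_order_two Y' hy1' hy2'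
  refine core_conj h2 M hM X Y X' Y' hgen H hH hcard hx'H hy'H hX hX' (by rw [hY, hY'])
    (by rw [hZ, hZ']) ?_
  rw [hY, hZ]
  intro h
  apply four_ne_zero' h2
  linear_combination -h

/-- dihedral pairs: order `3` -/
theorem dih_contra3 (h2 : (2 : F) ≠ 0) (h3 : (3 : F) ≠ 0) (M : Subgroup PSL2) (hM : IsCoatom M)
    (x y : PSL2)
    (hgen : M = Subgroup.closure {x, y}) (hx : orderOf x = 2) (hy : orderOf y = 3)
    (hxy : orderOf (x * y) = 2) (H : Subgroup PSL2) (hH : H ≠ ⊤) (hcard : Nat.card H ≠ Nat.card M)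
    (x' y' : PSL2) (hx'H : x' ∈ H) (hy'H : y' ∈ H) (hx' : orderOf x' = 2) (hy' : orderOf y' = 3)
    (hxy' : orderOf (x' * y') = 2) : False := by
  obtain ⟨X, Y, rfl, rfl, hX, hY⟩ := lift23 x y hx hy
  obtain ⟨X', Y', rfl, rfl, hX', hY'⟩ := lift23 x' y' hx' hy'
  obtain ⟨-, hZ⟩ := lift2k2 _ _ hx hxy X Y rfl rfl
  obtain ⟨-, hZ'⟩ := lift2k2 _ _ hx' hxy' X' Y' rfl rfl
  refine core_conj h2 M hM X Y X' Y' hgen H hH hcard hx'H hy'H hX hX' (by rw [hY, hY'])
    (by rw [hZ, hZ']) ?_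
  rw [hY, hZ]
  intro h
  apply h3
  linear_combination -h

/-- dihedral pairs: order `4` -/
theorem dih_contra4 (h2 : (2 : F) ≠ 0) (M : Subgroup PSL2) (hM : IsCoatom M)
    (x y : PSL2)
    (hgen : M = Subgroup.closure {x, y}) (hx : orderOf x = 2) (hy : orderOf y = 4)
    (hxy : orderOf (x * y) = 2) (H : Subgroup PSL2) (hH : H ≠ ⊤) (hcard : Nat.card H ≠ Nat.card M)
    (x' y' : PSL2) (hx'H : x' ∈ H) (hy'H : y' ∈ H) (hx' : orderOf x' = 2) (hy' : orderOf y' = 4)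
    (hxy' : orderOf (x' * y') = 2) : False := by
  obtain ⟨X, rfl⟩ := exists_lift x
  obtain ⟨Y, rfl⟩ := exists_lift y
  obtain ⟨X', rfl⟩ := exists_lift x'
  obtain ⟨Y', rfl⟩ := exists_lift y'
  obtain ⟨hX, hZ⟩ := lift2k2 _ _ hx hxy X Y rfl rfl
  obtain ⟨hX', hZ'⟩ := lift2k2 _ _ hx' hxy' X' Y' rfl rfl
  have hY := trace_of_order_four Y (ord_four _ hy) (ord_facts _ 4 hy (by norm_num)).2
  have hY' := trace_of_order_four Y' (ord_four _ hy') (ord_facts _ 4 hy' (by norm_num)).2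
  have hρ : (Matrix.trace Y.1) ^ 2 + (Matrix.trace (X.1 * Y.1)) ^ 2 ≠ 4 := by
    rw [hY, hZ]
    intro h
    apply h2
    linear_combination -h
  have hcases : (Matrix.trace Y'.1 - Matrix.trace Y.1) * (Matrix.trace Y'.1 + Matrix.trace Y.1) = 0 := by
    linear_combination hY' - hY
  rcases mul_eq_zero.mp hcases with h | h
  · exact core_conj h2 M hM X Y X' Y' hgen H hH hcard hx'H hy'H hX hX' (by linear_combination -h)
      (by rw [hZ, hZ']) hρ
  · have hy'H2 : (QuotientGroup.mk (-Y') : PSL2) ∈ H := by rw [mk_neg]; exact hy'H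
    exact core_conj h2 M hM X Y X' (-Y') hgen H hH hcard hx'H hy'H2 hX hX'
      (by rw [trace_neg]; linear_combination h)
      (by rw [trace_mul_neg, hZ, hZ', neg_zero]) hρ

/-- normalized lift of an element of order five -/
theorem lift5 (y : PSL2) (hy : orderOf y = 5) :
    ∃ Y : SL2, (QuotientGroup.mk Y : PSL2) = y ∧
      (Matrix.trace Y.1) ^ 2 + Matrix.trace Y.1 - 1 = 0 := by
  obtain ⟨Y, rfl⟩ := exists_lift y
  obtain ⟨hy1, hy5⟩ := ord_facts _ 5 hy (by norm_num)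
  rcases trace_of_order_five Y hy1 hy5 with h | h
  · exact ⟨Y, rfl, h⟩
  · refine ⟨-Y, mk_neg Y, ?_⟩
    rw [trace_neg]
    linear_combination h

theorem trace_sq (A : SL2) : Matrix.trace ((A ^ 2 : SL2).1) = (Matrix.trace A.1) ^ 2 - 2 := by
  rw [Matrix.SpecialLinearGroup.coe_pow, ch2, Matrix.trace_sub, Matrix.trace_smul, Matrix.trace_one]
  simp
  ring

/-- dihedral pairs: order `5` -/
theorem dih_contra5 (h2 : (2 : F) ≠ 0) (h5 : (5 : F) ≠ 0) (M : Subgroup PSL2) (hM : IsCoatom M)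
    (x y : PSL2)
    (hgen : M = Subgroup.closure {x, y}) (hx : orderOf x = 2) (hy : orderOf y = 5)
    (hxy : orderOf (x * y) = 2) (H : Subgroup PSL2) (hH : H ≠ ⊤) (hcard : Nat.card H ≠ Nat.card M)
    (x' y' : PSL2) (hx'H : x' ∈ H) (hy'H : y' ∈ H) (hx' : orderOf x' = 2) (hy' : orderOf y' = 5)
    (hxy' : orderOf (x' * y') = 2) (hxy2' : orderOf (x' * y' ^ 2) = 2) : False := by
  obtain ⟨X, rfl⟩ := exists_lift x
  obtain ⟨Y, rfl, hY⟩ := lift5 y hy
  obtain ⟨X', rfl⟩ := exists_lift x'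
  obtain ⟨Y', rfl, hY'⟩ := lift5 y' hy'
  obtain ⟨hX, hZ⟩ := lift2k2 _ _ hx hxy X Y rfl rfl
  obtain ⟨hX', hZ'⟩ := lift2k2 _ _ hx' hxy' X' Y' rfl rfl
  have hρ : (Matrix.trace Y.1) ^ 2 + (Matrix.trace (X.1 * Y.1)) ^ 2 ≠ 4 := by
    rw [hZ]
    intro h
    have h1 : Matrix.trace Y.1 = -3 := by linear_combination hY - h
    rw [h1] at hY
    apply h5
    linear_combination hY
  have hcases : (Matrix.trace Y'.1 - Matrix.trace Y.1) *
      (Matrix.trace Y'.1 + Matrix.trace Y.1 + 1) = 0 := by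
    linear_combination hY' - hY
  rcases mul_eq_zero.mp hcases with h | h
  · exact core_conj h2 M hM X Y X' Y' hgen H hH hcard hx'H hy'H hX hX' (by linear_combination -h)
      (by rw [hZ, hZ']) hρ
  · have hy'H2 : (QuotientGroup.mk (Y' ^ 2) : PSL2) ∈ H := by
      rw [QuotientGroup.mk_pow]; exact H.pow_mem hy'H 2
    obtain ⟨-, hZ''⟩ := lift2k2 _ _ hx' (by rw [QuotientGroup.mk_pow]; exact hxy2') X' (Y' ^ 2) rfl rfl
    exact core_conj h2 M hM X Y X' (Y' ^ 2) hgen H hH hcard hx'H hy'H2 hX hX'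
      (by rw [trace_sq]; linear_combination -hY' + h)
      (by rw [hZ, hZ'']) hρ

end Cfsg.Agent.Lib.Helper98.PSL2NF
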