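import Mathlib
import Cfsg.Agent.Lib.Helper98.PSL2NFf

set_option autoImplicit false
set_option linter.unusedSectionVars false

namespace Cfsg.Agent.Lib.Helper98.PSL2NF

open Matrix Cfsg.Agent.S0802 Cfsg.Agent.S0807 Cfsg.Agent.S0808 Cfsg.Agent.Lib.Helper19.TwoTrans
open Cfsg.Agent.Lib.Helper98.PSL2Max

variable {F : Type*} [Field F] [Finite F]

local notation "SL2" => Matrix.SpecialLinearGroup (Fin 2) F
local notation "PSL2" => Matrix.ProjectiveSpecialLinearGroup (Fin 2) F

theorem neg_one_mem (K : Subfield F) : (-1 : F) ∈ K := K.neg_mem K.one_mem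

/-- `(2,3,3)`-generated maximal subgroups and subfields -/
theorem a4_sub (h2 : (2 : F) ≠ 0) (M : Subgroup PSL2) (hM : IsCoatom M) (x y : PSL2)
    (hgen : M = Subgroup.closure {x, y}) (hx : orderOf x = 2) (hy : orderOf y = 3)
    (hxy : orderOf (x * y) = 3) (K : Subfield F) :
    (∀ x : F, x ∈ K) ∨ Nat.card (Matrix.ProjectiveSpecialLinearGroup (Fin 2) K) ∣ Nat.card M := by
  obtain ⟨X, Y, rfl, rfl, hX, hY, hZ⟩ := lift233 x y hx hy hxy
  refine core_sub h2 M hM X Y hgen K 1 one_ne_zero (by rw [one_pow]; exact K.one_mem) hX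
    (by rw [hY]; exact neg_one_mem K) (by rw [hZ, one_mul]; exact neg_one_mem K) ?_
  rw [hY, hZ]
  intro h
  apply h2
  linear_combination -h

/-- `(2,3,4)`-generated maximal subgroups and subfields -/
theorem s4_sub (h2 : (2 : F) ≠ 0) (M : Subgroup PSL2) (hM : IsCoatom M) (x y : PSL2)
    (hgen : M = Subgroup.closure {x, y}) (hx : orderOf x = 2) (hy : orderOf y = 3)
    (hxy : orderOf (x * y) = 4) (K : Subfield F) :
    (∀ x : F, x ∈ K) ∨ Nat.card (Matrix.ProjectiveSpecialLinearGroup (Fin 2) K) ∣ Nat.card M := by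
  obtain ⟨X, Y, rfl, rfl, hX, hY, hZ⟩ := lift234 x y hx hy hxy
  have h2K : (2 : F) ∈ K := by
    have : (2 : F) = 1 + 1 := by norm_num
    rw [this]; exact K.add_mem K.one_mem K.one_mem
  have hs : Matrix.trace (X.1 * Y.1) ≠ 0 := by
    intro h
    rw [h] at hZ
    apply h2
    rw [← hZ]; ring
  refine core_sub h2 M hM X Y hgen K (Matrix.trace (X.1 * Y.1)) hs (by rw [hZ]; exact h2K) hX
    (by rw [hY]; exact neg_one_mem K) (by rw [← pow_two, hZ]; exact h2K) ?_
  rw [hY, hZ]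
  intro h
  have : (1 : F) = 0 := by linear_combination -h
  exact one_ne_zero this

/-- `(2,3,5)`-generated maximal subgroups and subfields -/
theorem a5_sub (h2 : (2 : F) ≠ 0) (M : Subgroup PSL2) (hM : IsCoatom M) (x y : PSL2)
    (hgen : M = Subgroup.closure {x, y}) (hx : orderOf x = 2) (hy : orderOf y = 3)
    (hxy : orderOf (x * y) = 5) :
    ∃ τ : F, τ ^ 2 + τ - 1 = 0 ∧ ∀ K : Subfield F, τ ∈ K →
      ((∀ x : F, x ∈ K) ∨
        Nat.card (Matrix.ProjectiveSpecialLinearGroup (Fin 2) K) ∣ Nat.card M) := by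
  obtain ⟨X, Y, rfl, rfl, hX, hY, hZ⟩ := lift235 x y hx hy hxy
  refine ⟨Matrix.trace (X.1 * Y.1), hZ, fun K hτ => ?_⟩
  refine core_sub h2 M hM X Y hgen K 1 one_ne_zero (by rw [one_pow]; exact K.one_mem) hX
    (by rw [hY]; exact neg_one_mem K) (by rw [one_mul]; exact hτ) ?_
  rw [hY]
  intro h
  have h1 : Matrix.trace (X.1 * Y.1) = -2 := by linear_combination hZ - h
  rw [h1] at hZ
  have : (1 : F) = 0 := by linear_combination hZ
  exact one_ne_zero this

end Cfsg.Agent.Lib.Helper98.PSL2NF
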