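import Mathlib

set_option autoImplicit false

namespace Cfsg.Agent.Lib.Helper98.PSL2Perm

open Equiv

theorem orderOf_two {G : Type*} [Group G] (a : G) (h1 : a ≠ 1) (h2 : a ^ 2 = 1) : orderOf a = 2 :=
  orderOf_eq_prime h2 h1

theorem orderOf_three {G : Type*} [Group G] (a : G) (h1 : a ≠ 1) (h3 : a ^ 3 = 1) : orderOf a = 3 :=
  haveI : Fact (Nat.Prime 3) := ⟨by norm_num⟩
  orderOf_eq_prime h3 h1

theorem orderOf_five {G : Type*} [Group G] (a : G) (h1 : a ≠ 1) (h5 : a ^ 5 = 1) : orderOf a = 5 :=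
  haveI : Fact (Nat.Prime 5) := ⟨by norm_num⟩
  orderOf_eq_prime h5 h1

theorem orderOf_four {G : Type*} [Group G] (a : G) (h2 : a ^ 2 ≠ 1) (h4 : a ^ 4 = 1) :
    orderOf a = 4 := by
  have hd : orderOf a ∣ 4 := orderOf_dvd_of_pow_eq_one h4
  have hle : orderOf a ≤ 4 := Nat.le_of_dvd (by norm_num) hd
  have h0 : orderOf a ≠ 0 := fun h => by rw [h] at hd; omega
  interval_cases h : orderOf a
  · omega
  · exfalso; apply h2; rw [orderOf_eq_one_iff.mp h, one_pow]
  · exfalso; apply h2; rw [← h]; exact pow_orderOf_eq_one a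
  · omega
  · rfl

/-! ### `S₄` -/

def s4a : Perm (Fin 4) := swap 0 1
def s4b : Perm (Fin 4) := c[1, 2, 3]

theorem s4a_order : orderOf s4a = 2 := orderOf_two _ (by decide) (by decide)
theorem s4b_order : orderOf s4b = 3 := orderOf_three _ (by decide) (by decide)
theorem s4ab_order : orderOf (s4a * s4b) = 4 := orderOf_four _ (by decide) (by decide)

theorem s4_closure : Subgroup.closure ({s4a, s4b} : Set (Perm (Fin 4))) = ⊤ := by
  have hσ : s4a * s4b = c[0, 1, 2, 3] := by decide
  have hcyc : (c[0, 1, 2, 3] : Perm (Fin 4)).IsCycle :=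
    List.isCycle_formPerm (by decide) (by decide)
  have hsupp : (c[0, 1, 2, 3] : Perm (Fin 4)).support = Finset.univ := by
    decide
  have h := Equiv.Perm.closure_cycle_adjacent_swap hcyc hsupp 0
  have h01 : (c[0, 1, 2, 3] : Perm (Fin 4)) 0 = 1 := by decide
  rw [h01] at h
  rw [eq_top_iff, ← h, Subgroup.closure_le]
  intro z hz
  rcases hz with rfl | rfl
  · rw [← hσ]
    exact Subgroup.mul_mem _ (Subgroup.subset_closure (by simp)) (Subgroup.subset_closure (by simp))
  · exact Subgroup.subset_closure (by simp [s4a])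

/-- the `(2,3,3)`-pair in `S₄` -/
def s4x : Perm (Fin 4) := swap 0 1 * swap 2 3
def s4y : Perm (Fin 4) := c[0, 1, 2]
theorem s4x_order : orderOf s4x = 2 := orderOf_two _ (by decide) (by decide)
theorem s4y_order : orderOf s4y = 3 := orderOf_three _ (by decide) (by decide)
theorem s4xy_order : orderOf (s4x * s4y) = 3 := orderOf_three _ (by decide) (by decide)

/-- dihedral pairs in `S₄` -/
def s4r : Perm (Fin 4) := swap 0 1
theorem s4r_order : orderOf s4r = 2 := orderOf_two _ (by decide) (by decide)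
theorem s4ry_order : orderOf (s4r * s4y) = 2 := orderOf_two _ (by decide) (by decide)

def s4c : Perm (Fin 4) := c[0, 1, 2, 3]
def s4t : Perm (Fin 4) := swap 1 3
theorem s4c_order : orderOf s4c = 4 := orderOf_four _ (by decide) (by decide)
theorem s4t_order : orderOf s4t = 2 := orderOf_two _ (by decide) (by decide)
theorem s4tc_order : orderOf (s4t * s4c) = 2 := orderOf_two _ (by decide) (by decide)

end Cfsg.Agent.Lib.Helper98.PSL2Perm
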