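import Mathlib
import Cfsg.Agent.Lib.Helper98.PSL2Perm

set_option autoImplicit false
set_option maxRecDepth 8000

namespace Cfsg.Agent.Lib.Helper98.PSL2Perm

open Equiv

/-! ### `A₄` -/

def a4x : alternatingGroup (Fin 4) :=
  ⟨swap 0 1 * swap 2 3, Equiv.Perm.mem_alternatingGroup.mpr (by decide)⟩
def a4y : alternatingGroup (Fin 4) := ⟨c[0, 1, 2], Equiv.Perm.mem_alternatingGroup.mpr (by decide)⟩
def a4z : alternatingGroup (Fin 4) :=
  ⟨swap 0 2 * swap 1 3, Equiv.Perm.mem_alternatingGroup.mpr (by decide)⟩

theorem a4x_order : orderOf a4x = 2 :=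
  orderOf_two _ (by decide) (by decide)
theorem a4y_order : orderOf a4y = 3 :=
  orderOf_three _ (by decide) (by decide)
theorem a4xy_order : orderOf (a4x * a4y) = 3 :=
  orderOf_three _ (by decide) (by decide)
theorem a4z_order : orderOf a4z = 2 :=
  orderOf_two _ (by decide) (by decide)
theorem a4xz_order : orderOf (a4x * a4z) = 2 :=
  orderOf_two _ (by decide) (by decide)

theorem card_A4' : Nat.card (alternatingGroup (Fin 4)) = 12 := by
  rw [Nat.card_eq_fintype_card]; decide

theorem a4_closure : Subgroup.closure ({a4x, a4y} : Set (alternatingGroup (Fin 4))) = ⊤ := by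
  classical
  set H := Subgroup.closure ({a4x, a4y} : Set (alternatingGroup (Fin 4))) with hH
  have hx : a4x ∈ H := Subgroup.subset_closure (by simp)
  have hy : a4y ∈ H := Subgroup.subset_closure (by simp)
  let S : Finset (alternatingGroup (Fin 4)) :=
    {1, a4x, a4y, a4y ^ 2, a4x * a4y, a4y * a4x, a4x * a4y ^ 2}
  have hS : S.card = 7 := by decide
  have hSH : (S : Set (alternatingGroup (Fin 4))) ⊆ (H : Set (alternatingGroup (Fin 4))) := by
    intro z hz
    simp only [S, Finset.coe_insert, Finset.coe_singleton, Set.mem_insert_iff,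
      Set.mem_singleton_iff] at hz
    rcases hz with rfl | rfl | rfl | rfl | rfl | rfl | rfl
    · exact H.one_mem
    · exact hx
    · exact hy
    · exact H.pow_mem hy 2
    · exact H.mul_mem hx hy
    · exact H.mul_mem hy hx
    · exact H.mul_mem hx (H.pow_mem hy 2)
  have h7 : 7 ≤ Nat.card H := by
    have := Set.ncard_le_ncard hSH (Set.toFinite _)
    rw [Set.ncard_coe_finset, hS] at this
    rwa [← Nat.card_coe_set_eq] at this
  have hdvd : Nat.card H ∣ 12 := by
    rw [← card_A4']; exact Subgroup.card_subgroup_dvd_card H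
  have h12 : Nat.card H = 12 := by
    have hle : Nat.card H ≤ 12 := Nat.le_of_dvd (by norm_num) hdvd
    interval_cases (Nat.card H) <;> omega
  rw [← Subgroup.card_eq_iff_eq_top, h12, card_A4']

/-! ### `A₅` -/

def a5x : alternatingGroup (Fin 5) :=
  ⟨swap 0 1 * swap 2 3, Equiv.Perm.mem_alternatingGroup.mpr (by decide)⟩
def a5y : alternatingGroup (Fin 5) := ⟨c[1, 2, 4], Equiv.Perm.mem_alternatingGroup.mpr (by decide)⟩

theorem a5x_order : orderOf a5x = 2 :=
  orderOf_two _ (by decide) (by decide)
theorem a5y_order : orderOf a5y = 3 :=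
  orderOf_three _ (by decide) (by decide)
theorem a5xy_order : orderOf (a5x * a5y) = 5 :=
  orderOf_five _ (by decide) (by decide)

/-- the `(2,3,3)`-pair in `A₅` -/
def a5u : alternatingGroup (Fin 5) := ⟨c[0, 1, 2], Equiv.Perm.mem_alternatingGroup.mpr (by decide)⟩
theorem a5u_order : orderOf a5u = 3 :=
  orderOf_three _ (by decide) (by decide)
theorem a5xu_order : orderOf (a5x * a5u) = 3 :=
  orderOf_three _ (by decide) (by decide)

/-- the dihedral pair in `A₅` -/
def a5c : alternatingGroup (Fin 5) :=
  ⟨c[0, 1, 2, 3, 4], Equiv.Perm.mem_alternatingGroup.mpr (by decide)⟩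
def a5t : alternatingGroup (Fin 5) :=
  ⟨swap 1 4 * swap 2 3, Equiv.Perm.mem_alternatingGroup.mpr (by decide)⟩
theorem a5c_order : orderOf a5c = 5 :=
  orderOf_five _ (by decide) (by decide)
theorem a5t_order : orderOf a5t = 2 :=
  orderOf_two _ (by decide) (by decide)
theorem a5tc_order : orderOf (a5t * a5c) = 2 :=
  orderOf_two _ (by decide) (by decide)
theorem a5tc2_order : orderOf (a5t * a5c ^ 2) = 2 :=
  orderOf_two _ (by decide) (by decide)

theorem card_A5' : Nat.card (alternatingGroup (Fin 5)) = 60 := by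
  rw [Nat.card_eq_fintype_card]; decide

theorem a5_closure : Subgroup.closure ({a5x, a5y} : Set (alternatingGroup (Fin 5))) = ⊤ := by
  classical
  set H := Subgroup.closure ({a5x, a5y} : Set (alternatingGroup (Fin 5))) with hH
  have hx : a5x ∈ H := Subgroup.subset_closure (by simp)
  have hy : a5y ∈ H := Subgroup.subset_closure (by simp)
  have hxy : a5x * a5y ∈ H := H.mul_mem hx hy
  have h2 : 2 ∣ Nat.card H := by
    have := Subgroup.orderOf_dvd_natCard H hx
    rwa [a5x_order] at this
  have h3 : 3 ∣ Nat.card H := by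
    have := Subgroup.orderOf_dvd_natCard H hy
    rwa [a5y_order] at this
  have h5 : 5 ∣ Nat.card H := by
    have := Subgroup.orderOf_dvd_natCard H hxy
    rwa [a5xy_order] at this
  have h30 : 30 ∣ Nat.card H := by
    have h6 : 6 ∣ Nat.card H := Nat.Coprime.mul_dvd_of_dvd_of_dvd (by norm_num) h2 h3
    exact Nat.Coprime.mul_dvd_of_dvd_of_dvd (by norm_num) h6 h5
  have hidx := Subgroup.card_mul_index H
  rw [card_A5'] at hidx
  have hcases : H.index = 1 ∨ H.index = 2 := by
    obtain ⟨c, hc⟩ := h30
    rw [hc] at hidx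
    have hc0 : c ≠ 0 := by
      rintro rfl
      simp at hidx
    have : c * H.index = 2 := by
      have : 30 * (c * H.index) = 30 * 2 := by rw [← mul_assoc, hidx]
      exact Nat.eq_of_mul_eq_mul_left (by norm_num) this
    have hi : H.index ∣ 2 := ⟨c, by rw [← this]; ring⟩
    have := (Nat.dvd_prime Nat.prime_two).mp hi
    exact this
  rcases hcases with h | h
  · exact Subgroup.index_eq_one.mp h
  · have hn : H.Normal := Subgroup.normal_of_index_eq_two h
    rcases hn.eq_bot_or_eq_top with h' | h'
    · exfalso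
      rw [h', Subgroup.card_bot] at h2
      omega
    · exact h'

end Cfsg.Agent.Lib.Helper98.PSL2Perm
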