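import Mathlib
import Cfsg.Agent.Lib.Helper98.PSL2MaxOddC
import Cfsg.Agent.Lib.Helper98.PSL2NFg
import Cfsg.Agent.Lib.Helper98.PSL2Perm2
import Cfsg.Agent.Lib.Helper42.A5Recog
import Cfsg.Agent.S0803
import Cfsg.Agent.S0804

set_option autoImplicit false
set_option linter.unusedSimpArgs false
set_option linter.unusedSectionVars false
set_option linter.style.haveILetI false
set_option maxHeartbeats 800000

/-!
# Maximal subgroups of `PSL₂(q)`, `q` odd (helper98)
-/

namespace Cfsg.Agent.Lib.Helper98.PSL2MaxOdd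

open Matrix Cfsg.Agent.Lib.Helper48.Dickson Cfsg.Agent.Lib.Helper98.PSL2Max
open Cfsg.Agent.Lib.Helper98.PSL2NF Cfsg.Agent.Lib.Helper98.PSL2Perm

section
variable {F : Type*} [Field F] [Fintype F]

local notation "SL2" => Matrix.SpecialLinearGroup (Fin 2) F
local notation "PSL2" => Matrix.ProjectiveSpecialLinearGroup (Fin 2) F

/-- transport of an abstract isomorphism into an injective homomorphism -/
theorem transport {P : Type*} [Group P] (H : Subgroup PSL2) (e : H ≃* P) :
    ∃ f : P →* PSL2, Function.Injective f ∧ (∀ a, f a ∈ H) ∧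
      (∀ a b : P, Subgroup.closure ({a, b} : Set P) = ⊤ → H = Subgroup.closure {f a, f b}) := by
  refine ⟨H.subtype.comp e.symm.toMonoidHom, ?_, ?_, ?_⟩
  · exact H.subtype_injective.comp e.symm.injective
  · intro a
    exact (e.symm a).2
  · intro a b hab
    have h1 : (Subgroup.closure ({a, b} : Set P)).map (H.subtype.comp e.symm.toMonoidHom) =
        Subgroup.closure {(H.subtype.comp e.symm.toMonoidHom) a,
          (H.subtype.comp e.symm.toMonoidHom) b} := map_closure_pair _ a b
    rw [← h1, hab, ← MonoidHom.range_eq_map, MonoidHom.range_comp]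
    have : e.symm.toMonoidHom.range = ⊤ := MonoidHom.range_eq_top.mpr e.symm.surjective
    rw [this, ← MonoidHom.range_eq_map, Subgroup.range_subtype]

theorem orderOf_transport {P : Type*} [Group P] (f : P →* PSL2) (hf : Function.Injective f)
    (a : P) : orderOf (f a) = orderOf a := orderOf_injective f hf a

variable (p : ℕ) [Fact p.Prime] [CharP F p]

theorem gcd_two_odd' (hodd : Odd (Fintype.card F)) : Nat.gcd 2 (Fintype.card F - 1) = 2 :=
  Cfsg.Agent.Lib.Helper19.DicksonUse.gcd_two_odd hodd

/-- facts on a torus, for odd `q` -/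
theorem torus_facts_odd (hodd : Odd (Fintype.card F))
    (g : PSL2) (hg : g ≠ 1)
    (hc : (Nat.card ((dstruct (tPack (F := F) p) (uPack p)).comp g)).Coprime p) :
    (2 * Nat.card ((dstruct (tPack (F := F) p) (uPack p)).comp g) = Fintype.card F - 1 ∨
      2 * Nat.card ((dstruct (tPack (F := F) p) (uPack p)).comp g) = Fintype.card F + 1) ∧
    Nat.card (nrm ((dstruct (tPack (F := F) p) (uPack p)).comp g)) =
      2 * Nat.card ((dstruct (tPack (F := F) p) (uPack p)).comp g) ∧
    Nonempty (nrm ((dstruct (tPack (F := F) p) (uPack p)).comp g) ≃*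
      DihedralGroup (Nat.card ((dstruct (tPack (F := F) p) (uPack p)).comp g))) := by
  have hgcd := gcd_two_odd' hodd
  obtain ⟨A, rfl⟩ := mk2_surjective g
  have hA : A ∉ Subgroup.center SL2 := fun h => hg ((mk2_eq_one_iff A).2 h)
  have : Nontrivial (comp2 (mk2 A)) :=
    ⟨⟨⟨mk2 A, mem_comp2_self _⟩, 1, fun h => hg (congrArg Subtype.val h)⟩⟩
  have ht : (Matrix.trace (A : Matrix (Fin 2) (Fin 2) F)) ^ 2 ≠ 4 := by
    intro ht
    exact not_pgroup_and_coprime (uGood_of_trace (uPack p) A hA ht).1 hc
  refine ⟨?_, (card_nrm_comp2 (tPack p) A ht).1, nrm_comp2_dihedral (tPack p) A ht⟩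
  have h1 := card_comp2_torus A ht
  rw [hgcd, mul_comm] at h1
  exact h1

theorem natCast_ne_zero_of (p : ℕ) [Fact p.Prime] [CharP F p] (n : ℕ)
    (hn : Nat.Coprime n (Fintype.card F)) : ((n : ℕ) : F) ≠ 0 := by
  have pp : p.Prime := Fact.out
  have hpq : p ∣ Fintype.card F := by
    rw [← CharP.cast_eq_zero_iff F p]
    exact Nat.cast_card_eq_zero F
  rw [Ne, CharP.cast_eq_zero_iff F p]
  intro h
  have := Nat.dvd_gcd h hpq
  rw [hn] at this
  exact pp.one_lt.ne' (Nat.dvd_one.mp this)

theorem two_ne_zero_of_odd (p : ℕ) [Fact p.Prime] [CharP F p] (hodd : Odd (Fintype.card F)) :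
    (2 : F) ≠ 0 := by
  have := natCast_ne_zero_of (F := F) p 2 (by
    rw [Nat.coprime_comm]; exact Nat.Coprime.symm (Nat.coprime_two_left.mpr hodd))
  exact_mod_cast this

/-- generators of the normalizer of a torus -/
theorem dihedral_gens (hodd : Odd (Fintype.card F)) (g : PSL2) (hg : g ≠ 1)
    (hT : (Nat.card ((dstruct (tPack (F := F) p) (uPack p)).comp g)).Coprime p) :
    ∃ x y : PSL2, nrm ((dstruct (tPack (F := F) p) (uPack p)).comp g) = Subgroup.closure {x, y} ∧
      orderOf x = 2 ∧ orderOf y = Nat.card ((dstruct (tPack (F := F) p) (uPack p)).comp g) ∧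
      orderOf (x * y) = 2 := by
  classical
  set D := dstruct (tPack (F := F) p) (uPack p) with hD
  have hcard : Nat.card (nrm (D.comp g)) = 2 * Nat.card (D.comp g) :=
    (torus_facts_odd p hodd g hg hT).2.1
  have hcyc : IsCyclic (D.comp g) := D.t_cyc g hg hT
  obtain ⟨y', hy'⟩ := IsCyclic.exists_generator (α := D.comp g)
  have hord : orderOf y' = Nat.card (D.comp g) := orderOf_eq_card_of_forall_mem_zpowers hy'
  have hord' : orderOf y'.1 = Nat.card (D.comp g) := by
    rw [← hord]; exact (Subgroup.orderOf_coe y')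
  have hle : D.comp g ≤ nrm (D.comp g) := Subgroup.le_normalizer
  have hlt : D.comp g < nrm (D.comp g) := by
    apply lt_of_le_of_ne hle
    intro h
    have h1 : Nat.card (D.comp g) = Nat.card (nrm (D.comp g)) := by rw [← h]
    have hpos : 0 < Nat.card (D.comp g) := Nat.card_pos
    omega
  obtain ⟨x, hxN, hxC⟩ := SetLike.exists_of_lt hlt
  obtain ⟨hx2, hxinv⟩ := D.t_inv g hg hT x hxN hxC
  have hx1 : x ≠ 1 := by
    rintro rfl
    exact hxC (Subgroup.one_mem _)
  have hxyN : x * y'.1 ∈ nrm (D.comp g) := Subgroup.mul_mem _ hxN (hle y'.2)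
  have hxyC : x * y'.1 ∉ D.comp g := by
    intro h
    apply hxC
    have : x = (x * y'.1) * y'.1⁻¹ := by group
    rw [this]
    exact Subgroup.mul_mem _ h (Subgroup.inv_mem _ y'.2)
  obtain ⟨hxy2, -⟩ := D.t_inv g hg hT (x * y'.1) hxyN hxyC
  have hxy1 : x * y'.1 ≠ 1 := by
    intro h
    apply hxyC
    rw [h]; exact Subgroup.one_mem _
  refine ⟨x, y'.1, ?_, orderOf_two x hx1 hx2, hord', orderOf_two _ hxy1 hxy2⟩
  apply le_antisymm
  · intro m hm
    by_cases hmC : m ∈ D.comp g
    · have h1 : (⟨m, hmC⟩ : D.comp g) ∈ Subgroup.zpowers y' := hy' _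
      obtain ⟨j, hj⟩ := Subgroup.mem_zpowers_iff.mp h1
      have hj' : y'.1 ^ j = m := by
        have := congrArg Subtype.val hj
        simpa using this
      rw [← hj']
      exact Subgroup.zpow_mem _ (Subgroup.subset_closure (by simp)) j
    · have h1 : x * m ∈ D.comp g := D.t_idx g hg hT x hxN m hm hxC hmC
      have h2 : (⟨x * m, h1⟩ : D.comp g) ∈ Subgroup.zpowers y' := hy' _
      obtain ⟨j, hj⟩ := Subgroup.mem_zpowers_iff.mp h2
      have hj' : y'.1 ^ j = x * m := by
        have := congrArg Subtype.val hj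
        simpa using this
      have : m = x⁻¹ * (x * m) := by group
      rw [this, ← hj']
      exact Subgroup.mul_mem _ (Subgroup.inv_mem _ (Subgroup.subset_closure (by simp)))
        (Subgroup.zpow_mem _ (Subgroup.subset_closure (by simp)) j)
  · rw [Subgroup.closure_le]
    intro z hz
    rcases hz with rfl | rfl
    · exact hxN
    · exact hle y'.2

/-- exclusion of small dihedral groups as maximal subgroups -/
theorem dih_excl {P : Type*} [Group P] (hodd : Odd (Fintype.card F)) (g : PSL2) (hg : g ≠ 1)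
    (hT : (Nat.card ((dstruct (tPack (F := F) p) (uPack p)).comp g)).Coprime p)
    (hco : IsCoatom (nrm ((dstruct (tPack (F := F) p) (uPack p)).comp g)))
    (H : Subgroup PSL2) (e : H ≃* P)
    (hne1 : Nat.card P ≠ 2 * Nat.card ((dstruct (tPack (F := F) p) (uPack p)).comp g))
    (hne2 : Nat.card P ≠ Nat.card PSL2) (a b : P) (ha : orderOf a = 2)
    (hb : orderOf b = Nat.card ((dstruct (tPack (F := F) p) (uPack p)).comp g))
    (hab : orderOf (a * b) = 2) (hab2 : orderOf (a * b ^ 2) = 2)
    (hk : Nat.card ((dstruct (tPack (F := F) p) (uPack p)).comp g) = 2 ∨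
      Nat.card ((dstruct (tPack (F := F) p) (uPack p)).comp g) = 3 ∨
      Nat.card ((dstruct (tPack (F := F) p) (uPack p)).comp g) = 4 ∨
      Nat.card ((dstruct (tPack (F := F) p) (uPack p)).comp g) = 5)
    (h3 : Nat.card ((dstruct (tPack (F := F) p) (uPack p)).comp g) = 3 → (3 : F) ≠ 0)
    (h5 : Nat.card ((dstruct (tPack (F := F) p) (uPack p)).comp g) = 5 → (5 : F) ≠ 0) : False := by
  have h2F := two_ne_zero_of_odd p hodd
  obtain ⟨x, y, hgen, hx, hy, hxy⟩ := dihedral_gens p hodd g hg hT
  have hcardM : Nat.card (nrm ((dstruct (tPack (F := F) p) (uPack p)).comp g)) =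
      2 * Nat.card ((dstruct (tPack (F := F) p) (uPack p)).comp g) :=
    (torus_facts_odd p hodd g hg hT).2.1
  obtain ⟨f, hf, hfH, -⟩ := transport H e
  have hcH : Nat.card H = Nat.card P := Nat.card_congr e.toEquiv
  have hH : H ≠ ⊤ := by
    intro h
    apply hne2
    rw [← hcH, h, Subgroup.card_top]
  have hcard : Nat.card H ≠
      Nat.card (nrm ((dstruct (tPack (F := F) p) (uPack p)).comp g)) := by
    rw [hcH, hcardM]; exact hne1
  have ha' : orderOf (f a) = 2 := by rw [orderOf_transport f hf, ha]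
  have hab' : orderOf (f a * f b) = 2 := by rw [← map_mul, orderOf_transport f hf, hab]
  have hab2' : orderOf (f a * f b ^ 2) = 2 := by
    rw [← map_pow, ← map_mul, orderOf_transport f hf, hab2]
  rcases hk with hk | hk | hk | hk
  · rw [hk] at hy hb
    exact dih_contra2 h2F _ hco x y hgen hx hy hxy H hH hcard (f a) (f b) (hfH a) (hfH b) ha'
      (by rw [orderOf_transport f hf, hb]) hab'
  · have h3' := h3 hk
    rw [hk] at hy hb
    exact dih_contra3 h2F h3' _ hco x y hgen hx hy hxy H hH hcard (f a) (f b) (hfH a) (hfH b) ha'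
      (by rw [orderOf_transport f hf, hb]) hab'
  · rw [hk] at hy hb
    exact dih_contra4 h2F _ hco x y hgen hx hy hxy H hH hcard (f a) (f b) (hfH a) (hfH b) ha'
      (by rw [orderOf_transport f hf, hb]) hab'
  · have h5' := h5 hk
    rw [hk] at hy hb
    exact dih_contra5 h2F h5' _ hco x y hgen hx hy hxy H hH hcard (f a) (f b) (hfH a) (hfH b) ha'
      (by rw [orderOf_transport f hf, hb]) hab' hab2'

theorem card_S4' : Nat.card (Equiv.Perm (Fin 4)) = 24 := by
  rw [Nat.card_eq_fintype_card, Fintype.card_perm]; rfl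

/-- small cases of normalizers of tori are not maximal -/
theorem dihedral_small (hodd : Odd (Fintype.card F)) (h5 : 5 ≤ Fintype.card F) (g : PSL2)
    (hg : g ≠ 1)
    (hT : (Nat.card ((dstruct (tPack (F := F) p) (uPack p)).comp g)).Coprime p)
    (hco : IsCoatom (nrm ((dstruct (tPack (F := F) p) (uPack p)).comp g))) :
    (2 * Nat.card ((dstruct (tPack (F := F) p) (uPack p)).comp g) = Fintype.card F - 1 →
      13 ≤ Fintype.card F) ∧
    (2 * Nat.card ((dstruct (tPack (F := F) p) (uPack p)).comp g) = Fintype.card F + 1 →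
      Fintype.card F ≠ 7 ∧ Fintype.card F ≠ 9) := by
  have pp : p.Prime := Fact.out
  have hG := Cfsg.Agent.Lib.Helper98.DicksonMax.card_psl2_odd (F := F) hodd
  have hpq : p ∣ Fintype.card F := by
    rw [← CharP.cast_eq_zero_iff F p]
    exact Nat.cast_card_eq_zero F
  -- the available subgroups
  have hA4 : Fintype.card F = 5 → ∃ H : Subgroup PSL2, Nonempty (H ≃* alternatingGroup (Fin 4)) := by
    intro h5'
    have hp5 : p = 5 := by
      rw [h5'] at hpq
      exact (Nat.prime_dvd_prime_iff_eq pp (by norm_num)).mp hpq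
    subst hp5
    exact (Cfsg.Agent.S0802.result (F := F) 5 1 (by rw [h5']; norm_num)).mpr (by omega)
  have hS4 : (Fintype.card F = 7 ∨ Fintype.card F = 9) →
      ∃ H : Subgroup PSL2, Nonempty (H ≃* Equiv.Perm (Fin 4)) := by
    intro h
    apply (Cfsg.Agent.S0803.result (F := F) rfl).mpr
    rcases h with h | h <;> rw [h] <;> norm_num
  have hA5 : (Fintype.card F = 9 ∨ Fintype.card F = 11) →
      ∃ H : Subgroup PSL2, Nonempty (H ≃* alternatingGroup (Fin 5)) := by
    intro h
    apply (Cfsg.Agent.S0804.result (F := F) rfl).mpr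
    rcases h with h | h <;> rw [h] <;> decide
  -- the four exclusions
  have ex2 : Fintype.card F = 5 →
      Nat.card ((dstruct (tPack (F := F) p) (uPack p)).comp g) = 2 → False := by
    intro hq hk
    obtain ⟨H, ⟨e⟩⟩ := hA4 hq
    rw [hq] at hG
    refine dih_excl p hodd g hg hT hco H e (by rw [card_A4', hk]; norm_num) (by rw [card_A4']; omega)
      a4x a4z a4x_order (by rw [hk]; exact a4z_order) a4xz_order ?_ (Or.inl hk)
      (fun h => by omega) (fun h => by omega)
    exact orderOf_two _ (by decide) (by decide)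
  have ex3 : Fintype.card F = 7 →
      Nat.card ((dstruct (tPack (F := F) p) (uPack p)).comp g) = 3 → False := by
    intro hq hk
    obtain ⟨H, ⟨e⟩⟩ := hS4 (Or.inl hq)
    have h3 : (3 : F) ≠ 0 := by
      have := natCast_ne_zero_of (F := F) p 3 (by rw [hq]; norm_num)
      exact_mod_cast this
    rw [hq] at hG
    refine dih_excl p hodd g hg hT hco H e (by rw [card_S4', hk]; norm_num) (by rw [card_S4']; omega)
      s4r s4y s4r_order (by rw [hk]; exact s4y_order) s4ry_order ?_ (Or.inr (Or.inl hk))
      (fun _ => h3) (fun h => by omega)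
    exact orderOf_two _ (by decide) (by decide)
  have ex4 : (Fintype.card F = 7 ∨ Fintype.card F = 9) →
      Nat.card ((dstruct (tPack (F := F) p) (uPack p)).comp g) = 4 → False := by
    intro hq hk
    obtain ⟨H, ⟨e⟩⟩ := hS4 hq
    have hGne : Nat.card (Equiv.Perm (Fin 4)) ≠ Nat.card PSL2 := by
      rw [card_S4']
      rcases hq with hq | hq <;> rw [hq] at hG <;> omega
    refine dih_excl p hodd g hg hT hco H e (by rw [card_S4', hk]; norm_num) hGne
      s4t s4c s4t_order (by rw [hk]; exact s4c_order) s4tc_order ?_ (Or.inr (Or.inr (Or.inl hk)))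
      (fun h => by omega) (fun h => by omega)
    exact orderOf_two _ (by decide) (by decide)
  have ex5 : (Fintype.card F = 9 ∨ Fintype.card F = 11) →
      Nat.card ((dstruct (tPack (F := F) p) (uPack p)).comp g) = 5 → False := by
    intro hq hk
    obtain ⟨H, ⟨e⟩⟩ := hA5 hq
    have h5F : (5 : F) ≠ 0 := by
      have := natCast_ne_zero_of (F := F) p 5 (by rcases hq with hq | hq <;> rw [hq] <;> norm_num)
      exact_mod_cast this
    have hGne : Nat.card (alternatingGroup (Fin 5)) ≠ Nat.card PSL2 := by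
      rw [card_A5']
      rcases hq with hq | hq <;> rw [hq] at hG <;> omega
    exact dih_excl p hodd g hg hT hco H e (by rw [card_A5', hk]; norm_num) hGne
      a5t a5c a5t_order (by rw [hk]; exact a5c_order) a5tc_order a5tc2_order
      (Or.inr (Or.inr (Or.inr hk))) (fun h => by omega) (fun _ => h5F)
  obtain ⟨c, hc⟩ := hodd
  constructor
  · intro hk
    by_contra hlt
    have hc' : c = 2 ∨ c = 3 ∨ c = 4 ∨ c = 5 := by omega
    rcases hc' with rfl | rfl | rfl | rfl
    · exact ex2 (by omega) (by omega)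
    · exact ex3 (by omega) (by omega)
    · exact ex4 (Or.inr (by omega)) (by omega)
    · exact ex5 (Or.inr (by omega)) (by omega)
  · intro hk
    constructor
    · intro h7
      exact ex4 (Or.inl h7) (by omega)
    · intro h9
      exact ex5 (Or.inl h9) (by omega)

end

end Cfsg.Agent.Lib.Helper98.PSL2MaxOdd
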