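import Mathlib
import Cfsg.Agent.Lib.Helper98.PSL2MaxOddD

set_option autoImplicit false
set_option linter.unusedSimpArgs false
set_option linter.unusedSectionVars false
set_option linter.style.haveILetI false
set_option maxHeartbeats 800000

/-!
# Maximal subgroups of `PSL₂(q)`, `q` odd: the cases `A₄`, `S₄`, `A₅` (helper98)
-/

namespace Cfsg.Agent.Lib.Helper98.PSL2MaxOdd

open Matrix Cfsg.Agent.Lib.Helper48.Dickson Cfsg.Agent.Lib.Helper98.PSL2Max
open Cfsg.Agent.Lib.Helper98.PSL2NF Cfsg.Agent.Lib.Helper98.PSL2Perm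

section
variable {F : Type*} [Field F] [Fintype F]

local notation "SL2" => Matrix.SpecialLinearGroup (Fin 2) F
local notation "PSL2" => Matrix.ProjectiveSpecialLinearGroup (Fin 2) F

/-- the fixed field of a power of the Frobenius -/
def frobField (p : ℕ) [Fact p.Prime] [CharP F p] (n : ℕ) : Subfield F :=
  haveI : ExpChar F p := ExpChar.prime Fact.out
  (iterateFrobenius F p n).eqLocusField (RingHom.id F)

theorem mem_frobField (p : ℕ) [Fact p.Prime] [CharP F p] (n : ℕ) (x : F) :
    x ∈ frobField p n ↔ x ^ p ^ n = x := by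
  haveI : ExpChar F p := ExpChar.prime Fact.out
  show (iterateFrobenius F p n) x = (RingHom.id F) x ↔ _
  rw [iterateFrobenius_def, RingHom.id_apply]

/-- if the fixed field of `Frob ^ n` is everything then `q ≤ p ^ n` -/
theorem card_le_of_frobField_top (p : ℕ) [Fact p.Prime] [CharP F p] (n : ℕ) (hn : n ≠ 0)
    (h : ∀ x : F, x ∈ frobField p n) : Fintype.card F ≤ p ^ n := by
  classical
  have pp : p.Prime := Fact.out
  obtain ⟨ζ, hζ⟩ := IsCyclic.exists_generator (α := Fˣ)
  have hord : orderOf ζ = Fintype.card F - 1 := by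
    rw [orderOf_eq_card_of_forall_mem_zpowers hζ, Nat.card_eq_fintype_card, Fintype.card_units]
  have h1 := (mem_frobField p n (ζ : F)).mp (h _)
  have hpos : 2 ≤ p ^ n := by
    calc 2 ≤ p := pp.two_le
      _ = p ^ 1 := (pow_one p).symm
      _ ≤ p ^ n := Nat.pow_le_pow_right pp.pos (by omega)
  have h2 : (ζ : F) ^ (p ^ n - 1) = 1 := by
    have hz : (ζ : F) ≠ 0 := Units.ne_zero _
    have h3 : (ζ : F) ^ (p ^ n - 1) * (ζ : F) = 1 * (ζ : F) := by
      rw [← pow_succ, Nat.sub_add_cancel (by omega), h1, one_mul]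
    exact mul_right_cancel₀ hz h3
  rw [← Units.val_pow_eq_pow_val] at h2
  have h3 : ζ ^ (p ^ n - 1) = 1 := Units.ext h2
  have h4 : Fintype.card F - 1 ∣ p ^ n - 1 := by
    rw [← hord]; exact orderOf_dvd_of_pow_eq_one h3
  have := Nat.le_of_dvd (by omega) h4
  omega

theorem char_dvd_card' (p : ℕ) [Fact p.Prime] [CharP F p] : p ∣ Fintype.card F := by
  rw [← CharP.cast_eq_zero_iff F p]
  exact Nat.cast_card_eq_zero F

/-- `frobField p 1 = ⊤` forces `q = p` -/
theorem card_eq_of_frobField_one (p : ℕ) [Fact p.Prime] [CharP F p]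
    (h : ∀ x : F, x ∈ frobField p 1) : Fintype.card F = p := by
  have h1 := card_le_of_frobField_top p 1 one_ne_zero h
  rw [pow_one] at h1
  have h2 := Nat.le_of_dvd Fintype.card_pos (char_dvd_card' (F := F) p)
  omega

/-- `frobField p 2 = ⊤` forces `q = p` or `q = p²` -/
theorem card_eq_of_frobField_two (p : ℕ) [Fact p.Prime] [CharP F p]
    (h : ∀ x : F, x ∈ frobField p 2) : Fintype.card F = p ∨ Fintype.card F = p ^ 2 := by
  have pp : p.Prime := Fact.out
  have h1 := card_le_of_frobField_top p 2 two_ne_zero h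
  obtain ⟨n, -, hn⟩ := FiniteField.card F p
  rw [hn] at h1 ⊢
  have hn2 : (n : ℕ) ≤ 2 := (Nat.pow_le_pow_iff_right pp.one_lt).mp h1
  have hn0 : 0 < (n : ℕ) := n.pos
  have : (n : ℕ) = 1 ∨ (n : ℕ) = 2 := by omega
  rcases this with h | h
  · left; rw [h, pow_one]
  · right; rw [h]

/-- the order of a subfield is a power of `p` -/
theorem char_dvd_card_sub (p : ℕ) [Fact p.Prime] [CharP F p] (K : Subfield F)
    [Fintype K] : p ∣ Fintype.card K := by
  rw [← CharP.cast_eq_zero_iff F p]
  have h := Nat.cast_card_eq_zero K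
  have h3 := congrArg (fun x : K => (x : F)) h
  simp only [ZeroMemClass.coe_zero] at h3
  rw [← h3]
  norm_cast

/-- a subfield whose `PSL₂` has order dividing a small number -/
theorem sub_small (p : ℕ) [Fact p.Prime] [CharP F p] (hodd : Odd (Fintype.card F))
    (K : Subfield F) (N : ℕ) (hN : N ≤ 60)
    (hdvd : Nat.card (Matrix.ProjectiveSpecialLinearGroup (Fin 2) K) ∣ N) (hN0 : N ≠ 0) :
    (p = 3 ∧ ∀ x ∈ K, x ^ 3 = x) ∨ (p = 5 ∧ 30 < N) := by
  classical
  have pp : p.Prime := Fact.out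
  have hpK := char_dvd_card_sub p K
  set kk := Fintype.card K with hkk
  have hKodd : Odd kk := by
    obtain ⟨m, hm⟩ : ∃ m, Fintype.card F = kk ^ m := ⟨_, Module.card_eq_pow_finrank⟩
    rw [hm] at hodd
    by_contra h
    rw [Nat.not_odd_iff_even] at h
    have hm0 : m ≠ 0 := by
      rintro rfl
      rw [pow_zero] at hm
      have : 1 < Fintype.card F := Fintype.one_lt_card
      omega
    exact (Nat.not_even_iff_odd.mpr hodd) (Nat.even_pow.mpr ⟨h, hm0⟩)
  have h1 := Cfsg.Agent.Lib.Helper98.DicksonMax.card_psl2_odd (F := K) hKodd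
  rw [← hkk] at h1
  have hle := Nat.le_of_dvd (Nat.pos_of_ne_zero hN0) hdvd
  have hk1 : 1 < kk := Fintype.one_lt_card
  have hk5 : kk ≤ 5 := by
    by_contra hgt
    have h7 : 7 ≤ kk := by
      obtain ⟨c, hc⟩ := hKodd
      omega
    have h49 : 7 ^ 2 ≤ kk ^ 2 := Nat.pow_le_pow_left h7 2
    have : 7 * 48 ≤ kk * (kk ^ 2 - 1) := Nat.mul_le_mul h7 (by omega)
    omega
  have hk35 : kk = 3 ∨ kk = 5 := by
    obtain ⟨c, hc⟩ := hKodd
    omega
  rcases hk35 with h3 | h5
  · left
    rw [h3] at hpK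
    refine ⟨(Nat.prime_dvd_prime_iff_eq pp (by norm_num)).mp hpK, fun x hx => ?_⟩
    have h4 := FiniteField.pow_card (⟨x, hx⟩ : K)
    rw [← hkk, h3] at h4
    have h5 := congrArg (fun y : K => (y : F)) h4
    simpa using h5
  · right
    rw [h5] at hpK h1
    refine ⟨(Nat.prime_dvd_prime_iff_eq pp (by norm_num)).mp hpK, ?_⟩
    have : Nat.card (Matrix.ProjectiveSpecialLinearGroup (Fin 2) K) = 60 := by omega
    rw [this] at hle
    omega

/-- Frobenius on a root of `x² + x - 1` -/
theorem tau_frob (p : ℕ) [Fact p.Prime] [CharP F p] (τ : F)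
    (hτ : τ ^ 2 + τ - 1 = 0) : τ ^ p = τ ∨ (τ ^ p = -1 - τ ∧ τ ^ p ^ 2 = τ) := by
  have h1 : (τ ^ p) ^ 2 + τ ^ p - 1 = 0 := by
    have := congrArg (frobenius F p) hτ
    rw [map_zero, map_sub, map_add, map_pow, map_one, frobenius_def] at this
    exact this
  have h2 : (τ ^ p - τ) * (τ ^ p + τ + 1) = 0 := by linear_combination h1 - hτ
  rcases mul_eq_zero.mp h2 with h | h
  · left; linear_combination h
  · right
    have h3 : τ ^ p = -1 - τ := by linear_combination h
    refine ⟨h3, ?_⟩
    rw [pow_two, pow_mul, h3]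
    have h4 : (-1 - τ) ^ p = frobenius F p (-1 - τ) := (frobenius_def p _).symm
    rw [h4, map_sub, map_neg, map_one, frobenius_def, h3]
    ring

/-- a square root of five in the prime field -/
theorem qr5 (p : ℕ) [Fact p.Prime] [CharP F p] (hp2 : p ≠ 2) (h : p % 5 = 1 ∨ p % 5 = 4) :
    ∃ r : F, r * r = 5 ∧ r ^ p = r := by
  have : Fact (Nat.Prime 5) := ⟨by norm_num⟩
  have hsq : IsSquare ((p : ℕ) : ZMod 5) := by
    have h1 : ((p : ℕ) : ZMod 5) = ((p % 5 : ℕ) : ZMod 5) := (ZMod.natCast_mod p 5).symm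
    rw [h1]
    rcases h with h | h <;> rw [h]
    · exact ⟨1, by simp⟩
    · exact ⟨2, by norm_num⟩
  have hsq' : IsSquare ((5 : ℕ) : ZMod p) :=
    (ZMod.exists_sq_eq_prime_iff_of_mod_four_eq_one (p := 5) (q := p) (by norm_num) hp2).mp hsq
  obtain ⟨r, hr⟩ := hsq'
  refine ⟨ZMod.castHom (dvd_refl p) F r, ?_, ?_⟩
  · rw [← map_mul, ← hr, map_natCast]
    norm_num
  · rw [← map_pow, ZMod.pow_card]

/-- if five is a square in the prime field, the roots of `x² + x - 1` are Frobenius-fixed -/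
theorem tau_fixed_of_qr (p : ℕ) [Fact p.Prime] [CharP F p] (hpodd : Odd p) (h2 : (2 : F) ≠ 0)
    (h : p % 5 = 1 ∨ p % 5 = 4) (τ : F) (hτ : τ ^ 2 + τ - 1 = 0) : τ ^ p = τ := by
  have pp : p.Prime := Fact.out
  have hp2 : p ≠ 2 := by
    rintro rfl
    obtain ⟨c, hc⟩ := hpodd
    omega
  obtain ⟨r, hr, hrp⟩ := qr5 (F := F) p hp2 h
  have h1 : (2 * τ + 1 - r) * (2 * τ + 1 + r) = 0 := by linear_combination 4 * hτ - hr
  have h3 : (2 * τ + 1) ^ p = 2 * τ ^ p + 1 := by
    have h4 : (2 * τ + 1) ^ p = frobenius F p (2 * τ + 1) := (frobenius_def p _).symm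
    have hf2 : frobenius F p (2 : F) = 2 := by
      have : (2 : F) = ((2 : ℕ) : F) := by norm_num
      rw [this, map_natCast]
    rw [h4, map_add, map_mul, map_one, hf2, frobenius_def]
  have h5 : (2 * τ + 1) ^ p = 2 * τ + 1 := by
    rcases mul_eq_zero.mp h1 with h | h
    · have : 2 * τ + 1 = r := by linear_combination h
      rw [this, hrp]
    · have : 2 * τ + 1 = -r := by linear_combination h
      rw [this, hpodd.neg_pow, hrp]
  rw [h3] at h5
  have : 2 * τ ^ p = 2 * τ := by linear_combination h5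
  exact mul_left_cancel₀ h2 this

/-- the conclusion of the classification of maximal subgroups -/
def Concl (p : ℕ) (M : Subgroup PSL2) : Prop :=
    2 * Nat.card M = Fintype.card F * (Fintype.card F - 1) ∨
    (13 ≤ Fintype.card F ∧ (∃ k : ℕ, 2 * k = Fintype.card F - 1 ∧ Nonempty (M ≃* DihedralGroup k))) ∨
    (Fintype.card F ≠ 7 ∧ Fintype.card F ≠ 9 ∧ (∃ k : ℕ, 2 * k = Fintype.card F + 1 ∧ Nonempty (M ≃* DihedralGroup k))) ∨
    (∃ (F₀ : Type) (_ : Field F₀) (_ : Fintype F₀), Fintype.card F = Fintype.card F₀ ^ 2 ∧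
        Nonempty (M ≃* Matrix.ProjGenLinGroup (Fin 2) F₀)) ∨
    (∃ (F₀ : Type) (_ : Field F₀) (_ : Fintype F₀) (r : ℕ), r.Prime ∧ Odd r ∧ Fintype.card F = Fintype.card F₀ ^ r ∧
        Nonempty (M ≃* Matrix.ProjectiveSpecialLinearGroup (Fin 2) F₀)) ∨
    ((Fintype.card F % 10 = 1 ∨ Fintype.card F % 10 = 9) ∧
        (Fintype.card F = p ∨ (Fintype.card F = p ^ 2 ∧ (p % 10 = 3 ∨ p % 10 = 7))) ∧
        Nonempty (M ≃* alternatingGroup (Fin 5))) ∨
    (Fintype.card F = p ∧ (p % 8 = 3 ∨ p % 8 = 5) ∧ ¬ (p % 10 = 1 ∨ p % 10 = 9) ∧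
        Nonempty (M ≃* alternatingGroup (Fin 4))) ∨
    (Fintype.card F = p ∧ (p % 8 = 1 ∨ p % 8 = 7) ∧ Nonempty (M ≃* Equiv.Perm (Fin 4)))

theorem concl_of_subfield (p : ℕ) (M : Subgroup PSL2)
    (h : (∃ (F₀ : Type) (_ : Field F₀) (_ : Fintype F₀), Fintype.card F = Fintype.card F₀ ^ 2 ∧
        Nonempty (M ≃* Matrix.ProjGenLinGroup (Fin 2) F₀)) ∨
    (∃ (F₀ : Type) (_ : Field F₀) (_ : Fintype F₀) (r : ℕ), r.Prime ∧ Odd r ∧
        Fintype.card F = Fintype.card F₀ ^ r ∧
        Nonempty (M ≃* Matrix.ProjectiveSpecialLinearGroup (Fin 2) F₀))) : Concl p M := by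
  rcases h with h | h
  · right; right; right; left; exact h
  · right; right; right; right; left; exact h

/-- recognition of `A₅` from the class data -/
theorem iso_a5_of_outcome {G : Type*} [Group G] [Finite G] {p : ℕ} [Fact p.Prime]
    (D : DStruct G p) (H : Subgroup G)
    (h60 : Nat.card H = 60)
    (hall : ∀ z, z ∈ H → z ≠ 1 → (Nat.card (D.XH H z) = 2 ∧ Nat.card (D.NH H z) = 4) ∨
      (Nat.card (D.XH H z) = 3 ∧ Nat.card (D.NH H z) = 6) ∨
      (Nat.card (D.XH H z) = 5 ∧ Nat.card (D.NH H z) = 10))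
    (hrel : ∀ z z', z ∈ H → z ≠ 1 → z' ∈ H → z' ≠ 1 → Nat.card (D.XH H z) = 2 →
      Nat.card (D.XH H z') = 2 → D.Rel H z z') :
    Nonempty (H ≃* alternatingGroup (Fin 5)) := by
  classical
  have hcard2 : ∀ z : H, orderOf z = 2 → Nat.card (D.XH H z.1) = 2 := by
    intro z hz
    have hz1 : z.1 ≠ 1 := by
      intro h
      have : z = 1 := Subtype.ext h
      rw [this, orderOf_one] at hz
      omega
    have hdvd : orderOf z.1 ∣ Nat.card (D.XH H z.1) :=
      Subgroup.orderOf_dvd_natCard _ (D.self_mem_XH H z.2)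
    have ho : orderOf z.1 = 2 := by rw [← hz]; exact (Subgroup.orderOf_coe z)
    rw [ho] at hdvd
    rcases hall z.1 z.2 hz1 with ⟨h, _⟩ | ⟨h, _⟩ | ⟨h, _⟩
    · exact h
    · rw [h] at hdvd; omega
    · rw [h] at hdvd; omega
  apply Cfsg.Agent.Lib.Helper42.A5Recog.a5_of_card h60
  · intro z hz4
    by_cases hz1 : z = 1
    · rw [hz1]; simp
    have hz1' : z.1 ≠ 1 := fun h => hz1 (Subtype.ext h)
    have hdvd : orderOf z.1 ∣ Nat.card (D.XH H z.1) :=
      Subgroup.orderOf_dvd_natCard _ (D.self_mem_XH H z.2)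
    have hdvd4 : orderOf z.1 ∣ 4 := by
      apply orderOf_dvd_of_pow_eq_one
      simpa using congrArg Subtype.val hz4
    have hone : orderOf z.1 ≠ 1 := by
      rw [Ne, orderOf_eq_one_iff]; exact hz1'
    have hle4 : orderOf z.1 ≤ 4 := Nat.le_of_dvd (by norm_num) hdvd4
    rcases hall z.1 z.2 hz1' with ⟨h, _⟩ | ⟨h, _⟩ | ⟨h, _⟩
    · rw [h] at hdvd
      apply Subtype.ext
      have : z.1 ^ 2 = 1 := orderOf_dvd_iff_pow_eq_one.1 hdvd
      simpa using this
    · exfalso
      rw [h] at hdvd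
      have h3 := Nat.le_of_dvd (by norm_num) hdvd
      interval_cases (orderOf z.1) <;> omega
    · exfalso
      rw [h] at hdvd
      interval_cases (orderOf z.1) <;> omega
  · intro z w hz hw
    have hz1 : z.1 ≠ 1 := by
      intro h
      have : z = 1 := Subtype.ext h
      rw [this, orderOf_one] at hz
      omega
    have hw1 : w.1 ≠ 1 := by
      intro h
      have : w = 1 := Subtype.ext h
      rw [this, orderOf_one] at hw
      omega
    obtain ⟨h, hh, hc⟩ := hrel z.1 w.1 z.2 hz1 w.2 hw1 (hcard2 z hz) (hcard2 w hw)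
    rw [isConj_iff]
    refine ⟨⟨h, hh⟩, Subtype.ext ?_⟩
    have h1 : h * z.1 * h⁻¹ ∈ D.XH H w.1 := by
      refine (D.mem_XH H).2 ⟨H.mul_mem (H.mul_mem hh z.2) (H.inv_mem hh), ?_⟩
      rw [← hc]; exact D.mem_comp _
    exact DStruct.eq_of_card_two (hcard2 w hw) (D.self_mem_XH H w.2) hw1 h1 (DStruct.conj_ne_one hz1)
  · intro z hz
    have hz1 : z.1 ≠ 1 := by
      intro h
      have : z = 1 := Subtype.ext h
      rw [this, orderOf_one] at hz
      omega
    have hn4 : Nat.card (D.NH H z.1) = 4 := by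
      rcases hall z.1 z.2 hz1 with ⟨_, h⟩ | ⟨h, _⟩ | ⟨h, _⟩
      · exact h
      · rw [hcard2 z hz] at h; omega
      · rw [hcard2 z hz] at h; omega
    rw [← hn4]
    apply Nat.card_congr
    refine ⟨fun h => ⟨h.1.1, (D.mem_NH H).2 ⟨h.1.2, ?_⟩⟩,
      fun y => ⟨⟨y.1, ((D.mem_NH H).1 y.2).1⟩, ?_⟩, fun h => rfl, fun y => rfl⟩
    · rw [D.mem_nrm_comp_iff hz1]
      have h1 := Subgroup.mem_centralizer_singleton_iff.1 h.2
      have h2 : h.1.1 * z.1 = z.1 * h.1.1 := by
        have := congrArg Subtype.val h1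
        simpa using this
      have : h.1.1 * z.1 * h.1.1⁻¹ = z.1 := by rw [h2]; group
      rw [this]
    · rw [Subgroup.mem_centralizer_singleton_iff]
      apply Subtype.ext
      have hyH := ((D.mem_NH H).1 y.2).1
      have hyN := ((D.mem_NH H).1 y.2).2
      have h1 : y.1 * z.1 * y.1⁻¹ ∈ D.XH H z.1 :=
        (D.mem_XH H).2 ⟨H.mul_mem (H.mul_mem hyH z.2) (H.inv_mem hyH),
          (Cfsg.Agent.Lib.Helper48.Dickson.mem_nrm_iff.1 hyN z.1).1 (D.mem_comp _)⟩
      have h2 : y.1 * z.1 * y.1⁻¹ = z.1 :=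
        DStruct.eq_of_card_two (hcard2 z hz) (D.self_mem_XH H z.2) hz1 h1 (DStruct.conj_ne_one hz1)
      simp only [Subgroup.coe_mul]
      calc y.1 * z.1 = (y.1 * z.1 * y.1⁻¹) * y.1 := by group
        _ = z.1 * y.1 := by rw [h2]

variable (p : ℕ) [Fact p.Prime] [CharP F p]

/-- lower bound for the order of `PSL₂(q)` -/
theorem card_psl2_ge (hodd : Odd (Fintype.card F)) (n : ℕ) (hn : n ≤ Fintype.card F) (hn1 : 1 ≤ n) :
    n * (n ^ 2 - 1) ≤ 2 * Nat.card PSL2 := by
  rw [Cfsg.Agent.Lib.Helper98.DicksonMax.card_psl2_odd (F := F) hodd]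
  have h1 : n ^ 2 ≤ Fintype.card F ^ 2 := Nat.pow_le_pow_left hn 2
  exact Nat.mul_le_mul hn (by omega)

/-- the case of order `12` -/
theorem case12 (hodd : Odd (Fintype.card F)) (h5q : 5 ≤ Fintype.card F) (M : Subgroup PSL2)
    (hM : IsCoatom M) (h12 : Nat.card M = 12) (g : PSL2) (hgH : g ∈ M) (hg : g ≠ 1)
    (hx : Nat.card ((dstruct (tPack (F := F) p) (uPack p)).XH M g) = 3)
    (hn : Nat.card ((dstruct (tPack (F := F) p) (uPack p)).NH M g) = 3) : Concl p M := by
  classical
  have pp : p.Prime := Fact.out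
  set D := dstruct (tPack (F := F) p) (uPack p) with hD
  have h2F := two_ne_zero_of_odd p hodd
  have hXN : D.XH M g = D.NH M g := DStruct.eq_of_card_eq (D.XH_le_NH M g) (by rw [hx, hn])
  have hA4 : Nonempty (M ≃* alternatingGroup (Fin 4)) := by
    apply Cfsg.Agent.Lib.Helper19.Recog.a4_of_card h12 ((D.XH M g).subgroupOf M)
    · rw [DStruct.card_subgroupOf_of_le M (D.XH_le M g), hx]
    · rw [D.normalizer_subgroupOf M hg hgH, hXN]
  obtain ⟨e⟩ := hA4
  by_cases hp3 : p = 3
  · -- the subfield route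
    apply concl_of_subfield
    have hyp : Cfsg.Agent.Lib.Helper19.TwoTrans.Hyp p 3 1 M (D.XH M g) := by
      refine ⟨inf_le_left, ?_, hx, ?_, ?_⟩
      · apply IsPGroup.of_card (n := 1)
        rw [hx, hp3, pow_one]
      · rw [← D.NH_eq M hg hgH, hn]
      · rw [h12]
    exact subfield_case_odd p hodd M hM _ 3 1 hyp (by norm_num) (Or.inr (by norm_num))
  · -- the normal form route
    obtain ⟨f, hf, hfM, hgen⟩ := transport M e
    have hgen' := hgen a4x a4y a4_closure
    have hox : orderOf (f a4x) = 2 := by rw [orderOf_transport f hf, a4x_order]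
    have hoy : orderOf (f a4y) = 3 := by rw [orderOf_transport f hf, a4y_order]
    have hoxy : orderOf (f a4x * f a4y) = 3 := by
      rw [← map_mul, orderOf_transport f hf, a4xy_order]
    have hq : Fintype.card F = p := by
      rcases a4_sub h2F M hM _ _ hgen' hox hoy hoxy (frobField p 1) with h | h
      · exact card_eq_of_frobField_one p h
      · exfalso
        rw [h12] at h
        rcases sub_small p hodd (frobField p 1) 12 (by norm_num) h (by norm_num) with ⟨h3, -⟩ | ⟨-, h5⟩
        · exact hp3 h3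
        · omega
    right; right; right; right; right; right; left
    refine ⟨hq, ?_, ?_, ⟨e⟩⟩
    · -- `p % 8`
      by_contra hcon
      have h8 : Fintype.card F % 16 = 1 ∨ Fintype.card F % 16 = 7 ∨ Fintype.card F % 16 = 9 ∨
          Fintype.card F % 16 = 15 := by
        obtain ⟨c, hc⟩ := hodd
        rw [← hq] at hcon
        omega
      have h16 : Fintype.card F ^ 2 % 16 = 1 := by
        rw [Nat.pow_mod]
        rcases h8 with h | h | h | h <;> rw [h]
      obtain ⟨H, ⟨eH⟩⟩ := (Cfsg.Agent.S0803.result (F := F) rfl).mpr h16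
      obtain ⟨f', hf', hfH, -⟩ := transport H eH
      have hcH : Nat.card H = 24 := by rw [Nat.card_congr eH.toEquiv, card_S4']
      have h7 : 7 ≤ Fintype.card F := by omega
      have hG := card_psl2_ge (F := F) hodd 7 h7 (by norm_num)
      have hH : H ≠ ⊤ := by
        intro h
        rw [h, Subgroup.card_top] at hcH
        omega
      exact a4_contra h2F M hM _ _ hgen' hox hoy hoxy H hH (by rw [hcH, h12]; norm_num)
        (f' s4x) (f' s4y) (hfH _) (hfH _) (by rw [orderOf_transport f' hf', s4x_order])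
        (by rw [orderOf_transport f' hf', s4y_order])
        (by rw [← map_mul, orderOf_transport f' hf', s4xy_order])
    · -- `p % 10`
      intro hcon
      rw [← hq] at hcon
      have h5' : Fintype.card F % 5 = 1 ∨ Fintype.card F % 5 = 4 := by omega
      have hdvd : 5 ∣ Fintype.card F * (Fintype.card F ^ 2 - 1) := by
        apply dvd_mul_of_dvd_right
        have h1 : Fintype.card F ^ 2 % 5 = 1 := by
          rw [Nat.pow_mod]
          rcases h5' with h | h <;> rw [h]
        omega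
      obtain ⟨H, ⟨eH⟩⟩ := (Cfsg.Agent.S0804.result (F := F) rfl).mpr hdvd
      obtain ⟨f', hf', hfH, -⟩ := transport H eH
      have hcH : Nat.card H = 60 := by rw [Nat.card_congr eH.toEquiv, card_A5']
      have h9 : 9 ≤ Fintype.card F := by omega
      have hG := card_psl2_ge (F := F) hodd 9 h9 (by norm_num)
      have hH : H ≠ ⊤ := by
        intro h
        rw [h, Subgroup.card_top] at hcH
        omega
      exact a4_contra h2F M hM _ _ hgen' hox hoy hoxy H hH (by rw [hcH, h12]; norm_num)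
        (f' a5x) (f' a5u) (hfH _) (hfH _) (by rw [orderOf_transport f' hf', a5x_order])
        (by rw [orderOf_transport f' hf', a5u_order])
        (by rw [← map_mul, orderOf_transport f' hf', a5xu_order])

/-- the case of order `24` -/
theorem case24 (hodd : Odd (Fintype.card F)) (h5q : 5 ≤ Fintype.card F) (M : Subgroup PSL2)
    (hM : IsCoatom M) (h24 : Nat.card M = 24) (g : PSL2) (hgH : g ∈ M) (hg : g ≠ 1)
    (hT : (Nat.card ((dstruct (tPack (F := F) p) (uPack p)).comp g)).Coprime p)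
    (hx : Nat.card ((dstruct (tPack (F := F) p) (uPack p)).XH M g) = 3)
    (hn : Nat.card ((dstruct (tPack (F := F) p) (uPack p)).NH M g) = 6) : Concl p M := by
  classical
  have pp : p.Prime := Fact.out
  set D := dstruct (tPack (F := F) p) (uPack p) with hD
  have h2F := two_ne_zero_of_odd p hodd
  have hS4 : Nonempty (M ≃* Equiv.Perm (Fin 4)) := by
    apply Cfsg.Agent.Lib.Helper19.Recog.s4_of_card h24 ((D.XH M g).subgroupOf M)
    · rw [DStruct.card_subgroupOf_of_le M (D.XH_le M g), hx]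
    · rw [D.normalizer_subgroupOf M hg hgH, DStruct.card_subgroupOf_of_le M (D.NH_le M g), hn]
    · rw [D.normalizer_subgroupOf M hg hgH]
      have hne : ¬ D.NH M g ≤ D.XH M g := by
        intro hle
        have := le_antisymm hle (D.XH_le_NH M g)
        rw [this] at hn
        omega
      obtain ⟨n0, hn0, hn0'⟩ := SetLike.not_le_iff_exists.1 hne
      have hn0H := ((D.mem_NH M).1 hn0).1
      have hn0N := ((D.mem_NH M).1 hn0).2
      have hn0C : n0 ∉ D.comp g := fun h => hn0' ((D.mem_XH M).2 ⟨hn0H, h⟩)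
      refine ⟨⟨n0, hn0H⟩, by rw [Subgroup.mem_subgroupOf]; exact hn0, ⟨g, hgH⟩,
        by rw [Subgroup.mem_subgroupOf]; exact D.self_mem_XH M hgH, ?_⟩
      intro h
      have h1 : n0 * g * n0⁻¹ = g := by simpa using congrArg Subtype.val h
      have h2 := (D.t_inv g hg hT n0 hn0N hn0C).2 g (D.mem_comp g)
      rw [h1] at h2
      have h3 : g ^ 2 = 1 := by
        rw [pow_two]
        nth_rewrite 1 [h2]
        simp
      have h4 : g ^ 3 = 1 := by
        have := pow_card_eq_one' (G := D.XH M g) (x := ⟨g, D.self_mem_XH M hgH⟩)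
        rw [hx] at this
        simpa using congrArg Subtype.val this
      apply hg
      calc g = g ^ 3 * (g ^ 2)⁻¹ := by group
        _ = 1 := by rw [h3, h4]; simp
  obtain ⟨e⟩ := hS4
  have hp3 : p ≠ 3 := by
    intro hp3
    have h1 : 3 ∣ Nat.card (D.comp g) := by
      rw [← hx]; exact Subgroup.card_dvd_of_le (D.XH_le_comp M g)
    have h3p : 3 ∣ p := by rw [hp3]
    have := Nat.dvd_gcd h1 h3p
    rw [hT] at this
    omega
  obtain ⟨f, hf, hfM, hgen⟩ := transport M e
  have hgen' := hgen s4a s4b s4_closure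
  have hox : orderOf (f s4a) = 2 := by rw [orderOf_transport f hf, s4a_order]
  have hoy : orderOf (f s4b) = 3 := by rw [orderOf_transport f hf, s4b_order]
  have hoxy : orderOf (f s4a * f s4b) = 4 := by
    rw [← map_mul, orderOf_transport f hf, s4ab_order]
  have hq : Fintype.card F = p := by
    rcases s4_sub h2F M hM _ _ hgen' hox hoy hoxy (frobField p 1) with h | h
    · exact card_eq_of_frobField_one p h
    · exfalso
      rw [h24] at h
      rcases sub_small p hodd (frobField p 1) 24 (by norm_num) h (by norm_num) with ⟨h3, -⟩ | ⟨-, h5⟩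
      · exact hp3 h3
      · omega
  have h16 : Fintype.card F ^ 2 % 16 = 1 :=
    (Cfsg.Agent.S0803.result (F := F) rfl).mp ⟨M, ⟨e⟩⟩
  right; right; right; right; right; right; right
  refine ⟨hq, ?_, ⟨e⟩⟩
  rw [← hq]
  by_contra hcon
  have h8 : Fintype.card F % 16 = 3 ∨ Fintype.card F % 16 = 5 ∨ Fintype.card F % 16 = 11 ∨
      Fintype.card F % 16 = 13 := by
    obtain ⟨c, hc⟩ := hodd
    omega
  rw [Nat.pow_mod] at h16
  rcases h8 with h | h | h | h <;> rw [h] at h16 <;> omega

/-- the case of order `60` -/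
theorem case60 (hodd : Odd (Fintype.card F)) (h5q : 5 ≤ Fintype.card F) (M : Subgroup PSL2)
    (hM : IsCoatom M) (h60 : Nat.card M = 60)
    (hall : ∀ z, z ∈ M → z ≠ 1 →
      (Nat.card ((dstruct (tPack (F := F) p) (uPack p)).XH M z) = 2 ∧
        Nat.card ((dstruct (tPack (F := F) p) (uPack p)).NH M z) = 4) ∨
      (Nat.card ((dstruct (tPack (F := F) p) (uPack p)).XH M z) = 3 ∧
        Nat.card ((dstruct (tPack (F := F) p) (uPack p)).NH M z) = 6) ∨
      (Nat.card ((dstruct (tPack (F := F) p) (uPack p)).XH M z) = 5 ∧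
        Nat.card ((dstruct (tPack (F := F) p) (uPack p)).NH M z) = 10))
    (hrel : ∀ z z', z ∈ M → z ≠ 1 → z' ∈ M → z' ≠ 1 →
      Nat.card ((dstruct (tPack (F := F) p) (uPack p)).XH M z) = 2 →
      Nat.card ((dstruct (tPack (F := F) p) (uPack p)).XH M z') = 2 →
      (dstruct (tPack (F := F) p) (uPack p)).Rel M z z') : Concl p M := by
  classical
  have pp : p.Prime := Fact.out
  set D := dstruct (tPack (F := F) p) (uPack p) with hD
  have h2F := two_ne_zero_of_odd p hodd
  have hpq := char_dvd_card' (F := F) p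
  have hpodd : Odd p := by
    rcases pp.eq_two_or_odd' with h | h
    · exfalso
      rw [h] at hpq
      obtain ⟨c, hc⟩ := hodd
      omega
    · exact h
  obtain ⟨e⟩ := iso_a5_of_outcome D M h60 hall hrel
  by_cases hp5 : p = 5
  · -- the subfield route
    apply concl_of_subfield
    haveI : Fact (Nat.Prime 5) := ⟨by norm_num⟩
    obtain ⟨z', hz'⟩ := exists_prime_orderOf_dvd_card' (G := M) 5 (by rw [h60]; norm_num)
    have hzo : orderOf z'.1 = 5 := by rw [← hz']; exact (Subgroup.orderOf_coe z')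
    have hz1 : z'.1 ≠ 1 := by
      intro h
      rw [h, orderOf_one] at hzo
      omega
    have hdvd : 5 ∣ Nat.card (D.XH M z'.1) := by
      rw [← hzo]; exact Subgroup.orderOf_dvd_natCard _ (D.self_mem_XH M z'.2)
    have hxn : Nat.card (D.XH M z'.1) = 5 ∧ Nat.card (D.NH M z'.1) = 10 := by
      rcases hall z'.1 z'.2 hz1 with ⟨h, _⟩ | ⟨h, _⟩ | h
      · rw [h] at hdvd; omega
      · rw [h] at hdvd; omega
      · exact h
    have hyp : Cfsg.Agent.Lib.Helper19.TwoTrans.Hyp p 5 2 M (D.XH M z'.1) := by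
      refine ⟨inf_le_left, ?_, hxn.1, ?_, ?_⟩
      · apply IsPGroup.of_card (n := 1)
        rw [hxn.1, hp5, pow_one]
      · rw [← D.NH_eq M hz1 z'.2, hxn.2]
      · rw [h60]
    exact subfield_case_odd p hodd M hM _ 5 2 hyp (by norm_num) (Or.inr (by norm_num))
  · -- the normal form route
    obtain ⟨f, hf, hfM, hgen⟩ := transport M e
    have hgen' := hgen a5x a5y a5_closure
    have hox : orderOf (f a5x) = 2 := by rw [orderOf_transport f hf, a5x_order]
    have hoy : orderOf (f a5y) = 3 := by rw [orderOf_transport f hf, a5y_order]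
    have hoxy : orderOf (f a5x * f a5y) = 5 := by
      rw [← map_mul, orderOf_transport f hf, a5xy_order]
    obtain ⟨τ, hτ, hsub⟩ := a5_sub h2F M hM _ _ hgen' hox hoy hoxy
    -- `τ` is not fixed by `x ↦ x ^ 3`
    have hτ3 : p = 3 → τ ^ 3 ≠ τ := by
      intro _ h
      have h1 : τ = 1 := by linear_combination h - (τ - 1) * hτ
      rw [h1] at hτ
      have : (1 : F) = 0 := by linear_combination hτ
      exact one_ne_zero this
    have h5dvd : 5 ∣ Fintype.card F * (Fintype.card F ^ 2 - 1) :=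
      (Cfsg.Agent.S0804.result (F := F) rfl).mp ⟨M, ⟨e⟩⟩
    right; right; right; right; right; left
    have key : Fintype.card F = p ∨ (Fintype.card F = p ^ 2 ∧ (p % 10 = 3 ∨ p % 10 = 7)) := by
      rcases tau_frob p τ hτ with hfix | ⟨hnf, hfix2⟩
      · left
        rcases hsub (frobField p 1) (by rw [mem_frobField, pow_one]; exact hfix) with h | h
        · exact card_eq_of_frobField_one p h
        · exfalso
          rw [h60] at h
          rcases sub_small p hodd (frobField p 1) 60 le_rfl h (by norm_num) with ⟨h3, hK⟩ | ⟨h5, -⟩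
          · exact hτ3 h3 (hK τ (by rw [mem_frobField, pow_one]; exact hfix))
          · exact hp5 h5
      · right
        have hnfix : τ ^ p ≠ τ := by
          intro h
          rw [h] at hnf
          have h1 : 2 * τ + 1 = 0 := by linear_combination hnf
          have h2 : (5 : F) = 0 := by linear_combination (-4 : F) * hτ + (2 * τ + 1) * h1
          have h3 : ((5 : ℕ) : F) = 0 := by exact_mod_cast h2
          rw [CharP.cast_eq_zero_iff F p] at h3
          exact hp5 ((Nat.prime_dvd_prime_iff_eq pp (by norm_num)).mp h3)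
        have hq2 : Fintype.card F = p ^ 2 := by
          rcases hsub (frobField p 2) (by rw [mem_frobField]; exact hfix2) with h | h
          · rcases card_eq_of_frobField_two p h with h1 | h1
            · exfalso
              apply hnfix
              have := FiniteField.pow_card τ
              rwa [h1] at this
            · exact h1
          · exfalso
            rw [h60] at h
            rcases sub_small p hodd (frobField p 2) 60 le_rfl h (by norm_num) with ⟨h3, hK⟩ | ⟨h5, -⟩
            · exact hτ3 h3 (hK τ (by rw [mem_frobField]; exact hfix2))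
            · exact hp5 h5
        refine ⟨hq2, ?_⟩
        by_contra hcon
        have hp10 : p % 5 = 1 ∨ p % 5 = 4 := by
          have h5' : ¬ 5 ∣ p := by
            intro h
            exact hp5 ((Nat.prime_dvd_prime_iff_eq (by norm_num) pp).mp h).symm
          obtain ⟨c, hc⟩ := hpodd
          omega
        exact hnfix (tau_fixed_of_qr p hpodd h2F hp10 τ hτ)
    refine ⟨?_, key, ⟨e⟩⟩
    -- `q % 10`
    have h5q' : ¬ 5 ∣ Fintype.card F := by
      intro h
      rcases key with h1 | ⟨h1, -⟩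
      · rw [h1] at h
        exact hp5 ((Nat.prime_dvd_prime_iff_eq (by norm_num) pp).mp h).symm
      · rw [h1] at h
        have := (Nat.Prime.dvd_of_dvd_pow (by norm_num) h)
        exact hp5 ((Nat.prime_dvd_prime_iff_eq (by norm_num) pp).mp this).symm
    have h5' : 5 ∣ Fintype.card F ^ 2 - 1 := by
      rcases (Nat.Prime.dvd_mul (by norm_num)).mp h5dvd with h | h
      · exact absurd h h5q'
      · exact h
    have hmod : Fintype.card F % 5 = 1 ∨ Fintype.card F % 5 = 4 := by
      have h1 : 1 ≤ Fintype.card F ^ 2 := Nat.one_le_pow _ _ Fintype.card_pos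
      have h2 : Fintype.card F ^ 2 % 5 = 1 := by omega
      rw [Nat.pow_mod] at h2
      have h3 : Fintype.card F % 5 < 5 := Nat.mod_lt _ (by norm_num)
      interval_cases (Fintype.card F % 5) <;> simp_all
    obtain ⟨c, hc⟩ := hodd
    omega

end

end Cfsg.Agent.Lib.Helper98.PSL2MaxOdd
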