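import Mathlib
import Cfsg.Agent.Lib.Helper98.PSL2MaxOddE

set_option autoImplicit false
set_option linter.unusedSimpArgs false
set_option linter.unusedSectionVars false
set_option linter.style.haveILetI false
set_option maxHeartbeats 800000

/-!
# Maximal subgroups of `PSL₂(q)`, `q` odd: the final assembly (helper98)
-/

namespace Cfsg.Agent.Lib.Helper98.PSL2MaxOdd

open Matrix Cfsg.Agent.Lib.Helper48.Dickson Cfsg.Agent.Lib.Helper98.PSL2Max
open Cfsg.Agent.Lib.Helper98.PSL2NF Cfsg.Agent.Lib.Helper98.PSL2Perm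

section
variable {F : Type*} [Field F] [Fintype F]

local notation "SL2" => Matrix.SpecialLinearGroup (Fin 2) F
local notation "PSL2" => Matrix.ProjectiveSpecialLinearGroup (Fin 2) F

variable (p : ℕ) [Fact p.Prime] [CharP F p]

/-- the maximal subgroups of `PSL₂(q)`, `q ≥ 5` odd -/
theorem max_odd (hodd : Odd (Fintype.card F)) (h5 : 5 ≤ Fintype.card F)
    (M : Subgroup PSL2) (hM : IsCoatom M) : Concl p M := by
  classical
  have pp : p.Prime := Fact.out
  have hgcd : Nat.gcd 2 (Fintype.card F - 1) = 2 := gcd_two_odd' hodd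
  have hG : 2 * Nat.card PSL2 = Fintype.card F * (Fintype.card F ^ 2 - 1) :=
    Cfsg.Agent.Lib.Helper98.DicksonMax.card_psl2_odd hodd
  have hnrmT := torus_facts_odd (F := F) p hodd
  set q := Fintype.card F with hq
  set D := dstruct (tPack (F := F) p) (uPack p) with hD
  have hqq : q ^ 2 - 1 = (q - 1) * (q + 1) := by
    obtain ⟨j, hj⟩ : ∃ j, q = j + 1 := ⟨q - 1, by omega⟩
    rw [hj]
    have e1 : (j + 1) ^ 2 - 1 = j * (j + 2) := by
      have : (j + 1) ^ 2 = j * (j + 2) + 1 := by ring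
      omega
    have e2 : j + 1 - 1 = j := by omega
    rw [e1, e2]
  -- unipotent normalizers
  have hnrmU : ∀ g, g ≠ 1 → IsPGroup p (D.comp g) →
      2 * Nat.card (nrm (D.comp g)) = q * (q - 1) := by
    intro g hg hp
    have h1 := card_nrm_unipotent (tPack p) (uPack p) g hg hp
    rw [hgcd] at h1
    rw [mul_comm]
    exact h1
  -- normalizers of components are proper
  have hproper : ∀ g, g ≠ 1 → nrm (D.comp g) ≠ ⊤ := by
    intro g hg htop
    have hc : 2 * Nat.card (nrm (D.comp g)) = q * (q ^ 2 - 1) := by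
      rw [htop, Subgroup.card_top, hG]
    rw [hqq] at hc
    rcases D.dich g hg with hp | hcop
    · rw [hnrmU g hg hp] at hc
      have h1 : q * (q - 1) * 1 = q * (q - 1) * (q + 1) := by
        rw [mul_one, mul_assoc]; exact hc
      have hpos : 0 < q * (q - 1) := Nat.mul_pos (by omega) (by omega)
      have := Nat.eq_of_mul_eq_mul_left hpos h1
      omega
    · obtain ⟨h1, h2, -⟩ := hnrmT g hg hcop
      rw [h2] at hc
      have hq1 : (q - 1) * (q + 1) ≥ 4 * (q + 1) := Nat.mul_le_mul_right _ (by omega)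
      have hq2 : q * ((q - 1) * (q + 1)) ≥ 5 * ((q - 1) * (q + 1)) := Nat.mul_le_mul_right _ h5
      rcases h1 with h1 | h1
      · rw [h1] at hc; omega
      · rw [h1] at hc; omega
  have hmax : ∀ g, g ≠ 1 → M ≤ nrm (D.comp g) → M = nrm (D.comp g) := by
    intro g hg hle
    rcases (hM.le_iff).1 hle with h | h
    · exact absurd h (hproper g hg)
    · exact h.symm
  rcases D.outcome M with h1 | ⟨g, hg, hT, hle⟩ | ⟨g, hgH, hg, hT, hle, hcard⟩ | ⟨g, hg, hU, hle⟩ |
    ⟨h12, g, hgH, hg, hx, hn⟩ | ⟨h24, g, hgH, hg, hT, hx, hn⟩ | ⟨h60, hall, hrel⟩ |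
    ⟨g, hgH, hg, hU, k, hk2, hnk, hhk, hk, -⟩
  · -- trivial group
    exfalso
    have hnt : ∃ g : PSL2, g ≠ 1 := by
      by_contra hcon
      push Not at hcon
      have : Nat.card PSL2 ≤ 1 := by
        rw [Finite.card_le_one_iff_subsingleton]
        exact ⟨fun a b => by rw [hcon a, hcon b]⟩
      rw [hqq] at hG
      have hq1 : (q - 1) * (q + 1) ≥ 4 * (q + 1) := Nat.mul_le_mul_right _ (by omega)
      have hq2 : q * ((q - 1) * (q + 1)) ≥ 5 * ((q - 1) * (q + 1)) := Nat.mul_le_mul_right _ h5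
      omega
    obtain ⟨g, hg⟩ := hnt
    have hle : M ≤ nrm (D.comp g) := by rw [h1]; exact bot_le
    have h2 := hmax g hg hle
    rw [h1] at h2
    have h3 : g ∈ nrm (D.comp g) := Subgroup.le_normalizer (D.mem_comp g)
    rw [← h2, Subgroup.mem_bot] at h3
    exact hg h3
  · -- inside a torus
    exfalso
    have hle' : M ≤ nrm (D.comp g) := le_trans hle Subgroup.le_normalizer
    have h2 := hmax g hg hle'
    have h3 : D.comp g = nrm (D.comp g) :=
      le_antisymm Subgroup.le_normalizer (by rw [← h2]; exact hle)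
    obtain ⟨-, h4', -⟩ := hnrmT g hg hT
    rw [← h3] at h4'
    have hpos : 0 < Nat.card (D.comp g) := Nat.card_pos
    omega
  · -- normalizer of a torus
    have h2 := hmax g hg hle
    obtain ⟨h3, -, ⟨e⟩⟩ := hnrmT g hg hT
    have e0 : M ≃* nrm (D.comp g) := MulEquiv.subgroupCongr h2
    have hco : IsCoatom (nrm (D.comp g)) := by rw [← h2]; exact hM
    obtain ⟨hs1, hs2⟩ := dihedral_small (F := F) p hodd h5 g hg hT hco
    rcases h3 with h3 | h3
    · right; left
      exact ⟨hs1 h3, _, h3, ⟨e0.trans e⟩⟩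
    · right; right; left
      obtain ⟨ha, hb⟩ := hs2 h3
      exact ⟨ha, hb, _, h3, ⟨e0.trans e⟩⟩
  · -- Borel
    left
    rw [hmax g hg hle]
    exact hnrmU g hg hU
  · -- order 12
    exact case12 p hodd h5 M hM h12 g hgH hg hx hn
  · -- order 24
    exact case24 p hodd h5 M hM h24 g hgH hg hT hx hn
  · -- order 60
    exact case60 p hodd h5 M hM h60 hall hrel
  · -- two-transitive case
    apply concl_of_subfield
    have hyp : Cfsg.Agent.Lib.Helper19.TwoTrans.Hyp p (Nat.card (D.XH M g)) k M (D.XH M g) := by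
      refine ⟨inf_le_left, hU.to_le inf_le_right, rfl, ?_, ?_⟩
      · rw [← D.NH_eq M hg hgH, hnk]
      · rw [hhk]; ring
    have hP : 1 < Nat.card (D.XH M g) := by
      have : Nontrivial (D.XH M g) :=
        ⟨⟨⟨g, D.self_mem_XH M hgH⟩, 1, fun h => hg (by simpa using congrArg Subtype.val h)⟩⟩
      exact Finite.one_lt_card
    exact subfield_case_odd p hodd M hM (D.XH M g) _ k hyp hP hk

end

end Cfsg.Agent.Lib.Helper98.PSL2MaxOdd
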