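import Mathlib
import Cfsg.Agent.Lib.Helper98.PGL2A
import Cfsg.Agent.Lib.Helper98.PGL2B
import Cfsg.Agent.Lib.Helper98.PSL2MaxOddF

set_option autoImplicit false
set_option linter.unusedSimpArgs false
set_option linter.unusedSectionVars false
set_option linter.style.haveILetI false
set_option maxHeartbeats 800000

/-!
# `PGL₂(q)`, `q` odd: the subgroup `PSL₂(q)` and the Dickson structure (helper98)
-/

namespace Cfsg.Agent.Lib.Helper98.PGL2

open Matrix Cfsg.Agent.Lib.Helper48.Dickson Cfsg.Agent.Lib.Helper98.PSL2Max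
open Cfsg.Agent.Lib.Helper98.PSL2NF Cfsg.Agent.Lib.Helper19.TwoTrans

section
variable {F : Type*} [Field F] [Fintype F]

local notation "SL2" => Matrix.SpecialLinearGroup (Fin 2) F
local notation "PSL2" => Matrix.ProjectiveSpecialLinearGroup (Fin 2) F
local notation "PG" => Matrix.ProjGenLinGroup (Fin 2) F
local notation "toP" => (Matrix.ProjectiveSpecialLinearGroup.toPGL (n := Fin 2) (R := F))

theorem finite_PG : Finite PG := Finite.of_surjective _ Matrix.ProjGenLinGroup.mk_surjective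

attribute [local instance] finite_PG

/-- the image of `SL₂(F)` in `PGL₂(F)` -/
def LG : Subgroup PG := (Matrix.ProjGenLinGroup.mk.comp Matrix.SpecialLinearGroup.toGL).range

theorem LG_eq : (LG : Subgroup PG) = (toP).range := by
  ext x
  constructor
  · rintro ⟨B, rfl⟩
    exact ⟨QuotientGroup.mk B, rfl⟩
  · rintro ⟨b, rfl⟩
    obtain ⟨B, rfl⟩ := QuotientGroup.mk_surjective b
    exact ⟨B, rfl⟩

theorem toP_mem (a : PSL2) : toP a ∈ (LG : Subgroup PG) := by
  rw [LG_eq]; exact ⟨a, rfl⟩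

theorem toP_injective : Function.Injective (toP) :=
  Matrix.ProjectiveSpecialLinearGroup.toPGL_injective

theorem exists_of_mem_LG {x : PG} (hx : x ∈ (LG : Subgroup PG)) : ∃ a : PSL2, toP a = x := by
  rw [LG_eq] at hx; exact hx

theorem card_LG : Nat.card (LG : Subgroup PG) = Nat.card PSL2 := by
  rw [LG_eq]
  exact (Nat.card_congr (MonoidHom.ofInjective toP_injective).toEquiv).symm

theorem card_map_toP (S : Subgroup PSL2) : Nat.card (S.map toP) = Nat.card S :=
  Subgroup.card_map_of_injective toP_injective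

theorem index_LG (hodd : Odd (Fintype.card F)) : (LG : Subgroup PG).index = 2 := by
  have h1 := (LG : Subgroup PG).card_mul_index
  rw [card_LG, Cfsg.Agent.Lib.Helper98.DicksonMax.card_pgl2] at h1
  have h2 := Cfsg.Agent.Lib.Helper98.DicksonMax.card_psl2_odd (F := F) hodd
  have hpos : 0 < Nat.card PSL2 := Nat.card_pos
  have h3 : Nat.card PSL2 * (LG : Subgroup PG).index = Nat.card PSL2 * 2 := by
    rw [h1, ← h2]; ring
  exact Nat.eq_of_mul_eq_mul_left hpos h3

theorem normal_LG (hodd : Odd (Fintype.card F)) : (LG : Subgroup PG).Normal :=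
  Subgroup.normal_of_index_eq_two (index_LG hodd)

/-- a subgroup not inside `LG` meets it in a subgroup of index two -/
theorem card_eq_two_mul (hodd : Odd (Fintype.card F)) (X : Subgroup PG)
    (hX : ¬ X ≤ (LG : Subgroup PG)) : Nat.card X = 2 * Nat.card (X ⊓ LG : Subgroup PG) := by
  haveI := normal_LG (F := F) hodd
  have h1 : (LG : Subgroup PG).relIndex X ∣ 2 := by
    have := Subgroup.relIndex_dvd_index_of_normal (LG : Subgroup PG) X
    rwa [index_LG (F := F) hodd] at this
  have h2 : (LG : Subgroup PG).relIndex X ≠ 1 := by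
    intro h
    exact hX (Subgroup.relIndex_eq_one.1 h)
  have h3 : (LG : Subgroup PG).relIndex X = 2 := by
    rcases (Nat.dvd_prime Nat.prime_two).1 h1 with h | h
    · exact absurd h h2
    · exact h
  have h4 := ((LG : Subgroup PG).subgroupOf X).card_mul_index
  rw [show ((LG : Subgroup PG).subgroupOf X).index = (LG : Subgroup PG).relIndex X from rfl, h3] at h4
  rw [← h4, ← Subgroup.inf_subgroupOf_left, DStruct.card_subgroupOf_of_le X inf_le_left, mul_comm]

/-- the square of any element lies in `LG` -/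
theorem sq_mem_LG (hodd : Odd (Fintype.card F)) (x : PG) : x ^ 2 ∈ (LG : Subgroup PG) := by
  haveI := normal_LG (F := F) hodd
  have h1 : ((x : PG ⧸ (LG : Subgroup PG)) ^ 2) = 1 := by
    have h2 : Nat.card (PG ⧸ (LG : Subgroup PG)) = 2 := index_LG (F := F) hodd
    have h3 := pow_card_eq_one' (G := PG ⧸ (LG : Subgroup PG)) (x := (x : PG ⧸ (LG : Subgroup PG)))
    rwa [h2] at h3
  rw [← QuotientGroup.mk_pow, QuotientGroup.eq_one_iff] at h1
  exact h1

/-- elements of odd order lie in `LG` -/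
theorem mem_LG_of_odd (hodd : Odd (Fintype.card F)) (x : PG) (hx : Odd (orderOf x)) :
    x ∈ (LG : Subgroup PG) := by
  obtain ⟨m, hm⟩ := hx
  have h1 : x = (x ^ 2) ^ (m + 1) := by
    rw [← pow_mul]
    have : 2 * (m + 1) = orderOf x + 1 := by omega
    rw [this, pow_succ, pow_orderOf_eq_one, one_mul]
  rw [h1]
  exact Subgroup.pow_mem _ (sq_mem_LG hodd x) _

/-- conjugation by an element of `PGL₂` on the image of `PSL₂` -/
theorem conj_toP (P : GL (Fin 2) F) (a : PSL2) :
    Matrix.ProjGenLinGroup.mk P * toP a * (Matrix.ProjGenLinGroup.mk P)⁻¹ = toP (conjPSL P a) := by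
  obtain ⟨B, rfl⟩ := QuotientGroup.mk_surjective a
  rw [conjPSL_mk]
  show Matrix.ProjGenLinGroup.mk P * Matrix.ProjGenLinGroup.mk (Matrix.SpecialLinearGroup.toGL B) *
    (Matrix.ProjGenLinGroup.mk P)⁻¹ =
    Matrix.ProjGenLinGroup.mk (Matrix.SpecialLinearGroup.toGL (conjSL P B))
  rw [← map_inv, ← map_mul, ← map_mul]
  congr 1
  apply Units.ext
  rw [Matrix.SpecialLinearGroup.coe_GL_coe_matrix, conjSL_val]
  rfl


section dstr
variable (p : ℕ) [Fact p.Prime] [CharP F p]
variable {K : Type*} [Field K] [Fintype K] [CharP K p] (f : F →+* K)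
  (hsq : ∀ c : F, c ≠ 0 → IsSquare (f c))

/-- the Dickson structure on `PGL₂(F)` induced from `PSL₂(K)` -/
noncomputable def dPG : DStruct PG p :=
  pullback (dstruct (tPack (F := K) p) (uPack p)) (jbar f hsq) (jbar_injective f hsq)

theorem jbar_toP (B : SL2) :
    jbar f hsq (toP (QuotientGroup.mk B)) = QuotientGroup.mk (tau f 1 one_ne_zero B) := by
  show jbar f hsq (Matrix.ProjGenLinGroup.mk (Matrix.SpecialLinearGroup.toGL B)) = _
  rw [jbar_mk, jj_toGL]
  rfl

/-- compatibility of the components -/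
theorem toP_mem_comp_iff (a y : PSL2) :
    toP y ∈ (dPG p f hsq).comp (toP a) ↔ y ∈ (dstruct (tPack (F := F) p) (uPack p)).comp a := by
  obtain ⟨A, rfl⟩ := QuotientGroup.mk_surjective a
  obtain ⟨B, rfl⟩ := QuotientGroup.mk_surjective y
  show jbar f hsq (toP (QuotientGroup.mk B)) ∈ comp2 (jbar f hsq (toP (QuotientGroup.mk A))) ↔
    (QuotientGroup.mk B : PSL2) ∈ comp2 (QuotientGroup.mk A : PSL2)
  rw [jbar_toP, jbar_toP]
  have h1 := mem_comp2_iff (tau f 1 one_ne_zero A) (tau f 1 one_ne_zero B)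
  have h2 := mem_comp2_iff A B
  rw [show (QuotientGroup.mk (tau f 1 one_ne_zero B) :
    Matrix.ProjectiveSpecialLinearGroup (Fin 2) K) = mk2 (tau f 1 one_ne_zero B) from rfl,
    show (QuotientGroup.mk (tau f 1 one_ne_zero A) :
    Matrix.ProjectiveSpecialLinearGroup (Fin 2) K) = mk2 (tau f 1 one_ne_zero A) from rfl, h1,
    show (QuotientGroup.mk B : PSL2) = mk2 B from rfl,
    show (QuotientGroup.mk A : PSL2) = mk2 A from rfl, h2, ← map_mul, ← map_mul]
  exact (tau_injective f 1 one_ne_zero).eq_iff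

theorem toP_ne_one {a : PSL2} (ha : a ≠ 1) : toP a ≠ 1 := map_ne_one _ toP_injective ha

theorem comp_toP_eq_iff {a b : PSL2} (ha : a ≠ 1) (hb : b ≠ 1) :
    (dPG p f hsq).comp (toP b) = (dPG p f hsq).comp (toP a) ↔
      (dstruct (tPack (F := F) p) (uPack p)).comp b =
        (dstruct (tPack (F := F) p) (uPack p)).comp a := by
  set D := dstruct (tPack (F := F) p) (uPack p) with hD
  constructor
  · intro h
    have h1 : toP b ∈ (dPG p f hsq).comp (toP a) := by rw [← h]; exact (dPG p f hsq).mem_comp _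
    rw [toP_mem_comp_iff] at h1
    exact D.comp_eq a ha b h1 hb
  · intro h
    have h1 : b ∈ D.comp a := by rw [← h]; exact D.mem_comp _
    rw [← toP_mem_comp_iff p f hsq] at h1
    exact (dPG p f hsq).comp_eq _ (toP_ne_one ha) _ h1 (toP_ne_one hb)

/-- compatibility of the normalizers -/
theorem toP_mem_nrm_iff {a : PSL2} (ha : a ≠ 1) (y : PSL2) :
    toP y ∈ nrm ((dPG p f hsq).comp (toP a)) ↔
      y ∈ nrm ((dstruct (tPack (F := F) p) (uPack p)).comp a) := by
  rw [DStruct.mem_nrm_comp_iff _ (toP_ne_one ha), DStruct.mem_nrm_comp_iff _ ha, ← map_inv,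
    ← map_mul, ← map_mul]
  exact comp_toP_eq_iff p f hsq ha (DStruct.conj_ne_one ha)

/-- a component is of `p`-type iff its elements are `p`-elements -/
theorem isPGroup_comp_iff {G : Type*} [Group G] (D : DStruct G p) {g : G} (hg : g ≠ 1) :
    IsPGroup p (D.comp g) ↔ ∃ k : ℕ, g ^ p ^ k = 1 := by
  constructor
  · intro h
    obtain ⟨k, hk⟩ := h ⟨g, D.mem_comp g⟩
    exact ⟨k, by simpa using congrArg Subtype.val hk⟩
  · rintro ⟨k, hk⟩
    rcases D.dich g hg with h | h
    · exact h
    · exfalso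
      have h1 : (⟨g, D.mem_comp g⟩ : D.comp g) ^ p ^ k = 1 := Subtype.ext (by simpa using hk)
      have := elt_trivial _ k h1 h
      exact hg (congrArg Subtype.val this)

theorem isPGroup_comp_toP_iff {a : PSL2} (ha : a ≠ 1) :
    IsPGroup p ((dPG p f hsq).comp (toP a)) ↔
      IsPGroup p ((dstruct (tPack (F := F) p) (uPack p)).comp a) := by
  rw [isPGroup_comp_iff p _ (toP_ne_one ha), isPGroup_comp_iff p _ ha]
  constructor
  · rintro ⟨k, hk⟩
    exact ⟨k, toP_injective (by rw [map_pow, hk, map_one])⟩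
  · rintro ⟨k, hk⟩
    exact ⟨k, by rw [← map_pow, hk, map_one]⟩

/-- the part of a normalizer inside `LG` -/
theorem nrm_inf_LG {a : PSL2} (ha : a ≠ 1) :
    nrm ((dPG p f hsq).comp (toP a)) ⊓ LG =
      (nrm ((dstruct (tPack (F := F) p) (uPack p)).comp a)).map toP := by
  ext x
  rw [Subgroup.mem_inf]
  constructor
  · rintro ⟨h1, h2⟩
    obtain ⟨y, rfl⟩ := exists_of_mem_LG h2
    rw [toP_mem_nrm_iff p f hsq ha] at h1
    exact ⟨y, h1, rfl⟩
  · rintro ⟨y, hy, rfl⟩
    exact ⟨(toP_mem_nrm_iff p f hsq ha y).2 hy, toP_mem y⟩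

theorem comp_inf_LG (a : PSL2) :
    (dPG p f hsq).comp (toP a) ⊓ LG =
      ((dstruct (tPack (F := F) p) (uPack p)).comp a).map toP := by
  ext x
  rw [Subgroup.mem_inf]
  constructor
  · rintro ⟨h1, h2⟩
    obtain ⟨y, rfl⟩ := exists_of_mem_LG h2
    rw [toP_mem_comp_iff] at h1
    exact ⟨y, h1, rfl⟩
  · rintro ⟨y, hy, rfl⟩
    exact ⟨(toP_mem_comp_iff p f hsq a y).2 hy, toP_mem y⟩

end dstr

end

end Cfsg.Agent.Lib.Helper98.PGL2
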