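import Mathlib

set_option autoImplicit false
set_option linter.unusedSimpArgs false
set_option linter.unusedSectionVars false
set_option linter.style.haveILetI false
set_option maxHeartbeats 800000

/-!
# Generic lemmas on finite groups used for the maximal subgroups of `PGL₂(q)` (helper98)
-/

namespace Cfsg.Agent.Lib.Helper98.PGL2

section generic
variable {G : Type*} [Group G] [Finite G]

/-- a maximal subgroup which is a `2`-group is a Sylow `2`-subgroup -/
theorem two_group_coatom (M : Subgroup G) (hM : IsCoatom M) (h2 : IsPGroup 2 M)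
    (hG : ¬ IsPGroup 2 G) (k : ℕ) (hk : 2 ^ k ∣ Nat.card G) : 2 ^ k ∣ Nat.card M := by
  haveI : Fact (Nat.Prime 2) := ⟨Nat.prime_two⟩
  obtain ⟨P, hP⟩ := h2.exists_le_sylow
  have hPtop : (P : Subgroup G) ≠ ⊤ := by
    intro h
    apply hG
    have := P.2
    rw [h] at this
    exact IsPGroup.of_equiv this Subgroup.topEquiv
  rcases (hM.le_iff).1 hP with h | h
  · exact absurd h hPtop
  · rw [← h]
    exact P.pow_dvd_card_of_pow_dvd_card hk

/-- the alternating groups have no subgroup of index two -/
theorem alt_no_index_two (n : ℕ) (N : Subgroup (alternatingGroup (Fin n))) (h : N.index = 2) :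
    False := by
  have htop : N = ⊤ := by
    rw [eq_top_iff, ← alternatingGroup.closure_isThreeCycles_eq_top, Subgroup.closure_le]
    intro g hg
    have h3 : g ^ 3 = 1 := by
      apply Subtype.ext
      have := hg.orderOf
      rw [Subgroup.coe_pow, Subgroup.coe_one, ← this]
      exact pow_orderOf_eq_one _
    have h2 : g ^ 2 ∈ N := Subgroup.sq_mem_of_index_two h g
    have h4 : g = (g ^ 2) ^ 2 := by
      rw [← pow_mul]
      calc g = g ^ 3 * g := by rw [h3, one_mul]
        _ = g ^ (2 * 2) := by rw [← pow_succ]
    rw [SetLike.mem_coe, h4]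
    exact Subgroup.pow_mem _ h2 _
  rw [htop, Subgroup.index_top] at h
  omega

theorem iso_alt_no_index_two {H : Type*} [Group H] (n : ℕ) (e : H ≃* alternatingGroup (Fin n))
    (N : Subgroup H) (h : N.index = 2) : False := by
  apply alt_no_index_two n (N.map e.toMonoidHom)
  rw [Subgroup.index_map_of_bijective e.bijective]
  exact h

/-- Burnside's transfer theorem: an abelian self-normalizing Sylow subgroup of a simple group -/
theorem burnside_contra [IsSimpleGroup G] (P : Sylow 2 G)
    (hcomm : ∀ a ∈ (P : Subgroup G), ∀ b ∈ (P : Subgroup G), a * b = b * a)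
    (hN : Subgroup.normalizer ((P : Subgroup G) : Set G) ≤ P) (h1 : (P : Subgroup G) ≠ ⊥)
    (h2 : (P : Subgroup G) ≠ ⊤) : False := by
  haveI : Fact (Nat.Prime 2) := ⟨Nat.prime_two⟩
  have hP : Subgroup.normalizer ((P : Subgroup G) : Set G) ≤
      Subgroup.centralizer ((P : Subgroup G) : Set G) := by
    intro x hx
    rw [Subgroup.mem_centralizer_iff]
    intro y hy
    exact hcomm y hy x (hN hx)
  have hc := MonoidHom.ker_transferSylow_isComplement' P hP
  have hcard := hc.card_mul_card
  rcases (MonoidHom.normal_ker (MonoidHom.transferSylow P hP)).eq_bot_or_eq_top with h | h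
  · rw [h, Subgroup.card_bot, one_mul] at hcard
    exact h2 ((Subgroup.card_eq_iff_eq_top _).1 hcard)
  · rw [h, Subgroup.card_top] at hcard
    have hpos : 0 < Nat.card G := Nat.card_pos
    have : Nat.card (P : Subgroup G) = 1 := by
      have h3 : Nat.card G * Nat.card (P : Subgroup G) = Nat.card G * 1 := by rw [hcard, mul_one]
      exact Nat.eq_of_mul_eq_mul_left hpos h3
    exact h1 (Subgroup.card_eq_one.1 this)

end generic

end Cfsg.Agent.Lib.Helper98.PGL2
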