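import Mathlib
import Cfsg.Agent.Lib.Helper98.PGL2C
import Cfsg.Agent.Lib.Helper98.PGL2D

set_option autoImplicit false
set_option linter.unusedSimpArgs false
set_option linter.unusedSectionVars false
set_option linter.style.haveILetI false
set_option maxHeartbeats 1600000

/-!
# Subfield subgroups of `PGL₂(q)` (helper98)
-/

namespace Cfsg.Agent.Lib.Helper98.PGL2

open Matrix Cfsg.Agent.Lib.Helper48.Dickson Cfsg.Agent.Lib.Helper98.PSL2Max
open Cfsg.Agent.Lib.Helper98.PSL2NF Cfsg.Agent.Lib.Helper19.TwoTrans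

section
variable {F : Type*} [Field F]

local notation "SL2" => Matrix.SpecialLinearGroup (Fin 2) F
local notation "PSL2" => Matrix.ProjectiveSpecialLinearGroup (Fin 2) F
local notation "PG" => Matrix.ProjGenLinGroup (Fin 2) F
local notation "toP" => (Matrix.ProjectiveSpecialLinearGroup.toPGL (n := Fin 2) (R := F))

variable {F₀ : Type*} [Field F₀] (φ : F₀ →+* F)

/-- the map `GL₂(F₀) → PGL₂(F)` -/
noncomputable def xkHom : GL (Fin 2) F₀ →* PG :=
  (Matrix.ProjGenLinGroup.mk).comp (Matrix.GeneralLinearGroup.map φ)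

/-- the subfield subgroup `PGL₂(F₀)` of `PGL₂(F)` -/
noncomputable def XKf : Subgroup PG := (xkHom φ).range

theorem xkHom_ker : (xkHom φ).ker = Subgroup.center (GL (Fin 2) F₀) := by
  ext A
  rw [MonoidHom.mem_ker]
  show Matrix.ProjGenLinGroup.mk (Matrix.GeneralLinearGroup.map φ A) = 1 ↔ _
  rw [Matrix.ProjGenLinGroup.mk_eq_one, Matrix.GeneralLinearGroup.center_eq_range_scalar,
    Matrix.GeneralLinearGroup.center_eq_range_scalar, MonoidHom.mem_range, MonoidHom.mem_range]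
  constructor
  · rintro ⟨u, hu⟩
    have hM : ∀ i j, φ ((A : Matrix (Fin 2) (Fin 2) F₀) i j) =
        (Matrix.scalar (Fin 2) (u : F)) i j := by
      intro i j
      have := congrArg (fun Z : GL (Fin 2) F => (Z : Matrix (Fin 2) (Fin 2) F) i j) hu
      simp only [Matrix.GeneralLinearGroup.coe_scalar] at this
      rw [this]
      rfl
    have h01 : (A : Matrix (Fin 2) (Fin 2) F₀) 0 1 = 0 := by
      apply φ.injective
      rw [hM 0 1, map_zero]; simp
    have h10 : (A : Matrix (Fin 2) (Fin 2) F₀) 1 0 = 0 := by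
      apply φ.injective
      rw [hM 1 0, map_zero]; simp
    have h11 : (A : Matrix (Fin 2) (Fin 2) F₀) 1 1 = (A : Matrix (Fin 2) (Fin 2) F₀) 0 0 := by
      apply φ.injective
      rw [hM 1 1, hM 0 0]; simp
    have h00 : (A : Matrix (Fin 2) (Fin 2) F₀) 0 0 ≠ 0 := by
      intro h
      apply gl_det_ne_zero A
      rw [Matrix.det_fin_two, h01, h10, h11, h]
      ring
    refine ⟨Units.mk0 _ h00, ?_⟩
    apply Units.ext
    rw [Matrix.GeneralLinearGroup.coe_scalar]
    ext i j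
    fin_cases i <;> fin_cases j <;> simp [h01, h10, h11]
  · rintro ⟨u, rfl⟩
    refine ⟨Units.map φ.toMonoidHom u, ?_⟩
    apply Units.ext
    ext i j
    fin_cases i <;> fin_cases j <;> simp [Matrix.GeneralLinearGroup.coe_scalar]

/-- `XKf φ` is a copy of `PGL₂(F₀)` -/
noncomputable def xkIso : Matrix.ProjGenLinGroup (Fin 2) F₀ ≃* XKf φ :=
  ((QuotientGroup.quotientMulEquivOfEq (xkHom_ker φ)).symm).trans
    (QuotientGroup.quotientKerEquivRange (xkHom φ))

/-- membership criterion -/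
theorem mem_XKf_of_entries (Z : GL (Fin 2) F)
    (h : ∀ i j, ∃ c : F₀, φ c = (Z : Matrix (Fin 2) (Fin 2) F) i j) :
    Matrix.ProjGenLinGroup.mk Z ∈ XKf φ := by
  choose c hc using h
  have hdet : (Matrix.of c : Matrix (Fin 2) (Fin 2) F₀).det ≠ 0 := by
    intro h0
    apply gl_det_ne_zero Z
    have : (Z : Matrix (Fin 2) (Fin 2) F) = (Matrix.of c).map φ := by
      ext i j
      simp [hc]
    rw [this, ← RingHom.mapMatrix_apply, ← RingHom.map_det, h0, map_zero]
  refine ⟨Matrix.GeneralLinearGroup.mkOfDetNeZero (Matrix.of c) hdet, ?_⟩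
  show Matrix.ProjGenLinGroup.mk _ = _
  congr 1
  apply Units.ext
  ext i j
  simp [hc]

theorem toP_mem_XKf (B : SL2) (h : ∀ i j, ∃ c : F₀, φ c = B.1 i j) :
    toP (QuotientGroup.mk B) ∈ XKf φ :=
  mem_XKf_of_entries φ (Matrix.SpecialLinearGroup.toGL B) h

/-- if the subfield subgroup is everything then the subfield is everything -/
theorem XKf_eq_top (h : XKf φ = ⊤) (x : F) : ∃ c : F₀, φ c = x := by
  have hdet : (!![1, x; 0, 1] : Matrix (Fin 2) (Fin 2) F).det ≠ 0 := by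
    simp [Matrix.det_fin_two_of]
  have h1 : Matrix.ProjGenLinGroup.mk
      (Matrix.GeneralLinearGroup.mkOfDetNeZero (!![1, x; 0, 1] : Matrix (Fin 2) (Fin 2) F) hdet) ∈
      XKf φ := by rw [h]; trivial
  obtain ⟨A, hA⟩ := h1
  have hA' : Matrix.ProjGenLinGroup.mk (Matrix.GeneralLinearGroup.map φ A) =
      Matrix.ProjGenLinGroup.mk
      (Matrix.GeneralLinearGroup.mkOfDetNeZero (!![1, x; 0, 1] : Matrix (Fin 2) (Fin 2) F) hdet) := hA
  rw [Matrix.ProjGenLinGroup.mk_eq_mk_iff] at hA'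
  obtain ⟨u, hu⟩ := hA'
  have e00 := congrArg (fun Z : GL (Fin 2) F => (Z : Matrix (Fin 2) (Fin 2) F) 0 0) hu
  have e01 := congrArg (fun Z : GL (Fin 2) F => (Z : Matrix (Fin 2) (Fin 2) F) 0 1) hu
  simp [Matrix.GeneralLinearGroup.coe_scalar, Matrix.mul_apply, Fin.sum_univ_two] at e00 e01
  have hu0 : (u : F) ≠ 0 := u.ne_zero
  have ha0 : φ ((A : Matrix (Fin 2) (Fin 2) F₀) 0 0) ≠ 0 := by
    intro h0
    rw [h0, zero_mul] at e00
    exact zero_ne_one e00
  refine ⟨(A : Matrix (Fin 2) (Fin 2) F₀) 0 1 / (A : Matrix (Fin 2) (Fin 2) F₀) 0 0, ?_⟩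
  rw [map_div₀, ← e01, div_eq_iff ha0]
  calc φ ((A : Matrix (Fin 2) (Fin 2) F₀) 0 1)
      = φ ((A : Matrix (Fin 2) (Fin 2) F₀) 0 1) * (φ ((A : Matrix (Fin 2) (Fin 2) F₀) 0 0) * u) := by
        rw [e00, mul_one]
    _ = _ := by ring

end

end Cfsg.Agent.Lib.Helper98.PGL2
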