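import Mathlib
import Cfsg.Agent.Lib.Helper98.PGL2E

set_option autoImplicit false
set_option linter.unusedSimpArgs false
set_option linter.unusedSectionVars false
set_option linter.style.haveILetI false
set_option maxHeartbeats 1600000

/-!
# The `S₄` case for `PGL₂(q)` (helper98)
-/

namespace Cfsg.Agent.Lib.Helper98.PGL2

open Matrix Cfsg.Agent.Lib.Helper48.Dickson Cfsg.Agent.Lib.Helper98.PSL2Max
open Cfsg.Agent.Lib.Helper98.PSL2NF Cfsg.Agent.Lib.Helper19.TwoTrans
open Cfsg.Agent.Lib.Helper98.PSL2MaxOdd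

section
variable {F : Type*} [Field F] [Fintype F]

local notation "SL2" => Matrix.SpecialLinearGroup (Fin 2) F
local notation "PSL2" => Matrix.ProjectiveSpecialLinearGroup (Fin 2) F
local notation "PG" => Matrix.ProjGenLinGroup (Fin 2) F
local notation "toP" => (Matrix.ProjectiveSpecialLinearGroup.toPGL (n := Fin 2) (R := F))

attribute [local instance] finite_PG

/-- elements of `LG` have square determinant -/
theorem det_isSquare_of_mk_mem_LG (Z : GL (Fin 2) F)
    (h : Matrix.ProjGenLinGroup.mk Z ∈ (LG : Subgroup PG)) :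
    IsSquare (Z : Matrix (Fin 2) (Fin 2) F).det := by
  obtain ⟨B, hB⟩ := h
  have hB' : Matrix.ProjGenLinGroup.mk (Matrix.SpecialLinearGroup.toGL B) =
      Matrix.ProjGenLinGroup.mk Z := hB
  rw [Matrix.ProjGenLinGroup.mk_eq_mk_iff] at hB'
  obtain ⟨u, hu⟩ := hB'
  have h1 := congrArg (fun W : GL (Fin 2) F => (W : Matrix (Fin 2) (Fin 2) F).det) hu
  simp only [Units.val_mul, Matrix.det_mul, Matrix.SpecialLinearGroup.coe_GL_coe_matrix,
    Matrix.GeneralLinearGroup.coe_scalar] at h1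
  rw [B.2, one_mul] at h1
  refine ⟨(u : F), ?_⟩
  rw [← h1]
  simp [Matrix.det_fin_two]
  ring

/-- conjugation in a finite group: inclusion of the conjugate suffices for normalizing -/
theorem mem_normalizer_of_conj_le {G : Type*} [Group G] [Finite G] (C : Subgroup G) (z : G)
    (h : ∀ c ∈ C, z * c * z⁻¹ ∈ C) : z ∈ Subgroup.normalizer (C : Set G) := by
  have hle : C.map (MulAut.conj z).toMonoidHom ≤ C := by
    rintro _ ⟨c, hc, rfl⟩
    exact h c hc
  have heq : C.map (MulAut.conj z).toMonoidHom = C :=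
    DStruct.eq_of_card_eq hle (Subgroup.card_map_of_injective (MulAut.conj z).injective)
  rw [Subgroup.mem_normalizer_iff]
  intro c
  constructor
  · exact h c
  · intro hc
    rw [← heq] at hc
    obtain ⟨c', hc', hcc'⟩ := hc
    have : c' = c := by
      have h1 : z * c' * z⁻¹ = z * c * z⁻¹ := hcc'
      exact mul_left_cancel (mul_right_cancel h1)
    rw [← this]; exact hc'


theorem mem_normalizer_closure_pair {G : Type*} [Group G] [Finite G] (x y z : G)
    (hx : z * x * z⁻¹ ∈ Subgroup.closure ({x, y} : Set G))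
    (hy : z * y * z⁻¹ ∈ Subgroup.closure ({x, y} : Set G)) :
    z ∈ Subgroup.normalizer ((Subgroup.closure ({x, y} : Set G) : Subgroup G) : Set G) := by
  apply mem_normalizer_of_conj_le
  intro c hc
  have hle : Subgroup.closure ({x, y} : Set G) ≤
      (Subgroup.closure ({x, y} : Set G)).comap (MulAut.conj z).toMonoidHom := by
    rw [Subgroup.closure_le]
    rintro w (rfl | rfl)
    · exact hx
    · exact hy
  exact hle hc

theorem conj_aux {G : Type*} [Group G] (c ζ x y x₁ y₁ : G) (hcx : c * x * c⁻¹ = x₁)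
    (hcy : c * y * c⁻¹ = y₁) (hzx : ζ * x₁ * ζ⁻¹ = x₁) (hzy : ζ * y₁ * ζ⁻¹ = x₁ * y₁⁻¹) :
    (c⁻¹ * ζ * c) * x * (c⁻¹ * ζ * c)⁻¹ = x ∧ (c⁻¹ * ζ * c) * y * (c⁻¹ * ζ * c)⁻¹ = x * y⁻¹ := by
  constructor
  · have h1 : (c⁻¹ * ζ * c) * x * (c⁻¹ * ζ * c)⁻¹ = c⁻¹ * (ζ * (c * x * c⁻¹) * ζ⁻¹) * c := by group
    rw [h1, hcx, hzx, ← hcx]; group
  · have h1 : (c⁻¹ * ζ * c) * y * (c⁻¹ * ζ * c)⁻¹ = c⁻¹ * (ζ * (c * y * c⁻¹) * ζ⁻¹) * c := by group
    rw [h1, hcy, hzy, ← hcx, ← hcy]; group

open Cfsg.Agent.Lib.Helper98.PSL2Perm in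
theorem card_closure_s4xy :
    Nat.card (Subgroup.closure ({s4x, s4y} : Set (Equiv.Perm (Fin 4)))) = 12 := by
  have h : Subgroup.closure ({s4x, s4y} : Set (Equiv.Perm (Fin 4))) =
      (Subgroup.closure ({a4x, a4y} : Set (alternatingGroup (Fin 4)))).map
        (alternatingGroup (Fin 4)).subtype := by
    rw [MonoidHom.map_closure, Set.image_pair]
    rfl
  rw [h, a4_closure, Subgroup.card_map_of_injective (Subgroup.subtype_injective _),
    Subgroup.card_top, card_A4']

theorem zmat_comm : (!![1, -1; 1, 1] : Matrix (Fin 2) (Fin 2) F) * xMat 1 =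
    xMat 1 * !![1, -1; 1, 1] := by
  ext i j
  fin_cases i <;> fin_cases j <;> simp [xMat, Matrix.mul_apply, Fin.sum_univ_two]

theorem zmat_y (u w : F) : (!![1, -1; 1, 1] : Matrix (Fin 2) (Fin 2) F) * yMat 1 (-1) (-1) u w =
    -(xMat 1 * Matrix.adjugate (yMat 1 (-1) (-1) u w)) * !![1, -1; 1, 1] := by
  ext i j
  fin_cases i <;> fin_cases j <;>
    simp [xMat, yMat, Matrix.mul_apply, Fin.sum_univ_two, Matrix.adjugate_fin_two] <;> ring


section s4
variable (p : ℕ) [Fact p.Prime] [CharP F p]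

open Cfsg.Agent.Lib.Helper98.PSL2Perm in
theorem s4_prime (hodd : Odd (Fintype.card F)) (hp5 : 5 ≤ p) (h2ns : ¬ IsSquare (2 : F))
    (M : Subgroup PG) (hM : IsCoatom M) (hMLG : ¬ M ≤ (LG : Subgroup PG))
    (hSN : Subgroup.normalizer ((M ⊓ LG : Subgroup PG) : Set PG) = M)
    (e : M ≃* Equiv.Perm (Fin 4)) : (Fintype.card F).Prime := by
  classical
  have pp : p.Prime := Fact.out
  haveI hLGn := normal_LG (F := F) hodd
  have hMc : Nat.card M = 24 := by
    rw [Nat.card_congr e.toEquiv, Nat.card_eq_fintype_card, Fintype.card_perm, Fintype.card_fin]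
    rfl
  have hMLc : Nat.card (M ⊓ LG : Subgroup PG) = 12 := by
    have := card_eq_two_mul hodd M hMLG
    omega
  have h2 : (2 : F) ≠ 0 := by
    intro h
    apply h2ns
    rw [h]
    exact ⟨0, by ring⟩
  -- elements
  set xm : M := e.symm s4x with hxm
  set ym : M := e.symm s4y with hym
  have hxo : orderOf xm = 2 := by rw [hxm, MulEquiv.orderOf_eq]; exact s4x_order
  have hyo : orderOf ym = 3 := by rw [hym, MulEquiv.orderOf_eq]; exact s4y_order
  have hxyo : orderOf (xm * ym) = 3 := by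
    rw [hxm, hym, ← map_mul, MulEquiv.orderOf_eq]; exact s4xy_order
  have hxo' : orderOf (xm : PG) = 2 := by rw [Subgroup.orderOf_coe]; exact hxo
  have hyo' : orderOf (ym : PG) = 3 := by rw [Subgroup.orderOf_coe]; exact hyo
  have hxyo' : orderOf ((xm : PG) * (ym : PG)) = 3 := by
    rw [← Subgroup.coe_mul, Subgroup.orderOf_coe]; exact hxyo
  have hyL : (ym : PG) ∈ (LG : Subgroup PG) := mem_LG_of_odd hodd _ (by rw [hyo']; decide)
  have hxyL : (xm : PG) * (ym : PG) ∈ (LG : Subgroup PG) :=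
    mem_LG_of_odd hodd _ (by rw [hxyo']; decide)
  have hxL : (xm : PG) ∈ (LG : Subgroup PG) := by
    have : (xm : PG) = (xm : PG) * (ym : PG) * (ym : PG)⁻¹ := by group
    rw [this]
    exact Subgroup.mul_mem _ hxyL (Subgroup.inv_mem _ hyL)
  obtain ⟨x₀, hx₀⟩ := exists_of_mem_LG hxL
  obtain ⟨y₀, hy₀⟩ := exists_of_mem_LG hyL
  have hx₀o : orderOf x₀ = 2 := by
    rw [← orderOf_injective toP toP_injective x₀, hx₀]; exact hxo'
  have hy₀o : orderOf y₀ = 3 := by
    rw [← orderOf_injective toP toP_injective y₀, hy₀]; exact hyo'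
  have hxy₀o : orderOf (x₀ * y₀) = 3 := by
    rw [← orderOf_injective toP toP_injective (x₀ * y₀), map_mul, hx₀, hy₀]; exact hxyo'
  obtain ⟨X₀, Y₀, hX₀, hY₀, htX, htY, htXY⟩ := lift233 x₀ y₀ hx₀o hy₀o hxy₀o
  -- the circle over the prime field
  let φ : ZMod p →+* F := ZMod.castHom (dvd_refl p) F
  have h2' : (2 : ZMod p) ≠ 0 := by
    intro h
    apply h2
    have := congrArg φ h
    rw [map_ofNat, map_zero] at this
    exact this
  obtain ⟨u, w, huw⟩ := exists_circle h2' (1 : ZMod p) (((-1) ^ 2 + (-1) ^ 2) / 4 - 1) one_ne_zero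
  have h4 : (4 : F) ≠ 0 := by
    have : (4 : F) = 2 * 2 := by norm_num
    rw [this]; exact mul_ne_zero h2 h2
  have hc : (φ u) ^ 2 + (1 : F) ^ 2 * (φ w) ^ 2 =
      ((Matrix.trace Y₀.1) ^ 2 + (Matrix.trace (X₀.1 * Y₀.1)) ^ 2) / 4 - 1 := by
    rw [htY, htXY]
    have := congrArg φ huw
    simp only [map_add, map_mul, map_pow, map_one, map_sub, map_div₀, map_neg, map_ofNat] at this
    rw [one_pow]
    exact this
  have hρ : ((Matrix.trace Y₀.1) ^ 2 + (Matrix.trace (X₀.1 * Y₀.1)) ^ 2) / 4 - 1 ≠ 0 := by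
    rw [htY, htXY]
    intro h
    field_simp at h
    apply h2
    linear_combination -h
  obtain ⟨P, hPX, hPY⟩ := nf h2 X₀ Y₀ 1 (φ u) (φ w) one_ne_zero htX hc hρ
  rw [htY, htXY] at hPY
  set X₁ : SL2 := conjSL P X₀ with hX₁
  set Y₁ : SL2 := conjSL P Y₀ with hY₁
  have hX₁v : X₁.1 = xMat 1 := by
    rw [hX₁, conjSL_val, hPX, mul_assoc, Units.mul_inv, mul_one]
  have hY₁v : Y₁.1 = yMat 1 (-1) (-1) (φ u) (φ w) := by
    rw [hY₁, conjSL_val, hPY, mul_assoc, Units.mul_inv, mul_one]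
  set c : PG := Matrix.ProjGenLinGroup.mk P with hc'
  set x₁ : PG := toP (QuotientGroup.mk X₁) with hx₁
  set y₁ : PG := toP (QuotientGroup.mk Y₁) with hy₁
  have hcx : c * (xm : PG) * c⁻¹ = x₁ := by
    rw [← hx₀, ← hX₀, hc', conj_toP, conjPSL_mk]
  have hcy : c * (ym : PG) * c⁻¹ = y₁ := by
    rw [← hy₀, ← hY₀, hc', conj_toP, conjPSL_mk]
  -- the extra element
  have hZdet : (!![1, -1; 1, 1] : Matrix (Fin 2) (Fin 2) F).det ≠ 0 := by
    rw [Matrix.det_fin_two_of]
    intro h
    apply h2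
    linear_combination h
  set Z₁ : GL (Fin 2) F := Matrix.GeneralLinearGroup.mkOfDetNeZero _ hZdet with hZ₁
  have hZ₁v : (Z₁ : Matrix (Fin 2) (Fin 2) F) = !![1, -1; 1, 1] := rfl
  set ζ : PG := Matrix.ProjGenLinGroup.mk Z₁ with hζ
  have hzx : ζ * x₁ * ζ⁻¹ = x₁ := by
    rw [hζ, hx₁, conj_toP, conjPSL_mk]
    congr 2
    apply conjSL_eq_of
    rw [hZ₁v, hX₁v]
    exact zmat_comm
  have hzy : ζ * y₁ * ζ⁻¹ = x₁ * y₁⁻¹ := by
    rw [hζ, hy₁, hx₁, conj_toP, conjPSL_mk, ← map_inv, ← map_mul, ← QuotientGroup.mk_inv,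
      ← QuotientGroup.mk_mul, ← Cfsg.Agent.S0807.mk_neg (X₁ * Y₁⁻¹)]
    congr 2
    apply conjSL_eq_of
    rw [hZ₁v, Matrix.SpecialLinearGroup.coe_neg, Matrix.SpecialLinearGroup.coe_mul,
      Matrix.SpecialLinearGroup.coe_inv, hX₁v, hY₁v]
    exact zmat_y _ _
  set z : PG := c⁻¹ * ζ * c with hz
  obtain ⟨hz1, hz2⟩ := conj_aux c ζ (xm : PG) (ym : PG) x₁ y₁ hcx hcy hzx hzy
  rw [← hz] at hz1 hz2
  -- the closure
  set C : Subgroup PG := Subgroup.closure ({(xm : PG), (ym : PG)} : Set PG) with hC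
  have hCle : C ≤ (M ⊓ LG : Subgroup PG) := by
    rw [hC, Subgroup.closure_le]
    rintro w (rfl | rfl)
    · exact ⟨xm.2, hxL⟩
    · exact ⟨ym.2, hyL⟩
  have hCcard : Nat.card C = 12 := by
    have h : C = (Subgroup.closure ({s4x, s4y} : Set (Equiv.Perm (Fin 4)))).map
        (M.subtype.comp e.symm.toMonoidHom) := by
      rw [MonoidHom.map_closure, Set.image_pair]
      rfl
    rw [h, Subgroup.card_map_of_injective, card_closure_s4xy]
    exact (Subgroup.subtype_injective M).comp e.symm.injective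
  have hCeq : C = (M ⊓ LG : Subgroup PG) :=
    DStruct.eq_of_card_eq hCle (by rw [hCcard, hMLc])
  have hxC : (xm : PG) ∈ C := Subgroup.subset_closure (by simp)
  have hyC : (ym : PG) ∈ C := Subgroup.subset_closure (by simp)
  have hzM : z ∈ M := by
    rw [← hSN, ← hCeq]
    apply mem_normalizer_closure_pair
    · rw [hz1]; exact hxC
    · rw [hz2]; exact Subgroup.mul_mem _ hxC (Subgroup.inv_mem _ hyC)
  have hzL : z ∉ (LG : Subgroup PG) := by
    intro h
    have h1 : ζ ∈ (LG : Subgroup PG) := by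
      have : ζ = c * z * c⁻¹ := by rw [hz]; group
      rw [this]
      exact hLGn.conj_mem _ h _
    have h3 := det_isSquare_of_mk_mem_LG Z₁ h1
    rw [hZ₁v, Matrix.det_fin_two_of] at h3
    apply h2ns
    have : (2 : F) = 1 * 1 - -1 * 1 := by ring
    rw [this]; exact h3
  -- the subfield subgroup
  set X' : Subgroup PG := (XKf φ).comap (MulAut.conj c).toMonoidHom with hX'
  have hmemX' : ∀ g : PG, g ∈ X' ↔ c * g * c⁻¹ ∈ XKf φ := fun g => Iff.rfl
  have hx₁X : x₁ ∈ XKf φ := by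
    apply toP_mem_XKf
    intro i j
    rw [hX₁v]
    fin_cases i <;> fin_cases j
    · exact ⟨0, by simp [xMat]⟩
    · exact ⟨-1, by simp [xMat]⟩
    · exact ⟨1, by simp [xMat]⟩
    · exact ⟨0, by simp [xMat]⟩
  have hy₁X : y₁ ∈ XKf φ := by
    apply toP_mem_XKf
    intro i j
    rw [hY₁v]
    fin_cases i <;> fin_cases j
    · exact ⟨-1 / 2 + u, by simp [yMat, map_ofNat]⟩
    · exact ⟨1 ^ 2 * w + 1 * (-1) / 2, by simp [yMat, map_ofNat]⟩
    · exact ⟨w - (-1) / (2 * 1), by simp [yMat, map_ofNat]⟩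
    · exact ⟨-1 / 2 - u, by simp [yMat, map_ofNat]⟩
  have hζX : ζ ∈ XKf φ := by
    apply mem_XKf_of_entries
    intro i j
    rw [hZ₁v]
    fin_cases i <;> fin_cases j
    · exact ⟨1, by simp⟩
    · exact ⟨-1, by simp⟩
    · exact ⟨1, by simp⟩
    · exact ⟨1, by simp⟩
  have hxX' : (xm : PG) ∈ X' := by rw [hmemX', hcx]; exact hx₁X
  have hyX' : (ym : PG) ∈ X' := by rw [hmemX', hcy]; exact hy₁X
  have hzX' : z ∈ X' := by
    rw [hmemX']
    have : c * z * c⁻¹ = ζ := by rw [hz]; group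
    rw [this]; exact hζX
  have hCX' : C ≤ X' := by
    rw [hC, Subgroup.closure_le]
    rintro w (rfl | rfl)
    · exact hxX'
    · exact hyX'
  have hMX' : M ≤ X' := by
    intro m hm
    by_cases hmL : m ∈ (LG : Subgroup PG)
    · exact hCX' (by rw [hCeq]; exact ⟨hm, hmL⟩)
    · have h1 : z⁻¹ * m ∈ (LG : Subgroup PG) := by
        rw [Subgroup.mul_mem_iff_of_index_two (index_LG (F := F) hodd), Subgroup.inv_mem_iff]
        exact ⟨fun h => absurd h hzL, fun h => absurd h hmL⟩
      have h3 : z⁻¹ * m ∈ X' :=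
        hCX' (by rw [hCeq]; exact ⟨M.mul_mem (M.inv_mem hzM) hm, h1⟩)
      have : m = z * (z⁻¹ * m) := by group
      rw [this]
      exact X'.mul_mem hzX' h3
  have hX'card : Nat.card X' = p * (p ^ 2 - 1) := by
    have h1 : X' = (XKf φ).map (MulAut.conj c).symm.toMonoidHom := by
      ext g
      rw [hmemX']
      constructor
      · intro h
        exact ⟨c * g * c⁻¹, h, by simp [MulAut.conj_symm_apply]; group⟩
      · rintro ⟨g', hg', rfl⟩
        have : c * (MulAut.conj c).symm.toMonoidHom g' * c⁻¹ = g' := by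
          simp [MulAut.conj_symm_apply]; group
        rw [this]; exact hg'
    rw [h1, Subgroup.card_map_of_injective (MulAut.conj c).symm.injective,
      ← Nat.card_congr (xkIso φ).toEquiv, Cfsg.Agent.Lib.Helper98.DicksonMax.card_pgl2, ZMod.card]
  rcases (hM.le_iff).1 hMX' with h | h
  · -- the subfield is everything
    have htop : XKf φ = ⊤ := by
      rw [eq_top_iff]
      intro g _
      have h1 : c⁻¹ * g * c ∈ X' := by rw [h]; trivial
      rw [hmemX'] at h1
      have : c * (c⁻¹ * g * c) * c⁻¹ = g := by group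
      rw [this] at h1; exact h1
    have hsurj : Function.Surjective φ := fun x => XKf_eq_top φ htop x
    have hbij : Function.Bijective φ := ⟨φ.injective, hsurj⟩
    have : Fintype.card F = p := by
      rw [← Fintype.card_congr (Equiv.ofBijective φ hbij), ZMod.card]
    rw [this]; exact pp
  · exfalso
    rw [← h, hX'card] at hMc
    have h1 : 5 * (5 ^ 2 - 1) ≤ p * (p ^ 2 - 1) := by
      have : 5 ^ 2 ≤ p ^ 2 := Nat.pow_le_pow_left hp5 2
      exact Nat.mul_le_mul hp5 (by omega)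
    omega

end s4


section mod8
variable (p : ℕ) [Fact p.Prime] [CharP F p]
variable {K : Type*} [Field K] [Fintype K] [CharP K p] (f : F →+* K)
  (hsq : ∀ c : F, c ≠ 0 → IsSquare (f c))

theorem coprime_comp_toP_iff {a : PSL2} (ha : a ≠ 1) :
    (Nat.card ((dPG p f hsq).comp (toP a))).Coprime p ↔
      (Nat.card ((dstruct (tPack (F := F) p) (uPack p)).comp a)).Coprime p := by
  have hP := isPGroup_comp_toP_iff p f hsq ha
  constructor
  · intro h
    rcases (dstruct (tPack (F := F) p) (uPack p)).dich a ha with h1 | h1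
    · exfalso
      have h2 := hP.2 h1
      obtain ⟨k, hk⟩ := h2 ⟨toP a, (dPG p f hsq).mem_comp _⟩
      exact toP_ne_one ha (congrArg Subtype.val (elt_trivial _ k hk h))
    · exact h1
  · intro h
    rcases (dPG p f hsq).dich (toP a) (toP_ne_one ha) with h1 | h1
    · exfalso
      have h2 := hP.1 h1
      obtain ⟨k, hk⟩ := h2 ⟨a, (dstruct (tPack (F := F) p) (uPack p)).mem_comp _⟩
      exact ha (congrArg Subtype.val (elt_trivial _ k hk h))
    · exact h1

open Cfsg.Agent.Lib.Helper98.PSL2Perm in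
include f hsq in
omit [CharP K p] in
theorem s4_mod8 [CharP K p] (hodd : Odd (Fintype.card F)) (M : Subgroup PG)
    (e : M ≃* Equiv.Perm (Fin 4))
    (hidx : ((LG : Subgroup PG).subgroupOf M).index = 2) :
    Fintype.card F % 8 = 3 ∨ Fintype.card F % 8 = 5 := by
  classical
  have pp : p.Prime := Fact.out
  set q := Fintype.card F with hq
  set DP := dPG p f hsq with hDP
  set D := dstruct (tPack (F := F) p) (uPack p) with hD
  have hpq : p ∣ q := by
    rw [← CharP.cast_eq_zero_iff F p]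
    exact Nat.cast_card_eq_zero F
  have hpodd : Odd p := Odd.of_dvd_nat hodd hpq
  set zm : M := e.symm s4c with hzm
  have hzo : orderOf zm = 4 := by rw [hzm, MulEquiv.orderOf_eq]; exact s4c_order
  have hzo' : orderOf (zm : PG) = 4 := by rw [Subgroup.orderOf_coe]; exact hzo
  have hzN : (zm : PG) ∉ (LG : Subgroup PG) := by
    intro h
    have h0 : zm ∈ (LG : Subgroup PG).subgroupOf M := by rw [Subgroup.mem_subgroupOf]; exact h
    have h1 : (((LG : Subgroup PG).subgroupOf M).map (e : M →* Equiv.Perm (Fin 4))).index = 2 := by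
      rw [Subgroup.index_map_equiv]; exact hidx
    have h2 := Equiv.Perm.eq_alternatingGroup_of_index_eq_two h1
    have h3 : e zm ∈ ((LG : Subgroup PG).subgroupOf M).map (e : M →* Equiv.Perm (Fin 4)) :=
      ⟨zm, h0, rfl⟩
    rw [h2, hzm, MulEquiv.apply_symm_apply, Equiv.Perm.mem_alternatingGroup] at h3
    revert h3
    decide
  set z : PG := (zm : PG) with hz
  have hz1 : z ≠ 1 := by
    intro h
    rw [h, orderOf_one] at hzo'
    omega
  have hT : (Nat.card (DP.comp z)).Coprime p := by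
    rcases DP.dich z hz1 with h | h
    · exfalso
      obtain ⟨k, hk⟩ := (isPGroup_comp_iff p DP hz1).1 h
      have h1 : orderOf z ∣ p ^ k := orderOf_dvd_of_pow_eq_one hk
      rw [hzo'] at h1
      have h2 : Odd (4 : ℕ) := Odd.of_dvd_nat hpodd.pow h1
      revert h2; decide
    · exact h
  haveI hcyc : IsCyclic (DP.comp z) := DP.t_cyc z hz1 hT
  obtain ⟨a, ha⟩ := exists_of_mem_LG (sq_mem_LG hodd z)
  have hz2 : z ^ 2 ≠ 1 := Cfsg.Agent.Lib.Helper98.PSL2NF.ord_four z hzo'
  have ha1 : a ≠ 1 := by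
    rintro rfl
    rw [map_one] at ha
    exact hz2 ha.symm
  have hcomp : DP.comp (toP a) = DP.comp z := by
    apply DP.comp_eq z hz1
    · rw [ha]; exact Subgroup.pow_mem _ (DP.mem_comp z) _
    · exact toP_ne_one ha1
  have hTa : (Nat.card (D.comp a)).Coprime p := by
    rw [← coprime_comp_toP_iff p f hsq ha1, ← hDP, hcomp]; exact hT
  obtain ⟨hk, -, -⟩ := torus_facts_odd (F := F) p hodd a ha1 hTa
  rw [← hD, ← hq] at hk
  have hTL : ¬ DP.comp z ≤ (LG : Subgroup PG) := fun h => hzN (h (DP.mem_comp z))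
  have hTc : Nat.card (DP.comp z) = 2 * Nat.card (D.comp a) := by
    rw [card_eq_two_mul hodd _ hTL, ← hcomp, comp_inf_LG p f hsq a, card_map_toP]
  -- a generator
  obtain ⟨t, ht⟩ := IsCyclic.exists_monoid_generator (α := DP.comp z)
  have hto : orderOf t = Nat.card (DP.comp z) := orderOf_eq_card_of_forall_mem_powers ht
  obtain ⟨i, hi⟩ := ht ⟨z, DP.mem_comp z⟩
  have hi' : (t : PG) ^ i = z := by
    have := congrArg Subtype.val hi
    simpa using this
  have hiodd : Odd i := by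
    by_contra hcon
    rw [Nat.not_odd_iff_even] at hcon
    obtain ⟨j, hj⟩ := hcon
    apply hzN
    rw [← hi', hj, ← two_mul, mul_comm, pow_mul]
    exact sq_mem_LG hodd _
  have ho : orderOf (t ^ i) = orderOf t / Nat.gcd (orderOf t) i := orderOf_pow t
  have ho4 : orderOf (t ^ i) = 4 := by
    have : orderOf (t ^ i) = orderOf ((t ^ i : DP.comp z) : PG) := (Subgroup.orderOf_coe _).symm
    rw [this, Subgroup.coe_pow, hi']; exact hzo'
  rw [ho4, hto, hTc] at ho
  set k := Nat.card (D.comp a) with hk'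
  set d := Nat.gcd (2 * k) i with hd
  have hd1 : d ∣ 2 * k := Nat.gcd_dvd_left _ _
  have hd2 : d ∣ i := Nat.gcd_dvd_right _ _
  have hdodd : Odd d := Odd.of_dvd_nat hiodd hd2
  obtain ⟨m, hm⟩ := hd1
  have hdpos : 0 < d := hdodd.pos
  have hm4 : m = 4 := by
    rw [hm, Nat.mul_div_cancel_left m hdpos] at ho
    exact ho.symm
  obtain ⟨c, hc⟩ := hdodd
  rw [hm4, hc] at hm
  have hq1 : 1 ≤ q := Fintype.card_pos
  rcases hk with hk | hk
  · right; omega
  · left; omega

end mod8


/-- recognition of `S₄` from the class data -/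
theorem iso_s4_of_outcome {G : Type*} [Group G] [Finite G] {p : ℕ} [Fact p.Prime]
    (D : DStruct G p) (M : Subgroup G) (h24 : Nat.card M = 24) (g : G) (hgH : g ∈ M) (hg : g ≠ 1)
    (hT : (Nat.card (D.comp g)).Coprime p) (hx : Nat.card (D.XH M g) = 3)
    (hn : Nat.card (D.NH M g) = 6) : Nonempty (M ≃* Equiv.Perm (Fin 4)) ∧ p ≠ 3 := by
  classical
  constructor
  · apply Cfsg.Agent.Lib.Helper19.Recog.s4_of_card h24 ((D.XH M g).subgroupOf M)
    · rw [DStruct.card_subgroupOf_of_le M (D.XH_le M g), hx]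
    · rw [D.normalizer_subgroupOf M hg hgH, DStruct.card_subgroupOf_of_le M (D.NH_le M g), hn]
    · rw [D.normalizer_subgroupOf M hg hgH]
      have hne : ¬ D.NH M g ≤ D.XH M g := by
        intro hle
        have := le_antisymm hle (D.XH_le_NH M g)
        rw [this] at hn
        omega
      obtain ⟨n0, hn0, hn0'⟩ := SetLike.not_le_iff_exists.1 hne
      have hn0H := ((D.mem_NH M).1 hn0).1
      have hn0N := ((D.mem_NH M).1 hn0).2
      have hn0C : n0 ∉ D.comp g := fun h => hn0' ((D.mem_XH M).2 ⟨hn0H, h⟩)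
      refine ⟨⟨n0, hn0H⟩, by rw [Subgroup.mem_subgroupOf]; exact hn0, ⟨g, hgH⟩,
        by rw [Subgroup.mem_subgroupOf]; exact D.self_mem_XH M hgH, ?_⟩
      intro h
      have h1 : n0 * g * n0⁻¹ = g := by simpa using congrArg Subtype.val h
      have h2 := (D.t_inv g hg hT n0 hn0N hn0C).2 g (D.mem_comp g)
      rw [h1] at h2
      have h3 : g ^ 2 = 1 := by
        rw [pow_two]
        nth_rewrite 1 [h2]
        simp
      have h4 : g ^ 3 = 1 := by
        have := pow_card_eq_one' (G := D.XH M g) (x := ⟨g, D.self_mem_XH M hgH⟩)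
        rw [hx] at this
        simpa using congrArg Subtype.val this
      apply hg
      calc g = g ^ 3 * (g ^ 2)⁻¹ := by group
        _ = 1 := by rw [h3, h4]; simp
  · intro hp3
    have h1 : 3 ∣ Nat.card (D.comp g) := by
      rw [← hx]; exact Subgroup.card_dvd_of_le (D.XH_le_comp M g)
    have h3p : 3 ∣ p := by rw [hp3]
    have := Nat.dvd_gcd h1 h3p
    rw [hT] at this
    omega

section cases4
variable (p : ℕ) [Fact p.Prime] [CharP F p]
variable {K : Type*} [Field K] [Fintype K] [CharP K p] (f : F →+* K)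
  (hsq : ∀ c : F, c ≠ 0 → IsSquare (f c))

include f hsq in
omit [CharP K p] in
/-- the case of order `24` for `PGL₂(q)` -/
theorem case_s4 [CharP K p] (hodd : Odd (Fintype.card F)) (M : Subgroup PG) (hM : IsCoatom M)
    (hMLG : ¬ M ≤ (LG : Subgroup PG))
    (hidx : ((LG : Subgroup PG).subgroupOf M).index = 2)
    (hSN : Subgroup.normalizer ((M ⊓ LG : Subgroup PG) : Set PG) = M)
    (e : M ≃* Equiv.Perm (Fin 4)) (hp3 : p ≠ 3) :
    (Fintype.card F).Prime ∧ (Fintype.card F % 8 = 3 ∨ Fintype.card F % 8 = 5) := by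
  have pp : p.Prime := Fact.out
  have h8 := s4_mod8 p f hsq hodd M e hidx
  have hpq : p ∣ Fintype.card F := by
    rw [← CharP.cast_eq_zero_iff F p]
    exact Nat.cast_card_eq_zero F
  have hpodd : Odd p := Odd.of_dvd_nat hodd hpq
  have hp5 : 5 ≤ p := by
    have h2 := pp.two_le
    obtain ⟨c, hc⟩ := hpodd
    have : p ≠ 4 := by omega
    omega
  have h2ns : ¬ IsSquare (2 : F) := by
    rw [FiniteField.isSquare_two_iff]
    intro h
    rcases h8 with h' | h'
    · exact h.1 h'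
    · exact h.2 h'
  exact ⟨s4_prime p hodd hp5 h2ns M hM hMLG hSN e, h8⟩

end cases4

end

end Cfsg.Agent.Lib.Helper98.PGL2
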