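import Mathlib
import Cfsg.Agent.Lib.Helper98.PGL2G

set_option autoImplicit false
set_option linter.unusedSimpArgs false
set_option linter.unusedSectionVars false
set_option linter.style.haveILetI false
set_option maxHeartbeats 1600000

/-!
# Subfield subgroups of `PGL₂(q)` and their normalizing action (helper98)
-/

namespace Cfsg.Agent.Lib.Helper98.PGL2

open Matrix Cfsg.Agent.Lib.Helper48.Dickson Cfsg.Agent.Lib.Helper98.PSL2Max
open Cfsg.Agent.Lib.Helper98.PSL2NF Cfsg.Agent.Lib.Helper19.TwoTrans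
open Cfsg.Agent.Lib.Helper98.PSL2MaxOdd

section
variable {F : Type*} [Field F]

local notation "SL2" => Matrix.SpecialLinearGroup (Fin 2) F
local notation "PSL2" => Matrix.ProjectiveSpecialLinearGroup (Fin 2) F
local notation "PG" => Matrix.ProjGenLinGroup (Fin 2) F
local notation "toP" => (Matrix.ProjectiveSpecialLinearGroup.toPGL (n := Fin 2) (R := F))

variable {F₀ : Type*} [Field F₀] (φ : F₀ →+* F)

/-- the diagonal matrix `diag(a₀, 1)` -/
noncomputable def diagGL (a₀ : F) (ha₀ : a₀ ≠ 0) : GL (Fin 2) F :=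
  Matrix.GeneralLinearGroup.mkOfDetNeZero !![a₀, 0; 0, 1] (by
    rw [Matrix.det_fin_two_of]; simpa using ha₀)

theorem diagGL_val (a₀ : F) (ha₀ : a₀ ≠ 0) :
    ((diagGL a₀ ha₀ : GL (Fin 2) F) : Matrix (Fin 2) (Fin 2) F) = !![a₀, 0; 0, 1] := rfl

/-- the twisted embedding is the conjugate of the plain one -/
theorem toP_rho (a₀ : F) (ha₀ : a₀ ≠ 0) (N : Matrix.SpecialLinearGroup (Fin 2) F₀) :
    toP (rho φ a₀ ha₀ N) = Matrix.ProjGenLinGroup.mk (diagGL a₀ ha₀) *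
      xkHom φ (Matrix.SpecialLinearGroup.toGL N) * (Matrix.ProjGenLinGroup.mk (diagGL a₀ ha₀))⁻¹ := by
  show Matrix.ProjGenLinGroup.mk (Matrix.SpecialLinearGroup.toGL (tau φ a₀ ha₀ N)) =
    Matrix.ProjGenLinGroup.mk (diagGL a₀ ha₀) *
      Matrix.ProjGenLinGroup.mk (Matrix.GeneralLinearGroup.map φ (Matrix.SpecialLinearGroup.toGL N)) *
      (Matrix.ProjGenLinGroup.mk (diagGL a₀ ha₀))⁻¹
  rw [← map_inv, ← map_mul, ← map_mul]
  congr 1
  rw [eq_mul_inv_iff_mul_eq]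
  apply Units.ext
  rw [Units.val_mul, Units.val_mul, Matrix.SpecialLinearGroup.coe_GL_coe_matrix, diagGL_val]
  ext i j
  fin_cases i <;> fin_cases j <;>
    simp [Matrix.mul_apply, Fin.sum_univ_two, mul_comm] <;> field_simp

/-- `SL₂` is normalized inside `GL₂` -/
theorem xkHom_conj_SL (A : GL (Fin 2) F₀) (N : Matrix.SpecialLinearGroup (Fin 2) F₀) :
    xkHom φ A * xkHom φ (Matrix.SpecialLinearGroup.toGL N) * (xkHom φ A)⁻¹ =
      xkHom φ (Matrix.SpecialLinearGroup.toGL (conjSL A N)) := by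
  rw [← map_inv, ← map_mul, ← map_mul]
  congr 1
  apply Units.ext
  rw [Matrix.SpecialLinearGroup.coe_GL_coe_matrix, conjSL_val]
  rfl

end

section fin
variable {F : Type*} [Field F] [Fintype F]

local notation "SL2" => Matrix.SpecialLinearGroup (Fin 2) F
local notation "PSL2" => Matrix.ProjectiveSpecialLinearGroup (Fin 2) F
local notation "PG" => Matrix.ProjGenLinGroup (Fin 2) F
local notation "toP" => (Matrix.ProjectiveSpecialLinearGroup.toPGL (n := Fin 2) (R := F))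

attribute [local instance] finite_PG

variable {F₀ : Type*} [Field F₀] (φ : F₀ →+* F)

/-- the conjugated subfield subgroup normalizes the image of the twisted `PSL₂` -/
theorem conj_XKf_le_normalizer (a₀ : F) (ha₀ : a₀ ≠ 0) :
    (XKf φ).map (MulAut.conj (Matrix.ProjGenLinGroup.mk (diagGL a₀ ha₀))).toMonoidHom ≤
      Subgroup.normalizer ((((rho φ a₀ ha₀).range.map toP : Subgroup PG)) : Set PG) := by
  rintro _ ⟨_, ⟨A, rfl⟩, rfl⟩
  apply mem_normalizer_of_conj_le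
  rintro _ ⟨_, ⟨N, rfl⟩, rfl⟩
  refine ⟨rho φ a₀ ha₀ (conjSL A N), ⟨_, rfl⟩, ?_⟩
  rw [toP_rho, toP_rho, ← xkHom_conj_SL]
  simp only [MulEquiv.coe_toMonoidHom, MulAut.conj_apply]
  group


/-- matrices with square determinant lie in `LG` -/
theorem mk_mem_LG_of_isSquare_det (Z : GL (Fin 2) F)
    (h : IsSquare (Z : Matrix (Fin 2) (Fin 2) F).det) :
    Matrix.ProjGenLinGroup.mk Z ∈ (LG : Subgroup PG) := by
  obtain ⟨t, ht⟩ := h
  have hdet := gl_det_ne_zero Z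
  have ht0 : t ≠ 0 := by
    rintro rfl
    rw [mul_zero] at ht
    exact hdet ht
  have hB : (t⁻¹ • (Z : Matrix (Fin 2) (Fin 2) F)).det = 1 := by
    rw [Matrix.det_smul, ht, Fintype.card_fin]
    field_simp
  let B : Matrix.SpecialLinearGroup (Fin 2) F := ⟨t⁻¹ • (Z : Matrix (Fin 2) (Fin 2) F), hB⟩
  refine ⟨B, ?_⟩
  show Matrix.ProjGenLinGroup.mk (Matrix.SpecialLinearGroup.toGL B) = Matrix.ProjGenLinGroup.mk Z
  rw [Matrix.ProjGenLinGroup.mk_eq_mk_iff]
  refine ⟨Units.mk0 t ht0, Units.ext ?_⟩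
  rw [Units.val_mul, Matrix.SpecialLinearGroup.coe_GL_coe_matrix,
    Matrix.GeneralLinearGroup.coe_scalar]
  show (t⁻¹ • (Z : Matrix (Fin 2) (Fin 2) F)) * (Matrix.scalar (Fin 2)) t = _
  ext i j
  fin_cases i <;> fin_cases j <;>
    simp [Matrix.mul_apply, Fin.sum_univ_two, Matrix.scalar_apply, Matrix.diagonal_apply] <;>
    field_simp

/-- if all nonzero elements of the subfield are squares, the subfield subgroup lies in `LG` -/
theorem XKf_le_LG_of_squares (h : ∀ c : F₀, c ≠ 0 → IsSquare (φ c)) :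
    XKf φ ≤ (LG : Subgroup PG) := by
  rintro _ ⟨A, rfl⟩
  apply mk_mem_LG_of_isSquare_det
  have h1 : ((Matrix.GeneralLinearGroup.map φ A : GL (Fin 2) F) : Matrix (Fin 2) (Fin 2) F) =
      φ.mapMatrix (A : Matrix (Fin 2) (Fin 2) F₀) := rfl
  rw [h1, ← RingHom.map_det]
  exact h _ (gl_det_ne_zero A)

/-- unipotent elements of the subfield subgroup -/
theorem mem_XKf_unip (x : F)
    (hdet : (!![1, x; 0, 1] : Matrix (Fin 2) (Fin 2) F).det ≠ 0)
    (h1 : Matrix.ProjGenLinGroup.mk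
      (Matrix.GeneralLinearGroup.mkOfDetNeZero (!![1, x; 0, 1] : Matrix (Fin 2) (Fin 2) F) hdet) ∈
      XKf φ) : ∃ c : F₀, φ c = x := by
  obtain ⟨A, hA⟩ := h1
  have hA' : Matrix.ProjGenLinGroup.mk (Matrix.GeneralLinearGroup.map φ A) =
      Matrix.ProjGenLinGroup.mk
      (Matrix.GeneralLinearGroup.mkOfDetNeZero (!![1, x; 0, 1] : Matrix (Fin 2) (Fin 2) F) hdet) := hA
  rw [Matrix.ProjGenLinGroup.mk_eq_mk_iff] at hA'
  obtain ⟨u, hu⟩ := hA'
  have e00 := congrArg (fun Z : GL (Fin 2) F => (Z : Matrix (Fin 2) (Fin 2) F) 0 0) hu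
  have e01 := congrArg (fun Z : GL (Fin 2) F => (Z : Matrix (Fin 2) (Fin 2) F) 0 1) hu
  simp [Matrix.GeneralLinearGroup.coe_scalar, Matrix.mul_apply, Fin.sum_univ_two] at e00 e01
  have hu0 : (u : F) ≠ 0 := u.ne_zero
  have ha0 : φ ((A : Matrix (Fin 2) (Fin 2) F₀) 0 0) ≠ 0 := by
    intro h0
    rw [h0, zero_mul] at e00
    exact zero_ne_one e00
  refine ⟨(A : Matrix (Fin 2) (Fin 2) F₀) 0 1 / (A : Matrix (Fin 2) (Fin 2) F₀) 0 0, ?_⟩
  rw [map_div₀, ← e01, div_eq_iff ha0]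
  calc φ ((A : Matrix (Fin 2) (Fin 2) F₀) 0 1)
      = φ ((A : Matrix (Fin 2) (Fin 2) F₀) 0 1) * (φ ((A : Matrix (Fin 2) (Fin 2) F₀) 0 0) * u) := by
        rw [e00, mul_one]
    _ = _ := by ring

/-- monotonicity of subfield subgroups -/
theorem XKf_mono {F₁ : Type*} [Field F₁] (φ₁ : F₁ →+* F) (h : ∀ c : F₀, ∃ c₁ : F₁, φ₁ c₁ = φ c) :
    XKf φ ≤ XKf φ₁ := by
  rintro _ ⟨A, rfl⟩
  apply mem_XKf_of_entries
  intro i j
  exact h _

/-- the order of a subfield subgroup -/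
theorem card_XKf [Fintype F₀] :
    Nat.card (XKf φ) = Fintype.card F₀ * (Fintype.card F₀ ^ 2 - 1) := by
  rw [← Nat.card_congr (xkIso φ).toEquiv, Cfsg.Agent.Lib.Helper98.DicksonMax.card_pgl2]

end fin

end Cfsg.Agent.Lib.Helper98.PGL2
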