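import Mathlib
import Cfsg.Agent.Lib.Helper98.PGL2H

set_option autoImplicit false
set_option linter.unusedSimpArgs false
set_option linter.unusedSectionVars false
set_option linter.style.haveILetI false
set_option maxHeartbeats 1600000

/-!
# The two-transitive case for `PGL₂(q)` (helper98)
-/

namespace Cfsg.Agent.Lib.Helper98.PGL2

open Matrix Cfsg.Agent.Lib.Helper48.Dickson Cfsg.Agent.Lib.Helper98.PSL2Max
open Cfsg.Agent.Lib.Helper98.PSL2NF Cfsg.Agent.Lib.Helper19.TwoTrans
open Cfsg.Agent.Lib.Helper98.PSL2MaxOdd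

section grp
variable {G : Type*} [Group G]

/-- transfer of the two-transitive hypotheses along an injective map -/
theorem hyp_map_inj {G' : Type*} [Group G'] (J : G →* G') (hJ : Function.Injective J)
    {p P k : ℕ} {H Q : Subgroup G} (h : Hyp p P k H Q) : Hyp p P k (H.map J) (Q.map J) where
  hQH := Subgroup.map_mono h.hQH
  hQp := h.hQp.map _
  hQ := by rw [Subgroup.card_map_of_injective hJ, h.hQ]
  hN := by
    have h1 : (H ⊓ Subgroup.normalizer (Q : Set G) : Subgroup G).map J =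
        (H.map J ⊓ Subgroup.normalizer ((Q.map J : Subgroup G') : Set G') : Subgroup G') := by
      apply le_antisymm
      · rintro _ ⟨m, ⟨hm1, hm2⟩, rfl⟩
        exact ⟨⟨m, hm1, rfl⟩, Subgroup.le_normalizer_map J ⟨m, hm2, rfl⟩⟩
      · rintro _ ⟨⟨m, hm1, rfl⟩, hm2⟩
        refine ⟨m, ⟨hm1, ?_⟩, rfl⟩
        have h2 : m ∈ (Subgroup.normalizer ((Q.map J : Subgroup G') : Set G')).comap J := hm2
        have h3 := Subgroup.le_normalizer_comap J h2
        rw [Subgroup.comap_map_eq_self_of_injective hJ] at h3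
        exact h3
    rw [← h1, Subgroup.card_map_of_injective hJ, h.hN]
  hH := by rw [Subgroup.card_map_of_injective hJ, h.hH]

/-- a simple group of order greater than two has no subgroup of index two -/
theorem simple_no_index_two {H : Type*} [Group H] [IsSimpleGroup H] (hcard : 2 < Nat.card H)
    (N : Subgroup H) (h : N.index = 2) : False := by
  haveI : N.Normal := Subgroup.normal_of_index_eq_two h
  rcases Subgroup.Normal.eq_bot_or_eq_top (H := N) inferInstance with h' | h'
  · rw [h', Subgroup.index_bot] at h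
    omega
  · rw [h', Subgroup.index_top] at h
    omega

/-- the Frattini argument: the normalizer of the Sylow subgroup is not inside a normal subgroup
which does not contain the group -/
theorem frattini_not_le [Finite G] (p : ℕ) [Fact p.Prime] {P k : ℕ} {M Q : Subgroup G}
    (hyp : Hyp p P k M Q) (hP : 1 < P) (hk : k = P - 1 ∨ 2 * k = P - 1) (L : Subgroup G)
    [L.Normal] (hQL : Q ≤ L) (hML : ¬ M ≤ L) :
    ¬ (M ⊓ Subgroup.normalizer (Q : Set G) : Subgroup G) ≤ L := by
  intro hle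
  set N : Subgroup M := L.subgroupOf M with hN
  set Qm : Subgroup M := Q.subgroupOf M with hQm
  have hQmp : IsPGroup p Qm := hyp.hQp.comap_of_injective M.subtype (Subgroup.subtype_injective M)
  obtain ⟨S, hS⟩ := hQmp.exists_le_sylow
  set R : Subgroup G := (S : Subgroup M).map M.subtype with hR
  have hRp : IsPGroup p R := S.2.map _
  have hQR : Q ≤ R := by
    intro x hx
    exact ⟨⟨x, hyp.hQH hx⟩, hS (by rw [hQm, Subgroup.mem_subgroupOf]; exact hx), rfl⟩
  have hRM : R ≤ M := by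
    rintro _ ⟨m, -, rfl⟩
    exact m.2
  have hRQ : R = Q := sylow_max p hyp hP hk R hRp hQR hRM
  have hSQ : (S : Subgroup M) = Qm := by
    have : (S : Subgroup M) = R.subgroupOf M := by
      rw [hR]
      exact (Subgroup.comap_map_eq_self_of_injective (Subgroup.subtype_injective M) _).symm
    rw [this, hRQ]
  have hSN : (S : Subgroup M) ≤ N := by
    rw [hSQ]
    intro m hm
    rw [hN, Subgroup.mem_subgroupOf]
    rw [hQm, Subgroup.mem_subgroupOf] at hm
    exact hQL hm
  have htop : Subgroup.normalizer ((S : Subgroup M) : Set M) ⊔ N = ⊤ :=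
    Sylow.normalizer_sup_eq_top' S hSN
  have hnle : Subgroup.normalizer ((S : Subgroup M) : Set M) ≤ N := by
    rw [hSQ, hQm, ← Subgroup.subgroupOf_normalizer_eq hyp.hQH]
    intro m hm
    rw [Subgroup.mem_subgroupOf] at hm
    rw [hN, Subgroup.mem_subgroupOf]
    exact hle ⟨m.2, hm⟩
  rw [sup_eq_right.2 hnle] at htop
  apply hML
  intro m hm
  have : (⟨m, hm⟩ : M) ∈ N := by rw [htop]; trivial
  rw [hN, Subgroup.mem_subgroupOf] at this
  exact this

end grp


section pgl
variable {F : Type*} [Field F] [Fintype F]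

local notation "SL2" => Matrix.SpecialLinearGroup (Fin 2) F
local notation "PSL2" => Matrix.ProjectiveSpecialLinearGroup (Fin 2) F
local notation "PG" => Matrix.ProjGenLinGroup (Fin 2) F
local notation "toP" => (Matrix.ProjectiveSpecialLinearGroup.toPGL (n := Fin 2) (R := F))

attribute [local instance] finite_PG

variable (p : ℕ) [Fact p.Prime] [CharP F p]

section excl
variable {K : Type*} [Field K] [Fintype K] [CharP K p] (f : F →+* K)
  (hsq : ∀ c : F, c ≠ 0 → IsSquare (f c))

include f hsq in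
omit [CharP K p] in
/-- the `PSL₂`-type numerics are impossible for a subgroup with a subgroup of index two -/
theorem tt_excl [CharP K p] (hodd : Odd (Fintype.card F)) (M Q : Subgroup PG) (P k : ℕ)
    (hyp : Hyp p P k M Q) (hk2 : 2 ≤ k) (hk : 2 * k = P - 1)
    (hidx : ((LG : Subgroup PG).subgroupOf M).index = 2) : False := by
  classical
  have pp : p.Prime := Fact.out
  have hpq : p ∣ Fintype.card F := by
    rw [← CharP.cast_eq_zero_iff F p]
    exact Nat.cast_card_eq_zero F
  have hpodd : Odd p := Odd.of_dvd_nat hodd hpq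
  have hKodd : Odd (Fintype.card K) := by
    obtain ⟨n, -, hn⟩ := FiniteField.card K p
    rw [hn]; exact hpodd.pow
  have hP : 1 < P := by omega
  have hP5 : 5 ≤ P := by omega
  have hJ := jbar_injective f hsq
  have hypK := hyp_map_inj (jbar f hsq) hJ hyp
  obtain ⟨x, hQU, h₁, h₁H, h₁0⟩ := normalize p _ _ P k hypK hP (Or.inr hk)
  set M' := (M.map (jbar f hsq)).map (MulAut.conj x).toMonoidHom with hM'
  have hyp' := hypK.conj x
  obtain ⟨K₁, a₀, ha₀, hKP, hKmem, hsub, htor⟩ :=
    embedded_normalized_odd p hKodd M' _ P k hyp' hP (Or.inr hk) hQU h₁ h₁H h₁0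
  obtain ⟨i, hi⟩ := hyp.hQp.exists_card_eq
  rw [hyp.hQ] at hi
  have hPodd : Odd P := by rw [hi]; exact hpodd.pow
  have hcardK : Fintype.card K₁ = P := by
    rw [← Nat.card_eq_fintype_card, ← hKP]
    exact (Nat.card_coe_set_eq (K₁ : Set K))
  have hPSLK : 2 * Nat.card (Matrix.ProjectiveSpecialLinearGroup (Fin 2) K₁) =
      (P + 1) * P * (P - 1) := by
    have h1 := Cfsg.Agent.Lib.Helper98.DicksonMax.card_psl2_odd (F := K₁)
      (by rw [hcardK]; exact hPodd)
    rw [h1, hcardK]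
    exact nat_PP P (by omega)
  have hT : twSub K₁ a₀ ha₀ ≤ M' := twSub_le K₁ a₀ ha₀ M' hsub
  have hTc : 2 * Nat.card (twSub K₁ a₀ ha₀) = (P + 1) * P * (P - 1) := by
    rw [card_twSub, hPSLK]
  have hM'card : 2 * Nat.card M' = (P + 1) * P * (P - 1) := by
    rw [hyp'.hH, ← hk]; ring
  have htw : twSub K₁ a₀ ha₀ = M' := Subgroup.eq_of_le_of_card_ge hT (by omega)
  have e1 : M ≃* M.map (jbar f hsq) := M.equivMapOfInjective _ hJ
  have e2 : M.map (jbar f hsq) ≃* M' :=
    (M.map (jbar f hsq)).equivMapOfInjective _ (MulAut.conj x).injective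
  have e3 : twSub K₁ a₀ ha₀ ≃* Matrix.ProjectiveSpecialLinearGroup (Fin 2) K₁ :=
    ((QuotientGroup.quotientKerEquivRange (rho K₁.subtype a₀ ha₀)).symm).trans
      (QuotientGroup.quotientMulEquivOfEq (rho_ker K₁.subtype a₀ ha₀))
  have e : M ≃* Matrix.ProjectiveSpecialLinearGroup (Fin 2) K₁ :=
    e1.trans (e2.trans ((MulEquiv.subgroupCongr htw.symm).trans e3))
  haveI : IsSimpleGroup (Matrix.ProjectiveSpecialLinearGroup (Fin 2) K₁) :=
    Matrix.ProjectiveSpecialLinearGroup.rank_two_simple (by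
      rw [Nat.card_eq_fintype_card, hcardK]; omega)
  haveI : IsSimpleGroup M := e.isSimpleGroup
  have hMc : 2 < Nat.card M := by
    rw [hyp.hH]
    have h1 : 5 ≤ (P + 1) * P := by
      calc 5 ≤ P := hP5
        _ = 1 * P := (one_mul P).symm
        _ ≤ (P + 1) * P := Nat.mul_le_mul_right P (by omega)
    calc 2 < 5 * 2 := by norm_num
      _ ≤ (P + 1) * P * k := Nat.mul_le_mul h1 hk2
  exact simple_no_index_two hMc _ hidx

end excl


section main

theorem card_comap_toP (X : Subgroup PG) (hX : X ≤ (LG : Subgroup PG)) :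
    Nat.card (X.comap toP) = Nat.card X := by
  have h : (X.comap toP).map toP = X := Subgroup.map_comap_eq_self (by rw [← LG_eq]; exact hX)
  rw [← card_map_toP, h]

/-- the `PGL₂`-type numerics: the subfield subgroups -/
theorem tt_main (hodd : Odd (Fintype.card F)) (M : Subgroup PG) (hM : IsCoatom M)
    (hMLG : ¬ M ≤ (LG : Subgroup PG))
    (hSN : Subgroup.normalizer ((M ⊓ LG : Subgroup PG) : Set PG) = M)
    (Q : Subgroup PG) (P k : ℕ) (hyp : Hyp p P k M Q) (hP : 1 < P) (hk : k = P - 1) :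
    ∃ (F₀ : Type) (_ : Field F₀) (_ : Fintype F₀) (r : ℕ), r.Prime ∧ Odd r ∧
      Fintype.card F = Fintype.card F₀ ^ r ∧
      Nonempty (M ≃* Matrix.ProjGenLinGroup (Fin 2) F₀) := by
  classical
  have pp : p.Prime := Fact.out
  haveI hLGn := normal_LG (F := F) hodd
  have hpq : p ∣ Fintype.card F := by
    rw [← CharP.cast_eq_zero_iff F p]
    exact Nat.cast_card_eq_zero F
  have hpodd : Odd p := Odd.of_dvd_nat hodd hpq
  obtain ⟨i, hi⟩ := hyp.hQp.exists_card_eq
  rw [hyp.hQ] at hi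
  have hi0 : i ≠ 0 := by
    rintro rfl
    rw [pow_zero] at hi; omega
  have hPodd : Odd P := by rw [hi]; exact hpodd.pow
  obtain ⟨c, hc⟩ := hPodd
  have hkc : k = 2 * c := by omega
  have hc1 : 1 ≤ c := by omega
  have h2F : (2 : F) ≠ 0 := two_ne_zero_of_odd p hodd
  -- `Q` lies in `LG`
  have hQL : Q ≤ (LG : Subgroup PG) := by
    intro x hx
    apply mem_LG_of_odd hodd
    obtain ⟨j, hj⟩ := hyp.hQp ⟨x, hx⟩
    have hj' : x ^ p ^ j = 1 := by simpa using congrArg Subtype.val hj
    exact Odd.of_dvd_nat hpodd.pow (orderOf_dvd_of_pow_eq_one hj')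
  have hNL := frattini_not_le p hyp hP (Or.inl hk) (LG : Subgroup PG) hQL hMLG
  have hNc : Nat.card ((M ⊓ Subgroup.normalizer (Q : Set PG) : Subgroup PG) ⊓ LG : Subgroup PG) =
      P * c := by
    have h1 := card_eq_two_mul hodd _ hNL
    rw [hyp.hN, hkc] at h1
    have h2 : 2 * (P * c) =
        2 * Nat.card ((M ⊓ Subgroup.normalizer (Q : Set PG) : Subgroup PG) ⊓ LG : Subgroup PG) := by
      rw [← h1]; ring
    omega
  have hMLc : Nat.card (M ⊓ LG : Subgroup PG) = (P + 1) * P * c := by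
    have h1 := card_eq_two_mul hodd M hMLG
    rw [hyp.hH, hkc] at h1
    have h2 : 2 * ((P + 1) * P * c) = 2 * Nat.card (M ⊓ LG : Subgroup PG) := by
      rw [← h1]; ring
    omega
  set H₀ : Subgroup PSL2 := (M ⊓ LG : Subgroup PG).comap toP with hH₀
  set Q₀ : Subgroup PSL2 := Q.comap toP with hQ₀
  have hyp₀ : Hyp p P c H₀ Q₀ := by
    refine ⟨Subgroup.comap_mono (le_inf hyp.hQH hQL),
      hyp.hQp.comap_of_injective toP toP_injective, ?_, ?_, ?_⟩
    · rw [card_comap_toP Q hQL, hyp.hQ]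
    · have h1 : (H₀ ⊓ Subgroup.normalizer (Q₀ : Set PSL2) : Subgroup PSL2) =
          ((M ⊓ LG : Subgroup PG) ⊓ Subgroup.normalizer (Q : Set PG) : Subgroup PG).comap toP := by
        rw [Subgroup.comap_inf,
          Subgroup.comap_normalizer_eq_of_le_range (by rw [← LG_eq]; exact hQL)]
      rw [h1, card_comap_toP _ (inf_le_left.trans inf_le_right)]
      have h2 : ((M ⊓ LG : Subgroup PG) ⊓ Subgroup.normalizer (Q : Set PG) : Subgroup PG) =
          ((M ⊓ Subgroup.normalizer (Q : Set PG) : Subgroup PG) ⊓ LG : Subgroup PG) := by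
        rw [inf_assoc, inf_assoc, inf_comm (LG : Subgroup PG)]
      rw [h2, hNc]
    · rw [card_comap_toP _ inf_le_right, hMLc]
  have hk₀ : c = P - 1 ∨ 2 * c = P - 1 := Or.inr (by omega)
  obtain ⟨x₀, hQU, h₁, h₁H, h₁0⟩ := normalize p H₀ Q₀ P c hyp₀ hP hk₀
  set H₀' := H₀.map (MulAut.conj x₀).toMonoidHom with hH₀'
  have hyp₀' := hyp₀.conj x₀
  obtain ⟨K₁, a₀, ha₀, hKP, hKmem, hsub, htor⟩ :=
    embedded_normalized_odd p hodd H₀' _ P c hyp₀' hP hk₀ hQU h₁ h₁H h₁0
  have hcardK : Fintype.card K₁ = P := by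
    rw [← Nat.card_eq_fintype_card, ← hKP]
    exact (Nat.card_coe_set_eq (K₁ : Set F))
  have hPSLK : 2 * Nat.card (Matrix.ProjectiveSpecialLinearGroup (Fin 2) K₁) =
      (P + 1) * P * (P - 1) := by
    have h1 := Cfsg.Agent.Lib.Helper98.DicksonMax.card_psl2_odd (F := K₁)
      (by rw [hcardK]; exact ⟨c, hc⟩)
    rw [h1, hcardK]
    exact nat_PP P (by omega)
  have hT : twSub K₁ a₀ ha₀ ≤ H₀' := twSub_le K₁ a₀ ha₀ H₀' hsub
  have hTc : 2 * Nat.card (twSub K₁ a₀ ha₀) = (P + 1) * P * (P - 1) := by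
    rw [card_twSub, hPSLK]
  have hH₀'card : 2 * Nat.card H₀' = (P + 1) * P * (P - 1) := by
    rw [hyp₀'.hH]
    have : P - 1 = 2 * c := by omega
    rw [this]; ring
  have htw : twSub K₁ a₀ ha₀ = H₀' := Subgroup.eq_of_le_of_card_ge hT (by omega)
  -- the conjugating elements
  set cc : PG := toP x₀ with hcc
  set d : PG := Matrix.ProjGenLinGroup.mk (diagGL a₀ ha₀) with hd
  set φ : K₁ →+* F := K₁.subtype with hφ
  have hmap1 : (M ⊓ LG : Subgroup PG).map (MulAut.conj cc).toMonoidHom =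
      (twSub K₁ a₀ ha₀).map toP := by
    have h1 : (M ⊓ LG : Subgroup PG) = H₀.map toP :=
      (Subgroup.map_comap_eq_self (by rw [← LG_eq]; exact inf_le_right)).symm
    rw [htw, hH₀', h1, Subgroup.map_map, Subgroup.map_map]
    congr 1
    ext a
    simp [hcc, MulAut.conj_apply]
  have hnorm : (XKf φ).map (MulAut.conj d).toMonoidHom ≤ M.map (MulAut.conj cc).toMonoidHom := by
    have h1 := conj_XKf_le_normalizer φ a₀ ha₀
    have h2 : Subgroup.normalizer ((((twSub K₁ a₀ ha₀).map toP : Subgroup PG)) : Set PG) =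
        M.map (MulAut.conj cc).toMonoidHom := by
      rw [← hmap1, ← Subgroup.map_equiv_normalizer_eq, hSN]
    rw [← h2]; exact h1
  have hXcard : Nat.card (XKf φ) = (P + 1) * P * (P - 1) := by
    rw [card_XKf, hcardK]; exact nat_PP P (by omega)
  have hMcard : Nat.card M = (P + 1) * P * (P - 1) := by rw [hyp.hH, hk]
  have heq : (XKf φ).map (MulAut.conj d).toMonoidHom = M.map (MulAut.conj cc).toMonoidHom :=
    DStruct.eq_of_card_eq hnorm (by
      rw [Subgroup.card_map_of_injective (MulAut.conj d).injective,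
        Subgroup.card_map_of_injective (MulAut.conj cc).injective, hXcard, hMcard])
  have hco1 : IsCoatom (M.map (MulAut.conj cc).toMonoidHom) :=
    Cfsg.Agent.Lib.Helper98.PSL2Max2.isCoatom_map_conj M hM cc
  have hXco : IsCoatom (XKf φ) := by
    rw [← heq] at hco1
    exact (OrderIso.isCoatom_iff (MulEquiv.mapSubgroup (MulAut.conj d)) (XKf φ)).1 hco1
  have hXL : ¬ XKf φ ≤ (LG : Subgroup PG) := by
    intro h
    apply hMLG
    intro m hm
    have h1 : cc * m * cc⁻¹ ∈ M.map (MulAut.conj cc).toMonoidHom := ⟨m, hm, rfl⟩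
    rw [← heq] at h1
    obtain ⟨u, hu, hu'⟩ := h1
    have h2 : d * u * d⁻¹ ∈ (LG : Subgroup PG) := hLGn.conj_mem u (h hu) d
    have h3 : cc * m * cc⁻¹ ∈ (LG : Subgroup PG) := by rw [← hu']; exact h2
    have : m = cc⁻¹ * (cc * m * cc⁻¹) * cc⁻¹⁻¹ := by group
    rw [this]; exact hLGn.conj_mem _ h3 _
  have e1 : M ≃* M.map (MulAut.conj cc).toMonoidHom :=
    M.equivMapOfInjective _ (MulAut.conj cc).injective
  have e2 : XKf φ ≃* (XKf φ).map (MulAut.conj d).toMonoidHom :=
    (XKf φ).equivMapOfInjective _ (MulAut.conj d).injective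
  have eM : M ≃* XKf φ := e1.trans ((MulEquiv.subgroupCongr heq.symm).trans e2.symm)
  -- the degree
  set r := Module.finrank K₁ F with hr
  have hqm : Fintype.card F = P ^ r := by
    rw [← hcardK]
    exact Module.card_eq_pow_finrank
  have hr0 : r ≠ 0 := by
    intro h0
    rw [h0, pow_zero] at hqm
    have : 1 < Fintype.card F := Fintype.one_lt_card
    omega
  have hr1 : r ≠ 1 := by
    intro h1
    rw [h1, pow_one] at hqm
    apply hXco.1
    apply Subgroup.eq_top_of_card_eq
    rw [card_XKf, hcardK, Cfsg.Agent.Lib.Helper98.DicksonMax.card_pgl2, hqm]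
  have hrodd : Odd r := by
    rw [← Nat.not_even_iff_odd]
    rintro ⟨b, hb⟩
    apply hXL
    apply XKf_le_LG_of_squares
    intro c' hc'
    have h1 := FiniteField.pow_card_sub_one_eq_one c' hc'
    rw [hcardK] at h1
    have h2 : (φ c') ^ (P - 1) = 1 := by rw [← map_pow, h1, map_one]
    have h3 : φ c' ≠ 0 := by
      intro h; exact hc' (φ.injective (by rw [h, map_zero]))
    obtain ⟨t, ht⟩ := exists_sqrt_of_even h2F P b (by omega) ⟨c, hc⟩
      (by rw [hqm, hb, two_mul]) (φ c') h3 h2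
    exact ⟨t, ht.symm⟩
  have hrprime : r.Prime := by
    by_contra hnp
    have hr2 : 2 ≤ r := by omega
    obtain ⟨a, ha_dvd, ha2, har⟩ := Nat.exists_dvd_of_not_prime2 hr2 hnp
    obtain ⟨b, hb⟩ := ha_dvd
    have hb1 : 1 < b := by
      rcases Nat.lt_or_ge 1 b with h | h
      · exact h
      · exfalso
        interval_cases b
        · omega
        · omega
    obtain ⟨K₂, hKK₂, ⟨x₂, hx₂, hx₂K⟩, ⟨y, hy⟩⟩ :=
      exists_intermediate p K₁ P i a b hi hKP hi0 (by rw [hqm, hb]) (by omega) hb1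
    have hle : XKf φ ≤ XKf K₂.subtype :=
      XKf_mono φ K₂.subtype (fun c' => ⟨⟨c'.1, hKK₂ c'.2⟩, rfl⟩)
    rcases (hXco.le_iff).1 hle with h | h
    · obtain ⟨c', hc'⟩ := XKf_eq_top K₂.subtype h y
      apply hy; rw [← hc']; exact c'.2
    · have hdet : (!![1, x₂; 0, 1] : Matrix (Fin 2) (Fin 2) F).det ≠ 0 := by
        simp [Matrix.det_fin_two_of]
      have h1 : Matrix.ProjGenLinGroup.mk
          (Matrix.GeneralLinearGroup.mkOfDetNeZero (!![1, x₂; 0, 1] : Matrix (Fin 2) (Fin 2) F)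
            hdet) ∈ XKf K₂.subtype := by
        apply mem_XKf_of_entries
        intro i j
        fin_cases i <;> fin_cases j
        · exact ⟨1, by simp [Matrix.GeneralLinearGroup.mkOfDetNeZero]⟩
        · exact ⟨⟨x₂, hx₂⟩, by simp [Matrix.GeneralLinearGroup.mkOfDetNeZero]⟩
        · exact ⟨0, by simp [Matrix.GeneralLinearGroup.mkOfDetNeZero]⟩
        · exact ⟨1, by simp [Matrix.GeneralLinearGroup.mkOfDetNeZero]⟩
      rw [h] at h1
      obtain ⟨c', hc'⟩ := mem_XKf_unip φ x₂ hdet h1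
      apply hx₂K; rw [← hc']; exact c'.2
  -- the small field
  let e : Shrink.{0} ↥K₁ ≃+* ↥K₁ := Shrink.ringEquiv.{0} ↥K₁
  let φ' : Shrink.{0} ↥K₁ →+* F := K₁.subtype.comp e.toRingHom
  have hfin : Finite (Shrink.{0} ↥K₁) := Finite.of_equiv _ e.toEquiv.symm
  let _ : Fintype (Shrink.{0} ↥K₁) := Fintype.ofFinite _
  have hcardS : Fintype.card (Shrink.{0} ↥K₁) = P := by
    rw [← Nat.card_eq_fintype_card, Nat.card_congr e.toEquiv, Nat.card_eq_fintype_card, hcardK]
  have hXX : XKf φ = XKf φ' :=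
    le_antisymm (XKf_mono φ φ' (fun c' => ⟨e.symm c', by simp [φ', hφ]⟩))
      (XKf_mono φ' φ (fun c' => ⟨e c', rfl⟩))
  exact ⟨Shrink.{0} ↥K₁, inferInstance, inferInstance, r, hrprime, hrodd,
    by rw [hcardS]; exact hqm,
    ⟨eM.trans ((MulEquiv.subgroupCongr hXX).trans (xkIso φ').symm)⟩⟩

end main

end pgl

end Cfsg.Agent.Lib.Helper98.PGL2
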