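import Mathlib
import Cfsg.Agent.Lib.Helper98.PGL2C
import Cfsg.Agent.Lib.Helper98.PGL2D
import Cfsg.Agent.Lib.Helper98.PGL2G
import Cfsg.Agent.Lib.Helper98.PGL2I

set_option autoImplicit false
set_option linter.unusedSimpArgs false
set_option linter.unusedSectionVars false
set_option linter.style.haveILetI false
set_option maxHeartbeats 1600000

/-!
# Maximal subgroups of `PGL₂(q)`, `q` odd (helper98)
-/

namespace Cfsg.Agent.Lib.Helper98.PGL2

open Matrix Cfsg.Agent.Lib.Helper48.Dickson Cfsg.Agent.Lib.Helper98.PSL2Max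
open Cfsg.Agent.Lib.Helper98.PSL2NF Cfsg.Agent.Lib.Helper19.TwoTrans
open Cfsg.Agent.Lib.Helper98.PSL2MaxOdd

section
variable {F : Type*} [Field F] [Fintype F]

local notation "SL2" => Matrix.SpecialLinearGroup (Fin 2) F
local notation "PSL2" => Matrix.ProjectiveSpecialLinearGroup (Fin 2) F
local notation "PG" => Matrix.ProjGenLinGroup (Fin 2) F
local notation "toP" => (Matrix.ProjectiveSpecialLinearGroup.toPGL (n := Fin 2) (R := F))

attribute [local instance] finite_PG

/-- the conclusion -/
def ConclG (M : Subgroup PG) : Prop :=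
    Nat.card M = Fintype.card F * (Fintype.card F - 1) ∨
    (Fintype.card F ≠ 5 ∧ Nonempty (M ≃* DihedralGroup (Fintype.card F - 1))) ∨
    Nonempty (M ≃* DihedralGroup (Fintype.card F + 1)) ∨
    ((Fintype.card F).Prime ∧ (Fintype.card F % 8 = 3 ∨ Fintype.card F % 8 = 5) ∧ Nonempty (M ≃* Equiv.Perm (Fin 4))) ∨
    (∃ (F₀ : Type) (_ : Field F₀) (_ : Fintype F₀) (r : ℕ), r.Prime ∧ Odd r ∧ Fintype.card F = Fintype.card F₀ ^ r ∧
        Nonempty (M ≃* Matrix.ProjGenLinGroup (Fin 2) F₀))

variable (p : ℕ) [Fact p.Prime] [CharP F p]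

/-- normalizers of components of `PSL₂(q)` are proper -/
theorem nrm_comp_ne_top (hodd : Odd (Fintype.card F)) (h5 : 5 ≤ Fintype.card F) (g : PSL2)
    (hg : g ≠ 1) : nrm ((dstruct (tPack (F := F) p) (uPack p)).comp g) ≠ ⊤ := by
  have hgcd : Nat.gcd 2 (Fintype.card F - 1) = 2 := gcd_two_odd' hodd
  have hG : 2 * Nat.card PSL2 = Fintype.card F * (Fintype.card F ^ 2 - 1) :=
    Cfsg.Agent.Lib.Helper98.DicksonMax.card_psl2_odd hodd
  have hnrmT := torus_facts_odd (F := F) p hodd
  set q := Fintype.card F with hq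
  set D := dstruct (tPack (F := F) p) (uPack p) with hD
  have hqq : q ^ 2 - 1 = (q - 1) * (q + 1) := by
    obtain ⟨j, hj⟩ : ∃ j, q = j + 1 := ⟨q - 1, by omega⟩
    rw [hj]
    have e1 : (j + 1) ^ 2 - 1 = j * (j + 2) := by
      have : (j + 1) ^ 2 = j * (j + 2) + 1 := by ring
      omega
    have e2 : j + 1 - 1 = j := by omega
    rw [e1, e2]
  intro htop
  have hc : 2 * Nat.card (nrm (D.comp g)) = q * (q ^ 2 - 1) := by
    rw [htop, Subgroup.card_top, hG]
  rw [hqq] at hc
  rcases D.dich g hg with hp | hcop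
  · have h1 := card_nrm_unipotent (tPack p) (uPack p) g hg hp
    rw [hgcd] at h1
    have h1' : 2 * Nat.card (nrm (D.comp g)) = q * (q - 1) := by rw [mul_comm]; exact h1
    rw [h1'] at hc
    have h2 : q * (q - 1) * 1 = q * (q - 1) * (q + 1) := by
      rw [mul_one, mul_assoc]; exact hc
    have hpos : 0 < q * (q - 1) := Nat.mul_pos (by omega) (by omega)
    have := Nat.eq_of_mul_eq_mul_left hpos h2
    omega
  · obtain ⟨h1, h2, -⟩ := hnrmT g hg hcop
    rw [h2] at hc
    have hq1 : (q - 1) * (q + 1) ≥ 4 * (q + 1) := Nat.mul_le_mul_right _ (by omega)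
    have hq2 : q * ((q - 1) * (q + 1)) ≥ 5 * ((q - 1) * (q + 1)) := Nat.mul_le_mul_right _ h5
    rcases h1 with h1 | h1
    · rw [h1] at hc; omega
    · rw [h1] at hc; omega


section core
variable {K : Type*} [Field K] [Fintype K] [CharP K p] (f : F →+* K)
  (hsq : ∀ c : F, c ≠ 0 → IsSquare (f c))

theorem relIndex_LG (hodd : Odd (Fintype.card F)) (X : Subgroup PG)
    (hX : ¬ X ≤ (LG : Subgroup PG)) : ((LG : Subgroup PG).subgroupOf X).index = 2 := by
  haveI := normal_LG (F := F) hodd
  have h1 : (LG : Subgroup PG).relIndex X ∣ 2 := by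
    have := Subgroup.relIndex_dvd_index_of_normal (LG : Subgroup PG) X
    rwa [index_LG (F := F) hodd] at this
  have h2 : (LG : Subgroup PG).relIndex X ≠ 1 := by
    intro h
    exact hX (Subgroup.relIndex_eq_one.1 h)
  rcases (Nat.dvd_prime Nat.prime_two).1 h1 with h | h
  · exact absurd h h2
  · exact h

include f hsq in
omit [CharP K p] in
theorem max_pgl_core [CharP K p] (hodd : Odd (Fintype.card F)) (h3 : 3 < Fintype.card F)
    (M : Subgroup PG) (hM : IsCoatom M) (hML : ¬ (LG : Subgroup PG) ≤ M) : ConclG M := by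
  classical
  have pp : p.Prime := Fact.out
  have h5 : 5 ≤ Fintype.card F := by
    obtain ⟨c, hc⟩ := hodd
    omega
  set q := Fintype.card F with hq
  set DP := dPG p f hsq with hDP
  set D := dstruct (tPack (F := F) p) (uPack p) with hD
  have hGcard : Nat.card PG = q * (q ^ 2 - 1) := Cfsg.Agent.Lib.Helper98.DicksonMax.card_pgl2
  have hLcard : 2 * Nat.card PSL2 = q * (q ^ 2 - 1) :=
    Cfsg.Agent.Lib.Helper98.DicksonMax.card_psl2_odd hodd
  have hpq : p ∣ q := by
    rw [← CharP.cast_eq_zero_iff F p]
    exact Nat.cast_card_eq_zero F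
  have hpodd : Odd p := by
    rcases pp.eq_two_or_odd' with h | h
    · exfalso
      rw [h] at hpq
      obtain ⟨c, hc⟩ := hodd
      omega
    · exact h
  have hqq : q ^ 2 - 1 = (q - 1) * (q + 1) := by
    obtain ⟨j, hj⟩ : ∃ j, q = j + 1 := ⟨q - 1, by omega⟩
    rw [hj]
    have e1 : (j + 1) ^ 2 - 1 = j * (j + 2) := by
      have : (j + 1) ^ 2 = j * (j + 2) + 1 := by ring
      omega
    have e2 : j + 1 - 1 = j := by omega
    rw [e1, e2]
  -- `PG` is not a `2`-group, and `8` divides its order
  have hnot2 : ¬ IsPGroup 2 PG := by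
    intro h
    haveI : Fact (Nat.Prime 2) := ⟨Nat.prime_two⟩
    obtain ⟨n, hn⟩ := h.exists_card_eq
    have h1 : q ∣ 2 ^ n := by rw [← hn, hGcard]; exact dvd_mul_right _ _
    have h2 : Nat.Coprime q (2 ^ n) := Nat.Coprime.pow_right n (Nat.coprime_two_right.mpr hodd)
    have := Nat.Coprime.eq_one_of_dvd h2 h1
    omega
  have h8 : 2 ^ 3 ∣ Nat.card PG := by
    rw [hGcard, hqq]
    obtain ⟨c, hc⟩ := hodd
    have e1 : q - 1 = 2 * c := by omega
    have e2 : q + 1 = 2 * (c + 1) := by omega
    rw [e1, e2]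
    have : 2 ∣ c * (c + 1) := (Nat.even_mul_succ_self c).two_dvd
    obtain ⟨d, hd⟩ := this
    refine ⟨q * d, ?_⟩
    calc q * (2 * c * (2 * (c + 1))) = q * (4 * (c * (c + 1))) := by ring
      _ = 2 ^ 3 * (q * d) := by rw [hd]; ring
  have hMLG : ¬ M ≤ (LG : Subgroup PG) := by
    intro h
    rcases (hM.le_iff).1 h with h' | h'
    · have := index_LG (F := F) hodd
      rw [h', Subgroup.index_top] at this
      omega
    · exact hML (le_of_eq h')
  have hMcard : Nat.card M = 2 * Nat.card (M ⊓ LG : Subgroup PG) := card_eq_two_mul hodd M hMLG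
  have hidx : ((LG : Subgroup PG).subgroupOf M).index = 2 := relIndex_LG hodd M hMLG
  -- small `2`-groups are excluded
  have hsmall : Nat.card M = 1 ∨ Nat.card M = 2 ∨ Nat.card M = 4 → False := by
    intro h
    have h2 : IsPGroup 2 M := by
      rcases h with h | h | h
      · exact IsPGroup.of_card (n := 0) (by rw [h]; norm_num)
      · exact IsPGroup.of_card (n := 1) (by rw [h]; norm_num)
      · exact IsPGroup.of_card (n := 2) (by rw [h]; norm_num)
    have h3 := two_group_coatom M hM h2 hnot2 3 h8
    rcases h with h | h | h <;> rw [h] at h3 <;> omega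
  -- a nontrivial element of `M ⊓ LG`
  have hex : ∃ a : PSL2, a ≠ 1 ∧ toP a ∈ M := by
    by_contra hcon
    push Not at hcon
    have : (M ⊓ LG : Subgroup PG) = ⊥ := by
      rw [Subgroup.eq_bot_iff_forall]
      rintro x ⟨hxM, hxL⟩
      obtain ⟨a, rfl⟩ := exists_of_mem_LG hxL
      by_contra hne
      have ha : a ≠ 1 := by
        rintro rfl
        exact hne (map_one _)
      exact hcon a ha hxM
    rw [this, Subgroup.card_bot] at hMcard
    exact hsmall (Or.inr (Or.inl hMcard))
  -- maximality
  have hmax : ∀ a : PSL2, a ≠ 1 → M ≤ nrm (DP.comp (toP a)) → M = nrm (DP.comp (toP a)) := by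
    intro a ha hle
    rcases (hM.le_iff).1 hle with h | h
    · exfalso
      have h1 := nrm_inf_LG p f hsq ha
      rw [← hDP, h, top_inf_eq, LG_eq] at h1
      have h2 : nrm (D.comp a) = ⊤ := by
        rw [eq_top_iff]
        intro y _
        have : toP y ∈ (toP).range := ⟨y, rfl⟩
        rw [h1] at this
        obtain ⟨y', hy', hyy'⟩ := this
        rw [← toP_injective hyy']
        exact hy'
      exact nrm_comp_ne_top p hodd h5 a ha h2
    · exact h.symm
  have hcardmax : ∀ a : PSL2, a ≠ 1 → M = nrm (DP.comp (toP a)) →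
      Nat.card M = 2 * Nat.card (nrm (D.comp a)) := by
    intro a ha h
    rw [hMcard]
    congr 1
    rw [h, nrm_inf_LG p f hsq ha, card_map_toP]
  -- the case of a subgroup of a torus
  have hcase2 : ∀ g, g ≠ 1 → (Nat.card (DP.comp g)).Coprime p → M ≤ DP.comp g → False := by
    intro g hg hT hle
    obtain ⟨a, ha, haM⟩ := hex
    have hag : toP a ∈ DP.comp g := hle haM
    have hcomp : DP.comp (toP a) = DP.comp g := DP.comp_eq g hg _ hag (toP_ne_one ha)
    have hle' : M ≤ nrm (DP.comp (toP a)) := by
      rw [hcomp]; exact le_trans hle Subgroup.le_normalizer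
    have h1 := hmax a ha hle'
    have hTa : (Nat.card (D.comp a)).Coprime p := by
      rw [← coprime_comp_toP_iff p f hsq ha, ← hDP, hcomp]; exact hT
    have h2 : Nat.card (nrm (D.comp a)) = 2 * Nat.card (D.comp a) :=
      (torus_facts_odd (F := F) p hodd a ha hTa).2.1
    -- `nrm = comp`
    have h3 : nrm (DP.comp (toP a)) = DP.comp (toP a) := by
      apply le_antisymm
      · rw [← h1, hcomp]; exact hle
      · exact Subgroup.le_normalizer
    have h4 : (nrm (D.comp a)).map toP = (D.comp a).map toP := by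
      rw [← nrm_inf_LG p f hsq ha, ← comp_inf_LG p f hsq a, ← hDP, h3]
    have h5' : Nat.card (nrm (D.comp a)) = Nat.card (D.comp a) := by
      rw [← card_map_toP, h4, card_map_toP]
    have hpos : 0 < Nat.card (D.comp a) := Nat.card_pos
    omega
  have hLsimple : IsSimpleGroup PSL2 :=
    Matrix.ProjectiveSpecialLinearGroup.rank_two_simple (by
      rw [Nat.card_eq_fintype_card]; omega)
  haveI hLGn := normal_LG (F := F) hodd
  -- `M` is the normalizer of `M ⊓ LG`
  have hSN : Subgroup.normalizer ((M ⊓ LG : Subgroup PG) : Set PG) = M := by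
    have hle : M ≤ Subgroup.normalizer ((M ⊓ LG : Subgroup PG) : Set PG) := by
      intro m hm
      rw [Subgroup.mem_normalizer_iff]
      intro h
      rw [Subgroup.mem_inf, Subgroup.mem_inf]
      constructor
      · rintro ⟨h1, h2⟩
        exact ⟨M.mul_mem (M.mul_mem hm h1) (M.inv_mem hm), hLGn.conj_mem h h2 m⟩
      · rintro ⟨h1, h2⟩
        refine ⟨?_, ?_⟩
        · have : h = m⁻¹ * (m * h * m⁻¹) * m := by group
          rw [this]
          exact M.mul_mem (M.mul_mem (M.inv_mem hm) h1) hm
        · have : h = m⁻¹ * (m * h * m⁻¹) * m⁻¹⁻¹ := by group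
          rw [this]
          exact hLGn.conj_mem _ h2 m⁻¹
    rcases (hM.le_iff).1 hle with h | h
    · exfalso
      have hn : (M ⊓ LG : Subgroup PG).Normal := Subgroup.normalizer_eq_top_iff.1 h
      have hn' : ((M ⊓ LG : Subgroup PG).comap toP).Normal := hn.comap _
      rcases hn'.eq_bot_or_eq_top with h' | h'
      · obtain ⟨a, ha, haM⟩ := hex
        have : a ∈ (M ⊓ LG : Subgroup PG).comap toP := ⟨haM, toP_mem a⟩
        rw [h', Subgroup.mem_bot] at this
        exact ha this
      · apply hML
        intro x hx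
        obtain ⟨a, rfl⟩ := exists_of_mem_LG hx
        have : a ∈ (M ⊓ LG : Subgroup PG).comap toP := by rw [h']; trivial
        exact this.1
    · exact h
  rcases DP.outcome M with h1 | ⟨g, hg, hT, hle⟩ | ⟨g, hgH, hg, hT, hle, hcard⟩ | ⟨g, hg, hU, hle⟩ |
    ⟨h12, g, hgH, hg, hx, hn⟩ | ⟨h24, g, hgH, hg, hT, hx, hn⟩ | ⟨h60, hall, hrel⟩ |
    ⟨g, hgH, hg, hU, k, hk2, hnk, hhk, hk, -⟩
  · -- trivial group
    exfalso
    apply hsmall
    left
    rw [h1, Subgroup.card_bot]
  · -- inside a torus
    exact (hcase2 g hg hT hle).elim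
  · -- normalizer of a torus
    -- a nontrivial element of `LG` in the torus
    have hex' : ∃ a : PSL2, a ≠ 1 ∧ toP a ∈ DP.XH M g := by
      by_contra hcon
      push Not at hcon
      have hbot : (DP.XH M g ⊓ LG : Subgroup PG) = ⊥ := by
        rw [Subgroup.eq_bot_iff_forall]
        rintro x ⟨hxM, hxL⟩
        obtain ⟨a, rfl⟩ := exists_of_mem_LG hxL
        by_contra hne
        have ha : a ≠ 1 := by
          rintro rfl
          exact hne (map_one _)
        exact hcon a ha hxM
      by_cases hXL : DP.XH M g ≤ (LG : Subgroup PG)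
      · have : DP.XH M g = ⊥ := by rw [← inf_eq_left.2 hXL, hbot]
        rw [this, Subgroup.card_bot] at hcard
        exact hsmall (Or.inr (Or.inl hcard))
      · have := card_eq_two_mul hodd _ hXL
        rw [hbot, Subgroup.card_bot] at this
        rw [this] at hcard
        exact hsmall (Or.inr (Or.inr hcard))
    obtain ⟨a, ha, haX⟩ := hex'
    have haM : toP a ∈ M := ((DP.mem_XH M).1 haX).1
    have hag : toP a ∈ DP.comp g := ((DP.mem_XH M).1 haX).2
    have hcomp : DP.comp (toP a) = DP.comp g := DP.comp_eq g hg _ hag (toP_ne_one ha)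
    have hle' : M ≤ nrm (DP.comp (toP a)) := by rw [hcomp]; exact hle
    have hMeq := hmax a ha hle'
    have hTa : (Nat.card (D.comp a)).Coprime p := by
      rw [← coprime_comp_toP_iff p f hsq ha, ← hDP, hcomp]; exact hT
    have htf := torus_facts_odd (F := F) p hodd a ha hTa
    rw [← hD] at htf
    obtain ⟨h1, h2, -⟩ := htf
    have hMc : Nat.card M = 2 * Nat.card (nrm (D.comp a)) := hcardmax a ha hMeq
    -- the torus lies in `M`
    have hcM : DP.comp g ≤ M := by
      rw [hMeq, hcomp]; exact Subgroup.le_normalizer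
    have hXeq : DP.XH M g = DP.comp g := inf_eq_right.2 hcM
    rw [hXeq] at hcard
    haveI hcyc : IsCyclic (DP.comp g) := DP.t_cyc g hg hT
    set Y : Subgroup M := (DP.comp g).subgroupOf M with hY
    have hYc : Nat.card Y = Nat.card (DP.comp g) := DStruct.card_subgroupOf_of_le M hcM
    haveI : IsCyclic Y :=
      (MulEquiv.isCyclic (Subgroup.subgroupOfEquivOfLe hcM)).2 hcyc
    have hYi : Y.index = 2 := by
      have h4 := Y.card_mul_index
      rw [hYc, hcard] at h4
      have hpos : 0 < Nat.card (DP.comp g) := Nat.card_pos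
      have h5' : Nat.card (DP.comp g) * Y.index = Nat.card (DP.comp g) * 2 := by rw [h4]; ring
      exact Nat.eq_of_mul_eq_mul_left hpos h5'
    have hinv : ∀ m : M, m ∉ Y → m ^ 2 = 1 := by
      intro m hm
      have h4 := (DP.t_inv g hg hT m.1 (hle m.2) (fun h => hm (by rw [hY, Subgroup.mem_subgroupOf]; exact h))).1
      exact Subtype.ext (by simpa using h4)
    obtain ⟨e⟩ := Cfsg.Agent.Lib.Helper19.Recog.dihedral_of_index_two Y hYi hinv
    rw [hYc] at e
    have hcg : Nat.card (DP.comp g) = 2 * Nat.card (D.comp a) := by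
      have : 2 * Nat.card (DP.comp g) = 2 * (2 * Nat.card (D.comp a)) := by
        rw [← hcard, hMc, h2]
      omega
    rcases h1 with h1 | h1
    · right; left
      refine ⟨?_, ?_⟩
      · -- `q ≠ 5`
        intro hq5'
        have hq5 : q = 5 := hq5'
        have hc2 : Nat.card (D.comp a) = 2 := by omega
        have hV4 : Nat.card (nrm (D.comp a)) = 4 := by omega
        have hL60 : Nat.card PSL2 = 60 := by
          have h := hLcard
          rw [hq5] at h
          have h120 : (5 : ℕ) * (5 ^ 2 - 1) = 120 := by norm_num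
          rw [h120] at h
          omega
        haveI : Fact (Nat.Prime 2) := ⟨Nat.prime_two⟩
        have hVp : IsPGroup 2 (nrm (D.comp a)) := IsPGroup.of_card (n := 2) (by rw [hV4]; norm_num)
        obtain ⟨P, hP⟩ := hVp.exists_le_sylow
        obtain ⟨n, hn⟩ := P.2.exists_card_eq
        have hPd : Nat.card (P : Subgroup PSL2) ∣ 60 := by
          rw [← hL60]; exact Subgroup.card_subgroup_dvd_card _
        have hVd : 4 ∣ Nat.card (P : Subgroup PSL2) := by
          rw [← hV4]; exact Subgroup.card_dvd_of_le hP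
        have hP4 : Nat.card (P : Subgroup PSL2) = 4 := by
          rw [hn] at hPd hVd ⊢
          have hn3 : n < 3 := by
            by_contra hcon
            push Not at hcon
            have : 2 ^ 3 ∣ 2 ^ n := pow_dvd_pow 2 hcon
            have := dvd_trans this hPd
            omega
          interval_cases n <;> omega
        have hVP : nrm (D.comp a) = P :=
          DStruct.eq_of_card_eq hP (by rw [hV4, hP4])
        apply burnside_contra P
        · intro x hx y hy
          haveI := IsPGroup.isMulCommutative_of_card_eq_prime_sq (p := 2)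
            (G := (P : Subgroup PSL2)) (by rw [hP4]; norm_num)
          have := (IsMulCommutative.is_comm (M := (P : Subgroup PSL2))).comm ⟨x, hx⟩ ⟨y, hy⟩
          exact congrArg Subtype.val this
        · rw [← hVP]
          intro y hy
          have h4 : toP y ∈ Subgroup.normalizer ((M ⊓ LG : Subgroup PG) : Set PG) := by
            rw [hMeq, nrm_inf_LG p f hsq ha, ← hD]
            rw [Subgroup.mem_normalizer_iff] at hy ⊢
            intro z
            constructor
            · rintro ⟨z', hz', rfl⟩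
              refine ⟨y * z' * y⁻¹, (hy z').1 hz', ?_⟩
              rw [map_mul, map_mul, map_inv]
            · rintro ⟨w, hw, hwz⟩
              have hzL : z ∈ (LG : Subgroup PG) := by
                have h6 : toP y * z * (toP y)⁻¹ ∈ (LG : Subgroup PG) := by rw [← hwz]; exact toP_mem w
                have : z = (toP y)⁻¹ * (toP y * z * (toP y)⁻¹) * (toP y)⁻¹⁻¹ := by group
                rw [this]
                exact hLGn.conj_mem _ h6 _
              obtain ⟨z', rfl⟩ := exists_of_mem_LG hzL
              refine ⟨z', ?_, rfl⟩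
              rw [← map_inv, ← map_mul, ← map_mul] at hwz
              have := toP_injective hwz
              have h7 : y * z' * y⁻¹ ∈ nrm (D.comp a) := by rw [← this]; exact hw
              exact (hy z').2 h7
          rw [hSN] at h4
          have h6 : toP y ∈ (M ⊓ LG : Subgroup PG) := ⟨h4, toP_mem y⟩
          rw [hMeq, nrm_inf_LG p f hsq ha, ← hD] at h6
          obtain ⟨y', hy', hyy'⟩ := h6
          rw [← toP_injective hyy']
          exact hy'
        · intro h
          rw [h, Subgroup.card_bot] at hP4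
          omega
        · intro h
          rw [h, Subgroup.card_top, hL60] at hP4
          omega
      · have : Nat.card (DP.comp g) = q - 1 := by omega
        rw [this] at e
        exact ⟨e⟩
    · right; right; left
      have : Nat.card (DP.comp g) = q + 1 := by omega
      rw [this] at e
      exact ⟨e⟩
  · -- Borel
    by_cases hbot : M ⊓ DP.comp g = ⊥
    · exfalso
      let φ : M →* nrm (DP.comp g) ⧸ (DP.comp g).subgroupOf (nrm (DP.comp g)) :=
        (QuotientGroup.mk' _).comp (Subgroup.inclusion hle)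
      have hφ : Function.Injective φ := by
        rw [injective_iff_map_eq_one]
        intro m hm
        have h1 : (Subgroup.inclusion hle m) ∈ (DP.comp g).subgroupOf (nrm (DP.comp g)) := by
          rw [← QuotientGroup.eq_one_iff]; exact hm
        rw [Subgroup.mem_subgroupOf] at h1
        have h2 : m.1 ∈ M ⊓ DP.comp g := ⟨m.2, h1⟩
        rw [hbot, Subgroup.mem_bot] at h2
        exact Subtype.ext h2
      haveI := DP.isCyclic_quot hg hU
      haveI : IsCyclic M := isCyclic_of_injective φ hφ
      obtain ⟨m₀, hm₀⟩ := IsCyclic.exists_generator (α := M)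
      have hm1 : m₀.1 ≠ 1 := by
        intro h
        have hm1' : m₀ = 1 := Subtype.ext h
        have : Nat.card M = 1 := by
          rw [Nat.card_eq_one_iff_unique]
          refine ⟨⟨fun x y => ?_⟩, ⟨1⟩⟩
          obtain ⟨i, hi⟩ := hm₀ x
          obtain ⟨j, hj⟩ := hm₀ y
          rw [← hi, ← hj, hm1']; simp
        exact hsmall (Or.inl this)
      have hMle : M ≤ DP.comp m₀.1 := by
        intro x hx
        obtain ⟨i, hi⟩ := hm₀ ⟨x, hx⟩
        have : x = m₀.1 ^ i := by
          have := congrArg Subtype.val hi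
          simpa using this.symm
        rw [this]
        exact Subgroup.zpow_mem _ (DP.mem_comp _) _
      rcases DP.dich m₀.1 hm1 with h | h
      · obtain ⟨k, hk⟩ := (isPGroup_comp_iff p DP hm1).1 h
        have h1 : orderOf m₀.1 ∣ p ^ k := orderOf_dvd_of_pow_eq_one hk
        have h2 : m₀.1 ∉ DP.comp g := by
          intro hc
          have h3 : m₀.1 ∈ M ⊓ DP.comp g := ⟨m₀.2, hc⟩
          rw [hbot, Subgroup.mem_bot] at h3
          exact hm1 h3
        have h3 := DP.u_not_dvd g hg hU m₀.1 (hle m₀.2) h2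
        obtain ⟨j, -, hj⟩ := (Nat.dvd_prime_pow pp).1 h1
        rcases Nat.eq_zero_or_pos j with hj0 | hj0
        · rw [hj0, pow_zero, orderOf_eq_one_iff] at hj
          exact hm1 hj
        · apply h3
          rw [hj]
          exact dvd_pow_self p (by omega)
      · exact hcase2 m₀.1 hm1 h hMle
    · left
      obtain ⟨u, hu1⟩ := (Subgroup.ne_bot_iff_exists_ne_one).mp hbot
      have hu1' : u.1 ≠ 1 := fun h => hu1 (Subtype.ext h)
      have huM : u.1 ∈ M := u.2.1
      have hug : u.1 ∈ DP.comp g := u.2.2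
      obtain ⟨k, hk⟩ := hU ⟨u.1, hug⟩
      have hk' : u.1 ^ p ^ k = 1 := by simpa using congrArg Subtype.val hk
      have hoo : Odd (orderOf u.1) := by
        have h1 : orderOf u.1 ∣ p ^ k := orderOf_dvd_of_pow_eq_one hk'
        exact Odd.of_dvd_nat (hpodd.pow) h1
      obtain ⟨a, hau⟩ := exists_of_mem_LG (mem_LG_of_odd hodd u.1 hoo)
      have ha : a ≠ 1 := by
        rintro rfl
        rw [map_one] at hau
        exact hu1' hau.symm
      have hcomp : DP.comp (toP a) = DP.comp g := by
        rw [hau]; exact DP.comp_eq g hg _ hug hu1'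
      have hMeq := hmax a ha (by rw [hcomp]; exact hle)
      have hpa : IsPGroup p (D.comp a) := by
        rw [← isPGroup_comp_toP_iff p f hsq ha, ← hDP, hcomp]; exact hU
      have h1 := card_nrm_unipotent (tPack p) (uPack p) a ha hpa
      rw [gcd_two_odd' hodd] at h1
      have h2 := hcardmax a ha hMeq
      show Nat.card M = q * (q - 1)
      rw [h2, ← h1, mul_comm]
      rfl
  · -- order 12
    exfalso
    have hXN : DP.XH M g = DP.NH M g := DStruct.eq_of_card_eq (DP.XH_le_NH M g) (by rw [hx, hn])
    have hA4 : Nonempty (M ≃* alternatingGroup (Fin 4)) := by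
      apply Cfsg.Agent.Lib.Helper19.Recog.a4_of_card h12 ((DP.XH M g).subgroupOf M)
      · rw [DStruct.card_subgroupOf_of_le M (DP.XH_le M g), hx]
      · rw [DP.normalizer_subgroupOf M hg hgH, hXN]
    obtain ⟨e⟩ := hA4
    exact iso_alt_no_index_two 4 e _ hidx
  · -- order 24
    obtain ⟨⟨e⟩, hp3⟩ := iso_s4_of_outcome DP M h24 g hgH hg hT hx hn
    obtain ⟨h1, h2⟩ := case_s4 p f hsq hodd M hM hMLG hidx hSN e hp3
    right; right; right; left
    exact ⟨h1, h2, ⟨e⟩⟩
  · -- order 60
    exfalso
    obtain ⟨e⟩ := iso_a5_of_outcome DP M h60 hall hrel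
    exact iso_alt_no_index_two 5 e _ hidx
  · -- two-transitive case
    have hyp : Cfsg.Agent.Lib.Helper19.TwoTrans.Hyp p (Nat.card (DP.XH M g)) k M (DP.XH M g) := by
      refine ⟨inf_le_left, hU.to_le inf_le_right, rfl, ?_, ?_⟩
      · rw [← DP.NH_eq M hg hgH, hnk]
      · rw [hhk]; ring
    have hP : 1 < Nat.card (DP.XH M g) := by
      have : Nontrivial (DP.XH M g) :=
        ⟨⟨⟨g, DP.self_mem_XH M hgH⟩, 1, fun h => hg (by simpa using congrArg Subtype.val h)⟩⟩
      exact Finite.one_lt_card
    right; right; right; right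
    rcases hk with hk | hk
    · exact tt_main p hodd M hM hMLG hSN _ _ k hyp hP hk
    · exact (tt_excl p f hsq hodd M _ _ k hyp hk2 hk hidx).elim

end core

/-- **Maximal subgroups of `PGL₂(q)`, `q > 3` odd, not containing `PSL₂(q)`.** -/
theorem max_pgl (hodd : Odd (Fintype.card F)) (h3 : 3 < Fintype.card F)
    (M : Subgroup PG) (hM : IsCoatom M) (hML : ¬ (LG : Subgroup PG) ≤ M) : ConclG M := by
  obtain ⟨p, hp⟩ := CharP.exists F
  haveI : Fact p.Prime := ⟨CharP.char_is_prime F p⟩
  obtain ⟨K, _, _, _, f, hK⟩ := exists_quadratic_ext (F := F) p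
  exact max_pgl_core p f (isSquare_of_card_sq f hodd hK) hodd h3 M hM hML

end

end Cfsg.Agent.Lib.Helper98.PGL2
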