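import Mathlib
import Cfsg.Agent.Lib.Helper98.PGL2D
import Cfsg.Agent.Lib.Helper98.PSL2Perm2

set_option autoImplicit false
set_option linter.unusedSimpArgs false
set_option linter.unusedSectionVars false
set_option linter.style.haveILetI false
set_option maxHeartbeats 1600000

/-!
# Number theory and small group lemmas for the maximality of `M ∩ PSL₂(q)` (helper98)
-/

namespace Cfsg.Agent.Lib.Helper98.PGLM

/-- `x^m - 1 ∣ x^n - 1` forces `m ∣ n` -/
theorem dvd_of_pow_sub_one_dvd (x m n : ℕ) (hx : 2 ≤ x) (h : x ^ m - 1 ∣ x ^ n - 1) : m ∣ n := by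
  have h1 := Nat.pow_sub_one_gcd_pow_sub_one x m n
  rw [Nat.gcd_eq_left h] at h1
  have h2 : 1 ≤ x ^ m := Nat.one_le_pow _ _ (by omega)
  have h3 : 1 ≤ x ^ Nat.gcd m n := Nat.one_le_pow _ _ (by omega)
  have h4 : x ^ m = x ^ Nat.gcd m n := by omega
  have h5 := Nat.pow_right_injective hx h4
  rw [h5]
  exact Nat.gcd_dvd_right m n

/-- a simple group has no proper subgroup of small index -/
theorem simple_index_factorial {G : Type*} [Group G] [Finite G] [IsSimpleGroup G]
    (H : Subgroup G) (hH : H ≠ ⊤) : Nat.card G ∣ (H.index).factorial := by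
  classical
  have hfi : H.FiniteIndex := Subgroup.finiteIndex_of_finite_quotient
  have hker : (MulAction.toPermHom G (G ⧸ H)).ker = ⊥ := by
    rcases (MulAction.toPermHom G (G ⧸ H)).normal_ker.eq_bot_or_eq_top with h | h
    · exact h
    · exfalso
      apply hH
      rw [eq_top_iff]
      intro g _
      have h1 : g ∈ (MulAction.toPermHom G (G ⧸ H)).ker := by rw [h]; trivial
      rw [MonoidHom.mem_ker] at h1
      have h2 := congrArg (fun σ : Equiv.Perm (G ⧸ H) => σ ((1 : G) : G ⧸ H)) h1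
      simp only [MulAction.toPermHom_apply, MulAction.toPerm_apply, Equiv.Perm.coe_one, id_eq] at h2
      have h3 : ((g * 1 : G) : G ⧸ H) = ((1 : G) : G ⧸ H) := h2
      rw [mul_one, QuotientGroup.eq] at h3
      simpa using h3
  have hinj : Function.Injective (MulAction.toPermHom G (G ⧸ H)) :=
    (MonoidHom.ker_eq_bot_iff _).1 hker
  have h1 : Nat.card G ∣ Nat.card (Equiv.Perm (G ⧸ H)) :=
    Subgroup.card_dvd_of_injective _ hinj
  have : Fintype (G ⧸ H) := Fintype.ofFinite _
  rw [Nat.card_eq_fintype_card (α := Equiv.Perm (G ⧸ H)), Fintype.card_perm,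
    ← Nat.card_eq_fintype_card] at h1
  exact h1


/-- subgroups of `A₅` have index `1` or at least `5` -/
theorem a5_index {H : Type*} [Group H] (e : H ≃* alternatingGroup (Fin 5)) (N : Subgroup H)
    (h : N.index = 2 ∨ N.index = 3) : False := by
  haveI : IsSimpleGroup (alternatingGroup (Fin 5)) := alternatingGroup.isSimpleGroup (by simp)
  haveI : IsSimpleGroup H := e.isSimpleGroup
  haveI : Finite H := Finite.of_equiv _ e.symm.toEquiv
  have hc : Nat.card H = 60 := by
    rw [Nat.card_congr e.toEquiv]; exact Cfsg.Agent.Lib.Helper98.PSL2Perm.card_A5'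
  have hN : N ≠ ⊤ := by
    rintro rfl
    rw [Subgroup.index_top] at h
    omega
  have h1 := simple_index_factorial N hN
  rw [hc] at h1
  rcases h with h | h <;> rw [h] at h1 <;> revert h1 <;> decide

/-- the rotation subgroup of a dihedral group -/
def rot (k : ℕ) : Subgroup (DihedralGroup k) where
  carrier := {g | ∃ i, g = DihedralGroup.r i}
  mul_mem' := by
    rintro _ _ ⟨i, rfl⟩ ⟨j, rfl⟩
    exact ⟨i + j, by simp⟩
  one_mem' := ⟨0, DihedralGroup.one_def⟩
  inv_mem' := by
    rintro _ ⟨i, rfl⟩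
    exact ⟨-i, by simp⟩

theorem rot_comm (k : ℕ) (a b : DihedralGroup k) (ha : a ∈ rot k) (hb : b ∈ rot k) :
    a * b = b * a := by
  obtain ⟨i, rfl⟩ := ha
  obtain ⟨j, rfl⟩ := hb
  simp [add_comm]

theorem mem_rot_of_cube (k : ℕ) (a : DihedralGroup k) (h : a ^ 3 = 1) : a ∈ rot k := by
  cases a with
  | r i => exact ⟨i, rfl⟩
  | sr i =>
    exfalso
    have h1 : (DihedralGroup.sr i) ^ 3 = DihedralGroup.sr i := by
      rw [pow_succ, pow_two, DihedralGroup.sr_mul_self, one_mul]
    rw [h1, DihedralGroup.one_def] at h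
    cases h

/-- `A₄` does not embed in a dihedral group -/
theorem a4_not_in_dihedral (k : ℕ) (ψ : alternatingGroup (Fin 4) →* DihedralGroup k)
    (hψ : Function.Injective ψ) : False := by
  have hle : (⊤ : Subgroup (alternatingGroup (Fin 4))) ≤ (rot k).comap ψ := by
    rw [← alternatingGroup.closure_isThreeCycles_eq_top, Subgroup.closure_le]
    intro g hg
    show ψ g ∈ rot k
    apply mem_rot_of_cube
    have h3 : g ^ 3 = 1 := by
      apply Subtype.ext
      have := hg.orderOf
      rw [Subgroup.coe_pow, Subgroup.coe_one, ← this]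
      exact pow_orderOf_eq_one _
    rw [← map_pow, h3, map_one]
  have hcomm : ∀ a b : alternatingGroup (Fin 4), a * b = b * a := by
    intro a b
    apply hψ
    rw [map_mul, map_mul]
    exact rot_comm k _ _ (hle (Subgroup.mem_top a)) (hle (Subgroup.mem_top b))
  have := hcomm Cfsg.Agent.Lib.Helper98.PSL2Perm.a4x Cfsg.Agent.Lib.Helper98.PSL2Perm.a4y
  revert this
  decide


/-- a finite field, a power of whose order is a power of `p`, has `p`-power order -/
theorem card_eq_prime_pow {F₁ : Type*} [Field F₁] [Fintype F₁] (p : ℕ) (hp : p.Prime) (n e : ℕ)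
    (h : Fintype.card F₁ ^ e = p ^ n) (he : e ≠ 0) : ∃ a, 0 < a ∧ Fintype.card F₁ = p ^ a := by
  obtain ⟨p₁, -, a, hp₁, ha⟩ := FiniteField.card' F₁
  refine ⟨a, a.pos, ?_⟩
  have h1 : p₁ ∣ p ^ n := by
    rw [← h, ha, ← pow_mul]
    exact dvd_pow_self p₁ (by
      have := a.pos
      exact Nat.mul_ne_zero (by omega) he)
  have h2 : p₁ = p := (Nat.prime_dvd_prime_iff_eq hp₁ hp).1 (hp₁.dvd_of_dvd_pow h1)
  rw [ha, h2]


theorem coprime_sq_add_one (c : ℕ) : Nat.Coprime (c ^ 2 + 1) c := by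
  have : c ^ 2 + 1 = 1 + c * c := by ring
  rw [this]
  simp

theorem coprime_sq_sub_one (c : ℕ) (hc : 1 ≤ c) : Nat.Coprime (c ^ 2 - 1) c := by
  have h : (c ^ 2 - 1) + 1 = c * c := by
    have : 1 ≤ c ^ 2 := Nat.one_le_pow _ _ hc
    rw [pow_two] at this ⊢
    omega
  have h2 : Nat.Coprime (c ^ 2 - 1) (c ^ 2 - 1 + 1) := by simp
  rw [h] at h2
  exact Nat.Coprime.coprime_mul_left_right h2

/-- `c (c² - 1) < c³` -/
theorem cube_bound (c : ℕ) (hc : 1 ≤ c) : c * (c ^ 2 - 1) < c ^ 3 := by
  have h1 : 1 ≤ c ^ 2 := Nat.one_le_pow _ _ hc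
  have h2 : c ^ 3 = c * c ^ 2 := by ring
  rw [h2]
  exact Nat.mul_lt_mul_of_pos_left (by omega) (by omega)

end Cfsg.Agent.Lib.Helper98.PGLM
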