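import Mathlib
import Cfsg.Agent.Lib.Helper98.PGL2G

set_option autoImplicit false
set_option linter.unusedSimpArgs false
set_option linter.unusedSectionVars false
set_option linter.style.haveILetI false
set_option maxHeartbeats 1600000

/-!
# Element orders in `PGL₂(q)`, `q` odd (helper98)
-/

namespace Cfsg.Agent.Lib.Helper98.PGLM

open Matrix Cfsg.Agent.Lib.Helper48.Dickson Cfsg.Agent.Lib.Helper98.PSL2Max
open Cfsg.Agent.Lib.Helper98.PSL2NF Cfsg.Agent.Lib.Helper19.TwoTrans
open Cfsg.Agent.Lib.Helper98.PSL2MaxOdd Cfsg.Agent.Lib.Helper98.PGL2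

section
variable {F : Type*} [Field F] [Fintype F]

local notation "SL2" => Matrix.SpecialLinearGroup (Fin 2) F
local notation "PSL2" => Matrix.ProjectiveSpecialLinearGroup (Fin 2) F
local notation "PG" => Matrix.ProjGenLinGroup (Fin 2) F
local notation "toP" => (Matrix.ProjectiveSpecialLinearGroup.toPGL (n := Fin 2) (R := F))

attribute [local instance] finite_PG

variable (p : ℕ) [Fact p.Prime] [CharP F p]

/-- element orders prime to the characteristic in `PGL₂(q)` divide `q - 1` or `q + 1` -/
theorem orderOf_dvd_of_coprime (hodd : Odd (Fintype.card F)) (x : PG)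
    (hx : (orderOf x).Coprime p) :
    orderOf x ∣ Fintype.card F - 1 ∨ orderOf x ∣ Fintype.card F + 1 := by
  classical
  have pp : p.Prime := Fact.out
  obtain ⟨K, _, _, _, f, hK⟩ := exists_quadratic_ext (F := F) p
  have hsq := isSquare_of_card_sq f hodd hK
  set q := Fintype.card F with hq
  set DP := dPG p f hsq with hDP
  set D := dstruct (tPack (F := F) p) (uPack p) with hD
  by_cases hx1 : x = 1
  · left; rw [hx1, orderOf_one]; exact one_dvd _
  rcases DP.dich x hx1 with hU | hT
  · left
    obtain ⟨k, hk⟩ := (isPGroup_comp_iff p DP hx1).1 hU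
    have h1 : orderOf x ∣ p ^ k := orderOf_dvd_of_pow_eq_one hk
    have h2 : (orderOf x).Coprime (p ^ k) := Nat.Coprime.pow_right k hx
    rw [Nat.Coprime.eq_one_of_dvd h2 h1]
    exact one_dvd _
  · have hxT : orderOf x ∣ Nat.card (DP.comp x) := Subgroup.orderOf_dvd_natCard _ (DP.mem_comp x)
    have hq2 : 2 ∣ q - 1 := by
      obtain ⟨c, hc⟩ := hodd
      exact ⟨c, by omega⟩
    suffices h : Nat.card (DP.comp x) ∣ q - 1 ∨ Nat.card (DP.comp x) ∣ q + 1 by
      rcases h with h | h
      · left; exact hxT.trans h
      · right; exact hxT.trans h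
    by_cases hbot : (DP.comp x ⊓ LG : Subgroup PG) = ⊥
    · by_cases hTL : DP.comp x ≤ (LG : Subgroup PG)
      · exfalso
        have : DP.comp x = ⊥ := by rw [← inf_eq_left.2 hTL, hbot]
        have h1 := DP.mem_comp x
        rw [this, Subgroup.mem_bot] at h1
        exact hx1 h1
      · left
        rw [card_eq_two_mul hodd _ hTL, hbot, Subgroup.card_bot, mul_one]
        exact hq2
    · obtain ⟨y, hy1⟩ := (Subgroup.ne_bot_iff_exists_ne_one).mp hbot
      have hy1' : y.1 ≠ 1 := fun h => hy1 (Subtype.ext h)
      obtain ⟨a, ha⟩ := exists_of_mem_LG y.2.2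
      have ha1 : a ≠ 1 := by
        rintro rfl
        rw [map_one] at ha
        exact hy1' ha.symm
      have hcomp : DP.comp (toP a) = DP.comp x := by
        apply DP.comp_eq x hx1
        · rw [ha]; exact y.2.1
        · exact toP_ne_one ha1
      have hTa : (Nat.card (D.comp a)).Coprime p := by
        rw [← coprime_comp_toP_iff p f hsq ha1, ← hDP, hcomp]; exact hT
      obtain ⟨hk, -, -⟩ := torus_facts_odd (F := F) p hodd a ha1 hTa
      rw [← hD, ← hq] at hk
      have hinf : Nat.card (DP.comp x ⊓ LG : Subgroup PG) = Nat.card (D.comp a) := by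
        rw [← hcomp, comp_inf_LG p f hsq a, card_map_toP]
      by_cases hTL : DP.comp x ≤ (LG : Subgroup PG)
      · have hc : Nat.card (DP.comp x) = Nat.card (D.comp a) := by
          rw [← hinf, inf_eq_left.2 hTL]
        rw [hc]
        rcases hk with hk | hk
        · left; exact ⟨2, by rw [← hk]; ring⟩
        · right; exact ⟨2, by rw [← hk]; ring⟩
      · have hc : Nat.card (DP.comp x) = 2 * Nat.card (D.comp a) := by
          rw [card_eq_two_mul hodd _ hTL, hinf]
        rw [hc]
        rcases hk with hk | hk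
        · left; rw [hk]
        · right; rw [hk]

end

end Cfsg.Agent.Lib.Helper98.PGLM
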