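import Mathlib
import Cfsg.Agent.Lib.Helper98.PGLM1
import Cfsg.Agent.Lib.Helper98.PGLM2
import Cfsg.Agent.Lib.Helper98.PGL2F

set_option autoImplicit false
set_option linter.unusedSimpArgs false
set_option linter.unusedSectionVars false
set_option linter.style.haveILetI false
set_option maxHeartbeats 1600000

/-!
# Numerical form of the lists of maximal subgroups of `PSL₂(q)` and `PGL₂(q)` (helper98)
-/

namespace Cfsg.Agent.Lib.Helper98.PGLM

open Matrix Cfsg.Agent.Lib.Helper48.Dickson Cfsg.Agent.Lib.Helper98.PSL2Max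
open Cfsg.Agent.Lib.Helper98.PSL2NF Cfsg.Agent.Lib.Helper19.TwoTrans
open Cfsg.Agent.Lib.Helper98.PSL2MaxOdd Cfsg.Agent.Lib.Helper98.PGL2

section
variable {F : Type*} [Field F] [Fintype F]

local notation "SL2" => Matrix.SpecialLinearGroup (Fin 2) F
local notation "PSL2" => Matrix.ProjectiveSpecialLinearGroup (Fin 2) F
local notation "PG" => Matrix.ProjGenLinGroup (Fin 2) F
local notation "toP" => (Matrix.ProjectiveSpecialLinearGroup.toPGL (n := Fin 2) (R := F))

attribute [local instance] finite_PG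

/-- numerical form of the list of maximal subgroups of `PSL₂(q)` -/
def ConclN (p : ℕ) (H' : Subgroup PSL2) : Prop :=
    2 * Nat.card H' = Fintype.card F * (Fintype.card F - 1) ∨
    (13 ≤ Fintype.card F ∧ Nat.card H' = Fintype.card F - 1 ∧
      ∃ k : ℕ, Nonempty (H' ≃* DihedralGroup k)) ∨
    (Fintype.card F ≠ 7 ∧ Fintype.card F ≠ 9 ∧ Nat.card H' = Fintype.card F + 1 ∧
      ∃ k : ℕ, Nonempty (H' ≃* DihedralGroup k)) ∨
    (∃ (F₁ : Type) (_ : Field F₁) (_ : Fintype F₁) (b : ℕ), 0 < b ∧ Fintype.card F₁ = p ^ b ∧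
        Fintype.card F = (p ^ b) ^ 2 ∧ Nat.card H' = p ^ b * ((p ^ b) ^ 2 - 1) ∧
        Nonempty (H' ≃* Matrix.ProjGenLinGroup (Fin 2) F₁)) ∨
    (∃ (b r' : ℕ), 0 < b ∧ r'.Prime ∧ Odd r' ∧ Fintype.card F = (p ^ b) ^ r' ∧
        2 * Nat.card H' = p ^ b * ((p ^ b) ^ 2 - 1)) ∨
    ((Fintype.card F % 10 = 1 ∨ Fintype.card F % 10 = 9) ∧
        (Fintype.card F = p ∨ Fintype.card F = p ^ 2) ∧ Nat.card H' = 60 ∧
        Nonempty (H' ≃* alternatingGroup (Fin 5))) ∨
    (Fintype.card F = p ∧ (p % 8 = 3 ∨ p % 8 = 5) ∧ ¬ (p % 10 = 1 ∨ p % 10 = 9) ∧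
        Nat.card H' = 12 ∧ Nonempty (H' ≃* alternatingGroup (Fin 4))) ∨
    (Fintype.card F = p ∧ (p % 8 = 1 ∨ p % 8 = 7) ∧ Nat.card H' = 24)

theorem conclN_of_concl (p : ℕ) [Fact p.Prime] [CharP F p] (hodd : Odd (Fintype.card F))
    (H' : Subgroup PSL2) (h : Concl p H') : ConclN p H' := by
  have pp : p.Prime := Fact.out
  obtain ⟨n, -, hn⟩ := FiniteField.card F p
  rcases h with h | ⟨h13, k, hk, ⟨e⟩⟩ | ⟨h7, h9, k, hk, ⟨e⟩⟩ | ⟨F₁, _, _, hq, ⟨e⟩⟩ |
    ⟨F₁, _, _, r', hr', hr'o, hq, ⟨e⟩⟩ | ⟨h10, hqp, ⟨e⟩⟩ | ⟨hqp, h8, h10, ⟨e⟩⟩ | ⟨hqp, h8, ⟨e⟩⟩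
  · left; exact h
  · right; left
    refine ⟨h13, ?_, k, ⟨e⟩⟩
    rw [Nat.card_congr e.toEquiv, DihedralGroup.nat_card, hk]
  · right; right; left
    refine ⟨h7, h9, ?_, k, ⟨e⟩⟩
    rw [Nat.card_congr e.toEquiv, DihedralGroup.nat_card, hk]
  · right; right; right; left
    obtain ⟨b, hb, hFb⟩ := card_eq_prime_pow (F₁ := F₁) p pp n 2 (by rw [← hq, hn]) (by norm_num)
    refine ⟨F₁, inferInstance, inferInstance, b, hb, hFb, by rw [hq, hFb], ?_, ⟨e⟩⟩
    rw [Nat.card_congr e.toEquiv, Cfsg.Agent.Lib.Helper98.DicksonMax.card_pgl2, hFb]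
  · right; right; right; right; left
    obtain ⟨b, hb, hFb⟩ := card_eq_prime_pow (F₁ := F₁) p pp n r' (by rw [← hq, hn]) hr'.ne_zero
    refine ⟨b, r', hb, hr', hr'o, by rw [hq, hFb], ?_⟩
    have ho : Odd (Fintype.card F₁) := by
      rw [hq] at hodd
      exact Odd.of_dvd_nat hodd (dvd_pow_self _ hr'.ne_zero)
    rw [Nat.card_congr e.toEquiv, Cfsg.Agent.Lib.Helper98.DicksonMax.card_psl2_odd ho, hFb]
  · right; right; right; right; right; left
    refine ⟨h10, ?_, ?_, ⟨e⟩⟩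
    · rcases hqp with h | ⟨h, -⟩
      · left; exact h
      · right; exact h
    · rw [Nat.card_congr e.toEquiv]; exact Cfsg.Agent.Lib.Helper98.PSL2Perm.card_A5'
  · right; right; right; right; right; right; left
    refine ⟨hqp, h8, h10, ?_, ⟨e⟩⟩
    rw [Nat.card_congr e.toEquiv]; exact Cfsg.Agent.Lib.Helper98.PSL2Perm.card_A4'
  · right; right; right; right; right; right; right
    refine ⟨hqp, h8, ?_⟩
    rw [Nat.card_congr e.toEquiv]; exact card_S4'


theorem three_le_pow (p b : ℕ) (pp : p.Prime) (hpodd : Odd p) (hb : 0 < b) : 3 ≤ p ^ b := by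
  have h2 := pp.two_le
  have h3 : 3 ≤ p := by
    obtain ⟨c, hc⟩ := hpodd
    omega
  calc 3 ≤ p := h3
    _ = p ^ 1 := (pow_one p).symm
    _ ≤ p ^ b := Nat.pow_le_pow_right pp.pos hb

/-- type (a): the Borel subgroups -/
theorem typeA (p : ℕ) (pp : p.Prime) (hpodd : Odd p) (hodd : Odd (Fintype.card F))
    (h5 : 5 ≤ Fintype.card F) (h7 : Fintype.card F ≠ 7) (h9 : Fintype.card F ≠ 9)
    (h11 : Fintype.card F ≠ 11) (H₀ H' : Subgroup PSL2) (hle : H₀ ≤ H') (hN : ConclN p H')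
    (hM : 2 * Nat.card H₀ = Fintype.card F * (Fintype.card F - 1)) :
    Nat.card H₀ = Nat.card H' := by
  have hdvd : Nat.card H₀ ∣ Nat.card H' := Subgroup.card_dvd_of_le hle
  have hpos : 0 < Nat.card H' := Nat.card_pos
  have hle' : Nat.card H₀ ≤ Nat.card H' := Nat.le_of_dvd hpos hdvd
  obtain ⟨q, hq⟩ : ∃ q, q = Fintype.card F := ⟨_, rfl⟩
  rw [← hq] at hodd h5 h7 h9 h11 hM
  unfold ConclN at hN
  rw [← hq] at hN
  obtain ⟨h, hh⟩ : ∃ h, h = Nat.card H₀ := ⟨_, rfl⟩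
  obtain ⟨h', hh'⟩ : ∃ h', h' = Nat.card H' := ⟨_, rfl⟩
  rw [← hh, ← hh'] at hdvd hle' ⊢
  rw [← hh] at hM
  rw [← hh'] at hN hpos
  have hq5 : 5 * (q - 1) ≤ q * (q - 1) := Nat.mul_le_mul_right _ h5
  rcases hN with hB | ⟨h13, hB, -⟩ | ⟨-, -, hB, -⟩ | ⟨F₁, _, _, b, hb, -, hqb, hB, -⟩ |
    ⟨b, r', hb, hr', hr'o, hqb, hB⟩ | ⟨h10, hqp, hB, -⟩ | ⟨hqp, h8, h10, hB, -⟩ | ⟨hqp, h8, hB⟩
  · omega
  · exfalso; omega
  · exfalso; omega
  · exfalso
    have hc3 := three_le_pow p b pp hpodd hb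
    set c := p ^ b with hc
    have h1 : c ^ 2 - 1 = q - 1 := by rw [hqb]
    rw [h1] at hB
    have h2 : c * (c * (q - 1)) ≤ 2 * (c * (q - 1)) := by
      calc c * (c * (q - 1)) = q * (q - 1) := by rw [hqb]; ring
        _ = 2 * h := hM.symm
        _ ≤ 2 * h' := by omega
        _ = 2 * (c * (q - 1)) := by rw [hB]
    have h3 : 0 < c * (q - 1) := Nat.mul_pos (by omega) (by omega)
    have := Nat.le_of_mul_le_mul_right h2 h3
    omega
  · exfalso
    have hc3 := three_le_pow p b pp hpodd hb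
    set c := p ^ b with hc
    have hr3 : 3 ≤ r' := by
      have := hr'.two_le
      obtain ⟨d, hd⟩ := hr'o
      omega
    have h1 : c ^ 3 ≤ q := by rw [hqb]; exact Nat.pow_le_pow_right (by omega) hr3
    have h2 := cube_bound c (by omega)
    have h3 : q * (q - 1) < q * 1 := by
      calc q * (q - 1) = 2 * h := hM.symm
        _ ≤ 2 * h' := by omega
        _ = c * (c ^ 2 - 1) := hB
        _ < c ^ 3 := h2
        _ ≤ q := h1
        _ = q * 1 := (mul_one q).symm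
    have := Nat.lt_of_mul_lt_mul_left h3
    omega
  · exfalso
    have h13 : q = 5 ∨ 13 ≤ q := by
      obtain ⟨c, hc⟩ := hodd
      omega
    rcases h13 with h13 | h13
    · omega
    · have : 13 * (q - 1) ≤ q * (q - 1) := Nat.mul_le_mul_right _ h13
      omega
  · exfalso
    have h13 : q = 5 ∨ 13 ≤ q := by
      obtain ⟨c, hc⟩ := hodd
      omega
    rcases h13 with h13 | h13
    · have : h = 10 := by rw [h13] at hM; omega
      rw [this, hB] at hdvd
      revert hdvd; decide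
    · have : 13 * (q - 1) ≤ q * (q - 1) := Nat.mul_le_mul_right _ h13
      omega
  · exfalso
    have h13 : q = 5 ∨ 13 ≤ q := by
      obtain ⟨c, hc⟩ := hodd
      omega
    rcases h13 with h13 | h13
    · omega
    · have : 13 * (q - 1) ≤ q * (q - 1) := Nat.mul_le_mul_right _ h13
      omega


theorem relindex_mul {G : Type*} [Group G] [Finite G] (H₀ H' : Subgroup G) (hle : H₀ ≤ H') :
    (H₀.subgroupOf H').index * Nat.card H₀ = Nat.card H' := by
  have h1 := (H₀.subgroupOf H').card_mul_index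
  rw [DStruct.card_subgroupOf_of_le H' hle] at h1
  rw [mul_comm]; exact h1

/-- type (b): the dihedral groups of order `2(q - 1)` -/
theorem typeB (p : ℕ) (pp : p.Prime) (hpodd : Odd p) (hodd : Odd (Fintype.card F))
    (h5 : 5 ≤ Fintype.card F) (h7 : Fintype.card F ≠ 7) (h9 : Fintype.card F ≠ 9)
    (h11 : Fintype.card F ≠ 11) (H₀ H' : Subgroup PSL2) (hle : H₀ ≤ H') (hN : ConclN p H')
    (hq5 : Fintype.card F ≠ 5) (hM : Nat.card H₀ = Fintype.card F - 1)
    (hel : ∃ a ∈ H₀, 2 * orderOf a = Fintype.card F - 1) :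
    Nat.card H₀ = Nat.card H' := by
  have hdvd : Nat.card H₀ ∣ Nat.card H' := Subgroup.card_dvd_of_le hle
  have hpos : 0 < Nat.card H' := Nat.card_pos
  have hle' : Nat.card H₀ ≤ Nat.card H' := Nat.le_of_dvd hpos hdvd
  have hrel := relindex_mul H₀ H' hle
  obtain ⟨q, hq⟩ : ∃ q, q = Fintype.card F := ⟨_, rfl⟩
  rw [← hq] at hodd h5 h7 h9 h11 hM hq5 hel
  unfold ConclN at hN
  rw [← hq] at hN
  obtain ⟨h, hh⟩ : ∃ h, h = Nat.card H₀ := ⟨_, rfl⟩
  obtain ⟨h', hh'⟩ : ∃ h', h' = Nat.card H' := ⟨_, rfl⟩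
  rw [← hh, ← hh'] at hdvd hle' hrel ⊢
  rw [← hh] at hM
  rw [← hh'] at hN hpos
  have h13 : 13 ≤ q := by
    obtain ⟨c, hc⟩ := hodd
    omega
  rcases hN with hB | ⟨-, hB, -⟩ | ⟨-, -, hB, -⟩ | ⟨F₁, _, _, b, hb, hF₁, hqb, hB, ⟨e⟩⟩ |
    ⟨b, r', hb, hr', hr'o, hqb, hB⟩ | ⟨h10, hqp, hB, ⟨e⟩⟩ | ⟨hqp, h8, h10, hB, -⟩ | ⟨hqp, h8, hB⟩
  · exfalso
    obtain ⟨t, ht⟩ := hdvd
    rw [ht, hM] at hB
    have h1 : (q - 1) * (2 * t) = (q - 1) * q := by
      calc (q - 1) * (2 * t) = 2 * ((q - 1) * t) := by ring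
        _ = q * (q - 1) := hB
        _ = (q - 1) * q := by ring
    have := Nat.eq_of_mul_eq_mul_left (by omega) h1
    obtain ⟨c, hc⟩ := hodd
    omega
  · omega
  · exfalso
    rw [hM, hB] at hdvd
    have h1 : q - 1 ∣ (q + 1) - (q - 1) := Nat.dvd_sub hdvd (dvd_refl _)
    have h2 : (q + 1) - (q - 1) = 2 := by omega
    rw [h2] at h1
    have := Nat.le_of_dvd (by norm_num) h1
    omega
  · -- a subfield subgroup `PGL₂(q₁)`, `q = q₁²`
    exfalso
    obtain ⟨a, haH, hao⟩ := hel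
    set c := p ^ b with hc
    have hcodd : Odd c := hpodd.pow
    have hc4 : 4 ≤ c := by
      by_contra hcon
      push Not at hcon
      have : c ^ 2 ≤ 3 ^ 2 := Nat.pow_le_pow_left (by omega) 2
      omega
    obtain ⟨p₁, hp₁⟩ := CharP.exists F₁
    haveI : Fact p₁.Prime := ⟨CharP.char_is_prime F₁ p₁⟩
    have pp₁ : p₁.Prime := Fact.out
    have hp₁c : p₁ ∣ c := by
      rw [← hF₁, ← CharP.cast_eq_zero_iff F₁ p₁]
      exact Nat.cast_card_eq_zero F₁
    set x : Matrix.ProjGenLinGroup (Fin 2) F₁ := e ⟨a, hle haH⟩ with hx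
    have hxo : orderOf x = orderOf a := by
      rw [hx, MulEquiv.orderOf_eq, ← Subgroup.orderOf_coe]
    have h1c : 1 ≤ c ^ 2 := Nat.one_le_pow _ _ (by omega)
    have hcop : (orderOf x).Coprime p₁ := by
      rw [hxo, Nat.coprime_comm, Nat.Prime.coprime_iff_not_dvd pp₁]
      intro hd
      have h1 : p₁ ∣ 2 * orderOf a := dvd_mul_of_dvd_right hd 2
      rw [hao, hqb] at h1
      have h2 : p₁ ∣ c ^ 2 := dvd_pow hp₁c (by norm_num)
      have h3 : p₁ ∣ c ^ 2 - (c ^ 2 - 1) := Nat.dvd_sub h2 h1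
      have h4 : c ^ 2 - (c ^ 2 - 1) = 1 := by omega
      rw [h4] at h3
      exact pp₁.one_lt.ne' (Nat.dvd_one.mp h3)
    have hF₁odd : Odd (Fintype.card F₁) := by rw [hF₁]; exact hcodd
    have hEO := orderOf_dvd_of_coprime p₁ hF₁odd x hcop
    rw [hxo, hF₁] at hEO
    have hole : orderOf a ≤ c + 1 := by
      rcases hEO with h | h
      · have := Nat.le_of_dvd (by omega) h
        omega
      · exact Nat.le_of_dvd (by omega) h
    rw [hqb] at hao
    have h4c : 4 * c ≤ c * c := Nat.mul_le_mul_right c hc4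
    rw [pow_two] at hao h1c
    omega
  · exfalso
    have hc3 := three_le_pow p b pp hpodd hb
    set c := p ^ b with hc
    have hr3 : 3 ≤ r' := by
      have := hr'.two_le
      obtain ⟨d, hd⟩ := hr'o
      omega
    have h1 : c ^ 3 ≤ q := by rw [hqb]; exact Nat.pow_le_pow_right (by omega) hr3
    have h2 := cube_bound c (by omega)
    omega
  · -- `A₅`
    rw [hM, hB] at hdvd
    obtain ⟨t, ht⟩ := hdvd
    have ht5 : t ≤ 5 := by
      by_contra hcon
      push Not at hcon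
      have : 12 * 6 ≤ (q - 1) * t := Nat.mul_le_mul (by omega) hcon
      omega
    have ht0 : 1 ≤ t := by
      rcases Nat.eq_zero_or_pos t with h0 | h0
      · rw [h0] at ht; omega
      · exact h0
    interval_cases t
    · omega
    · exfalso
      have hq31 : q = 31 := by omega
      have hidx : (H₀.subgroupOf H').index = 2 := by
        rw [hM, hB, hq31] at hrel
        omega
      exact a5_index e _ (Or.inl hidx)
    · exfalso
      have hq21 : q = 21 := by omega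
      rcases hqp with h | h
      · rw [hq21] at h
        rw [← h] at pp
        revert pp; decide
      · rw [hq21] at h
        have hp5 : p < 5 := by
          by_contra hcon
          push Not at hcon
          have : 5 ^ 2 ≤ p ^ 2 := Nat.pow_le_pow_left hcon 2
          omega
        interval_cases p <;> omega
    · exfalso
      obtain ⟨c, hc⟩ := hodd
      omega
    · exfalso; omega
  · omega
  · exfalso
    rw [hM, hB] at hdvd
    obtain ⟨t, ht⟩ := hdvd
    have ht2 : t ≤ 2 := by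
      by_contra hcon
      push Not at hcon
      have : 12 * 3 ≤ (q - 1) * t := Nat.mul_le_mul (by omega) hcon
      omega
    have ht0 : 1 ≤ t := by
      rcases Nat.eq_zero_or_pos t with h0 | h0
      · rw [h0] at ht; omega
      · exact h0
    interval_cases t
    · have hq25 : q = 25 := by omega
      rw [hq25] at hqp
      rw [← hqp] at pp
      revert pp; decide
    · omega


/-- type (c): the dihedral groups of order `2(q + 1)` -/
theorem typeC (p : ℕ) (pp : p.Prime) (hpodd : Odd p) (hodd : Odd (Fintype.card F))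
    (h5 : 5 ≤ Fintype.card F) (h7 : Fintype.card F ≠ 7) (h9 : Fintype.card F ≠ 9)
    (h11 : Fintype.card F ≠ 11) (H₀ H' : Subgroup PSL2) (hle : H₀ ≤ H') (hN : ConclN p H')
    (hM : Nat.card H₀ = Fintype.card F + 1) :
    Nat.card H₀ = Nat.card H' := by
  have hdvd : Nat.card H₀ ∣ Nat.card H' := Subgroup.card_dvd_of_le hle
  have hpos : 0 < Nat.card H' := Nat.card_pos
  have hle' : Nat.card H₀ ≤ Nat.card H' := Nat.le_of_dvd hpos hdvd
  have hrel := relindex_mul H₀ H' hle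
  obtain ⟨q, hq⟩ : ∃ q, q = Fintype.card F := ⟨_, rfl⟩
  rw [← hq] at hodd h5 h7 h9 h11 hM
  unfold ConclN at hN
  rw [← hq] at hN
  obtain ⟨h, hh⟩ : ∃ h, h = Nat.card H₀ := ⟨_, rfl⟩
  obtain ⟨h', hh'⟩ : ∃ h', h' = Nat.card H' := ⟨_, rfl⟩
  rw [← hh, ← hh'] at hdvd hle' hrel ⊢
  rw [← hh] at hM
  rw [← hh'] at hN hpos
  rcases hN with hB | ⟨h13, hB, -⟩ | ⟨-, -, hB, -⟩ | ⟨F₁, _, _, b, hb, hF₁, hqb, hB, -⟩ |
    ⟨b, r', hb, hr', hr'o, hqb, hB⟩ | ⟨h10, hqp, hB, ⟨e⟩⟩ | ⟨hqp, h8, h10, hB, ⟨e⟩⟩ | ⟨hqp, h8, hB⟩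
  · exfalso
    obtain ⟨t, ht⟩ := hdvd
    rw [ht, hM] at hB
    have h1 : q + 1 ∣ q * (q - 1) := ⟨2 * t, by rw [← hB]; ring⟩
    have h2 : q * (q - 1) = (q + 1) * (q - 2) + 2 := by
      obtain ⟨j, rfl⟩ : ∃ j, q = j + 2 := ⟨q - 2, by omega⟩
      have e1 : j + 2 - 1 = j + 1 := by omega
      have e2 : j + 2 - 2 = j := by omega
      rw [e1, e2]; ring
    rw [h2] at h1
    have h3 : q + 1 ∣ 2 := (Nat.dvd_add_right (dvd_mul_right _ _)).1 h1
    have := Nat.le_of_dvd (by norm_num) h3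
    omega
  · exfalso; omega
  · omega
  · exfalso
    have hc3 := three_le_pow p b pp hpodd hb
    set c := p ^ b with hc
    rw [hM, hB, hqb] at hdvd
    have h1 : c ^ 2 + 1 ∣ c ^ 2 - 1 :=
      (Nat.Coprime.dvd_mul_left (coprime_sq_add_one c)).1 hdvd
    have h2 : 1 < c ^ 2 := Nat.one_lt_pow (by norm_num) (by omega)
    have := Nat.le_of_dvd (by omega) h1
    omega
  · exfalso
    have hc3 := three_le_pow p b pp hpodd hb
    set c := p ^ b with hc
    have hr3 : 3 ≤ r' := by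
      have := hr'.two_le
      obtain ⟨d, hd⟩ := hr'o
      omega
    have h1 : c ^ 3 ≤ q := by rw [hqb]; exact Nat.pow_le_pow_right (by omega) hr3
    have h2 := cube_bound c (by omega)
    omega
  · -- `A₅`
    rw [hM, hB] at hdvd
    obtain ⟨t, ht⟩ := hdvd
    have ht10 : t ≤ 10 := by
      by_contra hcon
      push Not at hcon
      have : 6 * 11 ≤ (q + 1) * t := Nat.mul_le_mul (by omega) hcon
      omega
    have ht0 : 1 ≤ t := by
      rcases Nat.eq_zero_or_pos t with h0 | h0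
      · rw [h0] at ht; omega
      · exact h0
    interval_cases t
    · omega
    · exfalso
      have hq29 : q = 29 := by omega
      have hidx : (H₀.subgroupOf H').index = 2 := by
        rw [hM, hB, hq29] at hrel
        omega
      exact a5_index e _ (Or.inl hidx)
    · exfalso
      have hq19 : q = 19 := by omega
      have hidx : (H₀.subgroupOf H').index = 3 := by
        rw [hM, hB, hq19] at hrel
        omega
      exact a5_index e _ (Or.inr hidx)
    · exfalso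
      obtain ⟨c, hc⟩ := hodd
      omega
    · exfalso; omega
    · exfalso; omega
    · exfalso; omega
    · exfalso; omega
    · exfalso; omega
    · exfalso; omega
  · -- `A₄`
    exfalso
    rw [hM, hB] at hdvd
    obtain ⟨t, ht⟩ := hdvd
    have ht2 : t ≤ 2 := by
      by_contra hcon
      push Not at hcon
      have : 6 * 3 ≤ (q + 1) * t := Nat.mul_le_mul (by omega) hcon
      omega
    have ht0 : 1 ≤ t := by
      rcases Nat.eq_zero_or_pos t with h0 | h0
      · rw [h0] at ht; omega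
      · exact h0
    interval_cases t
    · omega
    · have hq5 : q = 5 := by omega
      have hidx : (H₀.subgroupOf H').index = 2 := by
        rw [hM, hB, hq5] at hrel
        omega
      exact Cfsg.Agent.Lib.Helper98.PGL2.iso_alt_no_index_two 4 e _ hidx
  · rw [hM, hB] at hdvd
    obtain ⟨t, ht⟩ := hdvd
    have ht4 : t ≤ 4 := by
      by_contra hcon
      push Not at hcon
      have : 6 * 5 ≤ (q + 1) * t := Nat.mul_le_mul (by omega) hcon
      omega
    have ht0 : 1 ≤ t := by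
      rcases Nat.eq_zero_or_pos t with h0 | h0
      · rw [h0] at ht; omega
      · exact h0
    interval_cases t
    · omega
    · exfalso; omega
    · exfalso; omega
    · exfalso; omega


/-- type (d): the groups `S₄` -/
theorem typeD (p : ℕ) (pp : p.Prime) (hpodd : Odd p) (hodd : Odd (Fintype.card F))
    (h5 : 5 ≤ Fintype.card F) (H₀ H' : Subgroup PSL2) (hle : H₀ ≤ H') (hN : ConclN p H')
    (hqprime : (Fintype.card F).Prime) (hq8 : Fintype.card F % 8 = 3 ∨ Fintype.card F % 8 = 5)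
    (h40 : ¬ (Fintype.card F % 40 = 11 ∨ Fintype.card F % 40 = 19 ∨ Fintype.card F % 40 = 21 ∨
      Fintype.card F % 40 = 29))
    (hM : Nat.card H₀ = 12)
    (hψ : ∃ ψ : alternatingGroup (Fin 4) →* PSL2, Function.Injective ψ ∧ ψ.range ≤ H₀) :
    Nat.card H₀ = Nat.card H' := by
  have hdvd : Nat.card H₀ ∣ Nat.card H' := Subgroup.card_dvd_of_le hle
  have hpos : 0 < Nat.card H' := Nat.card_pos
  have hle' : Nat.card H₀ ≤ Nat.card H' := Nat.le_of_dvd hpos hdvd
  obtain ⟨q, hq⟩ : ∃ q, q = Fintype.card F := ⟨_, rfl⟩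
  rw [← hq] at hodd h5 hqprime hq8 h40
  unfold ConclN at hN
  rw [← hq] at hN
  obtain ⟨h, hh⟩ : ∃ h, h = Nat.card H₀ := ⟨_, rfl⟩
  obtain ⟨h', hh'⟩ : ∃ h', h' = Nat.card H' := ⟨_, rfl⟩
  rw [← hh, ← hh'] at hdvd hle' ⊢
  rw [← hh] at hM
  rw [← hh'] at hN hpos
  -- the dihedral argument
  have hdih : ∀ k : ℕ, (H' ≃* DihedralGroup k) → False := by
    intro k e
    obtain ⟨ψ, hψi, hψr⟩ := hψ
    have hmem : ∀ x, ψ x ∈ H' := fun x => hle (hψr ⟨x, rfl⟩)
    let ψ' : alternatingGroup (Fin 4) →* DihedralGroup k :=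
      e.toMonoidHom.comp (ψ.codRestrict H' hmem)
    apply a4_not_in_dihedral k ψ'
    intro x y hxy
    have h1 : ψ.codRestrict H' hmem x = ψ.codRestrict H' hmem y := e.injective hxy
    exact hψi (congrArg Subtype.val h1)
  rcases hN with hB | ⟨-, hB, k, ⟨e⟩⟩ | ⟨-, -, hB, k, ⟨e⟩⟩ | ⟨F₁, _, _, b, hb, hF₁, hqb, hB, -⟩ |
    ⟨b, r', hb, hr', hr'o, hqb, hB⟩ | ⟨h10, hqp, hB, -⟩ | ⟨hqp, h8, h10, hB, -⟩ | ⟨hqp, h8, hB⟩
  · exfalso
    rw [hM] at hdvd
    obtain ⟨t, ht⟩ := hdvd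
    rw [ht] at hB
    have h8 : q * (q - 1) % 8 = 0 := by
      rw [← hB]
      omega
    rw [Nat.mul_mod] at h8
    rcases hq8 with h3 | h3
    · have : (q - 1) % 8 = 2 := by omega
      rw [h3, this] at h8
      revert h8; decide
    · have : (q - 1) % 8 = 4 := by omega
      rw [h3, this] at h8
      revert h8; decide
  · exact (hdih k e).elim
  · exact (hdih k e).elim
  · exfalso
    have hc3 := three_le_pow p b pp hpodd hb
    have := (Nat.Prime.pow_eq_iff hqprime).1 hqb.symm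
    omega
  · exfalso
    have hr3 : 3 ≤ r' := by
      have := hr'.two_le
      obtain ⟨d, hd⟩ := hr'o
      omega
    have := (Nat.Prime.pow_eq_iff hqprime).1 hqb.symm
    omega
  · exfalso; omega
  · omega
  · exfalso; omega


theorem sq_sub_one_eq (c : ℕ) (hc : 1 ≤ c) : c ^ 2 - 1 = (c - 1) * (c + 1) := by
  obtain ⟨j, rfl⟩ : ∃ j, c = j + 1 := ⟨c - 1, by omega⟩
  have e1 : (j + 1) ^ 2 - 1 = j * (j + 2) := by
    have : (j + 1) ^ 2 = j * (j + 2) + 1 := by ring
    omega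
  have e2 : j + 1 - 1 = j := by omega
  rw [e1, e2]

/-- type (e): the subfield subgroups -/
theorem typeE (p : ℕ) (pp : p.Prime) (hpodd : Odd p)
    (H₀ H' : Subgroup PSL2) (hle : H₀ ≤ H') (hN : ConclN p H')
    (hM : ∃ a r : ℕ, 0 < a ∧ r.Prime ∧ Odd r ∧ Fintype.card F = (p ^ a) ^ r ∧
      2 * Nat.card H₀ = p ^ a * ((p ^ a) ^ 2 - 1)) :
    Nat.card H₀ = Nat.card H' := by
  have hdvd : Nat.card H₀ ∣ Nat.card H' := Subgroup.card_dvd_of_le hle
  have hpos : 0 < Nat.card H' := Nat.card_pos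
  obtain ⟨a, r, ha, hr, hro, hqa, hM⟩ := hM
  obtain ⟨q, hq⟩ : ∃ q, q = Fintype.card F := ⟨_, rfl⟩
  rw [← hq] at hqa
  unfold ConclN at hN
  rw [← hq] at hN
  obtain ⟨h, hh⟩ : ∃ h, h = Nat.card H₀ := ⟨_, rfl⟩
  obtain ⟨h', hh'⟩ : ∃ h', h' = Nat.card H' := ⟨_, rfl⟩
  rw [← hh, ← hh'] at hdvd ⊢
  rw [← hh] at hM
  rw [← hh'] at hN hpos
  have hp2 : 2 ≤ p := pp.two_le
  have hc3 := three_le_pow p a pp hpodd ha
  have hr3 : 3 ≤ r := by
    have := hr.two_le
    obtain ⟨d, hd⟩ := hro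
    omega
  have hqn : q = p ^ (a * r) := by rw [hqa, pow_mul]
  have har3 : 3 ≤ a * r := by
    calc 3 ≤ r := hr3
      _ = 1 * r := (one_mul r).symm
      _ ≤ a * r := Nat.mul_le_mul_right r ha
  set c := p ^ a with hc
  have hcodd : Odd c := hpodd.pow
  have hcq : c ∣ q := by rw [hqa]; exact dvd_pow_self c (by omega)
  have hd2a : c ^ 2 - 1 = p ^ (2 * a) - 1 := by rw [hc, ← pow_mul, mul_comm]
  have hcopc : Nat.Coprime (c ^ 2 - 1) c := coprime_sq_sub_one c (by omega)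
  have hcopp : Nat.Coprime (c ^ 2 - 1) p :=
    Nat.Coprime.coprime_dvd_right (dvd_pow_self p (by omega)) hcopc
  have h2dvd : c * (c ^ 2 - 1) ∣ 2 * h' := by
    rw [← hM]; exact Nat.mul_dvd_mul_left 2 hdvd
  have hddvd : c ^ 2 - 1 ∣ 2 * h' := (dvd_mul_left _ _).trans h2dvd
  have hcdvd : c ∣ 2 * h' := (dvd_mul_right _ _).trans h2dvd
  have hq1 : 1 ≤ q := by rw [hqn]; exact Nat.one_le_pow _ _ (by omega)
  rcases hN with hB | ⟨-, hB, -⟩ | ⟨-, -, hB, -⟩ | ⟨F₁, _, _, b, hb, hF₁, hqb, hB, -⟩ |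
    ⟨b, r', hb, hr', hr'o, hqb, hB⟩ | ⟨h10, hqp, hB, -⟩ | ⟨hqp, h8, h10, hB, -⟩ | ⟨hqp, h8, hB⟩
  · exfalso
    rw [hB] at hddvd
    have hcopq : Nat.Coprime (c ^ 2 - 1) q := by rw [hqa]; exact Nat.Coprime.pow_right r hcopc
    have h1 : c ^ 2 - 1 ∣ q - 1 := (Nat.Coprime.dvd_mul_left hcopq).1 hddvd
    rw [hd2a, hqn] at h1
    have h2 := dvd_of_pow_sub_one_dvd p (2 * a) (a * r) hp2 h1
    have h3 : a * 2 ∣ a * r := by rw [mul_comm a 2]; exact h2
    have h4 : 2 ∣ r := Nat.dvd_of_mul_dvd_mul_left ha h3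
    obtain ⟨d, hd⟩ := hro
    omega
  · exfalso
    rw [hB] at hcdvd
    have h1 : c ∣ q - 1 :=
      (Nat.Coprime.dvd_mul_left (Nat.coprime_two_right.mpr hcodd)).1 hcdvd
    have h2 : c ∣ q - (q - 1) := Nat.dvd_sub hcq h1
    have h3 : q - (q - 1) = 1 := by omega
    rw [h3] at h2
    have := Nat.le_of_dvd (by norm_num) h2
    omega
  · exfalso
    rw [hB] at hcdvd
    have h1 : c ∣ q + 1 :=
      (Nat.Coprime.dvd_mul_left (Nat.coprime_two_right.mpr hcodd)).1 hcdvd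
    have h2 : c ∣ (q + 1) - q := Nat.dvd_sub h1 hcq
    have h3 : (q + 1) - q = 1 := by omega
    rw [h3] at h2
    have := Nat.le_of_dvd (by norm_num) h2
    omega
  · exfalso
    have h1 : (p ^ b) ^ 2 - 1 = q - 1 := by rw [hqb]
    rw [hB, h1] at hddvd
    have h2 : c ^ 2 - 1 ∣ p ^ b * (2 * (q - 1)) := by
      have : 2 * (p ^ b * (q - 1)) = p ^ b * (2 * (q - 1)) := by ring
      rw [← this]; exact hddvd
    have h3 : c ^ 2 - 1 ∣ 2 * (q - 1) :=
      (Nat.Coprime.dvd_mul_left (Nat.Coprime.pow_right b hcopp)).1 h2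
    have h4 : c ^ 2 - 1 ∣ Nat.gcd (2 * (c ^ 2 - 1)) (2 * (q - 1)) :=
      Nat.dvd_gcd (dvd_mul_left _ _) h3
    rw [Nat.gcd_mul_left, hd2a, hqn, Nat.pow_sub_one_gcd_pow_sub_one] at h4
    have h5 : Nat.gcd (2 * a) (a * r) = a := by
      rw [mul_comm 2 a, Nat.gcd_mul_left, (Nat.coprime_two_left.mpr hro), mul_one]
    rw [h5, ← hc, ← hd2a] at h4
    have h6 : c ^ 2 - 1 = (c - 1) * (c + 1) := sq_sub_one_eq c (by omega)
    rw [h6] at h4
    have h7 : (c - 1) * (c + 1) ≤ 2 * (c - 1) := Nat.le_of_dvd (by omega) h4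
    have h8 : (c - 1) * (c + 1) ≤ (c - 1) * 2 := by rw [mul_comm (c - 1) 2]; exact h7
    have := Nat.le_of_mul_le_mul_left h8 (by omega)
    omega
  · -- the same type
    have hd2b : (p ^ b) ^ 2 - 1 = p ^ (2 * b) - 1 := by rw [← pow_mul, mul_comm]
    rw [hB] at hddvd
    have h1 : c ^ 2 - 1 ∣ (p ^ b) ^ 2 - 1 :=
      (Nat.Coprime.dvd_mul_left (Nat.Coprime.pow_right b hcopp)).1 hddvd
    rw [hd2a, hd2b] at h1
    have h2 := dvd_of_pow_sub_one_dvd p (2 * a) (2 * b) hp2 h1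
    have h3 : a ∣ b := Nat.dvd_of_mul_dvd_mul_left (by norm_num) h2
    obtain ⟨t, ht⟩ := h3
    have h4 : a * r = b * r' := by
      have : p ^ (a * r) = p ^ (b * r') := by rw [← hqn, hqb, pow_mul]
      exact Nat.pow_right_injective hp2 this
    rw [ht, mul_assoc] at h4
    have h5 : r = t * r' := Nat.eq_of_mul_eq_mul_left ha h4
    have h6 : r' ∣ r := ⟨t, by rw [h5, mul_comm]⟩
    have h7 : r' = r := (Nat.prime_dvd_prime_iff_eq hr' hr).1 h6
    have h8 : t = 1 := by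
      rw [h7] at h5
      have : 1 * r = t * r := by rw [one_mul]; exact h5
      exact (Nat.eq_of_mul_eq_mul_right (by omega) this).symm
    have h9 : b = a := by rw [ht, h8, mul_one]
    rw [h9, ← hc] at hB
    omega
  · exfalso
    rcases hqp with h | h
    · rw [hqn] at h
      have : p ^ (a * r) = p ^ 1 := by rw [pow_one]; exact h
      have := Nat.pow_right_injective hp2 this
      omega
    · rw [hqn] at h
      have := Nat.pow_right_injective hp2 h
      omega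
  · exfalso
    rw [hqn] at hqp
    have : p ^ (a * r) = p ^ 1 := by rw [pow_one]; exact hqp
    have := Nat.pow_right_injective hp2 this
    omega
  · exfalso
    rw [hqn] at hqp
    have : p ^ (a * r) = p ^ 1 := by rw [pow_one]; exact hqp
    have := Nat.pow_right_injective hp2 this
    omega

end

end Cfsg.Agent.Lib.Helper98.PGLM
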