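import Mathlib
import Cfsg.Agent.Lib.Helper98.PGLM3
import Cfsg.Agent.Lib.Helper98.NM1

set_option autoImplicit false
set_option linter.unusedSimpArgs false
set_option linter.unusedSectionVars false
set_option linter.style.haveILetI false
set_option maxHeartbeats 1600000

/-!
# Normalizers in `PSL₂(13)` are maximal (helper98)
-/

namespace Cfsg.Agent.Lib.Helper98.NormMax

open Matrix Cfsg.Agent.Lib.Helper48.Dickson Cfsg.Agent.Lib.Helper98.PSL2Max
open Cfsg.Agent.Lib.Helper98.PSL2NF Cfsg.Agent.Lib.Helper19.TwoTrans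
open Cfsg.Agent.Lib.Helper98.PSL2MaxOdd Cfsg.Agent.Lib.Helper98.PGL2 Cfsg.Agent.Lib.Helper98.PGLM

/-- the normalizer of a cyclic subgroup normalizes all its subgroups -/
theorem normalizer_le_of_le_cyclic {G : Type*} [Group G] [Finite G] (T A : Subgroup G)
    [IsCyclic T] (hAT : A ≤ T) :
    Subgroup.normalizer (T : Set G) ≤ Subgroup.normalizer (A : Set G) := by
  intro x hx
  apply mem_normalizer_of_conj_le
  intro a ha
  obtain ⟨⟨t, ht⟩, hgen⟩ := IsCyclic.exists_generator (α := T)
  have h1 : x * t * x⁻¹ ∈ T := (Subgroup.mem_normalizer_iff.1 hx t).1 ht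
  obtain ⟨m, hm⟩ := Subgroup.mem_zpowers_iff.1 (hgen ⟨x * t * x⁻¹, h1⟩)
  have hm' : t ^ m = x * t * x⁻¹ := by
    have := congrArg Subtype.val hm
    simpa using this
  obtain ⟨k, hk⟩ := Subgroup.mem_zpowers_iff.1 (hgen ⟨a, hAT ha⟩)
  have hk' : t ^ k = a := by
    have := congrArg Subtype.val hk
    simpa using this
  have : x * a * x⁻¹ = a ^ m := by
    rw [← hk', ← conj_zpow, ← hm', ← _root_.zpow_mul, ← _root_.zpow_mul, mul_comm]
  rw [this]
  exact A.zpow_mem ha m

section
variable {F : Type*} [Field F] [Fintype F]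

local notation "SL2" => Matrix.SpecialLinearGroup (Fin 2) F
local notation "PSL2" => Matrix.ProjectiveSpecialLinearGroup (Fin 2) F

/-- orders of the maximal subgroups of `PSL₂(13)` -/
theorem card_coatom_13 [Fact (Nat.Prime 13)] [CharP F 13] (hq : Fintype.card F = 13)
    (M : Subgroup PSL2) (hM : IsCoatom M) :
    Nat.card M = 78 ∨ Nat.card M = 12 ∨ Nat.card M = 14 := by
  have hodd : Odd (Fintype.card F) := by rw [hq]; decide
  have h := conclN_of_concl 13 hodd M (max_odd 13 hodd (by omega) M hM)
  unfold ConclN at h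
  rw [hq] at h
  rcases h with h | ⟨-, h, -⟩ | ⟨-, -, h, -⟩ | ⟨F₁, _, _, b, hb, -, h, -⟩ | ⟨b, r, hb, hr, -, h, -⟩ |
    ⟨h, -⟩ | ⟨-, -, -, h, -⟩ | ⟨-, h, -⟩
  · left; omega
  · right; left; omega
  · right; right; omega
  · exfalso
    rw [← pow_mul] at h
    have : (13 : ℕ) ^ 1 = 13 ^ (b * 2) := by rw [pow_one]; exact h
    have := Nat.pow_right_injective (le_refl 2 |>.trans (by norm_num : 2 ≤ 13)) this
    omega
  · exfalso
    rw [← pow_mul] at h
    have h1 : (13 : ℕ) ^ 1 = 13 ^ (b * r) := by rw [pow_one]; exact h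
    have h2 := Nat.pow_right_injective (by norm_num : 2 ≤ 13) h1
    have : r = 1 := by
      have : r ∣ 1 := ⟨b, by rw [h2]; ring⟩
      exact Nat.dvd_one.1 this
    rw [this] at hr
    exact Nat.not_prime_one hr
  · exfalso; omega
  · right; left; exact h
  · exfalso; omega

/-- a nontrivial `13`-subgroup of `PSL₂(13)` has order `13` -/
theorem card_pgroup_13 {G : Type*} [Group G] [Finite G] (hG : Nat.card G = 1092)
    (H : Subgroup G) (hH : IsPGroup 13 H) (hne : H ≠ ⊥) : Nat.card H = 13 := by
  haveI : Fact (Nat.Prime 13) := ⟨by norm_num⟩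
  obtain ⟨k, hk⟩ := IsPGroup.iff_card.1 hH
  have hdvd : Nat.card H ∣ 1092 := by rw [← hG]; exact Subgroup.card_subgroup_dvd_card H
  rw [hk] at hdvd ⊢
  rcases Nat.lt_or_ge k 2 with h | h
  · interval_cases k
    · exfalso
      apply hne
      rw [← Subgroup.card_eq_one, hk, pow_zero]
    · norm_num
  · exfalso
    have : 13 ^ 2 ∣ 1092 := (pow_dvd_pow 13 h).trans hdvd
    norm_num at this

/-- in `PSL₂(13)` the normalizer of every proper nontrivial subgroup is maximal -/
theorem psl13_normalizer [Fact (Nat.Prime 13)] [CharP F 13] (hq : Fintype.card F = 13)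
    (A : Subgroup PSL2) (hbot : A ≠ ⊥) (htop : A ≠ ⊤) :
    IsCoatom (Subgroup.normalizer (A : Set PSL2)) := by
  classical
  have hodd : Odd (Fintype.card F) := by rw [hq]; decide
  have hgcd : Nat.gcd 2 (Fintype.card F - 1) = 2 := by rw [hq]; decide
  have hG : Nat.card PSL2 = 1092 := by
    have := Cfsg.Agent.Lib.Helper98.DicksonMax.card_psl2_odd (F := F) hodd
    rw [hq] at this
    have e : (13 : ℕ) * (13 ^ 2 - 1) = 2184 := by norm_num
    rw [e] at this
    omega
  haveI hsimple : IsSimpleGroup PSL2 :=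
    Matrix.ProjectiveSpecialLinearGroup.rank_two_simple (by
      rw [Nat.card_eq_fintype_card, hq]; omega)
  set D := dstruct (tPack (F := F) 13) (uPack 13) with hD
  set N := Subgroup.normalizer (A : Set PSL2) with hN
  have hNtop : N ≠ ⊤ := by
    intro h
    have hn : A.Normal := Subgroup.normalizer_eq_top_iff.1 h
    rcases hn.eq_bot_or_eq_top with h1 | h1
    · exact hbot h1
    · exact htop h1
  -- the criterion
  have crit : (12 ∣ Nat.card N ∨ 14 ∣ Nat.card N ∨ 78 ∣ Nat.card N) → IsCoatom N := by
    intro hd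
    obtain ⟨M, hM, hNM⟩ := (eq_top_or_exists_le_coatom N).resolve_left hNtop
    have hcM := card_coatom_13 hq M hM
    have hdvd : Nat.card N ∣ Nat.card M := Subgroup.card_dvd_of_le hNM
    have heq : Nat.card N = Nat.card M := by
      rcases hcM with h | h | h <;> rcases hd with hd | hd | hd <;>
        first
        | (exact Nat.dvd_antisymm hdvd (by rw [h]; exact hd))
        | (exfalso
           have := hd.trans hdvd
           rw [h] at this
           norm_num at this)
    have : N = M := DStruct.eq_of_card_eq hNM heq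
    rw [this]; exact hM
  obtain ⟨M0, hM0, hAM0⟩ := (eq_top_or_exists_le_coatom A).resolve_left htop
  have hcM0 := card_coatom_13 hq M0 hM0
  have hAdvd : Nat.card A ∣ Nat.card M0 := Subgroup.card_dvd_of_le hAM0
  have hA1 : Nat.card A ≠ 1 := fun h => hbot (Subgroup.card_eq_one.1 h)
  have hAN : Nat.card A ∣ Nat.card N := Subgroup.card_dvd_of_le Subgroup.le_normalizer
  have hA78 : Nat.card A ≤ 78 := by
    rcases hcM0 with h | h | h <;>
    · have := Nat.le_of_dvd (by rw [h]; norm_num) hAdvd
      omega
  -- facts on the components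
  have hcompP : ∀ g : PSL2, g ≠ 1 → IsPGroup 13 (D.comp g) →
      Nat.card (D.comp g) = 13 ∧ Nat.card (nrm (D.comp g)) = 78 := by
    intro g hg hp
    refine ⟨card_pgroup_13 hG _ hp ?_, ?_⟩
    · intro h
      have : g ∈ D.comp g := D.mem_comp g
      rw [h] at this
      exact hg (Subgroup.mem_bot.1 this)
    · have h1 := card_nrm_unipotent (tPack 13) (uPack 13) g hg hp
      rw [hgcd, hq] at h1
      have h1' : Nat.card (nrm (D.comp g)) * 2 = 13 * (13 - 1) := h1
      omega
  have hcompT : ∀ g : PSL2, g ≠ 1 → (Nat.card (D.comp g)).Coprime 13 →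
      (Nat.card (D.comp g) = 6 ∨ Nat.card (D.comp g) = 7) ∧
      Nat.card (nrm (D.comp g)) = 2 * Nat.card (D.comp g) := by
    intro g hg hc
    obtain ⟨h1, h2, -⟩ := torus_facts_odd (F := F) 13 hodd g hg hc
    rw [hq] at h1
    refine ⟨?_, h2⟩
    rcases h1 with h1 | h1
    · left
      have : 2 * Nat.card (D.comp g) = 13 - 1 := h1
      omega
    · right
      have : 2 * Nat.card (D.comp g) = 13 + 1 := h1
      omega
  have hord_dvd : ∀ g : PSL2, orderOf g ∣ Nat.card (D.comp g) := by
    intro g
    have h1 : orderOf (⟨g, D.mem_comp g⟩ : D.comp g) = orderOf g := Subgroup.orderOf_mk g _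
    rw [← h1]
    exact orderOf_dvd_natCard _
  -- subgroups of prime order
  have prime_case : ∀ r : ℕ, r.Prime → r ≠ 13 → Nat.card A = r → IsCoatom N := by
    intro r hr hr13 hAr
    obtain ⟨⟨g, hgA⟩, hg1'⟩ := Subgroup.ne_bot_iff_exists_ne_one.1 hbot
    have hg1 : g ≠ 1 := fun h => hg1' (Subtype.ext h)
    have hgo : orderOf g = r := by
      have h1 : orderOf g ∣ r := by
        rw [← hAr]
        have h1 : orderOf (⟨g, hgA⟩ : A) = orderOf g := Subgroup.orderOf_mk g _
        rw [← h1]
        exact orderOf_dvd_natCard _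
      rcases (Nat.dvd_prime hr).1 h1 with h | h
      · exact absurd (orderOf_eq_one_iff.1 h) hg1
      · exact h
    have hAz : Subgroup.zpowers g = A :=
      DStruct.eq_of_card_eq (Subgroup.zpowers_le.2 hgA) (by rw [Nat.card_zpowers, hgo, hAr])
    have hAT : A ≤ D.comp g := by
      rw [← hAz]; exact Subgroup.zpowers_le.2 (D.mem_comp g)
    rcases D.dich g hg1 with hp | hc
    · exfalso
      have h13 := (hcompP g hg1 hp).1
      have := hord_dvd g
      rw [hgo, h13] at this
      exact hr13 ((Nat.prime_dvd_prime_iff_eq hr (by norm_num)).1 this)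
    · haveI := D.t_cyc g hg1 hc
      have hle : nrm (D.comp g) ≤ N := normalizer_le_of_le_cyclic (D.comp g) A hAT
      have hc2 := hcompT g hg1 hc
      apply crit
      have hdv : Nat.card (nrm (D.comp g)) ∣ Nat.card N := Subgroup.card_dvd_of_le hle
      rcases hc2 with ⟨h6 | h7, hn⟩
      · left; rw [hn, h6] at hdv; exact hdv
      · right; left; rw [hn, h7] at hdv; exact hdv
  -- subgroups of order divisible by 13
  have case13 : 13 ∣ Nat.card A → IsCoatom N := by
    intro h13
    obtain ⟨g', hg'⟩ := exists_prime_orderOf_dvd_card' (G := A) 13 h13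
    obtain ⟨g, hgA⟩ := g'
    have hgo : orderOf g = 13 := by
      rw [← hg']; exact (Subgroup.orderOf_mk g hgA).symm
    have hg1 : g ≠ 1 := by
      intro h
      rw [h, orderOf_one] at hgo
      omega
    rcases D.dich g hg1 with hp | hc
    swap
    · exfalso
      have := hord_dvd g
      rw [hgo] at this
      have h2 : Nat.Coprime 13 13 := Nat.Coprime.coprime_dvd_left this hc
      norm_num at h2
    obtain ⟨hC13, hN78⟩ := hcompP g hg1 hp
    have hCz : Subgroup.zpowers g = D.comp g :=
      DStruct.eq_of_card_eq (Subgroup.zpowers_le.2 (D.mem_comp g))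
        (by rw [Nat.card_zpowers, hgo, hC13])
    have hCA : D.comp g ≤ A := by
      rw [← hCz]; exact Subgroup.zpowers_le.2 hgA
    have hAnrm : A ≤ nrm (D.comp g) := by
      intro a ha
      rw [D.mem_nrm_comp_iff hg1]
      by_contra hne
      have hg2A : a * g * a⁻¹ ∈ A := A.mul_mem (A.mul_mem ha hgA) (A.inv_mem ha)
      have hg21 : a * g * a⁻¹ ≠ 1 := DStruct.conj_ne_one hg1
      have hC2 : Nat.card (D.comp (a * g * a⁻¹)) = 13 := by
        rw [D.card_comp_conj hg1]; exact hC13
      have hg2o : orderOf (a * g * a⁻¹) = 13 := by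
        rw [← SemiconjBy.orderOf_eq a (x := g) (y := a * g * a⁻¹) (by unfold SemiconjBy; group)]
        exact hgo
      have hC2z : Subgroup.zpowers (a * g * a⁻¹) = D.comp (a * g * a⁻¹) :=
        DStruct.eq_of_card_eq (Subgroup.zpowers_le.2 (D.mem_comp _))
          (by rw [Nat.card_zpowers, hg2o, hC2])
      have hC2A : D.comp (a * g * a⁻¹) ≤ A := by
        rw [← hC2z]; exact Subgroup.zpowers_le.2 hg2A
      have hdisj : ∀ h, h ∈ D.comp g → h ∈ D.comp (a * g * a⁻¹) → h = 1 := by
        intro h h1 h2
        by_contra hh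
        apply hne
        rw [← D.comp_eq_of_mem hg21 hh h2, D.comp_eq_of_mem hg1 hh h1]
      have hinj : Function.Injective (fun x : D.comp g × D.comp (a * g * a⁻¹) =>
          (⟨x.1.1 * x.2.1, A.mul_mem (hCA x.1.2) (hC2A x.2.2)⟩ : A)) := by
        rintro ⟨⟨c1, hc1⟩, ⟨d1, hd1⟩⟩ ⟨⟨c2, hc2⟩, ⟨d2, hd2⟩⟩ hx
        have hx' : c1 * d1 = c2 * d2 := congrArg Subtype.val hx
        have e : c2⁻¹ * c1 = d2 * d1⁻¹ := by
          calc c2⁻¹ * c1 = c2⁻¹ * (c1 * d1) * d1⁻¹ := by group
            _ = c2⁻¹ * (c2 * d2) * d1⁻¹ := by rw [hx']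
            _ = d2 * d1⁻¹ := by group
        have h1 : c2⁻¹ * c1 = 1 := hdisj _ ((D.comp g).mul_mem ((D.comp g).inv_mem hc2) hc1)
          (by rw [e]; exact (D.comp _).mul_mem hd2 ((D.comp _).inv_mem hd1))
        have h2 : d2 * d1⁻¹ = 1 := by rw [← e]; exact h1
        have hc : c1 = c2 := by
          calc c1 = c2 * (c2⁻¹ * c1) := by group
            _ = c2 := by rw [h1, mul_one]
        have hd : d1 = d2 := by
          calc d1 = (d2 * d1⁻¹)⁻¹ * d2 := by group
            _ = d2 := by rw [h2]; group
        subst hc; subst hd; rfl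
      have := Nat.card_le_card_of_injective _ hinj
      rw [Nat.card_prod, hC13, hC2] at this
      omega
    have hle : nrm (D.comp g) ≤ N := by
      intro x hx
      apply mem_normalizer_of_conj_le
      intro a ha
      have haN := hAnrm ha
      obtain ⟨P, hP⟩ := IsPGroup.exists_le_sylow hp
      have hPc : Nat.card (P : Subgroup PSL2) = 13 := by
        apply card_pgroup_13 hG _ P.2
        intro h
        have : g ∈ (P : Subgroup PSL2) := hP (D.mem_comp g)
        rw [h] at this
        exact hg1 (Subgroup.mem_bot.1 this)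
      have hPC : D.comp g = (P : Subgroup PSL2) :=
        DStruct.eq_of_card_eq hP (by rw [hC13, hPc])
      have hx' : x ∈ Subgroup.normalizer ((P : Subgroup PSL2) : Set PSL2) := by
        rw [← hPC]; exact hx
      have ha' : a ∈ Subgroup.normalizer ((P : Subgroup PSL2) : Set PSL2) := by
        rw [← hPC]; exact haN
      have hcp := Cfsg.Agent.Lib.Helper98.DicksonMax.commPow_normalizer_sylow (F := F) (p := 13) P
        ⟨x, hx'⟩ ⟨a, ha'⟩
      have hcp' : (x * a * x⁻¹ * a⁻¹) ^ 13 = 1 := by
        have := congrArg Subtype.val hcp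
        rw [hq] at this
        simpa [commutatorElement_def] using this
      have hcn : x * a * x⁻¹ * a⁻¹ ∈ nrm (D.comp g) :=
        (nrm (D.comp g)).mul_mem ((nrm (D.comp g)).mul_mem ((nrm (D.comp g)).mul_mem hx haN)
          ((nrm (D.comp g)).inv_mem hx)) ((nrm (D.comp g)).inv_mem haN)
      have hcC : x * a * x⁻¹ * a⁻¹ ∈ D.comp g := by
        by_contra hnot
        have h1 := D.u_not_dvd g hg1 hp _ hcn hnot
        have h2 : orderOf (x * a * x⁻¹ * a⁻¹) ∣ 13 := orderOf_dvd_of_pow_eq_one hcp'
        rcases (Nat.dvd_prime (by norm_num : Nat.Prime 13)).1 h2 with h3 | h3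
        · apply hnot
          rw [orderOf_eq_one_iff.1 h3]
          exact Subgroup.one_mem _
        · apply h1
          rw [h3]
      have : x * a * x⁻¹ = (x * a * x⁻¹ * a⁻¹) * a := by group
      rw [this]
      exact A.mul_mem (hCA hcC) ha
    apply crit
    right; right
    rw [← hN78]
    exact Subgroup.card_dvd_of_le hle
  -- subgroups of order 6
  have case6 : Nat.card A = 6 → IsCoatom N := by
    intro h6
    obtain ⟨g', hg'⟩ := exists_prime_orderOf_dvd_card' (G := A) 3 (by rw [h6]; norm_num)
    obtain ⟨g, hgA⟩ := g'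
    have hgo : orderOf g = 3 := by
      rw [← hg']; exact (Subgroup.orderOf_mk g hgA).symm
    have hg1 : g ≠ 1 := by
      intro h
      rw [h, orderOf_one] at hgo
      omega
    rcases D.dich g hg1 with hp | hc
    · exfalso
      have h13 := (hcompP g hg1 hp).1
      have := hord_dvd g
      rw [hgo, h13] at this
      norm_num at this
    haveI := D.t_cyc g hg1 hc
    obtain ⟨hc2, hn⟩ := hcompT g hg1 hc
    have hT6 : Nat.card (D.comp g) = 6 := by
      rcases hc2 with h | h
      · exact h
      · exfalso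
        have := hord_dvd g
        rw [hgo, h] at this
        norm_num at this
    have hn12 : Nat.card (nrm (D.comp g)) = 12 := by rw [hn, hT6]
    have hzA : Subgroup.zpowers g ≤ A := Subgroup.zpowers_le.2 hgA
    have hidx : ((Subgroup.zpowers g).subgroupOf A).index = 2 := by
      have := relindex_mul (Subgroup.zpowers g) A hzA
      rw [Nat.card_zpowers, hgo, h6] at this
      omega
    have hnorm1 := Subgroup.normal_of_index_eq_two hidx
    have hzn : A ≤ Subgroup.normalizer (Subgroup.zpowers g : Set PSL2) :=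
      (Subgroup.normal_subgroupOf_iff_le_normalizer hzA).1 hnorm1
    have hAnrm : A ≤ nrm (D.comp g) := by
      intro a ha
      rw [D.mem_nrm_comp_iff hg1]
      have h1 : a * g * a⁻¹ ∈ Subgroup.zpowers g :=
        (Subgroup.mem_normalizer_iff.1 (hzn ha) g).1 (Subgroup.mem_zpowers g)
      have h2 : a * g * a⁻¹ ∈ D.comp g := (Subgroup.zpowers_le.2 (D.mem_comp g)) h1
      exact D.comp_eq_of_mem hg1 (DStruct.conj_ne_one hg1) h2
    have hidx2 : (A.subgroupOf (nrm (D.comp g))).index = 2 := by
      have := relindex_mul A (nrm (D.comp g)) hAnrm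
      rw [h6, hn12] at this
      omega
    have hnorm2 := Subgroup.normal_of_index_eq_two hidx2
    have hle : nrm (D.comp g) ≤ N :=
      (Subgroup.normal_subgroupOf_iff_le_normalizer hAnrm).1 hnorm2
    apply crit
    left
    rw [← hn12]
    exact Subgroup.card_dvd_of_le hle
  -- subgroups of order 4
  have case4 : Nat.card A = 4 → IsCoatom N := by
    intro h4
    haveI : Fact (Nat.Prime 2) := ⟨Nat.prime_two⟩
    have hA2 : IsPGroup 2 A := IsPGroup.of_card (n := 2) (by rw [h4]; norm_num)
    obtain ⟨P, hP⟩ := IsPGroup.exists_le_sylow hA2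
    have hPc : Nat.card (P : Subgroup PSL2) = 4 := by
      obtain ⟨k, hk⟩ := IsPGroup.iff_card.1 P.2
      have hdvd : Nat.card (P : Subgroup PSL2) ∣ 1092 := by
        rw [← hG]; exact Subgroup.card_subgroup_dvd_card _
      have h4dvd : 4 ∣ Nat.card (P : Subgroup PSL2) := by
        rw [← h4]; exact Subgroup.card_dvd_of_le hP
      rw [hk] at hdvd h4dvd ⊢
      rcases Nat.lt_or_ge k 3 with h | h
      · interval_cases k
        · norm_num at h4dvd
        · norm_num at h4dvd
        · norm_num
      · exfalso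
        have : 2 ^ 3 ∣ 1092 := (pow_dvd_pow 2 h).trans hdvd
        norm_num at this
    have hAP : A = (P : Subgroup PSL2) := DStruct.eq_of_card_eq hP (by rw [h4, hPc])
    have h12 := twelve_dvd_card_normalizer P hPc (by rw [hG]; norm_num)
    apply crit
    left
    rw [hN, hAP]
    exact h12
  -- conclusion
  by_cases h13 : 13 ∣ Nat.card A
  · exact case13 h13
  have hApos : 0 < Nat.card A := Nat.card_pos
  rcases hcM0 with h | h | h <;> rw [h] at hAdvd
  · -- divisors of 78
    have hle := Nat.le_of_dvd (by norm_num) hAdvd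
    obtain ⟨c, hc⟩ := hAdvd
    have hcle : c ≤ 78 := by nlinarith
    have : Nat.card A = 2 ∨ Nat.card A = 3 ∨ Nat.card A = 6 := by
      interval_cases c <;> omega
    rcases this with h2 | h3 | h6
    · exact prime_case 2 Nat.prime_two (by norm_num) h2
    · exact prime_case 3 Nat.prime_three (by norm_num) h3
    · exact case6 h6
  · have hle := Nat.le_of_dvd (by norm_num) hAdvd
    have : Nat.card A = 2 ∨ Nat.card A = 3 ∨ Nat.card A = 4 ∨ Nat.card A = 6 ∨
        Nat.card A = 12 := by
      interval_cases hcA : Nat.card A <;> simp_all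
    rcases this with h2 | h3 | h4 | h6 | h12
    · exact prime_case 2 Nat.prime_two (by norm_num) h2
    · exact prime_case 3 Nat.prime_three (by norm_num) h3
    · exact case4 h4
    · exact case6 h6
    · apply crit; left; rw [← h12]; exact hAN
  · have hle := Nat.le_of_dvd (by norm_num) hAdvd
    have : Nat.card A = 2 ∨ Nat.card A = 7 ∨ Nat.card A = 14 := by
      interval_cases hcA : Nat.card A <;> simp_all
    rcases this with h2 | h7 | h14
    · exact prime_case 2 Nat.prime_two (by norm_num) h2
    · exact prime_case 7 (by norm_num) (by norm_num) h7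
    · apply crit; right; left; rw [← h14]; exact hAN

end

end Cfsg.Agent.Lib.Helper98.NormMax
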