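import Mathlib
import Cfsg.Agent.Lib.Helper98.NM2

set_option autoImplicit false
set_option linter.unusedSimpArgs false
set_option linter.unusedSectionVars false
set_option linter.style.haveILetI false
set_option maxHeartbeats 1600000

/-!
# `PSL₂(13) × S` and `SL₂(13) × S`: normalizers of non-normal subgroups are maximal (helper98)
-/

namespace Cfsg.Agent.Lib.Helper98.NormMax

open Matrix Cfsg.Agent.Lib.Helper98.SL2Borel Cfsg.Agent.Lib.Helper98.PSL2NF

/-- the property that non-normal subgroups have maximal normalizers -/
def NMax (K : Type*) [Group K] : Prop :=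
  ∀ B : Subgroup K, ¬ B.Normal → IsCoatom (Subgroup.normalizer (B : Set K))

/-- transport along isomorphisms -/
theorem NMax.of_equiv {K K' : Type*} [Group K] [Group K'] (e : K ≃* K') (h : NMax K') :
    NMax K := by
  intro B hB
  have hB' : ¬ (B.map e.toMonoidHom).Normal := by
    intro hn
    apply hB
    have : B = (B.map e.toMonoidHom).comap e.toMonoidHom := by
      rw [Subgroup.comap_map_eq_self_of_injective e.injective]
    rw [this]
    exact Subgroup.Normal.comap hn _
  have h1 := h _ hB'
  rw [← Subgroup.map_equiv_normalizer_eq] at h1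
  exact (e.mapSubgroup.isCoatom_iff _).mp h1

section
variable {F : Type*} [Field F] [Fintype F]

local notation "SL2" => Matrix.SpecialLinearGroup (Fin 2) F
local notation "PSL2" => Matrix.ProjectiveSpecialLinearGroup (Fin 2) F

theorem nmax_psl13 [Fact (Nat.Prime 13)] [CharP F 13] (hq : Fintype.card F = 13) : NMax PSL2 := by
  intro B hB
  apply psl13_normalizer hq
  · intro h
    apply hB
    rw [h]; infer_instance
  · intro h
    apply hB
    rw [h]; infer_instance

omit [Fintype F] in
/-- the only involution of `SL₂` in odd characteristic -/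
theorem sl2_sq_eq_one (h2 : (2 : F) ≠ 0) (x : SL2) (hx : x ^ 2 = 1) : x = 1 ∨ x = -1 := by
  have hd := det_eq x
  obtain ⟨e00, e01, e10, e11⟩ := mul_entries x x
  rw [← sq, hx] at e00 e01 e10 e11
  simp only [Matrix.SpecialLinearGroup.coe_one, Matrix.one_apply_eq, ne_eq, zero_ne_one,
    not_false_eq_true, Matrix.one_apply_ne, one_ne_zero] at e00 e01 e10 e11
  by_cases ht : x.1 0 0 + x.1 1 1 = 0
  · exfalso
    apply h2
    have : x.1 1 1 = - x.1 0 0 := by linear_combination ht
    rw [this] at hd
    linear_combination e00 - hd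
  · have hb : x.1 0 1 = 0 := by
      have : x.1 0 1 * (x.1 0 0 + x.1 1 1) = 0 := by linear_combination -e01
      rcases mul_eq_zero.1 this with h | h
      · exact h
      · exact absurd h ht
    have hc : x.1 1 0 = 0 := by
      have : x.1 1 0 * (x.1 0 0 + x.1 1 1) = 0 := by linear_combination -e10
      rcases mul_eq_zero.1 this with h | h
      · exact h
      · exact absurd h ht
    rw [hb, hc] at e00 e11 hd
    have ha : (x.1 0 0 - 1) * (x.1 0 0 + 1) = 0 := by linear_combination -e00
    rcases mul_eq_zero.1 ha with h | h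
    · left
      have h00 : x.1 0 0 = 1 := by linear_combination h
      have h11 : x.1 1 1 = 1 := by
        rw [h00] at hd; linear_combination hd
      apply ext_entries
      · rw [h00]; simp
      · rw [hb]; simp
      · rw [hc]; simp
      · rw [h11]; simp
    · right
      have h00 : x.1 0 0 = -1 := by linear_combination h
      have h11 : x.1 1 1 = -1 := by
        rw [h00] at hd; linear_combination -hd
      apply ext_entries
      · rw [h00]; simp
      · rw [hb]; simp
      · rw [hc]; simp
      · rw [h11]; simp

theorem nmax_sl13 [Fact (Nat.Prime 13)] [CharP F 13] (hq : Fintype.card F = 13) : NMax SL2 := by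
  have h2 : (2 : F) ≠ 0 := by
    intro h
    have h' : ((2 : ℕ) : F) = 0 := by exact_mod_cast h
    rw [CharP.cast_eq_zero_iff F 13] at h'
    norm_num at h'
  intro B hB
  refine normalizer_isCoatom_of_quotient
    (QuotientGroup.mk' (Subgroup.center SL2) : SL2 →* PSL2)
    (QuotientGroup.mk'_surjective _) (-1) ?_ (sl2_sq_eq_one h2) ?_ B hB
  · intro x
    have := Cfsg.Agent.Lib.Helper98.DicksonMax.mk_eq_iff x 1
    rw [QuotientGroup.mk'_apply]
    rw [show ((1 : PSL2)) = (QuotientGroup.mk (1 : SL2) : PSL2) from rfl]
    exact this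
  · intro A hAb hAt
    exact psl13_normalizer hq A hAb hAt

end

/-- **the main statement** -/
theorem main {K S : Type*} [Group K] [CommGroup S] [Finite K] [Finite S]
    (hK : Nonempty (K ≃* Matrix.ProjectiveSpecialLinearGroup (Fin 2) (ZMod 13)) ∨
      Nonempty (K ≃* Matrix.SpecialLinearGroup (Fin 2) (ZMod 13)))
    (hKS : (Nat.card K).Coprime (Nat.card S)) (H : Subgroup (K × S)) (hH : ¬ H.Normal) :
    IsCoatom (Subgroup.normalizer (H : Set (K × S))) := by
  haveI : Fact (Nat.Prime 13) := ⟨by norm_num⟩
  have hq : Fintype.card (ZMod 13) = 13 := ZMod.card 13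
  have hKmax : NMax K := by
    rcases hK with ⟨⟨e⟩⟩ | ⟨⟨e⟩⟩
    · exact NMax.of_equiv e (nmax_psl13 hq)
    · exact NMax.of_equiv e (nmax_sl13 hq)
  exact prod_normalizer_isCoatom hKS hKmax H hH

end Cfsg.Agent.Lib.Helper98.NormMax
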