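import Cfsg.Agent.Lib.Helper98.Nd1

set_option autoImplicit false
set_option linter.unusedSimpArgs false
set_option linter.unusedSectionVars false
set_option linter.unusedVariables false
set_option linter.style.haveILetI false
set_option maxHeartbeats 800000

/-!
# S5956 (helper98): the pairing lemma for Jordan chains
-/

namespace Cfsg.Agent.Lib.Helper98.Nd

open Module Cfsg.Agent.Lib.Helper98.Elus Cfsg.Agent.Lib.Helper98.Sy

universe u
variable {F : Type u} [Field F] {V : Type u} [AddCommGroup V] [Module F V]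

/-- coefficients of a combination of Jordan chains orthogonal to all chain vectors vanish -/
theorem coeff_eq_zero_of_pairing (B : LinearMap.BilinForm F V) (N : V →ₗ[F] V) (e a : ℕ)
    (v : Fin e → V) (G : Fin e → Fin e → F) (s : ℕ → F) (hs : ∀ i, s i ≠ 0)
    (h1 : ∀ j l i i', a ≤ i + i' → B ((N ^ i) (v j)) ((N ^ i') (v l)) = 0)
    (h2 : ∀ j l i i', i + i' + 1 = a → B ((N ^ i) (v j)) ((N ^ i') (v l)) = s i * G j l)
    (h3 : ∀ γ : Fin e → F, (∀ l, ∑ j, γ j * G j l = 0) → γ = 0)
    (α : Fin e × Fin a → F)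
    (hα : ∀ (l : Fin e) (i' : Fin a),
      B (∑ q, α q • (N ^ (q.2 : ℕ)) (v q.1)) ((N ^ (i' : ℕ)) (v l)) = 0) :
    α = 0 := by
  have key : ∀ n : ℕ, ∀ i : Fin a, (i : ℕ) = n → ∀ j, α (j, i) = 0 := by
    intro n
    induction n using Nat.strong_induction_on with
    | _ n ih =>
      intro i hi
      have hia : (i : ℕ) < a := i.2
      let i' : Fin a := ⟨a - 1 - i, by omega⟩
      have hγ : (fun j => α (j, i)) = 0 := by
        apply h3
        intro l
        have h := hα l i'
        rw [map_sum, LinearMap.sum_apply, Fintype.sum_prod_type] at h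
        have hinner : ∀ j : Fin e, ∑ i'' : Fin a,
            B (α (j, i'') • (N ^ (i'' : ℕ)) (v j)) ((N ^ (i' : ℕ)) (v l)) =
            α (j, i) * (s i * G j l) := by
          intro j
          rw [Finset.sum_eq_single i]
          · rw [map_smul, LinearMap.smul_apply, smul_eq_mul, h2 j l i i' (by show (i:ℕ) + (a - 1 - i) + 1 = a; omega)]
          · intro i'' _ hne
            rw [map_smul, LinearMap.smul_apply, smul_eq_mul]
            rcases lt_or_gt_of_ne (fun h => hne (Fin.ext h) : (i'' : ℕ) ≠ i) with hlt | hgt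
            · rw [ih i'' (by omega) i'' rfl j, zero_mul]
            · rw [h1 j l i'' i' (by show a ≤ (i'':ℕ) + (a - 1 - i); omega), mul_zero]
          · intro h
            exact absurd (Finset.mem_univ i) h
        rw [Finset.sum_congr rfl (fun j _ => hinner j)] at h
        have h' : s i * ∑ j, α (j, i) * G j l = 0 := by
          rw [Finset.mul_sum, ← h]
          apply Finset.sum_congr rfl
          intro j _
          ring
        rcases mul_eq_zero.mp h' with h0 | h0
        · exact absurd h0 (hs i)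
        · exact h0
      intro j
      exact congrFun hγ j
  funext q
  obtain ⟨j, i⟩ := q
  exact key i i rfl j

/-- Jordan chains with a nondegenerate pairing are linearly independent -/
theorem linearIndependent_of_pairing (B : LinearMap.BilinForm F V) (N : V →ₗ[F] V) (e a : ℕ)
    (v : Fin e → V) (G : Fin e → Fin e → F) (s : ℕ → F) (hs : ∀ i, s i ≠ 0)
    (h1 : ∀ j l i i', a ≤ i + i' → B ((N ^ i) (v j)) ((N ^ i') (v l)) = 0)
    (h2 : ∀ j l i i', i + i' + 1 = a → B ((N ^ i) (v j)) ((N ^ i') (v l)) = s i * G j l)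
    (h3 : ∀ γ : Fin e → F, (∀ l, ∑ j, γ j * G j l = 0) → γ = 0) :
    LinearIndependent F (fun q : Fin e × Fin a => (N ^ (q.2 : ℕ)) (v q.1)) := by
  rw [Fintype.linearIndependent_iff]
  intro α hα q
  have := coeff_eq_zero_of_pairing B N e a v G s hs h1 h2 h3 α (by
    intro l i'
    rw [hα, map_zero, LinearMap.zero_apply])
  rw [this]
  rfl

/-- the span of Jordan chains with a nondegenerate pairing is nondegenerate -/
theorem nonDeg_of_pairing (B : LinearMap.BilinForm F V) (N : V →ₗ[F] V) (e a : ℕ)
    (v : Fin e → V) (G : Fin e → Fin e → F) (s : ℕ → F) (hs : ∀ i, s i ≠ 0)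
    (h1 : ∀ j l i i', a ≤ i + i' → B ((N ^ i) (v j)) ((N ^ i') (v l)) = 0)
    (h2 : ∀ j l i i', i + i' + 1 = a → B ((N ^ i) (v j)) ((N ^ i') (v l)) = s i * G j l)
    (h3 : ∀ γ : Fin e → F, (∀ l, ∑ j, γ j * G j l = 0) → γ = 0) :
    NonDeg B (Submodule.span F (Set.range (fun q : Fin e × Fin a => (N ^ (q.2 : ℕ)) (v q.1)))) := by
  intro x hx hx'
  obtain ⟨α, rfl⟩ := (Submodule.mem_span_range_iff_exists_fun F).mp hx
  have := coeff_eq_zero_of_pairing B N e a v G s hs h1 h2 h3 α (by
    intro l i'
    exact hx' _ (Submodule.subset_span ⟨(l, i'), rfl⟩))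
  rw [this]
  simp

end Cfsg.Agent.Lib.Helper98.Nd
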