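import Cfsg.Agent.Lib.Helper98.Nd3

set_option autoImplicit false
set_option linter.unusedSimpArgs false
set_option linter.unusedSectionVars false
set_option linter.unusedVariables false
set_option linter.style.haveILetI false
set_option maxHeartbeats 1600000

/-!
# S5956 (helper98): the Jordan type of a unipotent isometry on a nondegenerate invariant subspace
-/

namespace Cfsg.Agent.Lib.Helper98.Nd

open Module Cfsg.Agent.Lib.Helper98.Elus Cfsg.Agent.Lib.Helper98.Sy

universe u
variable {F : Type u} [Field F] {V : Type u} [AddCommGroup V] [Module F V]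

/-- the Jordan type with its selection property -/
theorem exists_type [FiniteDimensional F V] (hchain : ChainStatement F V)
    {B : LinearMap.BilinForm F V} (hA : B.IsAlt)
    (h2 : (2 : F) ≠ 0) (p : ℕ) (hp : 0 < p) (u : V →ₗ[F] V) (hu : u ^ p = 1)
    (hNp : (u - 1) ^ p = 0) (hiso : Iso B u) :
    ∀ n : ℕ, ∀ U : Submodule F V, Inv u U → NonDeg B U → finrank F U = n →
      ∃ μ : Multiset ℕ, (∀ a ∈ μ, 0 < a ∧ a ≤ p) ∧ (∀ a : ℕ, Odd a → Even (μ.count a)) ∧
        μ.sum = n ∧
        (∀ k, finrank F ↥(U ⊓ LinearMap.ker ((u - 1) ^ k)) = (μ.map (fun a => min a k)).sum) ∧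
        ∀ ν : Multiset ℕ, ν ≤ μ → (∀ a : ℕ, Odd a → Even (ν.count a)) →
          ∃ W : Submodule F V, W ≤ U ∧ Inv u W ∧ NonDeg B W ∧ finrank F W = ν.sum := by
  intro n
  induction n using Nat.strong_induction_on with
  | _ n ih =>
    intro U hU hUnd hUn
    by_cases hne : U = ⊥
    · subst hne
      rw [finrank_bot] at hUn
      refine ⟨0, by simp, by simp, by simpa using hUn, ?_, ?_⟩
      · intro k
        rw [bot_inf_eq, finrank_bot]
        simp
      · intro ν hν _
        have : ν = 0 := by simpa using hν
        subst this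
        exact ⟨⊥, le_rfl, inv_bot u, nonDeg_bot hA, by simp⟩
    obtain ⟨P, a, e, hPU, hPinv, hPnd, ha0, hap, hcase, hPd, hPk⟩ :=
      exists_piece hchain hA h2 p hp u hu hNp hiso U hU hUnd hne
    obtain ⟨c1, c2, c3, c4⟩ := compl_props hA P U hPnd hPU hUnd
    set U' := B.orthogonal P ⊓ U with hU'
    have hU'inv : Inv u U' := (inv_orth p hp u hu hiso P hPinv).inf hU
    have he1 : 1 ≤ e := by rcases hcase with ⟨h, -⟩ | ⟨h, -⟩ <;> omega
    have hea : 1 ≤ e * a := Nat.mul_pos he1 ha0
    obtain ⟨μ', m1, m2, m3, m4, m5⟩ := ih (n - e * a) (by omega) U' hU'inv c3 (by omega)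
    have hNP : Inv (u - 1) P := inv_sub_one u P hPinv
    have hNU' : Inv (u - 1) U' := inv_sub_one u U' hU'inv
    have hker : ∀ k, finrank F ↥(U ⊓ LinearMap.ker ((u - 1) ^ k)) =
        e * min a k + (μ'.map (fun a => min a k)).sum := by
      intro k
      have := finrank_sup_inf_ker (u - 1) P U' hNP hNU' c2 k
      rw [c1, hPk k, m4 k] at this
      exact this
    have hort : ∀ W' : Submodule F V, W' ≤ U' → Ort B P W' := by
      intro W' hW' x hx y hy
      exact LinearMap.BilinForm.mem_orthogonal_iff.mp (Submodule.mem_inf.mp (hW' hy)).1 x hx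
    rcases hcase with ⟨rfl, hae⟩ | ⟨rfl, hao⟩
    · -- a single even block
      rw [one_mul] at hPd hea
      refine ⟨a ::ₘ μ', ?_, ?_, ?_, ?_, ?_⟩
      · intro b hb
        rcases Multiset.mem_cons.mp hb with rfl | hb
        · exact ⟨ha0, hap⟩
        · exact m1 b hb
      · intro b hb
        have hba : b ≠ a := by
          rintro rfl
          exact (Nat.not_even_iff_odd.mpr hb) hae
        rw [Multiset.count_cons_of_ne hba]
        exact m2 b hb
      · rw [Multiset.sum_cons, m3]
        omega
      · intro k
        rw [hker k, Multiset.map_cons, Multiset.sum_cons, one_mul]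
      · intro ν hν hνp
        rcases le_cons_cases μ' ν a hν with h | ⟨haν, h⟩
        · obtain ⟨W, hW1, hW2, hW3, hW4⟩ := m5 ν h hνp
          exact ⟨W, le_trans hW1 inf_le_right, hW2, hW3, hW4⟩
        · obtain ⟨W, hW1, hW2, hW3, hW4⟩ := m5 (ν.erase a) h (by
            intro b hb
            have hba : b ≠ a := by
              rintro rfl
              exact (Nat.not_even_iff_odd.mpr hb) hae
            rw [Multiset.count_erase_of_ne hba]
            exact hνp b hb)
          refine ⟨P ⊔ W, sup_le hPU (le_trans hW1 inf_le_right), hPinv.sup hW2,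
            (nonDeg_sup hA P W hPnd hW3 (hort W hW1)).1, ?_⟩
          rw [finrank_sup_of_ort hA P W hPnd hW3 (hort W hW1), hPd, hW4, Multiset.sum_erase haν]
    · -- a pair of odd blocks
      refine ⟨a ::ₘ a ::ₘ μ', ?_, ?_, ?_, ?_, ?_⟩
      · intro b hb
        rcases Multiset.mem_cons.mp hb with rfl | hb
        · exact ⟨ha0, hap⟩
        rcases Multiset.mem_cons.mp hb with rfl | hb
        · exact ⟨ha0, hap⟩
        · exact m1 b hb
      · intro b hb
        by_cases hba : b = a
        · subst hba
          rw [Multiset.count_cons_self, Multiset.count_cons_self]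
          obtain ⟨t, ht⟩ := m2 b hb
          exact ⟨t + 1, by omega⟩
        · rw [Multiset.count_cons_of_ne hba, Multiset.count_cons_of_ne hba]
          exact m2 b hb
      · rw [Multiset.sum_cons, Multiset.sum_cons, m3]
        omega
      · intro k
        rw [hker k, Multiset.map_cons, Multiset.sum_cons, Multiset.map_cons, Multiset.sum_cons]
        ring
      · intro ν hν hνp
        rcases le_cons_cons_cases μ' ν a hν (hνp a hao) (m2 a hao) with h | ⟨ν', rfl, h⟩
        · obtain ⟨W, hW1, hW2, hW3, hW4⟩ := m5 ν h hνp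
          exact ⟨W, le_trans hW1 inf_le_right, hW2, hW3, hW4⟩
        · obtain ⟨W, hW1, hW2, hW3, hW4⟩ := m5 ν' h (by
            intro b hb
            have := hνp b hb
            by_cases hba : b = a
            · subst hba
              rw [Multiset.count_cons_self, Multiset.count_cons_self] at this
              obtain ⟨t, ht⟩ := this
              exact ⟨t - 1, by omega⟩
            · rwa [Multiset.count_cons_of_ne hba, Multiset.count_cons_of_ne hba] at this)
          refine ⟨P ⊔ W, sup_le hPU (le_trans hW1 inf_le_right), hPinv.sup hW2,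
            (nonDeg_sup hA P W hPnd hW3 (hort W hW1)).1, ?_⟩
          rw [finrank_sup_of_ort hA P W hPnd hW3 (hort W hW1), hPd, hW4, Multiset.sum_cons,
            Multiset.sum_cons]
          ring

end Cfsg.Agent.Lib.Helper98.Nd
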