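import Cfsg.Agent.Lib.Helper98.Nd4

set_option autoImplicit false
set_option linter.unusedSimpArgs false
set_option linter.unusedSectionVars false
set_option linter.unusedVariables false
set_option linter.style.haveILetI false
set_option maxHeartbeats 1600000

/-!
# S5956 (helper98): semisimple elements of odd prime order and nondegenerate subspaces
-/

namespace Cfsg.Agent.Lib.Helper98.Nd

open Module Cfsg.Agent.Lib.Helper98.Elus Cfsg.Agent.Lib.Helper98.Sy Cfsg.Agent.Lib.Helper98.Ti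

universe u
variable {F : Type u} [Field F] {V : Type u} [AddCommGroup V] [Module F V]
variable {B : LinearMap.BilinForm F V}

/-- existence of an invariant nondegenerate subspace -/
theorem exists_fixed_nd [Fintype F] [FiniteDimensional F V]
    (hA : B.IsAlt) (hV : NonDeg B ⊤) (p f : ℕ) [Fact p.Prime] (hF : Fintype.card F = p ^ f)
    (r : ℕ) [Fact r.Prime] (hpr : p ≠ r) (hr2 : r ≠ 2) (hrF : (r : F) ≠ 0) (y : V →ₗ[F] V)
    (hy : y ^ r = 1) (hiso : Iso B y) (d m : ℕ) (hd : finrank F V = 2 * d) (hme : Even m)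
    (hmd : m ≤ 2 * d)
    (hk : m % cOf (orderOf ((Fintype.card F : ℕ) : ZMod r)) ≤
      (2 * d) % cOf (orderOf ((Fintype.card F : ℕ) : ZMod r))) :
    ∃ W : Submodule F V, Inv y W ∧ NonDeg B W ∧ finrank F W = m := by
  have hr : r.Prime := Fact.out
  set c := cOf (orderOf ((Fintype.card F : ℕ) : ZMod r)) with hc
  have hc1 : 1 ≤ c := cOf_pos _ (orderOf_card_pos p f hF r hpr)
  obtain ⟨c', hc'⟩ := cOf_even (orderOf ((Fintype.card F : ℕ) : ZMod r))
  rw [← hc] at hc'
  obtain ⟨hnd0, hnd1⟩ := nonDeg_inf_parts hA r hrF y hy hiso ⊤ hV (fun _ _ => Submodule.mem_top)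
  rw [top_inf_eq] at hnd0 hnd1
  obtain ⟨A, hAd⟩ := cOf_dvd_finrank hA hV p f hF r hpr hr2 hrF y hy hiso (V1 r y) le_rfl
    (inv_V1 r y) hnd1
  rw [← hc] at hAd
  have hsum := finrank_V0_add_V1 r hrF y hy
  rw [hd] at hsum
  set e0 := finrank F (V0 y) with he0
  have hmod : (2 * d) % c = e0 % c := by
    rw [← hsum, hAd, Nat.add_mul_mod_self_left]
  have hke0 : (2 * d) % c ≤ e0 := by
    rw [hmod]
    exact Nat.mod_le _ _
  have hm := Nat.div_add_mod m c
  set b := min A (m / c) with hb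
  have hbA : b ≤ A := min_le_left _ _
  have hbm : b ≤ m / c := min_le_right _ _
  have h1 : c * b ≤ c * A := Nat.mul_le_mul_left c hbA
  have h2 : c * b ≤ c * (m / c) := Nat.mul_le_mul_left c hbm
  have hrest : m - c * b ≤ e0 := by
    rcases le_total A (m / c) with h | h
    · have : b = A := min_eq_left h
      rw [this]
      omega
    · have : b = m / c := min_eq_right h
      rw [this]
      omega
  obtain ⟨W1, hW1le, hW1inv, hW1nd, hW1d⟩ := exists_nonDeg_inv hA hV p f hF r hpr hr2 hrF y hy hiso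
    (V1 r y) le_rfl (inv_V1 r y) hnd1 b (by rw [← hc, hAd]; exact h1)
  rw [← hc] at hW1d
  obtain ⟨t, ht⟩ := hme
  have hev : ∃ s, m - c * b = 2 * s := by
    refine ⟨t - c' * b, ?_⟩
    have : c * b = 2 * (c' * b) := by rw [hc']; ring
    omega
  obtain ⟨s, hs⟩ := hev
  obtain ⟨W0, hW0le, hW0nd, hW0d⟩ := exists_nonDeg_of_even hA (V0 y) hnd0 s (by omega)
  have hort : Ort B W0 W1 := fun a ha b hb => ort_V0_V1 r hrF y hy hiso a (hW0le ha) b (hW1le hb)
  refine ⟨W0 ⊔ W1, (inv_of_le_V0 y W0 hW0le).sup hW1inv, (nonDeg_sup hA W0 W1 hW0nd hW1nd hort).1, ?_⟩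
  rw [finrank_sup_of_ort hA W0 W1 hW0nd hW1nd hort, hW0d, hW1d]
  omega

/-- the dimension of an invariant nondegenerate subspace modulo `c` -/
theorem mod_le_of_inv_nonDeg [Fintype F] [FiniteDimensional F V]
    (hA : B.IsAlt) (hV : NonDeg B ⊤) (p f : ℕ) [Fact p.Prime] (hF : Fintype.card F = p ^ f)
    (r : ℕ) [Fact r.Prime] (hpr : p ≠ r) (hr2 : r ≠ 2) (hrF : (r : F) ≠ 0) (y : V →ₗ[F] V)
    (hy : y ^ r = 1) (hiso : Iso B y) (W : Submodule F V) (hW : Inv y W) (hWnd : NonDeg B W)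
    (hV0 : finrank F (V0 y) < cOf (orderOf ((Fintype.card F : ℕ) : ZMod r))) :
    finrank F W % cOf (orderOf ((Fintype.card F : ℕ) : ZMod r)) ≤ finrank F (V0 y) := by
  set c := cOf (orderOf ((Fintype.card F : ℕ) : ZMod r)) with hc
  obtain ⟨hnd0, hnd1⟩ := nonDeg_inf_parts hA r hrF y hy hiso W hWnd hW
  obtain ⟨A, hAd⟩ := cOf_dvd_finrank hA hV p f hF r hpr hr2 hrF y hy hiso (W ⊓ V1 r y) inf_le_right
    (hW.inf (inv_V1 r y)) hnd1
  rw [← hc] at hAd
  have hsum := finrank_inf_V0_add_inf_V1 r hrF y hy W hW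
  have hle : finrank F ↥(W ⊓ V0 y) ≤ finrank F (V0 y) := Submodule.finrank_mono inf_le_right
  rw [← hsum, hAd, Nat.add_mul_mod_self_left, Nat.mod_eq_of_lt (by omega)]
  exact hle

end Cfsg.Agent.Lib.Helper98.Nd
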