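import Cfsg.Agent.Lib.Helper98.Nd5

set_option autoImplicit false
set_option linter.unusedSimpArgs false
set_option linter.unusedSectionVars false
set_option linter.unusedVariables false
set_option linter.style.haveILetI false
set_option maxHeartbeats 1600000

/-!
# S5956 (helper98): unipotent isometries in odd characteristic: fixed nondegenerate subspaces
-/

namespace Cfsg.Agent.Lib.Helper98.Nd

open Module Cfsg.Agent.Lib.Helper98.Elus Cfsg.Agent.Lib.Helper98.Sy

universe u
variable {F : Type u} [Field F] {V : Type u} [AddCommGroup V] [Module F V]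
variable {B : LinearMap.BilinForm F V}

/-- Frobenius for an element of order `p` in characteristic `p` -/
theorem sub_one_pow_char {p : ℕ} [Fact p.Prime] [CharP F p] (y : V →ₗ[F] V) (hy : y ^ p = 1) :
    (y - 1) ^ p = 0 := by
  rcases subsingleton_or_nontrivial V with h | h
  · exact LinearMap.ext fun v => Subsingleton.elim _ _
  · have : CharP (Module.End F V) p := charP_of_injective_algebraMap' F p
    rw [sub_pow_char_of_commute p (Commute.one_right y), hy, one_pow, sub_self]

/-- the statement of the uniqueness lemma (leaf B) -/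
def UniqStatement : Prop :=
  ∀ μ μ' : Multiset ℕ, (∀ a ∈ μ, 0 < a) → (∀ a ∈ μ', 0 < a) →
    (∀ k : ℕ, (μ.map (fun a => min a k)).sum = (μ'.map (fun a => min a k)).sum) → μ = μ'

theorem inv_top (y : V →ₗ[F] V) : Inv y (⊤ : Submodule F V) := fun _ _ => Submodule.mem_top

/-- existence of a fixed nondegenerate subspace from the partition condition -/
theorem exists_fixed_unip [FiniteDimensional F V] (hchain : ChainStatement F V)
    (hA : B.IsAlt) (hV : NonDeg B ⊤) (h2 : (2 : F) ≠ 0) (p : ℕ) (hp : 0 < p) (u : V →ₗ[F] V)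
    (hu : u ^ p = 1) (hNp : (u - 1) ^ p = 0) (hiso : Iso B u) (d m : ℕ)
    (hd : finrank F V = 2 * d)
    (hpart : ∀ μ : Multiset ℕ, (∀ a ∈ μ, 0 < a ∧ a ≤ p) → (∀ a : ℕ, Odd a → Even (μ.count a)) →
      μ.sum = 2 * d → ∃ ν : Multiset ℕ, ν ≤ μ ∧ ν.sum = m ∧ ∀ a : ℕ, Odd a → Even (ν.count a)) :
    ∃ W : Submodule F V, Inv u W ∧ NonDeg B W ∧ finrank F W = m := by
  obtain ⟨μ, m1, m2, m3, m4, m5⟩ := exists_type hchain hA h2 p hp u hu hNp hiso (2 * d) ⊤
    (inv_top u) hV (by rw [finrank_top, hd])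
  obtain ⟨ν, hν1, hν2, hν3⟩ := hpart μ m1 m2 m3
  obtain ⟨W, -, hW2, hW3, hW4⟩ := m5 ν hν1 hν3
  exact ⟨W, hW2, hW3, by rw [hW4, hν2]⟩

/-- the type of a fixed nondegenerate subspace is a sub-multiset of the type of the space -/
theorem exists_sub_type [FiniteDimensional F V] (hchain : ChainStatement F V)
    (huniq : UniqStatement)
    (hA : B.IsAlt) (hV : NonDeg B ⊤) (h2 : (2 : F) ≠ 0) (p : ℕ) (hp : 0 < p) (u : V →ₗ[F] V)
    (hu : u ^ p = 1) (hNp : (u - 1) ^ p = 0) (hiso : Iso B u) (μ : Multiset ℕ)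
    (hμ : ∀ a ∈ μ, 0 < a)
    (hker : ∀ k, finrank F (LinearMap.ker ((u - 1) ^ k)) = (μ.map (fun a => min a k)).sum)
    (W : Submodule F V) (hW : Inv u W) (hWnd : NonDeg B W) :
    ∃ ν : Multiset ℕ, ν ≤ μ ∧ ν.sum = finrank F W ∧ ∀ a : ℕ, Odd a → Even (ν.count a) := by
  obtain ⟨ν, n1, n2, n3, n4, -⟩ := exists_type hchain hA h2 p hp u hu hNp hiso (finrank F W) W hW
    hWnd rfl
  obtain ⟨c1, c2, c3, c4⟩ := compl_props hA W ⊤ hWnd le_top hV
  set W' := B.orthogonal W ⊓ ⊤ with hW'
  have hW'inv : Inv u W' := (inv_orth p hp u hu hiso W hW).inf (inv_top u)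
  obtain ⟨ν', n1', n2', n3', n4', -⟩ := exists_type hchain hA h2 p hp u hu hNp hiso (finrank F W')
    W' hW'inv c3 rfl
  have hsum : ∀ k, (μ.map (fun a => min a k)).sum = ((ν + ν').map (fun a => min a k)).sum := by
    intro k
    have := finrank_sup_inf_ker (u - 1) W W' (inv_sub_one u W hW) (inv_sub_one u W' hW'inv) c2 k
    rw [c1, top_inf_eq, hker k, n4 k, n4' k] at this
    rw [this, Multiset.map_add, Multiset.sum_add]
  have heq := huniq μ (ν + ν') hμ (by
    intro a ha
    rcases Multiset.mem_add.mp ha with h | h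
    · exact (n1 a h).1
    · exact (n1' a h).1) hsum
  refine ⟨ν, ?_, n3, n2⟩
  rw [heq]
  exact Multiset.le_add_right ν ν'

end Cfsg.Agent.Lib.Helper98.Nd
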