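import Cfsg.Agent.Lib.Helper98.OElK0b

set_option autoImplicit false
set_option linter.unusedSimpArgs false
set_option linter.unusedSectionVars false
set_option linter.unusedVariables false
set_option linter.style.haveILetI false
set_option maxHeartbeats 1000000

/-!
# K-OEl-K0 (helper98), part c: the number of anisotropic pairs of a nondegenerate space of
dimension `2 D`, any characteristic
-/

namespace Cfsg.Agent.Lib.Helper98.OEl

open Module Cfsg.Agent.Lib.Helper98.Elus Cfsg.Agent.Lib.Helper98.Sy Cfsg.Agent.Lib.Helper38.OhP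
  Cfsg.Agent.Lib.Helper98.OhP

universe u
variable {F : Type u} [Field F] {V : Type u} [AddCommGroup V] [Module F V]

/-- anisotropic pairs through a nonsingular `u` -/
theorem ap_iff (Q : QuadraticForm F V) (u w : V) (ha : Q u ≠ 0) :
    (∀ s t : F, Q (s • u + t • w) = 0 → s = 0 ∧ t = 0) ↔ ∀ s : F, Q (w + s • u) ≠ 0 := by
  constructor
  · intro h s hs
    have := h s 1 (by rw [one_smul, add_comm]; exact hs)
    exact one_ne_zero this.2
  · intro h s t hst
    have ht : t = 0 := by
      by_contra ht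
      apply h (s / t)
      have : s • u + t • w = t • (w + (s / t) • u) := by
        rw [smul_add, smul_smul, mul_div_cancel₀ _ ht, add_comm]
      rw [this, QuadraticMap.map_smul, smul_eq_mul] at hst
      rcases mul_eq_zero.mp hst with h' | h'
      · exact absurd (mul_self_eq_zero.mp h') ht
      · exact h'
    subst ht
    rw [zero_smul, add_zero, QuadraticMap.map_smul, smul_eq_mul] at hst
    rcases mul_eq_zero.mp hst with h' | h'
    · exact ⟨mul_self_eq_zero.mp h', rfl⟩
    · exact absurd h' ha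

theorem not_ap_of_sing (Q : QuadraticForm F V) (u w : V) (ha : Q u = 0) :
    ¬ (∀ s t : F, Q (s • u + t • w) = 0 → s = 0 ∧ t = 0) := by
  intro h
  have := h 1 0 (by rw [one_smul, zero_smul, add_zero]; exact ha)
  exact one_ne_zero this.1

variable [Fintype F] [FiniteDimensional F V]

/-- the count through a fixed nonsingular `u` -/
theorem card_ap_fiber (Q : QuadraticForm F V) (O : Submodule F V)
    (hO : NonDeg (pB Q) O) (D : ℕ) (hD1 : 1 ≤ D) (hD : finrank F O = 2 * D) (u : V) (hu : u ∈ O)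
    (ha : Q u ≠ 0) :
    2 * Nat.card {w : O // ∀ s : F, Q ((w : V) + s • u) ≠ 0} + Fintype.card F ^ (2 * D - 1) +
      Fintype.card F * Nat.card {w : O // Q (w : V) = 0} = 2 * Fintype.card F ^ (2 * D) := by
  classical
  haveI : Finite V := Module.finite_of_finite F
  haveI : Fintype O := Fintype.ofFinite _
  have hcO : Fintype.card O = Fintype.card F ^ (2 * D) := by
    rw [← hD]; exact Module.card_eq_pow_finrank
  -- the incidence count
  have hinc : Nat.card {p : O × F // Q ((p.1 : V) + p.2 • u) = 0} =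
      Fintype.card F * Nat.card {w : O // Q (w : V) = 0} := by
    rw [← Nat.card_eq_fintype_card (α := F), ← Nat.card_prod]
    apply Nat.card_congr
    exact
      { toFun := fun p =>
          (p.1.2, ⟨⟨p.1.1 + p.1.2 • u, O.add_mem p.1.1.2 (O.smul_mem _ hu)⟩, p.2⟩)
        invFun := fun r => ⟨(⟨r.2.1.1 - r.1 • u, O.sub_mem r.2.1.2 (O.smul_mem _ hu)⟩, r.1), by
          show Q (r.2.1.1 - r.1 • u + r.1 • u) = 0
          rw [sub_add_cancel]; exact r.2.2⟩
        left_inv := fun p => by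
          apply Subtype.ext; apply Prod.ext
          · apply Subtype.ext
            show p.1.1.1 + p.1.2 • u - p.1.2 • u = p.1.1.1
            rw [add_sub_cancel_right]
          · rfl
        right_inv := fun r => by
          apply Prod.ext
          · rfl
          · apply Subtype.ext; apply Subtype.ext
            show r.2.1.1 - r.1 • u + r.1 • u = r.2.1.1
            rw [sub_add_cancel] }
  have hsum : Nat.card {p : O × F // Q ((p.1 : V) + p.2 • u) = 0} =
      ∑ w : O, Nat.card {s : F // Q ((w : V) + s • u) = 0} := by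
    rw [← Nat.card_sigma]
    apply Nat.card_congr
    exact
      { toFun := fun p => ⟨p.1.1, p.1.2, p.2⟩
        invFun := fun r => ⟨(r.1, r.2.1), r.2.2⟩
        left_inv := fun p => rfl
        right_inv := fun r => rfl }
  have hpt : ∀ w : O, 2 * (if ∀ s : F, Q ((w : V) + s • u) ≠ 0 then 1 else 0) +
      (if P1 Q u (w : V) then 1 else 0) + Nat.card {s : F // Q ((w : V) + s • u) = 0} = 2 := by
    intro w
    rcases card_roots Q u (w : V) ha with ⟨h0, hc⟩ | ⟨h1, hc⟩ | ⟨hex, h2', hc⟩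
    · rw [if_pos h0, if_neg, hc]
      rintro ⟨s, hs, _⟩; exact h0 s hs
    · have h1' : P1 Q u (w : V) := h1
      rw [if_neg, if_pos h1', hc]
      obtain ⟨s, hs, _⟩ := h1
      intro h; exact h s hs
    · rw [if_neg, if_neg, hc]
      · rintro ⟨s, hs, hd⟩; exact h2' s hs hd
      · obtain ⟨s, hs⟩ := hex; intro h; exact h s hs
  have htot : ∑ w : O, (2 * (if ∀ s : F, Q ((w : V) + s • u) ≠ 0 then 1 else 0) +
      (if P1 Q u (w : V) then 1 else 0) + Nat.card {s : F // Q ((w : V) + s • u) = 0}) =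
      2 * Fintype.card F ^ (2 * D) := by
    rw [Finset.sum_congr rfl (fun w _ => hpt w)]
    rw [Finset.sum_const, Finset.card_univ, hcO, smul_eq_mul, mul_comm]
  rw [Finset.sum_add_distrib, Finset.sum_add_distrib, ← Finset.mul_sum,
    ← Cfsg.Agent.Lib.Helper16.Oh.card_subtype_eq_sum_ite,
    ← Cfsg.Agent.Lib.Helper16.Oh.card_subtype_eq_sum_ite, ← hsum, hinc,
    card_p1 Q O hO D hD1 hD u hu ha] at htot
  exact htot

/-- the pairs, fibred over the first vector -/
theorem card_ap_total (Q : QuadraticForm F V) (O : Submodule F V) (n0 : ℕ)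
    (hn : ∀ u : V, u ∈ O → Q u ≠ 0 →
      Nat.card {w : O // ∀ s : F, Q ((w : V) + s • u) ≠ 0} = n0) :
    Nat.card {p : V × V // p.1 ∈ O ∧ p.2 ∈ O ∧
        ∀ s t : F, Q (s • p.1 + t • p.2) = 0 → s = 0 ∧ t = 0} =
      Nat.card {u : O // Q (u : V) ≠ 0} * n0 := by
  classical
  haveI : Finite V := Module.finite_of_finite F
  haveI : Fintype {u : O // Q (u : V) ≠ 0} := Fintype.ofFinite _
  have h1 : Nat.card {p : V × V // p.1 ∈ O ∧ p.2 ∈ O ∧
        ∀ s t : F, Q (s • p.1 + t • p.2) = 0 → s = 0 ∧ t = 0} =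
      Nat.card (Σ u : {u : O // Q (u : V) ≠ 0},
        {w : O // ∀ s : F, Q ((w : V) + s • (u.1 : V)) ≠ 0}) := by
    apply Nat.card_congr
    exact
      { toFun := fun p =>
          ⟨⟨⟨p.1.1, p.2.1⟩, fun h0 => not_ap_of_sing Q p.1.1 p.1.2 h0 p.2.2.2⟩,
            ⟨⟨p.1.2, p.2.2.1⟩, (ap_iff Q p.1.1 p.1.2
              (fun h0 => not_ap_of_sing Q p.1.1 p.1.2 h0 p.2.2.2)).mp p.2.2.2⟩⟩
        invFun := fun r => ⟨(r.1.1.1, r.2.1.1), r.1.1.2, r.2.1.2,
          (ap_iff Q r.1.1.1 r.2.1.1 r.1.2).mpr r.2.2⟩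
        left_inv := fun p => rfl
        right_inv := fun r => rfl }
  rw [h1, Nat.card_sigma,
    Finset.sum_congr rfl (fun (u : {u : O // Q (u : V) ≠ 0}) _ => hn u.1.1 u.1.2 u.2),
    Finset.sum_const, Finset.card_univ, smul_eq_mul, Nat.card_eq_fintype_card]

theorem arith_k0 (q a ε T N Z : ℤ) (hq : q ≠ 0)
    (h1 : 2 * T = N * (2 * (q * a) ^ 2 - q * a ^ 2 - q * Z)) (h2 : N + Z = (q * a) ^ 2)
    (h3 : q * Z = (q * a) ^ 2 + ε * (q - 1) * (q * a)) :
    2 * T = q * a ^ 2 * ((q * a - ε) * (a - ε)) * ((q - 1) * (q - 1)) := by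
  have hZ : Z = q * a ^ 2 + ε * (q - 1) * a := by
    apply mul_left_cancel₀ hq
    rw [h3]; ring
  have hN : N = (q * a) ^ 2 - Z := by linarith
  rw [h1, hN, hZ]; ring

/-- the integer form of the count -/
theorem card_aniso_pairs_int (Q : QuadraticForm F V)
    (O : Submodule F V) (hO : NonDeg (pB Q) O) (k : ℕ) (hD : finrank F O = 2 * (k + 1)) :
    2 * (Nat.card {p : V × V // p.1 ∈ O ∧ p.2 ∈ O ∧
        ∀ s t : F, Q (s • p.1 + t • p.2) = 0 → s = 0 ∧ t = 0} : ℤ) =
      (Fintype.card F : ℤ) * ((Fintype.card F : ℤ) ^ k) ^ 2 *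
        (((Fintype.card F : ℤ) * (Fintype.card F : ℤ) ^ k - sgn Q O) *
          ((Fintype.card F : ℤ) ^ k - sgn Q O)) *
        (((Fintype.card F : ℤ) - 1) * ((Fintype.card F : ℤ) - 1)) := by
  classical
  haveI : Finite V := Module.finite_of_finite F
  haveI : Fintype O := Fintype.ofFinite _
  have hcO : Nat.card O = Fintype.card F ^ (2 * (k + 1)) := by
    rw [← hD, Nat.card_eq_fintype_card]; exact Module.card_eq_pow_finrank
  have hNZ : Nat.card {u : O // Q (u : V) ≠ 0} + Nat.card {u : O // Q (u : V) = 0} =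
      Fintype.card F ^ (2 * (k + 1)) := by
    have := Nat.card_congr (Equiv.sumCompl (fun u : O => Q (u : V) = 0))
    rw [Nat.card_sum] at this
    rw [← hcO, ← this, add_comm]
  have hZ := card_mul_zeros Q O hO (k + 1) hD
  have hqne : (Fintype.card F : ℤ) ≠ 0 := by
    exact_mod_cast Fintype.card_ne_zero
  apply arith_k0 (Fintype.card F : ℤ) ((Fintype.card F : ℤ) ^ k) (sgn Q O) _
    (Nat.card {u : O // Q (u : V) ≠ 0} : ℤ) (Nat.card {u : O // Q (u : V) = 0} : ℤ) hqne
  · -- the fibre count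
    by_cases hex : ∃ u : V, u ∈ O ∧ Q u ≠ 0
    · obtain ⟨u0, hu0, ha0⟩ := hex
      have hf0 := card_ap_fiber Q O hO (k + 1) (by omega) hD u0 hu0 ha0
      have hT := card_ap_total Q O (Nat.card {w : O // ∀ s : F, Q ((w : V) + s • u0) ≠ 0})
        (by
          intro u hu ha
          have hf := card_ap_fiber Q O hO (k + 1) (by omega) hD u hu ha
          generalize Fintype.card F ^ (2 * (k + 1) - 1) = A at hf hf0
          generalize Fintype.card F * Nat.card {w : O // Q (w : V) = 0} = B at hf hf0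
          generalize Fintype.card F ^ (2 * (k + 1)) = C at hf hf0
          omega)
      rw [hT]
      have hf0' : (2 * Nat.card {w : O // ∀ s : F, Q ((w : V) + s • u0) ≠ 0} +
          Fintype.card F ^ (2 * (k + 1) - 1) +
          Fintype.card F * Nat.card {w : O // Q (w : V) = 0} : ℤ) =
          2 * (Fintype.card F : ℤ) ^ (2 * (k + 1)) := by exact_mod_cast hf0
      have e1 : 2 * (k + 1) - 1 = 2 * k + 1 := by omega
      rw [e1] at hf0'
      push_cast
      have e2 : ((Fintype.card F : ℤ) * (Fintype.card F : ℤ) ^ k) ^ 2 =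
          (Fintype.card F : ℤ) ^ (2 * (k + 1)) := by ring
      have e3 : (Fintype.card F : ℤ) * ((Fintype.card F : ℤ) ^ k) ^ 2 =
          (Fintype.card F : ℤ) ^ (2 * k + 1) := by ring
      rw [e2, e3]
      linear_combination
        (Nat.card {u : O // Q (u : V) ≠ 0} : ℤ) * hf0'
    · push Not at hex
      have hT := card_ap_total Q O 0 (fun u hu ha => absurd (hex u hu) ha)
      have hN0 : Nat.card {u : O // Q (u : V) ≠ 0} = 0 := by
        haveI : IsEmpty {u : O // Q (u : V) ≠ 0} := ⟨fun u => u.2 (hex u.1.1 u.1.2)⟩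
        exact Nat.card_of_isEmpty
      rw [hT, hN0]
      simp
  · have : ((Nat.card {u : O // Q (u : V) ≠ 0} + Nat.card {u : O // Q (u : V) = 0} : ℕ) : ℤ) =
        ((Fintype.card F ^ (2 * (k + 1)) : ℕ) : ℤ) := by rw [hNZ]
    push_cast at this
    rw [this]; ring
  · rw [hZ]; ring

/-- **K-OEl-K0** (598812): the number of anisotropic pairs (the predicate `AP` of the spec is
written out) -/
theorem card_aniso_pairs (Q : QuadraticForm F V)
    (O : Submodule F V) (hO : NonDeg (pB Q) O) (D : ℕ) (hD1 : 1 ≤ D) (hD : finrank F O = 2 * D) :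
    (PlusQ Q O → 2 * Nat.card {p : V × V // p.1 ∈ O ∧ p.2 ∈ O ∧
        ∀ s t : F, Q (s • p.1 + t • p.2) = 0 → s = 0 ∧ t = 0} =
      Fintype.card F ^ (2 * D - 1) * ((Fintype.card F ^ D - 1) * (Fintype.card F ^ (D - 1) - 1)) *
        ((Fintype.card F - 1) * (Fintype.card F - 1))) ∧
    (¬ PlusQ Q O → 2 * Nat.card {p : V × V // p.1 ∈ O ∧ p.2 ∈ O ∧
        ∀ s t : F, Q (s • p.1 + t • p.2) = 0 → s = 0 ∧ t = 0} =
      Fintype.card F ^ (2 * D - 1) * ((Fintype.card F ^ D + 1) * (Fintype.card F ^ (D - 1) + 1)) *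
        ((Fintype.card F - 1) * (Fintype.card F - 1))) := by
  obtain ⟨k, rfl⟩ := Nat.exists_eq_add_of_le' hD1
  have hint := card_aniso_pairs_int Q O hO k hD
  have hq1 : 1 ≤ Fintype.card F := Fintype.card_pos
  have hp1 : 1 ≤ Fintype.card F ^ (k + 1) := Nat.one_le_pow _ _ hq1
  have hp2 : 1 ≤ Fintype.card F ^ k := Nat.one_le_pow _ _ hq1
  have e1 : 2 * (k + 1) - 1 = 2 * k + 1 := by omega
  have e2 : k + 1 - 1 = k := by omega
  rw [e1, e2]
  constructor
  · intro hp
    rw [sgn_plus Q O hp] at hint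
    zify [hq1, hp1, hp2]
    rw [hint]; ring
  · intro hm
    rw [sgn_minus Q O hm] at hint
    zify [hq1, hp1, hp2]
    rw [hint]; ring

end Cfsg.Agent.Lib.Helper98.OEl
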