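import Cfsg.Agent.Lib.Helper98.OhPA1
import Cfsg.Agent.Lib.Helper16.OhG1

set_option autoImplicit false
set_option linter.unusedSimpArgs false
set_option linter.unusedSectionVars false
set_option linter.unusedVariables false
set_option linter.style.haveILetI false
set_option maxHeartbeats 1000000

/-!
# K-OEl-K0 (helper98), part a: the lines `w + F u` through a nonsingular direction `u` carry
`0`, `1` or `2` singular vectors
-/

namespace Cfsg.Agent.Lib.Helper98.OEl

open Module Cfsg.Agent.Lib.Helper98.Elus Cfsg.Agent.Lib.Helper98.Sy Cfsg.Agent.Lib.Helper38.OhP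

universe u
variable {F : Type u} [Field F] {V : Type u} [AddCommGroup V] [Module F V]

/-- `Q` along a line -/
theorem q_add_smul (Q : QuadraticForm F V) (u w : V) (s : F) :
    Q (w + s • u) = Q w + s * s * Q u + s * pB Q u w := by
  have h := pB_apply Q w (s • u)
  rw [map_smul, smul_eq_mul, pB_symm Q w u, QuadraticMap.map_smul, smul_eq_mul] at h
  linear_combination -h

/-- the second root -/
theorem root_iff (Q : QuadraticForm F V) (u w : V) (ha : Q u ≠ 0) (s s' : F)
    (hs : Q (w + s • u) = 0) :
    Q (w + s' • u) = 0 ↔ (s' = s ∨ s' = -(pB Q u w) / Q u - s) := by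
  rw [q_add_smul] at hs ⊢
  have key : Q w + s' * s' * Q u + s' * pB Q u w =
      (s' - s) * ((s' + s) * Q u + pB Q u w) := by linear_combination hs
  rw [key, mul_eq_zero, sub_eq_zero]
  constructor
  · rintro (h | h)
    · exact Or.inl h
    · right
      field_simp
      linear_combination h
  · rintro (h | h)
    · exact Or.inl h
    · right
      rw [h]
      field_simp
      ring

/-- the three cases for the number of roots -/
theorem card_roots [Finite F] (Q : QuadraticForm F V) (u w : V) (ha : Q u ≠ 0) :
    ((∀ s : F, Q (w + s • u) ≠ 0) ∧ Nat.card {s : F // Q (w + s • u) = 0} = 0) ∨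
    ((∃ s : F, Q (w + s • u) = 0 ∧ 2 * s * Q u + pB Q u w = 0) ∧
      Nat.card {s : F // Q (w + s • u) = 0} = 1) ∨
    ((∃ s : F, Q (w + s • u) = 0) ∧ (∀ s : F, Q (w + s • u) = 0 → 2 * s * Q u + pB Q u w ≠ 0) ∧
      Nat.card {s : F // Q (w + s • u) = 0} = 2) := by
  by_cases hex : ∃ s : F, Q (w + s • u) = 0
  · obtain ⟨s, hs⟩ := hex
    set s2 : F := -(pB Q u w) / Q u - s with hs2
    have hs2r : Q (w + s2 • u) = 0 := (root_iff Q u w ha s s2 hs).mpr (Or.inr rfl)
    have heq : s2 = s ↔ 2 * s * Q u + pB Q u w = 0 := by
      rw [hs2]
      constructor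
      · intro h
        field_simp at h
        linear_combination -h
      · intro h
        field_simp
        linear_combination -h
    by_cases hd : 2 * s * Q u + pB Q u w = 0
    · right; left
      refine ⟨⟨s, hs, hd⟩, ?_⟩
      haveI : Unique {s' : F // Q (w + s' • u) = 0} :=
        { default := ⟨s, hs⟩
          uniq := fun t => by
            apply Subtype.ext
            rcases (root_iff Q u w ha s t.1 hs).mp t.2 with h | h
            · exact h
            · rw [h, ← hs2]; exact heq.mpr hd }
      exact Nat.card_unique
    · right; right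
      refine ⟨⟨s, hs⟩, ?_, ?_⟩
      · intro t ht ht0
        rcases (root_iff Q u w ha s t hs).mp ht with h | h
        · rw [h] at ht0; exact hd ht0
        · apply hd
          rw [h] at ht0
          field_simp at ht0
          linear_combination -ht0
      · rw [Nat.card_eq_two_iff]
        refine ⟨⟨s, hs⟩, ⟨s2, hs2r⟩, ?_, ?_⟩
        · intro h
          have h' : s = s2 := congrArg Subtype.val h
          exact hd (heq.mp h'.symm)
        · ext t
          simp only [Set.mem_insert_iff, Set.mem_singleton_iff, Set.mem_univ, iff_true]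
          rcases (root_iff Q u w ha s t.1 hs).mp t.2 with h | h
          · left; exact Subtype.ext h
          · right; exact Subtype.ext h
  · left
    push Not at hex
    refine ⟨hex, ?_⟩
    haveI : IsEmpty {s : F // Q (w + s • u) = 0} := ⟨fun t => hex t.1 t.2⟩
    exact Nat.card_of_isEmpty

end Cfsg.Agent.Lib.Helper98.OEl
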