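import Cfsg.Agent.Lib.Helper98.OElK0a

set_option autoImplicit false
set_option linter.unusedSimpArgs false
set_option linter.unusedSectionVars false
set_option linter.unusedVariables false
set_option linter.style.haveILetI false
set_option maxHeartbeats 1000000

/-!
# K-OEl-K0 (helper98), part b: the number of `w` with exactly one singular vector on `w + F u`
-/

namespace Cfsg.Agent.Lib.Helper98.OEl

open Module Cfsg.Agent.Lib.Helper98.Elus Cfsg.Agent.Lib.Helper98.Sy Cfsg.Agent.Lib.Helper38.OhP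

universe u
variable {F : Type u} [Field F] {V : Type u} [AddCommGroup V] [Module F V]

/-- the double-root condition -/
def P1 (Q : QuadraticForm F V) (u w : V) : Prop :=
  ∃ s : F, Q (w + s • u) = 0 ∧ 2 * s * Q u + pB Q u w = 0

variable [Fintype F] [FiniteDimensional F V]

/-- characteristic two: the double-root condition is orthogonality -/
theorem p1_iff_char2 (h2 : (2 : F) = 0) (Q : QuadraticForm F V) (u w : V) (ha : Q u ≠ 0) :
    P1 Q u w ↔ pB Q u w = 0 := by
  constructor
  · rintro ⟨s, _, h⟩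
    rw [h2, zero_mul, zero_mul, zero_add] at h
    exact h
  · intro hb
    have hchar : ringChar F = 2 :=
      CharP.ringChar_of_prime_eq_zero Nat.prime_two (by exact_mod_cast h2)
    haveI : CharP F 2 := ringChar.of_eq hchar
    obtain ⟨s, hs⟩ := FiniteField.isSquare_of_char_two hchar (Q w / Q u)
    refine ⟨s, ?_, by rw [h2, zero_mul, zero_mul, zero_add]; exact hb⟩
    rw [q_add_smul, hb, mul_zero, add_zero, ← hs, div_mul_cancel₀ _ ha]
    exact CharTwo.add_self_eq_zero _

theorem card_p1_char2 (h2 : (2 : F) = 0) (Q : QuadraticForm F V) (O : Submodule F V)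
    (hO : NonDeg (pB Q) O) (D : ℕ) (hD : finrank F O = 2 * D) (u : V) (hu : u ∈ O)
    (ha : Q u ≠ 0) :
    Nat.card {w : O // P1 Q u (w : V)} = Fintype.card F ^ (2 * D - 1) := by
  have hu0 : u ≠ 0 := by
    rintro rfl
    exact ha (map_zero Q)
  have h1 := Cfsg.Agent.Lib.Helper16.Oh.card_orth_fiber (B := pB Q) O hO u hu hu0
  rw [hD] at h1
  rw [← h1]
  apply Nat.card_congr
  exact
    { toFun := fun w => ⟨w.1.1, w.1.2, (p1_iff_char2 h2 Q u _ ha).mp w.2⟩
      invFun := fun y => ⟨⟨y.1, y.2.1⟩, (p1_iff_char2 h2 Q u _ ha).mpr y.2.2⟩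
      left_inv := fun w => rfl
      right_inv := fun y => rfl }

theorem card_p1_odd (h2 : (2 : F) ≠ 0) (Q : QuadraticForm F V) (O : Submodule F V)
    (hO : NonDeg (pB Q) O) (D : ℕ) (hD1 : 1 ≤ D) (hD : finrank F O = 2 * D) (u : V) (hu : u ∈ O)
    (ha : Q u ≠ 0) :
    Nat.card {w : O // P1 Q u (w : V)} = Fintype.card F ^ (2 * D - 1) := by
  classical
  haveI : Finite V := Module.finite_of_finite F
  have hR : (pB Q).IsRefl := fun a b hab => by rw [pB_symm]; exact hab
  have hu0 : u ≠ 0 := by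
    rintro rfl
    exact ha (map_zero Q)
  have h2a : 2 * Q u ≠ 0 := mul_ne_zero h2 ha
  have huu : pB Q u u = 2 * Q u := pB_self Q u
  -- the hyperplane
  set L : Submodule F V := Submodule.span F {u} with hL
  have hLnd : NonDeg (pB Q) L := by
    intro x hx hx'
    obtain ⟨c, rfl⟩ := Submodule.mem_span_singleton.mp hx
    have := hx' u (Submodule.mem_span_singleton_self u)
    rw [map_smul, LinearMap.smul_apply, smul_eq_mul, huu] at this
    rcases mul_eq_zero.mp this with h | h
    · rw [h, zero_smul]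
    · exact absurd h h2a
  have hLO : L ≤ O := by
    rw [hL, Submodule.span_singleton_le_iff_mem]; exact hu
  obtain ⟨_, _, hHnd, hHd⟩ := Cfsg.Agent.Lib.Helper98.Os.compl_props hR L O hLnd hLO hO
  set H : Submodule F V := (pB Q).orthogonal L ⊓ O with hH
  have hLd : finrank F L = 1 := finrank_span_singleton hu0
  have hHd' : finrank F H = 2 * (D - 1) + 1 := by omega
  have hmemH : ∀ z : V, z ∈ H ↔ z ∈ O ∧ pB Q u z = 0 := by
    intro z
    rw [hH, Submodule.mem_inf, LinearMap.BilinForm.mem_orthogonal_iff]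
    constructor
    · rintro ⟨h1, h2'⟩
      exact ⟨h2', h1 u (Submodule.mem_span_singleton_self u)⟩
    · rintro ⟨h1, h2'⟩
      refine ⟨?_, h1⟩
      intro n hn
      obtain ⟨c, rfl⟩ := Submodule.mem_span_singleton.mp hn
      show pB Q (c • u) z = 0
      rw [map_smul, LinearMap.smul_apply, h2', smul_zero]
  have hZH := Cfsg.Agent.Lib.Helper16.Oh.card_zeros_odd Q h2 H hHnd (D - 1) hHd'
  have hpow : Fintype.card F ^ (2 * D - 1) = Fintype.card F ^ (2 * (D - 1)) * Fintype.card F := by
    rw [← pow_succ]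
    congr 1
    omega
  rw [hpow, ← hZH, ← Nat.card_eq_fintype_card (α := F), ← Nat.card_prod]
  apply Nat.card_congr
  have hsing : ∀ z : V, pB Q z z = 0 ↔ Q z = 0 := by
    intro z
    rw [pB_self]
    constructor
    · intro h
      rcases mul_eq_zero.mp h with h' | h'
      · exact absurd h' h2
      · exact h'
    · intro h
      rw [h, mul_zero]
  have hs0 : ∀ w : V, P1 Q u w → Q (w + (-(pB Q u w) / (2 * Q u)) • u) = 0 := by
    rintro w ⟨s, hs, hd⟩
    have : s = -(pB Q u w) / (2 * Q u) := by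
      field_simp
      linear_combination hd
    rw [← this]
    exact hs
  refine
    { toFun := fun w => (⟨(w.1 : V) + (-(pB Q u w.1) / (2 * Q u)) • u, ?_, ?_⟩,
        -(pB Q u w.1) / (2 * Q u))
      invFun := fun p => ⟨⟨p.1.1 - p.2 • u, ?_⟩, ?_⟩
      left_inv := ?_
      right_inv := ?_ }
  · rw [hmemH]
    refine ⟨O.add_mem w.1.2 (O.smul_mem _ hu), ?_⟩
    rw [map_add, map_smul, huu, smul_eq_mul]
    field_simp
    ring
  · exact (hsing _).mpr (hs0 _ w.2)
  · exact O.sub_mem ((hmemH _).mp p.1.2.1).1 (O.smul_mem _ hu)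
  · refine ⟨p.2, ?_, ?_⟩
    · show Q (p.1.1 - p.2 • u + p.2 • u) = 0
      rw [sub_add_cancel]
      exact (hsing _).mp p.1.2.2
    · show 2 * p.2 * Q u + pB Q u (p.1.1 - p.2 • u) = 0
      rw [map_sub, map_smul, huu, ((hmemH _).mp p.1.2.1).2, smul_eq_mul]
      ring
  · intro w
    apply Subtype.ext
    apply Subtype.ext
    simp
  · rintro ⟨z, s⟩
    have hb : pB Q u (z.1 - s • u) = -(s * (2 * Q u)) := by
      rw [map_sub, map_smul, huu, ((hmemH _).mp z.2.1).2, smul_eq_mul]
      ring
    have hs' : -(pB Q u (z.1 - s • u)) / (2 * Q u) = s := by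
      rw [hb]
      field_simp
    apply Prod.ext
    · apply Subtype.ext
      show z.1 - s • u + (-(pB Q u (z.1 - s • u)) / (2 * Q u)) • u = z.1
      rw [hs', sub_add_cancel]
    · exact hs'

/-- the number of `w ∈ O` whose line `w + F u` carries exactly one singular vector -/
theorem card_p1 (Q : QuadraticForm F V) (O : Submodule F V)
    (hO : NonDeg (pB Q) O) (D : ℕ) (hD1 : 1 ≤ D) (hD : finrank F O = 2 * D) (u : V) (hu : u ∈ O)
    (ha : Q u ≠ 0) :
    Nat.card {w : O // P1 Q u (w : V)} = Fintype.card F ^ (2 * D - 1) := by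
  by_cases h2 : (2 : F) = 0
  · exact card_p1_char2 h2 Q O hO D hD u hu ha
  · exact card_p1_odd h2 Q O hO D hD1 hD u hu ha

end Cfsg.Agent.Lib.Helper98.OEl
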