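import Cfsg.Agent.Lib.Helper98.Oh1
import Cfsg.Agent.Lib.Helper63.OhB

set_option autoImplicit false
set_option linter.unusedSimpArgs false
set_option linter.unusedSectionVars false
set_option linter.unusedVariables false
set_option linter.style.haveILetI false
set_option maxHeartbeats 1000000

/-!
# S5992 / S5993 (helper98): semisimple isometries of odd prime order of an odd-dimensional symmetric
space: fixed nondegenerate subspaces of a given even dimension and type
-/

namespace Cfsg.Agent.Lib.Helper98.Oh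

open Module Cfsg.Agent.Lib.Helper98.Elus Cfsg.Agent.Lib.Helper98.Sy

universe u
variable {F : Type u} [Field F] {V : Type u} [AddCommGroup V] [Module F V]

section Main

variable [Fintype F] (h2 : (2 : F) ≠ 0) [FiniteDimensional F V]
  (B : LinearMap.BilinForm F V) (hS : ∀ a b, B a b = B b a) (hV : NonDeg B ⊤)
  (p f : ℕ) [Fact p.Prime] (hF : Fintype.card F = p ^ f)
  (r : ℕ) [Fact r.Prime] (hpr : p ≠ r) (hr2 : r ≠ 2) (hrF : (r : F) ≠ 0) (y : V →ₗ[F] V)
  (hy : y ^ r = 1) (hiso : Iso B y)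
include h2 hS hV hF hpr hr2 hrF hy hiso

/-- the existence direction -/
theorem exists_fixed_of_cond (n : ℕ) (hn : finrank F V = n) (hnodd : Odd n) (m : ℕ) (hme : Even m)
    (hmn : m < n) (τ : Prop)
    (hcond : cOf (orderOf ((Fintype.card F : ℕ) : ZMod r)) ≤ m ∧
      m % cOf (orderOf ((Fintype.card F : ℕ) : ZMod r)) <
        n % cOf (orderOf ((Fintype.card F : ℕ) : ZMod r)) ∧
      (0 < m % cOf (orderOf ((Fintype.card F : ℕ) : ZMod r)) ∨
        (τ ↔ (Odd (orderOf ((Fintype.card F : ℕ) : ZMod r)) ∨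
          Even (m / cOf (orderOf ((Fintype.card F : ℕ) : ZMod r))))))) :
    ∃ W : Submodule F V, Inv y W ∧ NonDeg B W ∧ finrank F W = m ∧ (Plus B W ↔ τ) := by
  classical
  have hr : r.Prime := Fact.out
  have hR := Os.isRefl_of_symm hS
  set i := orderOf ((Fintype.card F : ℕ) : ZMod r) with hi
  set c := cOf i with hc
  have hc1 : 1 ≤ c := cOf_pos _ (orderOf_card_pos p f hF r hpr)
  have hce : Even c := cOf_even _
  obtain ⟨hcm, hlk, hzero⟩ := hcond
  -- the two parts
  obtain ⟨hnd0', hnd1'⟩ := nonDeg_inf_parts_refl hR r hrF y hy hiso ⊤ hV (fun _ _ => Submodule.mem_top)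
  have hnd0 : NonDeg B (V0 y) := by rwa [top_inf_eq] at hnd0'
  have hnd1 : NonDeg B (V1 r y) := by rwa [top_inf_eq] at hnd1'
  have hsum := finrank_V0_add_V1 r hrF y hy
  rw [hn] at hsum
  obtain ⟨⟨t, ht⟩, -⟩ := type_of_le_V1 h2 B hS hV p f hF r hpr hr2 hrF y hy hiso _ (V1 r y) rfl
    le_rfl (inv_V1 r y) hnd1
  rw [← hi, ← hc] at ht
  have hort01 := ort_V0_V1 r hrF y hy hiso
  -- arithmetic
  have hmdiv : c * (m / c) + m % c = m := Nat.div_add_mod m c
  have hndiv : c * (n / c) + n % c = n := Nat.div_add_mod n c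
  set s := min t (m / c) with hs
  have hst : s ≤ t := min_le_left _ _
  have hsm : s ≤ m / c := min_le_right _ _
  have hcs_le : c * s ≤ c * t := Nat.mul_le_mul_left c hst
  have hcs_le' : c * s ≤ c * (m / c) := Nat.mul_le_mul_left c hsm
  obtain ⟨W1, hW1V, hW1, hW1nd, hW1d⟩ := exists_nonDeg_inv_symm h2 B hS hV p f hF r hpr hr2 hrF y hy
    hiso (V1 r y) le_rfl (inv_V1 r y) hnd1 s (by rw [← hi, ← hc, ht]; exact hcs_le)
  rw [← hi, ← hc] at hW1d
  obtain ⟨-, hW1type⟩ := type_of_le_V1 h2 B hS hV p f hF r hpr hr2 hrF y hy hiso _ W1 hW1d hW1V hW1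
    hW1nd
  rw [← hi, ← hc, Nat.mul_div_cancel_left s (by omega : 0 < c)] at hW1type
  have hV0d : finrank F (V0 y) = n - c * t := by omega
  have hV0odd : Odd (finrank F (V0 y)) := by
    rw [hV0d]
    obtain ⟨a, ha⟩ := hnodd
    obtain ⟨b, hb⟩ := hce.mul_right t
    exact ⟨a - b, by omega⟩
  have hmod_le : n % c ≤ n - c * t := by
    have h1 : (n - c * t) % c = n % c := by
      have : n = (n - c * t) + c * t := by omega
      conv_rhs => rw [this, Nat.add_mul_mod_self_left]
    rw [← h1]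
    exact Nat.mod_le _ _
  have he_lt : m - c * s < n - c * t := by
    rcases le_total t (m / c) with h | h
    · have : s = t := min_eq_left h
      rw [this]
      have : c * t ≤ c * (m / c) := Nat.mul_le_mul_left c h
      omega
    · have : s = m / c := min_eq_right h
      rw [this]
      omega
  have he_even : Even (m - c * s) := by
    have hcs : Even (c * s) := hce.mul_right s
    have hle : c * s ≤ m := by omega
    exact (Nat.even_sub hle).mpr ⟨fun _ => hcs, fun _ => hme⟩
  by_cases he0 : m - c * s = 0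
  · -- `W = W1`
    have hms : m = c * s := by omega
    have hsq : s = m / c := by
      rw [hms, Nat.mul_div_cancel_left s (by omega : 0 < c)]
    have hm0 : m % c = 0 := by
      rw [hms]
      exact Nat.mul_mod_right c s
    refine ⟨W1, hW1, hW1nd, by rw [hW1d, ← hms], ?_⟩
    rcases hzero with h | h
    · omega
    · rw [hW1type, h, ← hsq]
  · have he2 : 2 ≤ m - c * s := by
      obtain ⟨a, ha⟩ := he_even
      omega
    obtain ⟨W0, hW0V, hW0nd, hW0d, hW0type⟩ := Cfsg.Agent.Lib.Helper63.Oh.exists_sub_of_odd h2 B hS (V0 y) hnd0 hV0odd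
      (m - c * s) he_even he2 (by rw [hV0d]; exact he_lt) (Plus B W1 ↔ τ)
    have hW0inv : Inv y W0 := by
      intro v hv
      rw [(mem_V0 y v).mp (hW0V hv)]
      exact hv
    have hort : Ort B W0 W1 := fun a ha b hb => hort01 a (hW0V ha) b (hW1V hb)
    refine ⟨W0 ⊔ W1, hW0inv.sup hW1, (Os.nonDeg_sup hR W0 W1 hW0nd hW1nd hort).1, ?_, ?_⟩
    · rw [Os.finrank_sup_of_ort hR W0 W1 hW0nd hW1nd hort, hW0d, hW1d]
      omega
    · rw [Cfsg.Agent.Lib.Helper63.Oh.plus_sup_iff h2 B hS W0 W1 hW0nd hW1nd hort (by rw [hW0d]; exact he_even)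
        (by rw [hW1d]; exact hce.mul_right s), hW0type]
      by_cases h1 : Plus B W1 <;> by_cases h2 : τ <;> simp [h1, h2]

/-- the necessity direction, for an element with a small fixed space -/
theorem cond_of_fixed (k : ℕ) (hk : finrank F (V0 y) = k) (hkodd : Odd k)
    (hkc : k < cOf (orderOf ((Fintype.card F : ℕ) : ZMod r)))
    (m : ℕ) (hme : Even m) (hkm : k ≤ m) (τ : Prop) (W : Submodule F V) (hW : Inv y W)
    (hWnd : NonDeg B W) (hWd : finrank F W = m) (hWt : Plus B W ↔ τ) :
    cOf (orderOf ((Fintype.card F : ℕ) : ZMod r)) ≤ m ∧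
      m % cOf (orderOf ((Fintype.card F : ℕ) : ZMod r)) < k ∧
      (0 < m % cOf (orderOf ((Fintype.card F : ℕ) : ZMod r)) ∨
        (τ ↔ (Odd (orderOf ((Fintype.card F : ℕ) : ZMod r)) ∨
          Even (m / cOf (orderOf ((Fintype.card F : ℕ) : ZMod r)))))) := by
  classical
  have hr : r.Prime := Fact.out
  have hR := Os.isRefl_of_symm hS
  set i := orderOf ((Fintype.card F : ℕ) : ZMod r) with hi
  set c := cOf i with hc
  have hc1 : 1 ≤ c := cOf_pos _ (orderOf_card_pos p f hF r hpr)
  have hce : Even c := cOf_even _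
  obtain ⟨hnd0, hnd1⟩ := nonDeg_inf_parts_refl hR r hrF y hy hiso W hWnd hW
  have hsum := finrank_inf_V0_add_inf_V1 r hrF y hy W hW
  rw [hWd] at hsum
  obtain ⟨⟨s, hs⟩, htype⟩ := type_of_le_V1 h2 B hS hV p f hF r hpr hr2 hrF y hy hiso _ (W ⊓ V1 r y)
    rfl inf_le_right (hW.inf (inv_V1 r y)) hnd1
  rw [← hi, ← hc] at hs htype
  have h0le : finrank F ↥(W ⊓ V0 y) ≤ k := by
    rw [← hk]
    exact Submodule.finrank_mono inf_le_right
  have h0even : Even (finrank F ↥(W ⊓ V0 y)) := by
    have hcs : Even (c * s) := hce.mul_right s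
    have : finrank F ↥(W ⊓ V0 y) = m - c * s := by omega
    rw [this]
    exact (Nat.even_sub (by omega)).mpr ⟨fun _ => hcs, fun _ => hme⟩
  have h0lt : finrank F ↥(W ⊓ V0 y) < k := by
    rcases Nat.lt_or_ge (finrank F ↥(W ⊓ V0 y)) k with h | h
    · exact h
    · exfalso
      have : finrank F ↥(W ⊓ V0 y) = k := by omega
      rw [this] at h0even
      exact (Nat.not_even_iff_odd.mpr hkodd) h0even
  have hmeq : m = c * s + finrank F ↥(W ⊓ V0 y) := by omega
  have hmod : m % c = finrank F ↥(W ⊓ V0 y) := by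
    rw [hmeq, Nat.mul_add_mod]
    exact Nat.mod_eq_of_lt (by omega)
  have hdiv : m / c = s := by
    rw [hmeq, Nat.mul_add_div (by omega : 0 < c), Nat.div_eq_of_lt (by omega), add_zero]
  refine ⟨?_, by rw [hmod]; exact h0lt, ?_⟩
  · by_contra hcon
    push Not at hcon
    have hs0 : s = 0 := by
      by_contra hne
      have : c * 1 ≤ c * s := Nat.mul_le_mul_left c (by omega)
      omega
    rw [hs0] at hmeq
    omega
  · by_cases h0 : 0 < m % c
    · left; exact h0
    · right
      have hz : finrank F ↥(W ⊓ V0 y) = 0 := by omega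
      have hWeq : W ⊓ V1 r y = W := by
        apply Submodule.eq_of_le_of_finrank_eq inf_le_left
        rw [hWd]
        omega
      rw [hWeq] at htype
      rw [← hWt, htype, hWd]

end Main

end Cfsg.Agent.Lib.Helper98.Oh
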