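import Cfsg.Agent.Lib.Helper98.Oh0
import Cfsg.Agent.Lib.Helper50.StdForms
import Cfsg.Agent.Lib.Helper50.IsometryClass
import Cfsg.Agent.Lib.Helper50.GeoBridge
import Cfsg.Agent.Lib.Helper50.WittSplit

set_option autoImplicit false
set_option linter.unusedSimpArgs false
set_option linter.unusedSectionVars false
set_option linter.unusedVariables false
set_option linter.style.haveILetI false
set_option maxHeartbeats 1000000

/-!
# S5992 / S5993 (helper98): the standard odd-dimensional quadratic form as a symmetric bilinear form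
-/

namespace Cfsg.Agent.Lib.Helper98.Oh

open Module Cfsg.Agent.Lib.Helper98.Elus Cfsg.Agent.Lib.Helper98.Sy

universe u
variable {F : Type u} [Field F]

/-- the polar form of `quadFormOdd` as a bilinear form -/
noncomputable def B0 (d : ℕ) : LinearMap.BilinForm F (Unit ⊕ (Fin d ⊕ Fin d) → F) :=
  QuadraticMap.polarBilin (Cfsg.Agent.Lib.Helper50.QOdd d F)

theorem B0_apply (d : ℕ) (a b : Unit ⊕ (Fin d ⊕ Fin d) → F) :
    B0 d a b = QuadraticMap.polar (Cfsg.quadFormOdd d F) a b := by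
  unfold B0
  rw [QuadraticMap.polarBilin_apply_apply]
  rfl

theorem B0_symm (d : ℕ) (a b : Unit ⊕ (Fin d ⊕ Fin d) → F) : B0 d a b = B0 d b a := by
  rw [B0_apply, B0_apply, QuadraticMap.polar_comm]

theorem B0_self (d : ℕ) (a : Unit ⊕ (Fin d ⊕ Fin d) → F) :
    B0 d a a = 2 * Cfsg.quadFormOdd d F a := by
  unfold B0
  rw [QuadraticMap.polarBilin_apply_apply, QuadraticMap.polar_self, two_nsmul, two_mul]
  rfl

theorem B0_nonDeg (d : ℕ) (h2 : (2 : F) ≠ 0) : NonDeg (B0 (F := F) d) ⊤ := by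
  have h : (QuadraticMap.polarBilin (Cfsg.Agent.Lib.Helper50.QOdd d F)).Nondegenerate := by
    apply Cfsg.Agent.Lib.Helper50.qfOfPolar_nondegenerate
    rw [Cfsg.Agent.Lib.Helper50.det_odd_gram]
    exact mul_ne_zero (mul_ne_zero h2 one_ne_zero) (pow_ne_zero _ (neg_ne_zero.mpr one_ne_zero))
  intro u _ hu
  exact h.1 u (fun w => hu w Submodule.mem_top)

theorem finrank_odd_space (d : ℕ) : finrank F (Unit ⊕ (Fin d ⊕ Fin d) → F) = 2 * d + 1 := by
  rw [Module.finrank_pi, Fintype.card_sum, Fintype.card_sum, Fintype.card_fin, Fintype.card_unit]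
  omega

theorem iso_of_mem_omegaGL (d : ℕ) (x : GL (Unit ⊕ (Fin d ⊕ Fin d)) F)
    (hx : x ∈ Cfsg.Geo.omegaGL (Cfsg.quadFormOdd d F)) :
    Iso (B0 d) (Matrix.toLin' (x : Matrix (Unit ⊕ (Fin d ⊕ Fin d)) (Unit ⊕ (Fin d ⊕ Fin d)) F)) := by
  obtain ⟨h, -⟩ := (Cfsg.Agent.Lib.Helper50.mem_omegaGL_iff _ x).mp hx
  have hQ : ∀ v, Cfsg.quadFormOdd d F
      ((x : Matrix (Unit ⊕ (Fin d ⊕ Fin d)) (Unit ⊕ (Fin d ⊕ Fin d)) F).mulVec v) =
      Cfsg.quadFormOdd d F v := fun v => h v v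
  intro a b
  rw [B0_apply, B0_apply]
  unfold QuadraticMap.polar
  simp only [Matrix.toLin'_apply]
  rw [← Matrix.mulVec_add, hQ, hQ, hQ]

theorem nonDegOn_iff (d : ℕ) (W : Submodule F (Unit ⊕ (Fin d ⊕ Fin d) → F)) :
    Cfsg.Geo.IsNondegenerateOn (QuadraticMap.polar (Cfsg.quadFormOdd d F)) W ↔ NonDeg (B0 d) W := by
  constructor
  · intro h u hu hall
    by_contra hu0
    obtain ⟨-, ⟨v, hv, hne⟩⟩ := h u hu hu0
    rw [← B0_apply] at hne
    exact hne (hall v hv)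
  · intro h w hw hw0
    have : ∃ v ∈ W, B0 d w v ≠ 0 := by
      by_contra hcon
      push Not at hcon
      exact hw0 (h w hw hcon)
    obtain ⟨v, hv, hne⟩ := this
    refine ⟨⟨v, hv, ?_⟩, ⟨v, hv, ?_⟩⟩
    · rw [← B0_apply, B0_symm]
      exact hne
    · rw [← B0_apply]
      exact hne

theorem plusOn_iff (d : ℕ) (h2 : (2 : F) ≠ 0) (W : Submodule F (Unit ⊕ (Fin d ⊕ Fin d) → F)) :
    Cfsg.Geo.IsPlusTypeOn (Cfsg.quadFormOdd d F) W ↔ Plus (B0 d) W := by
  constructor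
  · rintro ⟨U, hUW, hU, hUd⟩
    refine ⟨U, hUW, fun u hu => ?_, hUd⟩
    rw [B0_self, hU u hu, mul_zero]
  · rintro ⟨U, hUW, hU, hUd⟩
    refine ⟨U, hUW, fun u hu => ?_, hUd⟩
    have := hU u hu
    rw [B0_self] at this
    rcases mul_eq_zero.mp this with h | h
    · exact absurd h h2
    · exact h

theorem map_le_iff_inv {ι : Type} [Fintype ι] [DecidableEq ι] (g : (ι → F) →ₗ[F] (ι → F))
    (W : Submodule F (ι → F)) : W.map g ≤ W ↔ Inv g W :=
  ⟨fun h v hv => h ⟨v, hv, rfl⟩, fun h => by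
    rintro _ ⟨v, hv, rfl⟩
    exact h v hv⟩

end Cfsg.Agent.Lib.Helper98.Oh
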