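import Cfsg.Agent.Lib.Helper98.OhPA2
import Cfsg.Agent.Lib.Helper63.OhA

set_option autoImplicit false
set_option linter.unusedSimpArgs false
set_option linter.unusedSectionVars false
set_option linter.unusedVariables false
set_option linter.style.haveILetI false
set_option maxHeartbeats 1000000

/-!
# K-OhP-A (helper98): types multiply over orthogonal sums, any characteristic
-/

namespace Cfsg.Agent.Lib.Helper98.OhP

open Module Cfsg.Agent.Lib.Helper98.Elus Cfsg.Agent.Lib.Helper98.Sy Cfsg.Agent.Lib.Helper38.OhP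

universe u
variable {F : Type u} [Field F] {V : Type u} [AddCommGroup V] [Module F V]

/-- the signs multiply (characteristic two) -/
theorem sgn_sup_char2 [Fintype F] [FiniteDimensional F V] (h2 : (2 : F) = 0)
    (Q : QuadraticForm F V)
    (W1 W2 : Submodule F V) (h1 : NonDeg (pB Q) W1) (h2' : NonDeg (pB Q) W2)
    (hort : Ort (pB Q) W1 W2)
    (he1 : Even (finrank F W1)) (he2 : Even (finrank F W2)) :
    sgn Q (W1 ⊔ W2) = sgn Q W1 * sgn Q W2 := by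
  classical
  have hR : (pB Q).IsRefl := fun a b hab => by rw [pB_symm]; exact hab
  obtain ⟨hnd, hdisj⟩ := Cfsg.Agent.Lib.Helper98.Os.nonDeg_sup hR W1 W2 h1 h2' hort
  obtain ⟨k1, hk1⟩ := he1
  obtain ⟨k2, hk2⟩ := he2
  have hk1' : finrank F W1 = 2 * k1 := by omega
  have hk2' : finrank F W2 = 2 * k2 := by omega
  have hk : finrank F ↥(W1 ⊔ W2) = 2 * (k1 + k2) := by
    rw [Cfsg.Agent.Lib.Helper98.Os.finrank_sup_of_ort hR W1 W2 h1 h2' hort]
    omega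
  haveI : Finite V := Module.finite_of_finite F
  have F1 := card_mul_zeros Q W1 h1 k1 hk1'
  have F2 := card_mul_zeros Q W2 h2' k2 hk2'
  have F3 := card_mul_zeros Q (W1 ⊔ W2) hnd (k1 + k2) hk
  have C := card_zeros_sup h2 Q W1 W2 hort hdisj
  have D := card_eq_zeros_add h2 Q W2
  have hA1 : Nat.card W1 = Fintype.card F ^ (2 * k1) := by
    haveI : Fintype W1 := Fintype.ofFinite W1
    rw [Nat.card_eq_fintype_card, Module.card_eq_pow_finrank (K := F) (V := W1), hk1']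
  have hA2 : Nat.card W2 = Fintype.card F ^ (2 * k2) := by
    haveI : Fintype W2 := Fintype.ofFinite W2
    rw [Nat.card_eq_fintype_card, Module.card_eq_pow_finrank (K := F) (V := W2), hk2']
  have hle : Nat.card {w : W1 // Q (w : V) = 0} ≤ Nat.card W1 :=
    Nat.card_le_card_of_injective Subtype.val Subtype.val_injective
  set q : ℕ := Fintype.card F with hq
  have hq2 : 2 ≤ q := Fintype.one_lt_card
  set Z := Nat.card {w : ↥(W1 ⊔ W2) // Q (w : V) = 0} with hZ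
  set Z1 := Nat.card {w : W1 // Q (w : V) = 0} with hZ1
  set Z2 := Nat.card {w : W2 // Q (w : V) = 0} with hZ2
  set n := Nat.card {w : W2 // Q (w : V) = 1} with hn
  rw [hA1] at C hle
  rw [hA2] at D
  have H3 : (Z : ℤ) = Z1 * Z2 + ((q : ℤ) ^ (2 * k1) - Z1) * n := by
    have := congrArg (fun x : ℕ => (x : ℤ)) C
    push_cast [Nat.cast_sub hle] at this
    exact this
  have H4 : (q : ℤ) ^ (2 * k2) = Z2 + ((q : ℤ) - 1) * n := by
    have := congrArg (fun x : ℕ => (x : ℤ)) D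
    push_cast [Nat.cast_sub (by omega : 1 ≤ q)] at this
    exact this
  set ε1 := sgn Q W1 with hε1
  set ε2 := sgn Q W2 with hε2
  set ε := sgn Q (W1 ⊔ W2) with hε
  have hq0 : (q : ℤ) ≠ 0 := by exact_mod_cast (by omega : q ≠ 0)
  have hq1 : (q : ℤ) - 1 ≠ 0 := by
    have : (2 : ℤ) ≤ q := by exact_mod_cast hq2
    omega
  have key : (q : ℤ) * ((q : ℤ) * (((q : ℤ) - 1) * ((q : ℤ) * Z))) =
      (q : ℤ) * ((q : ℤ) * (((q : ℤ) - 1) * ((q : ℤ) ^ (2 * k1) * (q : ℤ) ^ (2 * k2) +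
        ε1 * ε2 * ((q : ℤ) - 1) * ((q : ℤ) ^ k1 * (q : ℤ) ^ k2)))) := by
    linear_combination ((q : ℤ) ^ 3 * ((q : ℤ) - 1)) * H3 -
      ((q : ℤ) ^ 3 * ((q : ℤ) ^ (2 * k1) - Z1)) * H4 +
      ((q : ℤ) ^ 2 * ((q : ℤ) * Z2 - (q : ℤ) ^ (2 * k2))) * F1 +
      ((q : ℤ) ^ 2 * (ε1 * ((q : ℤ) - 1) * (q : ℤ) ^ k1)) * F2
  have key2 : (q : ℤ) * Z = (q : ℤ) ^ (2 * k1) * (q : ℤ) ^ (2 * k2) +
        ε1 * ε2 * ((q : ℤ) - 1) * ((q : ℤ) ^ k1 * (q : ℤ) ^ k2) :=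
    mul_left_cancel₀ hq1 (mul_left_cancel₀ hq0 (mul_left_cancel₀ hq0 key))
  rw [key2] at F3
  have e1 : (q : ℤ) ^ (2 * (k1 + k2)) = (q : ℤ) ^ (2 * k1) * (q : ℤ) ^ (2 * k2) := by ring
  have e2 : (q : ℤ) ^ (k1 + k2) = (q : ℤ) ^ k1 * (q : ℤ) ^ k2 := by ring
  rw [e1, e2] at F3
  have hP : ((q : ℤ) - 1) * ((q : ℤ) ^ k1 * (q : ℤ) ^ k2) ≠ 0 :=
    mul_ne_zero hq1 (mul_ne_zero (pow_ne_zero _ hq0) (pow_ne_zero _ hq0))
  have h5 : (ε1 * ε2) * (((q : ℤ) - 1) * ((q : ℤ) ^ k1 * (q : ℤ) ^ k2)) =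
      ε * (((q : ℤ) - 1) * ((q : ℤ) ^ k1 * (q : ℤ) ^ k2)) := by
    linear_combination F3
  exact (mul_right_cancel₀ hP h5).symm

/-- **K-OhP-A** types multiply (any characteristic) -/
theorem plusQ_sup_iff [Fintype F] [FiniteDimensional F V] (Q : QuadraticForm F V)
    (W1 W2 : Submodule F V) (h1 : NonDeg (pB Q) W1) (h2 : NonDeg (pB Q) W2) (hort : Ort (pB Q) W1 W2)
    (he1 : Even (finrank F W1)) (he2 : Even (finrank F W2)) :
    PlusQ Q (W1 ⊔ W2) ↔ (PlusQ Q W1 ↔ PlusQ Q W2) := by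
  by_cases h2F : (2 : F) = 0
  · have hs := sgn_sup_char2 h2F Q W1 W2 h1 h2 hort he1 he2
    rw [← sgn_eq_one_iff, ← sgn_eq_one_iff Q W1, ← sgn_eq_one_iff Q W2, hs]
    rcases sgn_sq Q W1 with a | a <;> rcases sgn_sq Q W2 with b | b <;> rw [a, b] <;> norm_num
  · rw [plusQ_iff_plus h2F, plusQ_iff_plus h2F, plusQ_iff_plus h2F]
    exact Cfsg.Agent.Lib.Helper63.Oh.plus_sup_iff h2F (pB Q) (pB_symm Q) W1 W2 h1 h2 hort he1 he2

end Cfsg.Agent.Lib.Helper98.OhP
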