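import Cfsg.Agent.Lib.Helper98.OhPA1

set_option autoImplicit false
set_option linter.unusedSimpArgs false
set_option linter.unusedSectionVars false
set_option linter.unusedVariables false
set_option linter.style.haveILetI false
set_option maxHeartbeats 1000000

/-!
# K-OhP-A (helper98), part 2: singular vectors of an orthogonal sum in characteristic two
-/

namespace Cfsg.Agent.Lib.Helper98.OhP

open Module Cfsg.Agent.Lib.Helper98.Elus Cfsg.Agent.Lib.Helper98.Sy Cfsg.Agent.Lib.Helper38.OhP

universe u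
variable {F : Type u} [Field F] {V : Type u} [AddCommGroup V] [Module F V]

/-- in characteristic two the number of vectors of a subspace with `Q w = c` is the same for all
`c ≠ 0` -/
theorem card_value_eq [Fintype F] [Finite V] (h2 : (2 : F) = 0) (Q : QuadraticForm F V)
    (W : Submodule F V) (c : F) (hc : c ≠ 0) :
    Nat.card {w : W // Q (w : V) = c} = Nat.card {w : W // Q (w : V) = 1} := by
  have hchar : ringChar F = 2 := CharP.ringChar_of_prime_eq_zero Nat.prime_two (by exact_mod_cast h2)
  obtain ⟨s, hs⟩ := FiniteField.isSquare_of_char_two hchar c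
  have hs0 : s ≠ 0 := by
    rintro rfl
    rw [mul_zero] at hs
    exact hc hs
  symm
  apply Nat.card_congr
  refine ((LinearEquiv.smulOfNeZero F W s hs0).toEquiv).subtypeEquiv (fun w => ?_)
  show Q (w : V) = 1 ↔ Q (((LinearEquiv.smulOfNeZero F W s hs0) w : W) : V) = c
  rw [LinearEquiv.smulOfNeZero_apply, Submodule.coe_smul, QuadraticMap.map_smul, smul_eq_mul, ← hs]
  constructor
  · intro h; rw [h, mul_one]
  · intro h
    have h' : c * Q (w : V) = c * 1 := by rw [mul_one]; exact h
    exact mul_left_cancel₀ hc h'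

/-- counting by the value of `Q` -/
theorem card_eq_zeros_add [Fintype F] [Finite V] (h2 : (2 : F) = 0) (Q : QuadraticForm F V)
    (W : Submodule F V) :
    Nat.card W = Nat.card {w : W // Q (w : V) = 0} +
      (Fintype.card F - 1) * Nat.card {w : W // Q (w : V) = 1} := by
  classical
  haveI : Fintype W := Fintype.ofFinite W
  have h1 : Nat.card W = ∑ c : F, Nat.card {w : W // Q (w : V) = c} := by
    rw [Nat.card_eq_fintype_card, Fintype.card_eq_sum_ones]
    simp_rw [Nat.card_eq_fintype_card, Fintype.card_subtype, Finset.card_filter]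
    rw [Finset.sum_comm]
    apply Finset.sum_congr rfl
    intro w _
    rw [Finset.sum_ite_eq]
    simp
  rw [h1, ← Finset.add_sum_erase Finset.univ _ (Finset.mem_univ (0 : F))]
  congr 1
  rw [Finset.sum_congr rfl (fun c hc => card_value_eq h2 Q W c (Finset.ne_of_mem_erase hc)),
    Finset.sum_const, Finset.card_erase_of_mem (Finset.mem_univ _), Finset.card_univ, smul_eq_mul]

/-- singular vectors of an orthogonal sum in characteristic two -/
theorem card_zeros_sup [Fintype F] [Finite V] (h2 : (2 : F) = 0) (Q : QuadraticForm F V)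
    (W1 W2 : Submodule F V) (hort : Ort (pB Q) W1 W2) (hdisj : W1 ⊓ W2 = ⊥) :
    Nat.card {w : ↥(W1 ⊔ W2) // Q (w : V) = 0} =
      Nat.card {w : W1 // Q (w : V) = 0} * Nat.card {w : W2 // Q (w : V) = 0} +
        (Nat.card W1 - Nat.card {w : W1 // Q (w : V) = 0}) *
          Nat.card {w : W2 // Q (w : V) = 1} := by
  classical
  have hchar : ringChar F = 2 := CharP.ringChar_of_prime_eq_zero Nat.prime_two (by exact_mod_cast h2)
  haveI : CharP F 2 := ringChar.of_eq hchar
  haveI : Fintype W1 := Fintype.ofFinite W1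
  haveI : Fintype W2 := Fintype.ofFinite W2
  -- the sum decomposition
  have hQadd : ∀ (a : W1) (b : W2), Q ((a : V) + (b : V)) = Q (a : V) + Q (b : V) := by
    intro a b
    have h := pB_apply Q (a : V) (b : V)
    rw [hort a a.2 b b.2] at h
    linear_combination -h
  let e : W1 × W2 → ↥(W1 ⊔ W2) := fun p =>
    ⟨(p.1 : V) + (p.2 : V), Submodule.add_mem_sup p.1.2 p.2.2⟩
  have hinj : Function.Injective e := by
    rintro ⟨a, b⟩ ⟨a', b'⟩ h
    have h' : (a : V) + (b : V) = (a' : V) + (b' : V) := congrArg Subtype.val h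
    have h1 : (a : V) - (a' : V) = (b' : V) - (b : V) := by
      rw [sub_eq_sub_iff_add_eq_add, h', add_comm]
    have h2 : (a : V) - (a' : V) ∈ W1 ⊓ W2 :=
      Submodule.mem_inf.mpr ⟨W1.sub_mem a.2 a'.2, by rw [h1]; exact W2.sub_mem b'.2 b.2⟩
    rw [hdisj, Submodule.mem_bot] at h2
    have h3 : (b' : V) - (b : V) = 0 := by rw [← h1, h2]
    exact Prod.ext (Subtype.ext (sub_eq_zero.mp h2)) (Subtype.ext (sub_eq_zero.mp h3).symm)
  have hsurj : Function.Surjective e := by
    rintro ⟨w, hw⟩
    obtain ⟨a, ha, b, hb, rfl⟩ := Submodule.mem_sup.mp hw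
    exact ⟨(⟨a, ha⟩, ⟨b, hb⟩), rfl⟩
  have hcard1 : Nat.card {w : ↥(W1 ⊔ W2) // Q (w : V) = 0} =
      Nat.card {p : W1 × W2 // Q (p.1 : V) = Q (p.2 : V)} := by
    symm
    apply Nat.card_congr
    refine (Equiv.ofBijective e ⟨hinj, hsurj⟩).subtypeEquiv (fun p => ?_)
    show Q (p.1 : V) = Q (p.2 : V) ↔ Q ((p.1 : V) + (p.2 : V)) = 0
    rw [hQadd, CharTwo.add_eq_zero]
  rw [hcard1]
  -- count
  have hn2 : ∀ c : F, Nat.card {w : W2 // Q (w : V) = c} =
      if c = 0 then Nat.card {w : W2 // Q (w : V) = 0} else Nat.card {w : W2 // Q (w : V) = 1} := by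
    intro c
    by_cases hc : c = 0
    · rw [if_pos hc, hc]
    · rw [if_neg hc, card_value_eq h2 Q W2 c hc]
  have h3 : Nat.card {p : W1 × W2 // Q (p.1 : V) = Q (p.2 : V)} =
      ∑ a : W1, Nat.card {b : W2 // Q (b : V) = Q (a : V)} := by
    rw [Nat.card_eq_fintype_card, Fintype.card_subtype, Finset.card_filter, Fintype.sum_prod_type]
    apply Finset.sum_congr rfl
    intro a _
    rw [Nat.card_eq_fintype_card, Fintype.card_subtype, Finset.card_filter]
    apply Finset.sum_congr rfl
    intro b _
    by_cases h : Q (a : V) = Q (b : V)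
    · rw [if_pos h, if_pos h.symm]
    · rw [if_neg h, if_neg (fun h' => h h'.symm)]
  have h6 : ∑ a : W1, Nat.card {b : W2 // Q (b : V) = Q (a : V)} =
      ∑ a : W1, (if Q (a : V) = 0 then Nat.card {w : W2 // Q (w : V) = 0}
        else Nat.card {w : W2 // Q (w : V) = 1}) :=
    Finset.sum_congr rfl (fun a _ => hn2 (Q (a : V)))
  rw [h3, h6]
  rw [Finset.sum_ite, Finset.sum_const, Finset.sum_const, smul_eq_mul, smul_eq_mul]
  have h4 : (Finset.univ.filter (fun a : W1 => Q (a : V) = 0)).card =
      Nat.card {w : W1 // Q (w : V) = 0} := by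
    rw [Nat.card_eq_fintype_card, Fintype.card_subtype]
  have h5 : (Finset.univ.filter (fun a : W1 => ¬ Q (a : V) = 0)).card =
      Nat.card W1 - Nat.card {w : W1 // Q (w : V) = 0} := by
    have := Finset.card_filter_add_card_filter_not (s := (Finset.univ : Finset W1))
      (fun a : W1 => Q (a : V) = 0)
    rw [Finset.card_univ, ← Nat.card_eq_fintype_card, h4] at this
    omega
  rw [h4, h5]

end Cfsg.Agent.Lib.Helper98.OhP
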