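import Cfsg.Agent.Lib.Helper98.OhPE2
import Cfsg.Agent.Lib.Helper28.OhPA
import Cfsg.Agent.Lib.Helper13.OhPE1

set_option autoImplicit false
set_option linter.unusedSectionVars false
set_option linter.unusedVariables false

/-!
# K-OhP-E2 (helper98): exact spec signature
-/

namespace Cfsg.Agent.Lib.Helper98.OhP

open Module Cfsg.Agent.Lib.Helper98.Elus Cfsg.Agent.Lib.Helper98.Sy Cfsg.Agent.Lib.Helper38.OhP

universe u
variable {F : Type u} [Field F] {V : Type u} [AddCommGroup V] [Module F V]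

/-- **K-OhP-E2** -/
theorem exists_fixed_plus_char2 [Fintype F] [CharP F 2] [FiniteDimensional F V]
    (Q : QuadraticForm F V) (hV : NonDeg (pB Q) ⊤) (hVp : PlusQ Q ⊤) (d : ℕ)
    (hdim : finrank F V = 2 * d) (g : V →ₗ[F] V) (hg : g * g = 1) (hiso : QIso Q g)
    (m : ℕ) (hme : Even m) (hmd : m < d) (hcond : Odd d ∨ 4 ∣ m) :
    ∃ W : Submodule F V, Inv g W ∧ NonDeg (pB Q) W ∧ finrank F W = m ∧ PlusQ Q W :=
  exists_fixed_plus_char2_of Q hV hVp d hdim g hg hiso m hme hmd hcond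
    (fun U hU hUnd hUne =>
      Cfsg.Agent.Lib.Helper13.OhP.exists_piece_char2 Q g hg hiso U hU hUnd hUne)
    (fun W1 W2 h1 h2 hort he1 he2 =>
      Cfsg.Agent.Lib.Helper28.OhP.plusQ_sup_iff Q W1 W2 h1 h2 hort he1 he2)


end Cfsg.Agent.Lib.Helper98.OhP
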