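import Cfsg.Agent.Lib.Helper98.Os1

set_option autoImplicit false
set_option linter.unusedSimpArgs false
set_option linter.unusedSectionVars false
set_option linter.unusedVariables false
set_option linter.style.haveILetI false
set_option maxHeartbeats 1600000

/-!
# S5996/S5995 (helper98): splitting off a Jordan-block piece of a unipotent isometry of a symmetric form
-/

namespace Cfsg.Agent.Lib.Helper98.Os

open Module Cfsg.Agent.Lib.Helper98.Elus Cfsg.Agent.Lib.Helper98.Sy Cfsg.Agent.Lib.Helper98.Nd

universe u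
variable {F : Type u} [Field F] {V : Type u} [AddCommGroup V] [Module F V]

/-- splitting off a piece of a unipotent isometry -/
theorem exists_piece_symm [FiniteDimensional F V] (hchain : ChainStatement F V)
    {B : LinearMap.BilinForm F V} (hS : ∀ x y, B x y = B y x)
    (h2 : (2 : F) ≠ 0) (p : ℕ) (hp : 0 < p) (u : V →ₗ[F] V) (hu : u ^ p = 1)
    (hNp : (u - 1) ^ p = 0) (hiso : Iso B u)
    (U : Submodule F V) (hU : Inv u U) (hUnd : NonDeg B U) (hne : U ≠ ⊥) :
    ∃ (P : Submodule F V) (a e : ℕ), P ≤ U ∧ Inv u P ∧ NonDeg B P ∧ 0 < a ∧ a ≤ p ∧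
      ((e = 1 ∧ Odd a) ∨ (e = 2 ∧ Even a)) ∧ finrank F P = e * a ∧
      ∀ k, finrank F ↥(P ⊓ LinearMap.ker ((u - 1) ^ k)) = e * min a k := by
  classical
  set N : V →ₗ[F] V := u - 1 with hN
  set ui : V →ₗ[F] V := u ^ (p - 1) with hui
  have hu1 : ∀ x, u (ui x) = x := fun x => pow_pred_mul p hp u hu x
  have hu2 : ∀ x, ui (u x) = x := by
    intro x
    rw [hui, ← Module.End.mul_apply, ← pow_succ, Nat.sub_add_cancel hp, hu, Module.End.one_apply]
  have hNU : Inv N U := inv_sub_one u U hU
  have hNapp : ∀ x, N x = u x - x := fun x => by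
    rw [hN, LinearMap.sub_apply, Module.End.one_apply]
  -- the nilpotency index on U
  have hex : ∃ a : ℕ, ∀ x ∈ U, (N ^ a) x = 0 := ⟨p, fun x _ => by rw [hNp]; rfl⟩
  set a := Nat.find hex with ha
  have haU : ∀ x ∈ U, (N ^ a) x = 0 := Nat.find_spec hex
  have hap : a ≤ p := Nat.find_min' hex (fun x _ => by rw [hNp]; rfl)
  have ha0 : 0 < a := by
    rcases Nat.eq_zero_or_pos a with h0 | h0
    · exfalso
      apply hne
      rw [eq_bot_iff]
      intro x hx
      have := haU x hx
      rw [h0, pow_zero, Module.End.one_apply] at this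
      rw [this]
      exact Submodule.zero_mem _
    · exact h0
  obtain ⟨w0, hw0U, hw0⟩ : ∃ w0 ∈ U, (N ^ (a - 1)) w0 ≠ 0 := by
    have := Nat.find_min hex (show a - 1 < a by omega)
    push Not at this
    exact this
  -- adjoint of N
  obtain ⟨K, hK⟩ : ∃ K : V →ₗ[F] V, K = ui * N := ⟨_, rfl⟩
  have hadj1 : ∀ x y, B (N x) y = - B x (K y) := by
    intro x y
    have e1 : B (u x) y = B x (ui y) := by
      conv_lhs => rw [← hu1 y]
      exact hiso x (ui y)
    rw [hK, Module.End.mul_apply, hNapp, hNapp, map_sub, map_sub, hu2, map_sub, LinearMap.sub_apply,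
      e1]
    ring
  have hadj : ∀ i x y, B ((N ^ i) x) y = (-1) ^ i * B x ((K ^ i) y) := by
    intro i
    induction i with
    | zero => intro x y; simp
    | succ i ih =>
      intro x y
      calc B ((N ^ (i + 1)) x) y = B ((N ^ i) (N x)) y := by rw [pow_succ, Module.End.mul_apply]
        _ = (-1) ^ i * B (N x) ((K ^ i) y) := ih _ _
        _ = (-1) ^ i * - B x (K ((K ^ i) y)) := by rw [hadj1]
        _ = (-1) ^ (i + 1) * B x ((K ^ (i + 1)) y) := by
          rw [pow_succ' K, Module.End.mul_apply, pow_succ]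
          ring
  have hcomm : Commute ui N := by
    rw [hui, hN]
    exact ((Commute.refl u).pow_left (p - 1)).sub_right (Commute.one_right _)
  have hKpow : ∀ i, K ^ i = ui ^ i * N ^ i := fun i => by rw [hK, hcomm.mul_pow]
  have hNadd : ∀ (y : V) (hy : y ∈ U) (n : ℕ), a ≤ n → (N ^ n) y = 0 := by
    intro y hy n hn
    obtain ⟨c, rfl⟩ := Nat.exists_eq_add_of_le hn
    rw [add_comm, pow_add, Module.End.mul_apply, haU y hy, map_zero]
  have hfix : ∀ z : V, N z = 0 → ∀ i, (ui ^ i) z = z := by
    intro z hz i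
    have huz : u z = z := by
      have := hNapp z
      rw [hz] at this
      exact (sub_eq_zero.mp this.symm)
    have h1 : ui z = z := by
      conv_lhs => rw [← huz]
      exact hu2 z
    induction i with
    | zero => simp
    | succ i ih => rw [pow_succ, Module.End.mul_apply, h1, ih]
  have P1 : ∀ x, ∀ y ∈ U, ∀ i j, a ≤ i + j → B ((N ^ i) x) ((N ^ j) y) = 0 := by
    intro x y hy i j hij
    rw [hadj, hKpow, Module.End.mul_apply, ← Module.End.mul_apply (N ^ i), ← pow_add,
      hNadd y hy _ hij, map_zero, map_zero, mul_zero]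
  have P2 : ∀ x, ∀ y ∈ U, ∀ i j, i + j + 1 = a →
      B ((N ^ i) x) ((N ^ j) y) = (-1) ^ i * B x ((N ^ (a - 1)) y) := by
    intro x y hy i j hij
    rw [hadj, hKpow, Module.End.mul_apply, ← Module.End.mul_apply (N ^ i), ← pow_add]
    have : i + j = a - 1 := by omega
    rw [this, hfix]
    rw [← Module.End.mul_apply, ← pow_succ', Nat.sub_add_cancel ha0]
    exact haU y hy
  -- symmetry of the form
  have hsym : ∀ x ∈ U, ∀ y ∈ U,
      B y ((N ^ (a - 1)) x) = (-1) ^ (a - 1) * B x ((N ^ (a - 1)) y) := by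
    intro x hx y hy
    rw [hS y]
    have := P2 x y hy (a - 1) 0 (by omega)
    rw [pow_zero, Module.End.one_apply] at this
    exact this
  obtain ⟨x0, hx0U, hx0⟩ : ∃ x0 ∈ U, B x0 ((N ^ (a - 1)) w0) ≠ 0 := by
    by_contra hcon
    push Not at hcon
    apply hw0
    apply hUnd _ (hNU.pow_mem _ _ hw0U)
    intro x hx
    rw [hS]
    exact hcon x hx
  rcases Nat.even_or_odd (a - 1) with hae | hao
  · -- odd size: a single block
    have hone : ((-1 : F)) ^ (a - 1) = 1 := hae.neg_one_pow
    have haodd : Odd a := by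
      obtain ⟨t, ht⟩ := hae
      exact ⟨t, by omega⟩
    obtain ⟨v, hvU, hv⟩ : ∃ v ∈ U, B v ((N ^ (a - 1)) v) ≠ 0 := by
      by_contra hcon
      push Not at hcon
      have h1 := hcon (x0 + w0) (Submodule.add_mem _ hx0U hw0U)
      have e : B (x0 + w0) ((N ^ (a - 1)) (x0 + w0)) =
          B x0 ((N ^ (a - 1)) x0) + B x0 ((N ^ (a - 1)) w0) + B w0 ((N ^ (a - 1)) x0) +
            B w0 ((N ^ (a - 1)) w0) := by
        simp only [map_add, LinearMap.add_apply]
        ring
      rw [e, hcon x0 hx0U, hcon w0 hw0U, hsym x0 hx0U w0 hw0U, hone] at h1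
      have : (2 : F) * B x0 ((N ^ (a - 1)) w0) = 0 := by linear_combination h1
      rcases mul_eq_zero.mp this with h | h
      · exact h2 h
      · exact hx0 h
    obtain ⟨P, hPU, hPinv, hPnd, hPd, hPk⟩ := piece_of_chains hchain B N U hNU a ha0 haU P1 P2 1
      (fun _ => v) (fun _ => hvU) (by
        intro γ hγ
        funext l
        have := hγ l
        rw [Fin.sum_univ_one] at this
        rcases mul_eq_zero.mp this with h | h
        · rw [Subsingleton.elim l 0]; exact h
        · exact absurd h hv)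
    exact ⟨P, a, 1, hPU, inv_of_inv_sub_one u P hPinv, hPnd, ha0, hap, Or.inl ⟨rfl, haodd⟩, hPd, hPk⟩
  · -- even size: a pair of blocks
    have hone : ((-1 : F)) ^ (a - 1) = -1 := hao.neg_one_pow
    have haeven : Even a := by
      obtain ⟨t, ht⟩ := hao
      exact ⟨t + 1, by omega⟩
    have halt : ∀ x ∈ U, B x ((N ^ (a - 1)) x) = 0 := by
      intro x hx
      have := hsym x hx x hx
      rw [hone] at this
      have h' : (2 : F) * B x ((N ^ (a - 1)) x) = 0 := by
        rw [two_mul]
        nth_rewrite 1 [this]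
        ring
      rcases mul_eq_zero.mp h' with h | h
      · exact absurd h h2
      · exact h
    have hswap : B w0 ((N ^ (a - 1)) x0) = - B x0 ((N ^ (a - 1)) w0) := by
      rw [hsym x0 hx0U w0 hw0U, hone]
      ring
    obtain ⟨P, hPU, hPinv, hPnd, hPd, hPk⟩ := piece_of_chains hchain B N U hNU a ha0 haU P1 P2 2
      ![x0, w0] (by
        intro j
        fin_cases j
        · exact hx0U
        · exact hw0U) (by
        intro γ hγ
        have e0 := hγ 0
        have e1 := hγ 1
        rw [Fin.sum_univ_two] at e0 e1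
        simp only [Matrix.cons_val_zero, Matrix.cons_val_one, Matrix.head_cons] at e0 e1
        rw [halt x0 hx0U, mul_zero, zero_add, hswap] at e0
        rw [halt w0 hw0U, mul_zero, add_zero] at e1
        funext l
        fin_cases l
        · rcases mul_eq_zero.mp e1 with h | h
          · exact h
          · exact absurd h hx0
        · rcases mul_eq_zero.mp e0 with h | h
          · exact h
          · exact absurd (neg_eq_zero.mp h) hx0)
    exact ⟨P, a, 2, hPU, inv_of_inv_sub_one u P hPinv, hPnd, ha0, hap, Or.inr ⟨rfl, haeven⟩, hPd, hPk⟩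


end Cfsg.Agent.Lib.Helper98.Os
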