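import Mathlib
import Cfsg.Agent.Lib.Helper98.PGLM3
import Cfsg.Agent.Lib.Helper98.PGL2I

set_option autoImplicit false
set_option linter.unusedSimpArgs false
set_option linter.unusedSectionVars false
set_option linter.style.haveILetI false
set_option maxHeartbeats 1600000

/-!
# Maximal subgroups of `PGL₂(q)` meet `PSL₂(q)` in maximal subgroups (helper98)
-/

namespace Cfsg.Agent.Lib.Helper98.PGLM

open Matrix Cfsg.Agent.Lib.Helper48.Dickson Cfsg.Agent.Lib.Helper98.PSL2Max
open Cfsg.Agent.Lib.Helper98.PSL2NF Cfsg.Agent.Lib.Helper19.TwoTrans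
open Cfsg.Agent.Lib.Helper98.PSL2MaxOdd Cfsg.Agent.Lib.Helper98.PGL2

section
variable {F : Type*} [Field F] [Fintype F]

local notation "SL2" => Matrix.SpecialLinearGroup (Fin 2) F
local notation "PSL2" => Matrix.ProjectiveSpecialLinearGroup (Fin 2) F
local notation "PG" => Matrix.ProjGenLinGroup (Fin 2) F
local notation "toP" => (Matrix.ProjectiveSpecialLinearGroup.toPGL (n := Fin 2) (R := F))

attribute [local instance] finite_PG

/-- `PSL₂(F)` as the subgroup `LG` of `PGL₂(F)` -/
noncomputable def eL : PSL2 ≃* (LG : Subgroup PG) :=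
  MulEquiv.ofBijective ((toP).codRestrict (LG : Subgroup PG) toP_mem)
    ⟨fun a b h => toP_injective (congrArg Subtype.val h), fun x => by
      obtain ⟨a, ha⟩ := exists_of_mem_LG x.2
      exact ⟨a, Subtype.ext ha⟩⟩

theorem eL_val (a : PSL2) : ((eL a : (LG : Subgroup PG)) : PG) = toP a := rfl

/-- transfer of maximality to the subgroup `LG` -/
theorem isCoatom_subgroupOf_LG (X : Subgroup PG) (h : IsCoatom (X.comap toP)) :
    IsCoatom (X.subgroupOf (LG : Subgroup PG)) := by
  have h1 : X.subgroupOf (LG : Subgroup PG) = (X.comap toP).map (eL (F := F)).toMonoidHom := by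
    ext x
    constructor
    · intro hx
      obtain ⟨a, ha⟩ := exists_of_mem_LG x.2
      refine ⟨a, ?_, Subtype.ext ha⟩
      show toP a ∈ X
      rw [ha]; exact hx
    · rintro ⟨a, ha, rfl⟩
      exact ha
  rw [h1]
  exact isCoatom_map_equiv eL _ h

/-- maximality passes to the top subgroup -/
theorem isCoatom_subgroupOf_top {G : Type*} [Group G] (X : Subgroup G) (h : IsCoatom X) :
    IsCoatom (X.subgroupOf (⊤ : Subgroup G)) := by
  have h1 : X.subgroupOf (⊤ : Subgroup G) =
      X.map (Subgroup.topEquiv (G := G)).symm.toMonoidHom := by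
    ext x
    constructor
    · intro hx
      exact ⟨x.1, hx, Subtype.ext rfl⟩
    · rintro ⟨a, ha, rfl⟩
      exact ha
  rw [h1]
  exact isCoatom_map_equiv _ _ h

/-- in characteristic two `LG` is everything -/
theorem LG_eq_top_of_even (heven : Fintype.card F % 2 = 0) : (LG : Subgroup PG) = ⊤ := by
  have h2 : ringChar F = 2 := FiniteField.even_card_iff_char_two.2 heven
  rw [eq_top_iff]
  intro x _
  obtain ⟨Z, rfl⟩ := Matrix.ProjGenLinGroup.mk_surjective x
  exact mk_mem_LG_of_isSquare_det Z (FiniteField.isSquare_of_char_two h2 _)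


/-- **the odd case**: a maximal subgroup of `PGL₂(q)` not containing `PSL₂(q)` meets it in a
maximal subgroup -/
theorem inter_isCoatom_odd (p : ℕ) [Fact p.Prime] [CharP F p] (hodd : Odd (Fintype.card F))
    (h5 : 5 ≤ Fintype.card F) (h7 : Fintype.card F ≠ 7) (h9 : Fintype.card F ≠ 9)
    (h11 : Fintype.card F ≠ 11)
    (h40 : (Fintype.card F).Prime → ¬ (Fintype.card F % 40 = 11 ∨ Fintype.card F % 40 = 19 ∨
      Fintype.card F % 40 = 21 ∨ Fintype.card F % 40 = 29))
    (M : Subgroup PG) (hM : IsCoatom M) (hML : ¬ (LG : Subgroup PG) ≤ M) :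
    IsCoatom ((M ⊓ LG : Subgroup PG).comap toP) := by
  classical
  have pp : p.Prime := Fact.out
  have hpq : p ∣ Fintype.card F := by
    rw [← CharP.cast_eq_zero_iff F p]
    exact Nat.cast_card_eq_zero F
  have hpodd : Odd p := Odd.of_dvd_nat hodd hpq
  haveI hLGn := normal_LG (F := F) hodd
  have hMLG : ¬ M ≤ (LG : Subgroup PG) := by
    intro h
    rcases (hM.le_iff).1 h with h' | h'
    · have := index_LG (F := F) hodd
      rw [h', Subgroup.index_top] at this
      omega
    · exact hML (le_of_eq h')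
  have hG := max_pgl hodd (by omega) M hM hML
  set H₀ : Subgroup PSL2 := (M ⊓ LG : Subgroup PG).comap toP with hH₀
  have hcard : Nat.card M = 2 * Nat.card H₀ := by
    rw [card_eq_two_mul hodd M hMLG, hH₀, card_comap_toP _ inf_le_right]
  have hH₀top : H₀ ≠ ⊤ := by
    intro h
    apply hML
    intro x hx
    obtain ⟨a, rfl⟩ := exists_of_mem_LG hx
    have : a ∈ H₀ := by rw [h]; trivial
    exact this.1
  have key : ∀ H' : Subgroup PSL2, IsCoatom H' → H₀ ≤ H' → Nat.card H₀ = Nat.card H' := by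
    intro H' hH' hle
    have hN := conclN_of_concl p hodd H' (max_odd p hodd h5 H' hH')
    unfold ConclG at hG
    rcases hG with hA | ⟨hq5, ⟨e⟩⟩ | ⟨⟨e⟩⟩ | ⟨hqp, hq8, ⟨e⟩⟩ | ⟨F₀, _, _, r, hr, hro, hqr, ⟨e⟩⟩
    · exact typeA p pp hpodd hodd h5 h7 h9 h11 H₀ H' hle hN (by rw [← hcard, hA])
    · have hMc : Nat.card M = 2 * (Fintype.card F - 1) := by
        rw [Nat.card_congr e.toEquiv, DihedralGroup.nat_card]
      have hq2 : 2 ∣ Fintype.card F - 1 := by
        obtain ⟨c, hc⟩ := hodd
        exact ⟨c, by omega⟩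
      refine typeB p pp hpodd hodd h5 h7 h9 h11 H₀ H' hle hN hq5 (by omega) ?_
      set x : M := e.symm (DihedralGroup.r 1) with hx
      have hxo : orderOf (x : PG) = Fintype.card F - 1 := by
        rw [Subgroup.orderOf_coe, hx, MulEquiv.orderOf_eq, DihedralGroup.orderOf_r_one]
      have hyo : orderOf ((x : PG) ^ 2) = (Fintype.card F - 1) / 2 := by
        rw [orderOf_pow, hxo, Nat.gcd_eq_right hq2]
      have hyL : (x : PG) ^ 2 ∈ (LG : Subgroup PG) := sq_mem_LG hodd _
      have hyM : (x : PG) ^ 2 ∈ M := M.pow_mem x.2 2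
      obtain ⟨a, ha⟩ := exists_of_mem_LG hyL
      refine ⟨a, ?_, ?_⟩
      · show toP a ∈ (M ⊓ LG : Subgroup PG)
        rw [ha]; exact ⟨hyM, hyL⟩
      · rw [← orderOf_injective toP toP_injective a, ha, hyo]
        exact Nat.mul_div_cancel' hq2
    · have hMc : Nat.card M = 2 * (Fintype.card F + 1) := by
        rw [Nat.card_congr e.toEquiv, DihedralGroup.nat_card]
      exact typeC p pp hpodd hodd h5 h7 h9 h11 H₀ H' hle hN (by omega)
    · have hMc : Nat.card M = 24 := by
        rw [Nat.card_congr e.toEquiv]; exact card_S4'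
      refine typeD p pp hpodd hodd h5 H₀ H' hle hN hqp hq8 (h40 hqp) (by omega) ?_
      set N : Subgroup M := (LG : Subgroup PG).subgroupOf M with hN'
      have hidx : N.index = 2 := relIndex_LG hodd M hMLG
      have hmap : N.map (e : M →* Equiv.Perm (Fin 4)) = alternatingGroup (Fin 4) :=
        Equiv.Perm.eq_alternatingGroup_of_index_eq_two (by
          rw [Subgroup.index_map_equiv]; exact hidx)
      have hmemN : ∀ σ : alternatingGroup (Fin 4), e.symm σ.1 ∈ N := by
        intro σ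
        have h1 : σ.1 ∈ N.map (e : M →* Equiv.Perm (Fin 4)) := by rw [hmap]; exact σ.2
        obtain ⟨n, hn, hne⟩ := h1
        have h2 : e.symm σ.1 = n := by
          rw [← hne]
          exact e.symm_apply_apply n
        rw [h2]; exact hn
      let ψ₁ : alternatingGroup (Fin 4) →* PG :=
        M.subtype.comp (e.symm.toMonoidHom.comp (alternatingGroup (Fin 4)).subtype)
      have hψ₁ : ∀ σ, ψ₁ σ = ((e.symm σ.1 : M) : PG) := fun σ => rfl
      have hψ₁L : ∀ σ, ψ₁ σ ∈ (LG : Subgroup PG) := fun σ => by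
        rw [hψ₁]; exact Subgroup.mem_subgroupOf.1 (hmemN σ)
      have hψ₁M : ∀ σ, ψ₁ σ ∈ M := fun σ => (e.symm σ.1).2
      have hψ₁i : Function.Injective ψ₁ := by
        intro σ τ hst
        rw [hψ₁, hψ₁] at hst
        exact Subtype.ext (e.symm.injective (Subtype.ext hst))
      let ψ : alternatingGroup (Fin 4) →* PSL2 :=
        (eL (F := F)).symm.toMonoidHom.comp (ψ₁.codRestrict (LG : Subgroup PG) hψ₁L)
      have hψt : ∀ σ, toP (ψ σ) = ψ₁ σ := by
        intro σ
        rw [← eL_val]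
        show ((eL ((eL (F := F)).symm (ψ₁.codRestrict (LG : Subgroup PG) hψ₁L σ)) :
          (LG : Subgroup PG)) : PG) = ψ₁ σ
        rw [MulEquiv.apply_symm_apply]
        rfl
      refine ⟨ψ, ?_, ?_⟩
      · intro σ τ hst
        apply hψ₁i
        rw [← hψt, ← hψt, hst]
      · rintro _ ⟨σ, rfl⟩
        show toP (ψ σ) ∈ (M ⊓ LG : Subgroup PG)
        rw [hψt]
        exact ⟨hψ₁M σ, hψ₁L σ⟩
    · obtain ⟨n, -, hn⟩ := FiniteField.card F p
      obtain ⟨a, ha, hF₀⟩ := card_eq_prime_pow (F₁ := F₀) p pp n r (by rw [← hqr, hn]) hr.ne_zero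
      have hMc : Nat.card M = p ^ a * ((p ^ a) ^ 2 - 1) := by
        rw [Nat.card_congr e.toEquiv, Cfsg.Agent.Lib.Helper98.DicksonMax.card_pgl2, hF₀]
      exact typeE p pp hpodd H₀ H' hle hN ⟨a, r, ha, hr, hro, by rw [hqr, hF₀], by rw [← hcard, hMc]⟩
  refine ⟨hH₀top, fun K hK => ?_⟩
  by_contra hKtop
  obtain ⟨H', hH', hKH'⟩ := (eq_top_or_exists_le_coatom K).resolve_left hKtop
  have hle : H₀ ≤ H' := hK.le.trans hKH'
  have heq : H₀ = H' := DStruct.eq_of_card_eq hle (key H' hH' hle)
  rw [← heq] at hKH'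
  exact absurd hK (not_lt_of_ge hKH')

end

end Cfsg.Agent.Lib.Helper98.PGLM
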