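import Mathlib

/-!
# K-RSp pack (S2281), leaf A1: the parameter `t` in odd characteristic
-/

set_option autoImplicit false

namespace Cfsg.Agent.Lib.Helper98.RSp

open Polynomial in
/-- every element of a finite field of odd characteristic is a sum of two squares -/
theorem sum_two_sq (F : Type*) [Field F] [Fintype F] (h2 : (2 : F) ≠ 0) (x : F) :
    ∃ a b : F, a ^ 2 + b ^ 2 = x := by
  have hch : ringChar F ≠ 2 := by
    intro h
    have : CharP F 2 := h ▸ ringChar.charP F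
    exact h2 CharTwo.two_eq_zero
  have hodd : Fintype.card F % 2 = 1 := FiniteField.odd_card_of_char_ne_two hch
  obtain ⟨a, b, hab⟩ : ∃ a b, (X ^ 2 : F[X]).eval a + (X ^ 2 - C x : F[X]).eval b = 0 :=
    FiniteField.exists_root_sum_quadratic (degree_X_pow 2) (degree_X_pow_sub_C (by decide) _) hodd
  refine ⟨a, b, ?_⟩
  rw [← sub_eq_zero]
  simpa only [eval_C, eval_X, eval_pow, eval_sub, ← add_sub_assoc] using hab

/-- **leaf A1** -/
theorem exists_param_odd (F : Type*) [Field F] [Fintype F] (h2 : (2 : F) ≠ 0) :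
    ∃ t : F, t ≠ 0 ∧ ∀ l : F, l ≠ 0 → ∀ x : F,
      x ∈ AddSubgroup.closure {y : F | ∃ k : ℕ, y = l * (2 * t ^ 2) ^ k} := by
  classical
  obtain ⟨θ, hθ⟩ := IsCyclic.exists_generator (α := Fˣ)
  have hpow : ∀ u : Fˣ, ∃ k : ℕ, θ ^ k = u := by
    intro u
    have h1 := hθ u
    rw [← mem_powers_iff_mem_zpowers] at h1
    exact h1
  obtain ⟨j, hj⟩ := hpow (Units.mk0 2 h2)
  have key : ∃ (t : Fˣ) (e : ℕ), (e = 1 ∨ e = 2) ∧ Units.mk0 2 h2 * t ^ 2 = θ ^ e := by
    rcases Nat.even_or_odd j with ⟨r, hr⟩ | ⟨r, hr⟩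
    · refine ⟨θ * (θ ^ r)⁻¹, 2, Or.inr rfl, ?_⟩
      rw [← hj, hr]
      group
    · refine ⟨(θ ^ r)⁻¹, 1, Or.inl rfl, ?_⟩
      rw [← hj, hr]
      group
  obtain ⟨t, e, he, hte⟩ := key
  have hte' : (2 : F) * (t : F) ^ 2 = (θ : F) ^ e := by
    have h3 := congrArg Units.val hte
    rw [Units.val_mul, Units.val_pow_eq_pow_val, Units.val_pow_eq_pow_val, Units.val_mk0] at h3
    exact h3
  refine ⟨(t : F), t.ne_zero, ?_⟩
  intro l hl x
  rw [hte']
  set A := AddSubgroup.closure {y : F | ∃ k : ℕ, y = l * ((θ : F) ^ e) ^ k} with hA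
  have hmem : ∀ k : ℕ, l * ((θ : F) ^ e) ^ k ∈ A := fun k => AddSubgroup.subset_closure ⟨k, rfl⟩
  have hsq : ∀ a : F, l * a ^ 2 ∈ A := by
    intro a
    by_cases ha : a = 0
    · rw [ha]
      have : l * (0 : F) ^ 2 = 0 := by ring
      rw [this]
      exact A.zero_mem
    · obtain ⟨i, hi⟩ := hpow (Units.mk0 a ha)
      have hi' : (θ : F) ^ i = a := by
        have h3 := congrArg Units.val hi
        rw [Units.val_pow_eq_pow_val, Units.val_mk0] at h3
        exact h3
      rcases he with rfl | rfl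
      · have : l * a ^ 2 = l * ((θ : F) ^ 1) ^ (2 * i) := by
          rw [← hi']; ring
        rw [this]
        exact hmem _
      · have : l * a ^ 2 = l * ((θ : F) ^ 2) ^ i := by
          rw [← hi']; ring
        rw [this]
        exact hmem _
  obtain ⟨a, b, hab⟩ := sum_two_sq F h2 (x / l)
  have hx : x = l * a ^ 2 + l * b ^ 2 := by
    rw [← mul_add, hab, mul_div_cancel₀ x hl]
  rw [hx]
  exact A.add_mem (hsq a) (hsq b)


end Cfsg.Agent.Lib.Helper98.RSp
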