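import Cfsg.Agent.Lib.Helper98.S3B3e

set_option autoImplicit false
set_option linter.unusedSectionVars false
set_option linter.unusedVariables false
set_option linter.style.haveILetI false

namespace Cfsg.Agent.Lib.Helper98.S3B3

open Cfsg.Agent.Lib.Helper15.S3
open scoped commutatorElement

variable {M : Type*} [Group M]

section final2

variable {α : Equiv.Perm (Fin 3) →* M} {q r : ℕ} {Q R : Subgroup M}
variable (H : Hyp α q r Q R)
include H

/-- Case II is impossible -/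
theorem caseII_false [Finite M] [Fact q.Prime] [Fact r.Prime]
    (hII : ∀ x ∈ R, α c3 * x * (α c3)⁻¹ * x⁻¹ ∈ CR Q R → x ∈ CR Q R)
    (K : Subgroup M) (hKQ : K ≤ Q) (hKne : K ≠ Q)
    (hUP : ∀ x ∈ R, ∃ g : Equiv.Perm (Fin 3), g ≠ 1 ∧ x⁻¹ * α g * x ∈ TK Q K) : False := by
  -- (a) only involutions occur
  have hinv : ∀ x ∈ R, ∃ g : Equiv.Perm (Fin 3), g ^ 2 = 1 ∧ g ≠ 1 ∧ x⁻¹ * α g * x ∈ TK Q K := by
    intro x hx
    obtain ⟨g, hg1, hgT⟩ := hUP x hx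
    rcases s3_order g hg1 with h2 | h3
    · exact ⟨g, h2, hg1, hgT⟩
    · exact (caseII_no_three H hII K hKQ hKne hUP hx g h3 hg1 hgT).elim
  obtain ⟨t, ht, ht1, htT⟩ := hinv 1 R.one_mem
  rw [inv_one, one_mul, mul_one] at htT
  set u := α t with hu
  -- (b) all `R`-conjugates of `u` lie in `TK`
  have hb : ∀ y ∈ R, y⁻¹ * u * y ∈ TK Q K := by
    intro y hy
    obtain ⟨t', ht', ht1', htT'⟩ := hinv y hy
    by_cases hne : t = t'
    · rw [hu, hne]; exact htT'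
    · exfalso
      obtain ⟨hρ3, hρ1⟩ := s3_inv_prod t t' ht ht' ht1 ht1' hne
      set u' := α t' with hu'
      have htt : u * (y⁻¹ * u' * y) ∈ TK Q K := Subgroup.mul_mem _ htT htT'
      set m := u'⁻¹ * y⁻¹ * u' * y with hm
      have hmR : m ∈ R := R.mul_mem (ainv_inv H.hRα t' (R.inv_mem hy)) hy
      have hρi3 : ((t * t')⁻¹) ^ 3 = 1 := by rw [inv_pow, hρ3, inv_one]
      have hρi1 : (t * t')⁻¹ ≠ 1 := by
        intro h; exact hρ1 (inv_eq_one.1 h)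
      obtain ⟨x, hx, hc⟩ := caseII_onto H hII _ hρi3 hρi1 hmR
      rw [map_inv, map_mul, ← hu, ← hu', inv_inv] at hc
      have hcT := CR_le_TK H K hc
      have hmem : x * (u * u') * x⁻¹ ∈ TK Q K := by
        have e : x * (u * u') * x⁻¹ = (u * (y⁻¹ * u' * y)) *
            (m⁻¹ * ((u * u')⁻¹ * x * (u * u') * x⁻¹)) := by
          rw [hm]; group
        rw [e]
        exact Subgroup.mul_mem _ htt hcT
      refine caseII_no_three H hII K hKQ hKne hUP (R.inv_mem hx) (t * t') hρ3 hρ1 ?_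
      rw [inv_inv, map_mul]
      exact hmem
  -- (c) `[u, R] ≤ NK`
  have hcomm : ∀ y ∈ R, u * y * u⁻¹ * y⁻¹ ∈ NK Q R K := by
    intro y hy
    refine Subgroup.mem_inf.2 ⟨?_, R.mul_mem (H.hRα t y hy) (R.inv_mem hy)⟩
    have h1 := hb y⁻¹ (R.inv_mem hy)
    rw [inv_inv] at h1
    have e : u * y * u⁻¹ * y⁻¹ = u * (y * u * y⁻¹)⁻¹ := by group
    rw [e]
    exact Subgroup.mul_mem _ htT (Subgroup.inv_mem _ h1)
  -- (e) the two applications of coprime action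
  have hNKR : NK Q R K ≤ R := inf_le_right
  have hNKT : NK Q R K ≤ TK Q K := inf_le_left
  have hNKn : NK Q R K ≤ Subgroup.normalizer (Q : Set M) := le_trans hNKR H.hRQ
  have hcop1 : (Nat.card (NK Q R K)).Coprime (Nat.card Q) :=
    pgroup_coprime H.hr H.hq (Ne.symm H.hqr) (H.hRr.to_le hNKR) H.hQq
  have h1 := Cfsg.Agent.S0026.result (NK Q R K) Q hNKn hcop1 (Or.inr (solvable_of_comm' H.hQc))
  have h1K : ⁅Q, NK Q R K⁆ ≤ K := comm_le_K H hNKT le_rfl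
  set Q₀ : Subgroup M := Q ⊓ Subgroup.centralizer ((NK Q R K : Subgroup M) : Set M) with hQ₀
  have hQ₀Q : Q₀ ≤ Q := inf_le_left
  have hmemQ₀ : ∀ c, c ∈ Q₀ ↔ c ∈ Q ∧ ∀ n ∈ NK Q R K, n * c = c * n := by
    intro c
    rw [hQ₀, Subgroup.mem_inf, Subgroup.mem_centralizer_iff]
    rfl
  have hu2 : u ^ 2 = 1 := by rw [hu, ← map_pow, ht, map_one]
  have huinv : u⁻¹ = u := alpha_inv_self ht
  have huQ₀ : ∀ c ∈ Q₀, u * c * u⁻¹ ∈ Q₀ := by
    intro c hc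
    rw [hmemQ₀] at hc ⊢
    refine ⟨H.hQα t c hc.1, fun n hn => ?_⟩
    have hn' : u⁻¹ * n * u ∈ NK Q R K := by
      refine Subgroup.mem_inf.2 ⟨?_, ainv_inv H.hRα t (hNKR hn)⟩
      exact Subgroup.mul_mem _ (Subgroup.mul_mem _ (Subgroup.inv_mem _ htT) (hNKT hn)) htT
    have := hc.2 _ hn'
    calc n * (u * c * u⁻¹) = u * ((u⁻¹ * n * u) * c) * u⁻¹ := by group
      _ = u * (c * (u⁻¹ * n * u)) * u⁻¹ := by rw [this]
      _ = u * c * u⁻¹ * n := by group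
  have hzn : Subgroup.zpowers u ≤ Subgroup.normalizer (Q₀ : Set M) := by
    rw [Subgroup.zpowers_le, Subgroup.mem_normalizer_iff]
    intro c
    constructor
    · exact huQ₀ c
    · intro hc
      have := huQ₀ _ hc
      rw [huinv] at this
      have e : u * (u * c * u) * u = (u ^ 2) * c * (u ^ 2) := by rw [pow_two]; group
      rw [e, hu2, one_mul, mul_one] at this
      exact this
  have hcop2 : (Nat.card (Subgroup.zpowers u)).Coprime (Nat.card Q₀) := by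
    apply card_zpowers_coprime (H.hQq.to_le hQ₀Q) 2 hu2
    exact coprime_of_prime_ne H.hq Nat.prime_two H.hq2
  have hQ₀c : ∀ x ∈ Q₀, ∀ y ∈ Q₀, x * y = y * x := fun x hx y hy =>
    H.hQc x (hQ₀Q hx) y (hQ₀Q hy)
  have h2 := Cfsg.Agent.S0026.result (Subgroup.zpowers u) Q₀ hzn hcop2
    (Or.inr (solvable_of_comm' hQ₀c))
  have h2K : ⁅Q₀, Subgroup.zpowers u⁆ ≤ K :=
    comm_le_K H ((Subgroup.zpowers_le).2 htT) hQ₀Q
  have h3 : Q₀ ⊓ Subgroup.centralizer ((Subgroup.zpowers u : Subgroup M) : Set M) ≤ ⊥ := by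
    intro c hc
    rw [Subgroup.mem_bot]
    have hcQ₀ := (hmemQ₀ c).1 hc.1
    have hcu : u * c = c * u :=
      (Subgroup.mem_centralizer_iff.1 hc.2) u (Subgroup.mem_zpowers u)
    exact caseII_F1 H hII K t ht ht1 hcomm hcQ₀.1 hcQ₀.2 hcu
  rw [le_bot_iff] at h3
  rw [h3, sup_bot_eq] at h2
  have hQ₀K : Q₀ ≤ K := by rw [← h2]; exact h2K
  apply hKne
  apply le_antisymm hKQ
  rw [← h1]
  exact sup_le h1K hQ₀K

end final2

/-- the three-layer elimination (keystone K15-D5 for S4305) -/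
theorem b3core {M : Type*} [Group M] [Finite M] (α : Equiv.Perm (Fin 3) →* M)
    (q r : ℕ) [Fact q.Prime] [Fact r.Prime] (hqr : q ≠ r) (hr2 : r ≠ 2) (hr3 : r ≠ 3)
    (hq2 : q ≠ 2) (hq3 : q ≠ 3) (Q R K : Subgroup M)
    (hQc : ∀ x ∈ Q, ∀ y ∈ Q, x * y = y * x) (hQq : IsPGroup q Q) (hRr : IsPGroup r R)
    (hRQ : R ≤ Subgroup.normalizer (Q : Set M))
    (hQα : AInv α Q) (hRα : AInv α R) (hQfpf : AFpf α Q) (hRfpf : AFpf α R)
    (hRab : ⁅R, R⁆ ≤ Subgroup.centralizer (Q : Set M))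
    (hCQR : Q ⊓ Subgroup.centralizer (R : Set M) = ⊥)
    (hQmin : ∀ Q' : Subgroup M, Q' ≤ Q → Q' ≠ Q → AInv α Q' →
      R ≤ Subgroup.normalizer (Q' : Set M) → Q' ≤ Subgroup.centralizer (R : Set M))
    (hRmin : ∀ D : Subgroup M, D ≤ R → D ≠ R → AInv α D →
      D ≤ Subgroup.centralizer (Q : Set M))
    (hKQ : K ≤ Q) (hKne : K ≠ Q)
    (hUP : ∀ x ∈ R, ∃ g : Equiv.Perm (Fin 3), g ≠ 1 ∧
      ∀ y ∈ Q, (x⁻¹ * α g * x) * y * (x⁻¹ * α g * x)⁻¹ * y⁻¹ ∈ K) : False := by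
  have H : Hyp α q r Q R :=
    { hq := Fact.out, hr := Fact.out, hqr := hqr, hr2 := hr2, hr3 := hr3, hq2 := hq2, hq3 := hq3
      hQc := hQc, hQq := hQq, hRr := hRr, hRQ := hRQ, hQα := hQα, hRα := hRα, hQfpf := hQfpf
      hRfpf := hRfpf, hRab := hRab, hCQR := hCQR, hQmin := hQmin, hRmin := hRmin }
  have hUP' : ∀ x ∈ R, ∃ g : Equiv.Perm (Fin 3), g ≠ 1 ∧ x⁻¹ * α g * x ∈ TK Q K := by
    intro x hx
    obtain ⟨g, hg1, hg⟩ := hUP x hx
    refine ⟨g, hg1, ?_⟩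
    rw [mem_TK]
    refine ⟨?_, hg⟩
    have hxn := hRQ hx
    exact Subgroup.mul_mem _ (Subgroup.mul_mem _ (Subgroup.inv_mem _ hxn)
      (ainv_normalizer hQα g)) hxn
  rcases dichotomy H with hI | hII
  · exact caseI_false H hI K hKQ hKne hUP'
  · exact caseII_false H hII K hKQ hKne hUP'

end Cfsg.Agent.Lib.Helper98.S3B3
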