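import Mathlib
import Cfsg.Agent.Lib.Helper15.S3Defs
import Cfsg.Agent.S0022
import Cfsg.Agent.S0026

set_option autoImplicit false
set_option linter.unusedSectionVars false
set_option linter.style.haveILetI false

/-!
# The three-layer elimination `b3core` for S4305 (keystone K15-D5), part A: tools (helper98)
-/

namespace Cfsg.Agent.Lib.Helper98.S3B3


/-- a fixed 3-cycle -/
def c3 : Equiv.Perm (Fin 3) := finRotate 3

theorem c3_ne_one : c3 ≠ 1 := by decide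
theorem c3_pow : c3 ^ 3 = 1 := by decide

theorem s3_order (g : Equiv.Perm (Fin 3)) (hg : g ≠ 1) : g ^ 2 = 1 ∨ g ^ 3 = 1 := by
  revert g; decide

theorem s3_inv_prod_aux : ∀ t t' : Equiv.Perm (Fin 3), t ^ 2 = 1 → t' ^ 2 = 1 → t ≠ 1 →
    t' ≠ 1 → (t = t' ∨ ((t * t') ^ 3 = 1 ∧ t * t' ≠ 1)) := by
  decide

theorem s3_inv_prod (t t' : Equiv.Perm (Fin 3)) (ht : t ^ 2 = 1) (ht' : t' ^ 2 = 1) (h1 : t ≠ 1)
    (h1' : t' ≠ 1) (hne : t ≠ t') : (t * t') ^ 3 = 1 ∧ t * t' ≠ 1 := by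
  rcases s3_inv_prod_aux t t' ht ht' h1 h1' with h | h
  · exact absurd h hne
  · exact h

theorem s3_three (g : Equiv.Perm (Fin 3)) (hg : g ^ 3 = 1) (h1 : g ≠ 1) : g = c3 ∨ g = c3⁻¹ := by
  revert g; decide

theorem s3_two_three (g : Equiv.Perm (Fin 3)) (hg : g ^ 3 = 1) (hg2 : g ^ 2 = 1) : g = 1 := by
  revert g; decide

theorem s3_conj (t g : Equiv.Perm (Fin 3)) (ht : t ^ 2 = 1) (h1 : t ≠ 1) (hg : g ^ 3 = 1) :
    t * g * t⁻¹ = g⁻¹ := by
  revert t g; decide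

theorem s3_gen (t g : Equiv.Perm (Fin 3)) (ht : t ^ 2 = 1) (h1 : t ≠ 1) :
    g = 1 ∨ g = c3 ∨ g = c3⁻¹ ∨ g = t ∨ g = c3 * t ∨ g = c3⁻¹ * t := by
  revert t g; decide

theorem s3_inv_self (t : Equiv.Perm (Fin 3)) (ht : t ^ 2 = 1) : t⁻¹ = t := by
  revert t; decide

set_option maxRecDepth 4000 in
/-- the three involutions -/
theorem s3_third (t : Equiv.Perm (Fin 3)) (ht : t ^ 2 = 1) (h1 : t ≠ 1) :
    t * (c3⁻¹ * t * c3) * t⁻¹ = c3 * t * c3⁻¹ ∧ (t * (c3⁻¹ * t * c3)) ^ 3 = 1 ∧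
      t * (c3⁻¹ * t * c3) ≠ 1 ∧ (c3 * t * c3⁻¹) ^ 2 = 1 ∧ (c3⁻¹ * t * c3) ^ 2 = 1 := by
  revert t; decide



open Cfsg.Agent.Lib.Helper15.S3

variable {M : Type*} [Group M]

/-- elements acting trivially on `Q / K` -/
def TK (Q K : Subgroup M) : Subgroup M where
  carrier := {h | h ∈ Subgroup.normalizer (Q : Set M) ∧ ∀ y ∈ Q, h * y * h⁻¹ * y⁻¹ ∈ K}
  one_mem' := by
    refine ⟨Subgroup.one_mem _, fun y _ => ?_⟩
    simp
  mul_mem' := by
    rintro a b ⟨ha, ha'⟩ ⟨hb, hb'⟩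
    refine ⟨Subgroup.mul_mem _ ha hb, fun y hy => ?_⟩
    have hy' : b * y * b⁻¹ ∈ Q := (Subgroup.mem_normalizer_iff.1 hb y).1 hy
    have h1 := ha' _ hy'
    have h2 := hb' y hy
    have : a * b * y * (a * b)⁻¹ * y⁻¹ = (a * (b * y * b⁻¹) * a⁻¹ * (b * y * b⁻¹)⁻¹) *
        (b * y * b⁻¹ * y⁻¹) := by group
    rw [this]
    exact K.mul_mem h1 h2
  inv_mem' := by
    rintro a ⟨ha, ha'⟩
    refine ⟨Subgroup.inv_mem _ ha, fun y hy => ?_⟩
    have hy' : a⁻¹ * y * a ∈ Q := by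
      have := (Subgroup.mem_normalizer_iff.1 (Subgroup.inv_mem _ ha) y).1 hy
      simpa using this
    have h1 := ha' _ hy'
    have : a⁻¹ * y * a⁻¹⁻¹ * y⁻¹ = (a * (a⁻¹ * y * a) * a⁻¹ * (a⁻¹ * y * a)⁻¹)⁻¹ := by group
    rw [this]
    exact K.inv_mem h1

theorem mem_TK {Q K : Subgroup M} {h : M} :
    h ∈ TK Q K ↔ h ∈ Subgroup.normalizer (Q : Set M) ∧ ∀ y ∈ Q, h * y * h⁻¹ * y⁻¹ ∈ K :=
  Iff.rfl

/-- elements of `TK` normalize `K` -/
theorem TK_conj_mem {Q K : Subgroup M} (hKQ : K ≤ Q) {h : M} (hh : h ∈ TK Q K) {k : M}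
    (hk : k ∈ K) : h * k * h⁻¹ ∈ K := by
  have := hh.2 k (hKQ hk)
  have e : h * k * h⁻¹ = (h * k * h⁻¹ * k⁻¹) * k := by group
  rw [e]
  exact K.mul_mem this hk

/-- the centralizer of `Q` in `R` -/
def CR (Q R : Subgroup M) : Subgroup M := R ⊓ Subgroup.centralizer (Q : Set M)

theorem mem_CR {Q R : Subgroup M} {x : M} : x ∈ CR Q R ↔ x ∈ R ∧ ∀ y ∈ Q, y * x = x * y := by
  unfold CR
  rw [Subgroup.mem_inf, Subgroup.mem_centralizer_iff]
  rfl

/-- the hypotheses of `b3core` not involving `K` -/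
structure Hyp (α : Equiv.Perm (Fin 3) →* M) (q r : ℕ) (Q R : Subgroup M) : Prop where
  hq : q.Prime
  hr : r.Prime
  hqr : q ≠ r
  hr2 : r ≠ 2
  hr3 : r ≠ 3
  hq2 : q ≠ 2
  hq3 : q ≠ 3
  hQc : ∀ x ∈ Q, ∀ y ∈ Q, x * y = y * x
  hQq : IsPGroup q Q
  hRr : IsPGroup r R
  hRQ : R ≤ Subgroup.normalizer (Q : Set M)
  hQα : AInv α Q
  hRα : AInv α R
  hQfpf : AFpf α Q
  hRfpf : AFpf α R
  hRab : ⁅R, R⁆ ≤ Subgroup.centralizer (Q : Set M)
  hCQR : Q ⊓ Subgroup.centralizer (R : Set M) = ⊥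
  hQmin : ∀ Q' : Subgroup M, Q' ≤ Q → Q' ≠ Q → AInv α Q' →
      R ≤ Subgroup.normalizer (Q' : Set M) → Q' ≤ Subgroup.centralizer (R : Set M)
  hRmin : ∀ D : Subgroup M, D ≤ R → D ≠ R → AInv α D →
      D ≤ Subgroup.centralizer (Q : Set M)

section basic

variable {α : Equiv.Perm (Fin 3) →* M} {q r : ℕ} {Q R : Subgroup M}

/-- `AInv` gives membership in the normalizer -/
theorem ainv_normalizer {X : Subgroup M} (h : AInv α X) (g : Equiv.Perm (Fin 3)) :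
    α g ∈ Subgroup.normalizer (X : Set M) := by
  rw [Subgroup.mem_normalizer_iff]
  intro x
  constructor
  · exact h g x
  · intro hx
    have := h g⁻¹ _ hx
    rw [map_inv] at this
    have e : (α g)⁻¹ * (α g * x * (α g)⁻¹) * (α g)⁻¹⁻¹ = x := by group
    rwa [e] at this

theorem ainv_inv {X : Subgroup M} (h : AInv α X) (g : Equiv.Perm (Fin 3)) {x : M} (hx : x ∈ X) :
    (α g)⁻¹ * x * α g ∈ X := by
  have := h g⁻¹ _ hx
  rw [map_inv] at this
  simpa using this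

variable (H : Hyp α q r Q R)
include H

theorem conj_mem_Q {x y : M} (hx : x ∈ R) (hy : y ∈ Q) : x * y * x⁻¹ ∈ Q :=
  (Subgroup.mem_normalizer_iff.1 (H.hRQ hx) y).1 hy

theorem conj_mem_Q' {x y : M} (hx : x ∈ R) (hy : y ∈ Q) : x⁻¹ * y * x ∈ Q := by
  have := conj_mem_Q H (R.inv_mem hx) hy
  simpa using this

theorem CR_le : CR Q R ≤ R := inf_le_left

theorem CR_comm {c y : M} (hc : c ∈ CR Q R) (hy : y ∈ Q) : c * y * c⁻¹ = y := by
  have := (mem_CR.1 hc).2 y hy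
  rw [← this]; group

theorem CR_normal {x c : M} (hx : x ∈ R) (hc : c ∈ CR Q R) : x * c * x⁻¹ ∈ CR Q R := by
  rw [mem_CR]
  refine ⟨R.mul_mem (R.mul_mem hx (CR_le H hc)) (R.inv_mem hx), fun y hy => ?_⟩
  have hy' : x⁻¹ * y * x ∈ Q := conj_mem_Q' H hx hy
  have h1 := (mem_CR.1 hc).2 _ hy'
  calc y * (x * c * x⁻¹) = x * ((x⁻¹ * y * x) * c) * x⁻¹ := by group
    _ = x * (c * (x⁻¹ * y * x)) * x⁻¹ := by rw [h1]
    _ = x * c * x⁻¹ * y := by group

theorem CR_normal' {x c : M} (hx : x ∈ R) (hc : c ∈ CR Q R) : x⁻¹ * c * x ∈ CR Q R := by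
  have := CR_normal H (R.inv_mem hx) hc
  simpa using this

theorem CR_ainv : AInv α (CR Q R) := by
  intro g c hc
  rw [mem_CR]
  refine ⟨H.hRα g c (CR_le H hc), fun y hy => ?_⟩
  have hy' : (α g)⁻¹ * y * α g ∈ Q := ainv_inv H.hQα g hy
  have h1 := (mem_CR.1 hc).2 _ hy'
  calc y * (α g * c * (α g)⁻¹) = α g * (((α g)⁻¹ * y * α g) * c) * (α g)⁻¹ := by group
    _ = α g * (c * ((α g)⁻¹ * y * α g)) * (α g)⁻¹ := by rw [h1]
    _ = α g * c * (α g)⁻¹ * y := by group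

theorem comm_mem_CR {x y : M} (hx : x ∈ R) (hy : y ∈ R) : x * y * x⁻¹ * y⁻¹ ∈ CR Q R := by
  rw [CR, Subgroup.mem_inf]
  refine ⟨R.mul_mem (R.mul_mem (R.mul_mem hx hy) (R.inv_mem hx)) (R.inv_mem hy), ?_⟩
  apply H.hRab
  exact Subgroup.commutator_mem_commutator hx hy

theorem CR_le_TK (K : Subgroup M) : CR Q R ≤ TK Q K := by
  intro c hc
  refine ⟨H.hRQ (CR_le H hc), fun y hy => ?_⟩
  rw [CR_comm H hc hy]
  simp

end basic





section tools

variable {α : Equiv.Perm (Fin 3) →* M}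

theorem card_range_coprime [Finite M] {X : Subgroup M} {p : ℕ} (hp : p.Prime) (hX : IsPGroup p X)
    (h2 : p ≠ 2) (h3 : p ≠ 3) : (Nat.card α.range).Coprime (Nat.card X) := by
  haveI : Fact p.Prime := ⟨hp⟩
  have h6 : Nat.card α.range ∣ 6 := by
    have := Subgroup.card_range_dvd α
    rwa [Nat.card_perm, Nat.card_fin] at this
  obtain ⟨n, hn⟩ := hX.exists_card_eq
  rw [hn]
  apply Nat.Coprime.pow_right
  apply Nat.Coprime.coprime_dvd_left h6
  have : Nat.Coprime 6 p := by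
    rw [Nat.coprime_comm, Nat.Prime.coprime_iff_not_dvd hp]
    intro hd
    have h6' : (6 : ℕ) = 2 * 3 := by norm_num
    rw [h6'] at hd
    rcases (Nat.Prime.dvd_mul hp).1 hd with h | h
    · exact h2 ((Nat.prime_dvd_prime_iff_eq hp Nat.prime_two).1 h)
    · exact h3 ((Nat.prime_dvd_prime_iff_eq hp Nat.prime_three).1 h)
  exact this

/-- (FS): fixed cosets of invariant normal subgroups are trivial -/
theorem FS [Finite M] {X : Subgroup M} {p : ℕ} [Fact p.Prime] (hX : IsPGroup p X)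
    (h2 : p ≠ 2) (h3 : p ≠ 3) (hXinv : AInv α X) (hXfpf : AFpf α X)
    (N : Subgroup M) (hNX : N ≤ X) (hNn : X ≤ Subgroup.normalizer (N : Set M))
    (hNinv : AInv α N) {k : M} (hk : k ∈ X)
    (hfix : ∀ g, α g * k * (α g)⁻¹ * k⁻¹ ∈ N) : k ∈ N := by
  have hp : p.Prime := Fact.out
  have hAK : α.range ≤ Subgroup.normalizer (X : Set M) := by
    rintro _ ⟨g, rfl⟩
    exact ainv_normalizer hXinv g
  have hNA : α.range ≤ Subgroup.normalizer (N : Set M) := by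
    rintro _ ⟨g, rfl⟩
    exact ainv_normalizer hNinv g
  have hsolv : Group.IsSolvable α.range ∨ Group.IsSolvable X := by
    right
    have := hX.isNilpotent
    infer_instance
  obtain ⟨c, hc, hcN⟩ := Cfsg.Agent.S0022.result α.range X hAK (card_range_coprime hp hX h2 h3)
    hsolv N hNX hNn hNA k hk (by
      rintro _ ⟨g, rfl⟩
      exact hfix g)
  rw [Subgroup.mem_inf, Subgroup.mem_centralizer_iff] at hc
  have hc1 : c = 1 := by
    apply hXfpf c hc.1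
    intro g
    exact hc.2 (α g) ⟨g, rfl⟩
  rw [hc1, mul_one] at hcN
  have := N.inv_mem hcN
  simpa using this

end tools




section gen

variable {α : Equiv.Perm (Fin 3) →* M}

theorem all_of_gen (P : Subgroup M) (t : Equiv.Perm (Fin 3)) (ht : t ^ 2 = 1) (h1 : t ≠ 1)
    (hc : α c3 ∈ P) (hu : α t ∈ P) (g : Equiv.Perm (Fin 3)) : α g ∈ P := by
  rcases s3_gen t g ht h1 with rfl | rfl | rfl | rfl | rfl | rfl
  · rw [map_one]; exact P.one_mem
  · exact hc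
  · rw [map_inv]; exact P.inv_mem hc
  · exact hu
  · rw [map_mul]; exact P.mul_mem hc hu
  · rw [map_mul, map_inv]; exact P.mul_mem (P.inv_mem hc) hu

/-- the elements fixing the coset `k N` -/
def fixSub (N : Subgroup M) (k : M) : Subgroup M where
  carrier := {a | a ∈ Subgroup.normalizer (N : Set M) ∧ a * k * a⁻¹ * k⁻¹ ∈ N}
  one_mem' := ⟨Subgroup.one_mem _, by simp⟩
  mul_mem' := by
    rintro a b ⟨ha, ha'⟩ ⟨hb, hb'⟩
    refine ⟨Subgroup.mul_mem _ ha hb, ?_⟩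
    have h1 : a * (b * k * b⁻¹ * k⁻¹) * a⁻¹ ∈ N := (Subgroup.mem_normalizer_iff.1 ha _).1 hb'
    have : a * b * k * (a * b)⁻¹ * k⁻¹ = (a * (b * k * b⁻¹ * k⁻¹) * a⁻¹) * (a * k * a⁻¹ * k⁻¹) := by
      group
    rw [this]
    exact N.mul_mem h1 ha'
  inv_mem' := by
    rintro a ⟨ha, ha'⟩
    refine ⟨Subgroup.inv_mem _ ha, ?_⟩
    have h1 : a⁻¹ * (a * k * a⁻¹ * k⁻¹)⁻¹ * a⁻¹⁻¹ ∈ N :=
      (Subgroup.mem_normalizer_iff.1 (Subgroup.inv_mem _ ha) _).1 (N.inv_mem ha')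
    have : a⁻¹ * k * a⁻¹⁻¹ * k⁻¹ = a⁻¹ * (a * k * a⁻¹ * k⁻¹)⁻¹ * a⁻¹⁻¹ := by group
    rw [this]
    exact h1

theorem mem_fixSub {N : Subgroup M} {k a : M} :
    a ∈ fixSub N k ↔ a ∈ Subgroup.normalizer (N : Set M) ∧ a * k * a⁻¹ * k⁻¹ ∈ N := Iff.rfl

end gen


open scoped commutatorElement



section step0

variable {α : Equiv.Perm (Fin 3) →* M} {q r : ℕ} {Q R : Subgroup M}

theorem pgroup_coprime [Finite M] {X Y : Subgroup M} {p p' : ℕ} (hp : p.Prime) (hp' : p'.Prime)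
    (hne : p ≠ p') (hX : IsPGroup p X) (hY : IsPGroup p' Y) :
    (Nat.card X).Coprime (Nat.card Y) := by
  haveI : Fact p.Prime := ⟨hp⟩
  haveI : Fact p'.Prime := ⟨hp'⟩
  obtain ⟨n, hn⟩ := hX.exists_card_eq
  obtain ⟨n', hn'⟩ := hY.exists_card_eq
  rw [hn, hn']
  exact Nat.Coprime.pow _ _ ((Nat.coprime_primes hp hp').2 hne)

theorem solvable_of_comm' {X : Subgroup M} (h : ∀ x ∈ X, ∀ y ∈ X, x * y = y * x) :
    Group.IsSolvable X := by
  apply Group.isSolvable_of_comm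
  intro a b
  exact Subtype.ext (h a.1 a.2 b.1 b.2)

/-- `N = T_K ∩ R` -/
def NK (Q R K : Subgroup M) : Subgroup M := TK Q K ⊓ R

variable (H : Hyp α q r Q R) (K : Subgroup M)
include H

theorem CR_le_NK : CR Q R ≤ NK Q R K := le_inf (CR_le_TK H K) (CR_le H)

theorem NK_normal {x n : M} (hx : x ∈ R) (hn : n ∈ NK Q R K) : x * n * x⁻¹ ∈ NK Q R K := by
  have hnR : n ∈ R := hn.2
  have h1 : x * n * x⁻¹ * n⁻¹ ∈ NK Q R K := CR_le_NK H K (comm_mem_CR H hx hnR)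
  have e : x * n * x⁻¹ = (x * n * x⁻¹ * n⁻¹) * n := by group
  rw [e]
  exact (NK Q R K).mul_mem h1 hn

theorem NK_normal' {x n : M} (hx : x ∈ R) (hn : n ∈ NK Q R K) : x⁻¹ * n * x ∈ NK Q R K := by
  have := NK_normal H K (R.inv_mem hx) hn
  simpa using this

/-- Step 0: `R` does not act trivially on `Q / K` -/
theorem NK_ne [Finite M] (hKQ : K ≤ Q) (hKne : K ≠ Q) : NK Q R K ≠ R := by
  intro hN
  have hRT : R ≤ TK Q K := by
    rw [← hN]; exact inf_le_left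
  have h1 := Cfsg.Agent.S0026.result R Q H.hRQ (pgroup_coprime H.hr H.hq (Ne.symm H.hqr) H.hRr H.hQq)
    (Or.inr (solvable_of_comm' H.hQc))
  rw [H.hCQR, sup_bot_eq] at h1
  apply hKne
  apply le_antisymm hKQ
  rw [← h1, Subgroup.commutator_le]
  intro y hy x hx
  have := (hRT hx).2 y hy
  have e : ⁅y, x⁆ = (x * y * x⁻¹ * y⁻¹)⁻¹ := by
    rw [commutatorElement_def]; group
  rw [e]
  exact K.inv_mem this

end step0





theorem s3_conj_c3 (g : Equiv.Perm (Fin 3)) : g⁻¹ * c3 * g = c3 ∨ g⁻¹ * c3 * g = c3⁻¹ := by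
  revert g; decide

section dich

variable {α : Equiv.Perm (Fin 3) →* M} {q r : ℕ} {Q R : Subgroup M}
variable (H : Hyp α q r Q R)
include H

/-- if `σ = α g` fixes the coset of `x` modulo `C`, so does `σ⁻¹` -/
theorem comm_inv_mem (g : Equiv.Perm (Fin 3)) {x : M}
    (hx : α g * x * (α g)⁻¹ * x⁻¹ ∈ CR Q R) : (α g)⁻¹ * x * α g * x⁻¹ ∈ CR Q R := by
  have h1 := ainv_inv (CR_ainv H) g ((CR Q R).inv_mem hx)
  have e : (α g)⁻¹ * x * α g * x⁻¹ = (α g)⁻¹ * (α g * x * (α g)⁻¹ * x⁻¹)⁻¹ * α g := by group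
  rw [e]; exact h1

/-- the subgroup of `R` of elements fixed modulo `C` by `s` -/
def DS : Subgroup M where
  carrier := {x | x ∈ R ∧ α c3 * x * (α c3)⁻¹ * x⁻¹ ∈ CR Q R}
  one_mem' := ⟨R.one_mem, by simp⟩
  mul_mem' := by
    rintro x y ⟨hx, hx'⟩ ⟨hy, hy'⟩
    refine ⟨R.mul_mem hx hy, ?_⟩
    have h1 := CR_normal H hx hy'
    have e : α c3 * (x * y) * (α c3)⁻¹ * (x * y)⁻¹ =
        (α c3 * x * (α c3)⁻¹ * x⁻¹) * (x * (α c3 * y * (α c3)⁻¹ * y⁻¹) * x⁻¹) := by group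
    rw [e]
    exact (CR Q R).mul_mem hx' h1
  inv_mem' := by
    rintro x ⟨hx, hx'⟩
    refine ⟨R.inv_mem hx, ?_⟩
    have h1 := CR_normal' H hx ((CR Q R).inv_mem hx')
    have e : α c3 * x⁻¹ * (α c3)⁻¹ * x⁻¹⁻¹ = x⁻¹ * (α c3 * x * (α c3)⁻¹ * x⁻¹)⁻¹ * x := by group
    rw [e]
    exact h1

theorem mem_DS {x : M} : x ∈ DS H ↔ x ∈ R ∧ α c3 * x * (α c3)⁻¹ * x⁻¹ ∈ CR Q R := Iff.rfl

theorem DS_ainv : AInv α (DS H) := by
  intro g x hx
  obtain ⟨hxR, hx'⟩ := hx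
  refine ⟨H.hRα g x hxR, ?_⟩
  -- `(α g)⁻¹ s (α g)` is `s` or `s⁻¹`
  have key : ∀ σ : M, σ * x * σ⁻¹ * x⁻¹ ∈ CR Q R → α g * σ * (α g)⁻¹ = α c3 →
      α c3 * (α g * x * (α g)⁻¹) * (α c3)⁻¹ * (α g * x * (α g)⁻¹)⁻¹ ∈ CR Q R := by
    intro σ hσ he
    have h1 := CR_ainv H g _ hσ
    have e : α c3 * (α g * x * (α g)⁻¹) * (α c3)⁻¹ * (α g * x * (α g)⁻¹)⁻¹ =
        α g * (σ * x * σ⁻¹ * x⁻¹) * (α g)⁻¹ := by
      rw [← he]; group
    rw [e]; exact h1
  have hconj : α g * α (g⁻¹ * c3 * g) * (α g)⁻¹ = α c3 := by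
    rw [← map_inv, ← map_mul, ← map_mul]
    congr 1; group
  rcases s3_conj_c3 g with h | h
  · rw [h] at hconj
    exact key (α c3) hx' hconj
  · rw [h, map_inv] at hconj
    apply key (α c3)⁻¹ _ hconj
    have := comm_inv_mem H c3 hx'
    simpa using this

/-- the dichotomy: `s` centralizes `R / C` or acts fixed-point-freely on it -/
theorem dichotomy : (∀ x ∈ R, α c3 * x * (α c3)⁻¹ * x⁻¹ ∈ CR Q R) ∨
    (∀ x ∈ R, α c3 * x * (α c3)⁻¹ * x⁻¹ ∈ CR Q R → x ∈ CR Q R) := by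
  by_cases hD : DS H = R
  · left
    intro x hx
    rw [← hD] at hx
    exact hx.2
  · right
    intro x hx hx'
    have hle : DS H ≤ R := fun y hy => hy.1
    have := H.hRmin (DS H) hle hD (DS_ainv H)
    exact ⟨hx, this ⟨hx, hx'⟩⟩

end dich




theorem mem_of_pow_mem [Finite M] {R N : Subgroup M} {r : ℕ} (hR : IsPGroup r R)
    {x : M} (hx : x ∈ R) (k : ℕ) (hk : k.Coprime r) (hxk : x ^ k ∈ N) : x ∈ N := by
  obtain ⟨j, hj⟩ := hR ⟨x, hx⟩
  have hj' : x ^ r ^ j = 1 := by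
    have := congrArg Subtype.val hj
    simpa using this
  have hord : orderOf x ∣ r ^ j := orderOf_dvd_of_pow_eq_one hj'
  have hcop : k.Coprime (orderOf x) :=
    Nat.Coprime.coprime_dvd_right hord (Nat.Coprime.pow_right j hk)
  obtain ⟨m, hm⟩ := exists_pow_eq_self_of_coprime hcop
  rw [← hm]
  exact N.pow_mem hxk m

section caseI

variable {α : Equiv.Perm (Fin 3) →* M} {q r : ℕ} {Q R : Subgroup M}
theorem alpha_sq {t : Equiv.Perm (Fin 3)} (ht : t ^ 2 = 1) : α t * α t = 1 := by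
  rw [← map_mul, ← pow_two, ht, map_one]

theorem alpha_inv_self {t : Equiv.Perm (Fin 3)} (ht : t ^ 2 = 1) : (α t)⁻¹ = α t := by
  rw [← map_inv, s3_inv_self t ht]

variable (H : Hyp α q r Q R)
include H

/-- Case I for all elements of order dividing 3 -/
theorem caseI_all (hI : ∀ x ∈ R, α c3 * x * (α c3)⁻¹ * x⁻¹ ∈ CR Q R)
    (g : Equiv.Perm (Fin 3)) (hg : g ^ 3 = 1) {x : M} (hx : x ∈ R) :
    α g * x * (α g)⁻¹ * x⁻¹ ∈ CR Q R := by
  by_cases h1 : g = 1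
  · rw [h1, map_one]; simp
  rcases s3_three g hg h1 with rfl | rfl
  · exact hI x hx
  · have := comm_inv_mem H c3 (hI x hx)
    rw [map_inv]
    simpa using this

/-- (I-a): in Case I every involution inverts `R / C` -/
theorem caseI_inverts [Finite M] [Fact r.Prime]
    (hI : ∀ x ∈ R, α c3 * x * (α c3)⁻¹ * x⁻¹ ∈ CR Q R)
    (t : Equiv.Perm (Fin 3)) (ht : t ^ 2 = 1) (ht1 : t ≠ 1) {x : M} (hx : x ∈ R) :
    x * (α t * x * (α t)⁻¹) ∈ CR Q R := by
  have hx' : α t * x * (α t)⁻¹ ∈ R := H.hRα t x hx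
  have hz : x * (α t * x * (α t)⁻¹) ∈ R := R.mul_mem hx hx'
  apply FS H.hRr H.hr2 H.hr3 H.hRα H.hRfpf (CR Q R) (CR_le H) _ (CR_ainv H) hz
  · intro g
    have hg := all_of_gen (α := α) (fixSub (CR Q R) (x * (α t * x * (α t)⁻¹))) t ht ht1 ?_ ?_ g
    · exact hg.2
    · exact ⟨ainv_normalizer (CR_ainv H) c3, hI _ hz⟩
    · refine ⟨ainv_normalizer (CR_ainv H) t, ?_⟩
      have e : α t * (x * (α t * x * (α t)⁻¹)) * (α t)⁻¹ * (x * (α t * x * (α t)⁻¹))⁻¹ =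
          (α t * x * (α t)⁻¹) * (α t * α t * x * (α t * α t)⁻¹) * (α t * x * (α t)⁻¹)⁻¹ * x⁻¹ := by
        group
      rw [e, alpha_sq ht]
      have := comm_mem_CR H hx' hx
      simpa using this
  · intro y hy
    rw [Subgroup.mem_normalizer_iff]
    intro c
    constructor
    · exact fun hc => CR_normal H hy hc
    · intro hc
      have := CR_normal' H hy hc
      simpa [mul_assoc] using this

end caseI




section caseI0

variable {α : Equiv.Perm (Fin 3) →* M} {q r : ℕ} {Q R : Subgroup M}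

theorem card_zpowers_coprime [Finite M] {X : Subgroup M} {p : ℕ} [Fact p.Prime] (hX : IsPGroup p X)
    {s : M} (n : ℕ) (hs : s ^ n = 1) (hn : n.Coprime p) :
    (Nat.card (Subgroup.zpowers s)).Coprime (Nat.card X) := by
  obtain ⟨b, hb⟩ := hX.exists_card_eq
  rw [hb, Nat.card_zpowers]
  apply Nat.Coprime.pow_right
  exact Nat.Coprime.coprime_dvd_left (orderOf_dvd_of_pow_eq_one hs) hn

theorem swap_facts : (Equiv.swap (0 : Fin 3) 1) ^ 2 = 1 ∧ Equiv.swap (0 : Fin 3) 1 ≠ 1 := by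
  decide

variable (H : Hyp α q r Q R)
include H

/-- a subgroup of `TK` acts trivially on `Q / K` -/
theorem comm_le_K {K A : Subgroup M} (hA : A ≤ TK Q K) {X : Subgroup M} (hX : X ≤ Q) :
    ⁅X, A⁆ ≤ K := by
  rw [Subgroup.commutator_le]
  intro y hy h hh
  have := (hA hh).2 y (hX hy)
  have e : ⁅y, h⁆ = (h * y * h⁻¹ * y⁻¹)⁻¹ := by
    rw [commutatorElement_def]; group
  rw [e]
  exact K.inv_mem this

/-- (I-0): in Case I, `s` does not act trivially on `Q / K` -/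
theorem caseI_three_not_mem [Finite M] [Fact r.Prime] [Fact q.Prime]
    (hI : ∀ x ∈ R, α c3 * x * (α c3)⁻¹ * x⁻¹ ∈ CR Q R)
    (K : Subgroup M) (hKQ : K ≤ Q) (hKne : K ≠ Q) (hs : α c3 ∈ TK Q K) : False := by
  set s := α c3 with hsdef
  have hs3 : s ^ 3 = 1 := by rw [hsdef, ← map_pow, c3_pow, map_one]
  set Q₁ : Subgroup M := Q ⊓ Subgroup.centralizer ({s} : Set M) with hQ₁
  have hmem : ∀ y, y ∈ Q₁ ↔ y ∈ Q ∧ s * y = y * s := by
    intro y
    rw [hQ₁, Subgroup.mem_inf, Subgroup.mem_centralizer_iff]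
    simp
  -- invariance under `α`
  have hQ₁inv : AInv α Q₁ := by
    intro g y hy
    rw [hmem] at hy ⊢
    refine ⟨H.hQα g y hy.1, ?_⟩
    have hconj : α g * α (g⁻¹ * c3 * g) * (α g)⁻¹ = s := by
      rw [← map_inv, ← map_mul, ← map_mul]
      congr 1; group
    have hσ : α (g⁻¹ * c3 * g) * y = y * α (g⁻¹ * c3 * g) := by
      rcases s3_conj_c3 g with h | h
      · rw [h]; exact hy.2
      · rw [h, map_inv]
        have h2 := hy.2
        calc s⁻¹ * y = s⁻¹ * (y * s) * s⁻¹ := by group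
          _ = s⁻¹ * (s * y) * s⁻¹ := by rw [h2]
          _ = y * s⁻¹ := by group
    calc s * (α g * y * (α g)⁻¹) = α g * (α (g⁻¹ * c3 * g) * y) * (α g)⁻¹ := by
          rw [← hconj]; group
      _ = α g * (y * α (g⁻¹ * c3 * g)) * (α g)⁻¹ := by rw [hσ]
      _ = α g * y * (α g)⁻¹ * s := by rw [← hconj]; group
  -- invariance under `R`
  have hkey : ∀ x ∈ R, ∀ y ∈ Q₁, x * y * x⁻¹ ∈ Q₁ := by
    intro x hx y hy
    rw [hmem] at hy ⊢
    have hyQ : x * y * x⁻¹ ∈ Q := conj_mem_Q H hx hy.1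
    refine ⟨hyQ, ?_⟩
    have hc := hI x hx
    have h1 := CR_comm H hc hyQ
    have h2 : s * y * s⁻¹ = y := by rw [hy.2]; group
    have e : s * (x * y * x⁻¹) * s⁻¹ = (s * x * s⁻¹ * x⁻¹) * (x * (s * y * s⁻¹) * x⁻¹) *
        (s * x * s⁻¹ * x⁻¹)⁻¹ := by group
    have h3 : s * (x * y * x⁻¹) * s⁻¹ = x * y * x⁻¹ := by rw [e, h2, h1]
    calc s * (x * y * x⁻¹) = (s * (x * y * x⁻¹) * s⁻¹) * s := by group
      _ = x * y * x⁻¹ * s := by rw [h3]
  have hQ₁R : R ≤ Subgroup.normalizer (Q₁ : Set M) := by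
    intro x hx
    rw [Subgroup.mem_normalizer_iff]
    intro y
    constructor
    · exact hkey x hx y
    · intro hy
      have := hkey x⁻¹ (R.inv_mem hx) _ hy
      simpa [mul_assoc] using this
  by_cases hQ₁Q : Q₁ = Q
  · -- `s` centralizes `Q`
    have hsQ : ∀ y ∈ Q, s * y = y * s := by
      intro y hy
      rw [← hQ₁Q] at hy
      exact ((hmem y).1 hy).2
    obtain ⟨ht, ht1⟩ := swap_facts
    set t := Equiv.swap (0 : Fin 3) 1 with htdef
    have huu : α t * α t = 1 := alpha_sq ht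
    -- the involution inverts `Q`
    have hinvQ : ∀ y ∈ Q, α t * y * (α t)⁻¹ = y⁻¹ := by
      intro y hy
      have hy' : α t * y * (α t)⁻¹ ∈ Q := H.hQα t y hy
      have hz : y * (α t * y * (α t)⁻¹) ∈ Q := Q.mul_mem hy hy'
      have hz1 : y * (α t * y * (α t)⁻¹) = 1 := by
        apply H.hQfpf _ hz
        intro g
        have hg := all_of_gen (α := α)
          (Subgroup.centralizer ({y * (α t * y * (α t)⁻¹)} : Set M)) t ht ht1 ?_ ?_ g
        · rw [Subgroup.mem_centralizer_iff] at hg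
          exact (hg _ rfl).symm
        · rw [Subgroup.mem_centralizer_iff]
          intro h hh
          rw [Set.mem_singleton_iff] at hh
          rw [hh]
          exact (hsQ _ hz).symm
        · rw [Subgroup.mem_centralizer_iff]
          intro h hh
          rw [Set.mem_singleton_iff] at hh
          rw [hh]
          have e : α t * (y * (α t * y * (α t)⁻¹)) = (α t * y * (α t)⁻¹) *
              (α t * α t * y * (α t * α t)⁻¹) * α t := by group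
          rw [e, huu, H.hQc _ hy' _ (by simpa using hy)]
          simp [mul_assoc]
      calc α t * y * (α t)⁻¹ = y⁻¹ * (y * (α t * y * (α t)⁻¹)) := by group
        _ = y⁻¹ := by rw [hz1, mul_one]
    -- squares of elements of `R` centralize `Q`
    have hsq : ∀ x ∈ R, x ^ 2 ∈ CR Q R := by
      intro x hx
      rw [mem_CR]
      refine ⟨R.pow_mem hx 2, ?_⟩
      intro y hy
      have hc := caseI_inverts H hI t ht ht1 hx
      set x' := α t * x * (α t)⁻¹ with hx'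
      have hyi : y⁻¹ ∈ Q := Q.inv_mem hy
      -- two computations of `u (x y⁻¹... ) u⁻¹`
      have h1 : α t * (x * y * x⁻¹) * (α t)⁻¹ = (x * y * x⁻¹)⁻¹ := hinvQ _ (conj_mem_Q H hx hy)
      have h2 : α t * (x * y * x⁻¹) * (α t)⁻¹ = x' * (α t * y * (α t)⁻¹) * x'⁻¹ := by
        rw [hx']; group
      rw [hinvQ y hy] at h2
      have h3 : x' = x⁻¹ * (x * x') := by group
      have h4 : x' * y⁻¹ * x'⁻¹ = x⁻¹ * y⁻¹ * x := by
        rw [h3]
        have := CR_comm H hc hyi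
        calc x⁻¹ * (x * x') * y⁻¹ * (x⁻¹ * (x * x'))⁻¹ =
            x⁻¹ * ((x * x') * y⁻¹ * (x * x')⁻¹) * x := by group
          _ = x⁻¹ * y⁻¹ * x := by rw [this]
      rw [h4] at h2
      rw [h1] at h2
      -- `x y⁻¹ x⁻¹ = x⁻¹ y⁻¹ x`
      have h5 : x * y⁻¹ * x⁻¹ = x⁻¹ * y⁻¹ * x := by
        rw [← h2]; group
      have h6 : (x * x) * y⁻¹ = y⁻¹ * (x * x) := by
        calc (x * x) * y⁻¹ = x * (x * y⁻¹ * x⁻¹) * x := by group
          _ = x * (x⁻¹ * y⁻¹ * x) * x := by rw [h5]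
          _ = y⁻¹ * (x * x) := by group
      rw [pow_two]
      calc y * (x * x) = y * ((x * x) * y⁻¹) * y := by group
        _ = y * (y⁻¹ * (x * x)) * y := by rw [h6]
        _ = (x * x) * y := by group
    have hRC : ∀ x ∈ R, x ∈ CR Q R := by
      intro x hx
      refine mem_of_pow_mem H.hRr hx 2 ?_ (hsq x hx)
      rw [Nat.coprime_comm, Nat.Prime.coprime_iff_not_dvd H.hr]
      intro hd
      exact H.hr2 ((Nat.prime_dvd_prime_iff_eq H.hr Nat.prime_two).1 hd)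
    have hQbot : Q ≤ Q ⊓ Subgroup.centralizer (R : Set M) := by
      intro y hy
      rw [Subgroup.mem_inf]
      refine ⟨hy, ?_⟩
      rw [Subgroup.mem_centralizer_iff]
      intro x hx
      exact ((mem_CR.1 (hRC x hx)).2 y hy).symm
    rw [H.hCQR] at hQbot
    apply hKne
    apply le_antisymm hKQ
    exact le_trans hQbot bot_le
  · -- `C_Q(s) = 1`
    have h1 := H.hQmin Q₁ inf_le_left hQ₁Q hQ₁inv hQ₁R
    have hQ₁bot : Q₁ ≤ ⊥ := by
      rw [← H.hCQR]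
      exact le_inf inf_le_left h1
    have hzT : Subgroup.zpowers s ≤ TK Q K := (Subgroup.zpowers_le).2 hs
    have hAK : Subgroup.zpowers s ≤ Subgroup.normalizer (Q : Set M) :=
      (Subgroup.zpowers_le).2 (ainv_normalizer H.hQα c3)
    have hcop : (Nat.card (Subgroup.zpowers s)).Coprime (Nat.card Q) := by
      apply card_zpowers_coprime H.hQq 3 hs3
      rw [Nat.coprime_comm, Nat.Prime.coprime_iff_not_dvd H.hq]
      intro hd
      exact H.hq3 ((Nat.prime_dvd_prime_iff_eq H.hq Nat.prime_three).1 hd)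
    have h2 := Cfsg.Agent.S0026.result (Subgroup.zpowers s) Q hAK hcop
      (Or.inr (solvable_of_comm' H.hQc))
    have h3 : Q ⊓ Subgroup.centralizer ((Subgroup.zpowers s : Subgroup M) : Set M) ≤ ⊥ := by
      refine le_trans ?_ hQ₁bot
      intro y hy
      rw [hmem]
      refine ⟨hy.1, ?_⟩
      have := (Subgroup.mem_centralizer_iff.1 hy.2) s (Subgroup.mem_zpowers s)
      exact this
    rw [le_bot_iff] at h3
    rw [h3, sup_bot_eq] at h2
    apply hKne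
    apply le_antisymm hKQ
    rw [← h2]
    exact comm_le_K H hzT le_rfl

end caseI0


end Cfsg.Agent.Lib.Helper98.S3B3
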