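import Cfsg.Agent.Lib.Helper98.S3B3a

set_option autoImplicit false
set_option linter.unusedSectionVars false
set_option linter.style.haveILetI false

/-!
# `b3core` for S4305 (K15-D5), part B: Case I (helper98)
-/

namespace Cfsg.Agent.Lib.Helper98.S3B3

open Cfsg.Agent.Lib.Helper15.S3
open scoped commutatorElement

variable {M : Type*} [Group M]

section caseI1

variable {α : Equiv.Perm (Fin 3) →* M} {q r : ℕ} {Q R : Subgroup M}

theorem coprime_of_prime_ne {p k : ℕ} (hp : p.Prime) (hk : k.Prime) (h : p ≠ k) : k.Coprime p :=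
  (Nat.coprime_primes hk hp).2 (Ne.symm h)

variable (H : Hyp α q r Q R)
include H

/-- if `α c3` or its inverse lies in a subgroup, so does `α g` for `g` of order 3, and conversely -/
theorem three_mem_iff (P : Subgroup M) (g : Equiv.Perm (Fin 3)) (hg : g ^ 3 = 1) (h1 : g ≠ 1) :
    α g ∈ P ↔ α c3 ∈ P := by
  rcases s3_three g hg h1 with rfl | rfl
  · rfl
  · rw [map_inv, Subgroup.inv_mem_iff]

/-- Case I leads to a contradiction -/
theorem caseI_false [Finite M] [Fact r.Prime] [Fact q.Prime]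
    (hI : ∀ x ∈ R, α c3 * x * (α c3)⁻¹ * x⁻¹ ∈ CR Q R)
    (K : Subgroup M) (hKQ : K ≤ Q) (hKne : K ≠ Q)
    (hUP : ∀ x ∈ R, ∃ g : Equiv.Perm (Fin 3), g ≠ 1 ∧ x⁻¹ * α g * x ∈ TK Q K) : False := by
  have hno3 : α c3 ∉ TK Q K := fun h => caseI_three_not_mem H hI K hKQ hKne h
  have hCT : CR Q R ≤ TK Q K := CR_le_TK H K
  have hr2' : (2 : ℕ).Coprime r := coprime_of_prime_ne H.hr Nat.prime_two H.hr2
  have hr3' : (3 : ℕ).Coprime r := coprime_of_prime_ne H.hr Nat.prime_three H.hr3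
  -- the elements from `hUP` are involutions
  have hinv : ∀ y ∈ R, ∀ g : Equiv.Perm (Fin 3), g ≠ 1 → y⁻¹ * α g * y ∈ TK Q K → g ^ 2 = 1 := by
    intro y hy g hg1 hgT
    rcases s3_order g hg1 with h | h
    · exact h
    · exfalso
      apply hno3
      rw [← three_mem_iff H (TK Q K) g h hg1]
      have hg3' : (g⁻¹) ^ 3 = 1 := by rw [inv_pow, h, inv_one]
      have hc := caseI_all H hI g⁻¹ hg3' (R.inv_mem hy)
      rw [map_inv] at hc
      have hc' := hCT hc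
      have e : α g = (y⁻¹ * α g * y) * ((α g)⁻¹ * y⁻¹ * (α g)⁻¹⁻¹ * y⁻¹⁻¹)⁻¹ := by group
      rw [e]
      exact (TK Q K).mul_mem hgT ((TK Q K).inv_mem hc')
  obtain ⟨τ, hτ1, hτT⟩ := hUP 1 R.one_mem
  have hτ2 : τ ^ 2 = 1 := hinv 1 R.one_mem τ hτ1 hτT
  have huT : α τ ∈ TK Q K := by simpa using hτT
  have hall : ∀ y ∈ R, y ∈ NK Q R K := by
    intro y hy
    obtain ⟨τy, hτy1, hτyT⟩ := hUP y hy
    have hτy2 : τy ^ 2 = 1 := hinv y hy τy hτy1 hτyT
    by_cases hsame : τy = τ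
    · rw [hsame] at hτyT
      -- `w = u⁻¹ y⁻¹ u y ∈ N`
      have hw : (α τ)⁻¹ * (y⁻¹ * α τ * y) ∈ NK Q R K := by
        refine ⟨(TK Q K).mul_mem ((TK Q K).inv_mem huT) hτyT, ?_⟩
        have h1 : (α τ)⁻¹ * y⁻¹ * α τ ∈ R := ainv_inv H.hRα τ (R.inv_mem hy)
        have e : (α τ)⁻¹ * (y⁻¹ * α τ * y) = ((α τ)⁻¹ * y⁻¹ * α τ) * y := by group
        rw [e]
        exact R.mul_mem h1 hy
      have hc := caseI_inverts H hI τ hτ2 hτ1 (R.inv_mem hy)
      have hc2 : y⁻¹ * (y⁻¹ * (α τ * y⁻¹ * (α τ)⁻¹)) * y ∈ NK Q R K :=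
        CR_le_NK H K (CR_normal' H hy hc)
      have hsq : y * y ∈ NK Q R K := by
        have e : y * y = ((α τ)⁻¹ * (y⁻¹ * α τ * y)) *
            (y⁻¹ * (y⁻¹ * (α τ * y⁻¹ * (α τ)⁻¹)) * y)⁻¹ := by
          have huu : α τ * α τ = 1 := alpha_sq hτ2
          symm
          calc ((α τ)⁻¹ * (y⁻¹ * α τ * y)) * (y⁻¹ * (y⁻¹ * (α τ * y⁻¹ * (α τ)⁻¹)) * y)⁻¹
              = (α τ)⁻¹ * y⁻¹ * (α τ * α τ) * y * (α τ)⁻¹ * y * y := by simp [mul_assoc]
            _ = (α τ)⁻¹ * (α τ)⁻¹ * y * y := by rw [huu]; simp [mul_assoc]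
            _ = (α τ * α τ)⁻¹ * y * y := by simp [mul_assoc]
            _ = y * y := by rw [huu]; simp
        rw [e]
        exact (NK Q R K).mul_mem hw ((NK Q R K).inv_mem hc2)
      refine mem_of_pow_mem H.hRr hy 2 hr2' ?_
      rw [pow_two]; exact hsq
    · exfalso
      obtain ⟨hg3, hg1⟩ := s3_inv_prod τ τy hτ2 hτy2 hτ1 hτy1 (Ne.symm hsame)
      set σ := α (τ * τy) with hσ
      have hσ3 : σ * σ * σ = 1 := by
        rw [hσ, ← map_mul, ← map_mul]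
        rw [← pow_three', hg3, map_one]
      set m := (α τy)⁻¹ * y⁻¹ * α τy * y with hm
      have hmR : m ∈ R := by
        have h1 : (α τy)⁻¹ * y⁻¹ * α τy ∈ R := ainv_inv H.hRα τy (R.inv_mem hy)
        exact R.mul_mem h1 hy
      have htT : σ * m ∈ TK Q K := by
        have e : σ * m = α τ * (y⁻¹ * α τy * y) := by
          rw [hσ, hm, map_mul]; group
        rw [e]
        exact (TK Q K).mul_mem huT hτyT
      -- the cube of `σ m`
      set c₁ := σ * m * σ⁻¹ * m⁻¹ with hc₁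
      have hc₁C : c₁ ∈ CR Q R := caseI_all H hI (τ * τy) hg3 hmR
      have hc₂C : σ * c₁ * σ⁻¹ ∈ CR Q R := CR_ainv H (τ * τy) c₁ hc₁C
      have hc₃C : m * (σ * c₁ * σ⁻¹ * c₁) * m⁻¹ ∈ CR Q R :=
        CR_normal H hmR ((CR Q R).mul_mem hc₂C hc₁C)
      have hcube : (σ * m) * (σ * m) * (σ * m) =
          c₁ * (m * (σ * c₁ * σ⁻¹ * c₁) * m⁻¹) * (m * m * m) := by
        have e1 : (σ * m) * (σ * m) * (σ * m) =
            (σ * m * σ⁻¹) * (σ * (σ * m * σ⁻¹) * σ⁻¹) * (σ * σ * σ) * m := by simp [mul_assoc]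
        have e2 : σ * m * σ⁻¹ = c₁ * m := by rw [hc₁]; group
        have e3 : σ * (c₁ * m) * σ⁻¹ = (σ * c₁ * σ⁻¹) * (σ * m * σ⁻¹) := by group
        rw [e1, hσ3, e2, e3, e2]
        simp [mul_assoc]
      have hm3 : m * m * m ∈ NK Q R K := by
        have h1 : (σ * m) * (σ * m) * (σ * m) ∈ TK Q K :=
          (TK Q K).mul_mem ((TK Q K).mul_mem htT htT) htT
        have h2 : c₁ * (m * (σ * c₁ * σ⁻¹ * c₁) * m⁻¹) ∈ CR Q R := (CR Q R).mul_mem hc₁C hc₃C
        have e : m * m * m = (c₁ * (m * (σ * c₁ * σ⁻¹ * c₁) * m⁻¹))⁻¹ *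
            ((σ * m) * (σ * m) * (σ * m)) := by
          rw [hcube]; group
        refine ⟨?_, R.mul_mem (R.mul_mem hmR hmR) hmR⟩
        rw [e]
        exact (TK Q K).mul_mem ((TK Q K).inv_mem (hCT h2)) h1
      have hmN : m ∈ NK Q R K := by
        refine mem_of_pow_mem H.hRr hmR 3 hr3' ?_
        rw [pow_three']; exact hm3
      have hσT : σ ∈ TK Q K := by
        have e : σ = (σ * m) * m⁻¹ := by group
        rw [e]
        exact (TK Q K).mul_mem htT ((TK Q K).inv_mem hmN.1)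
      apply hno3
      rw [← three_mem_iff H (TK Q K) (τ * τy) hg3 hg1]
      exact hσT
  apply NK_ne H K hKQ hKne
  exact le_antisymm inf_le_right hall

end caseI1

end Cfsg.Agent.Lib.Helper98.S3B3
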