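import Cfsg.Agent.Lib.Helper98.S3B3b

set_option autoImplicit false
set_option linter.unusedSectionVars false
set_option linter.style.haveILetI false
set_option linter.unusedVariables false

/-!
# `b3core` for S4305 (K15-D5), part C: Case II tools (helper98)
-/

namespace Cfsg.Agent.Lib.Helper98.S3B3

open Cfsg.Agent.Lib.Helper15.S3
open scoped commutatorElement

variable {M : Type*} [Group M]

/-- if `σ` acts fixed-point-freely on the abelian group `R / C`, then `x ↦ [σ, x]` is onto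
`R / C` -/
theorem comm_onto [Finite M] (R C : Subgroup M)
    (hCn : ∀ x ∈ R, ∀ c ∈ C, x * c * x⁻¹ ∈ C)
    (hab : ∀ x ∈ R, ∀ y ∈ R, x * y * x⁻¹ * y⁻¹ ∈ C) (σ : M)
    (hσR : ∀ x ∈ R, σ * x * σ⁻¹ ∈ R)
    (hfpf : ∀ x ∈ R, σ * x * σ⁻¹ * x⁻¹ ∈ C → x ∈ C) :
    ∀ m ∈ R, ∃ x ∈ R, m⁻¹ * (σ * x * σ⁻¹ * x⁻¹) ∈ C := by
  classical
  set C' : Subgroup R := C.subgroupOf R with hC'
  haveI hnorm : C'.Normal := by
    constructor
    intro c hc x
    rw [hC', Subgroup.mem_subgroupOf] at hc ⊢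
    have := hCn x.1 x.2 c.1 hc
    simpa using this
  have hcomm : ∀ a b : R ⧸ C', a * b = b * a := by
    intro a b
    induction a using QuotientGroup.induction_on with
    | H x =>
      induction b using QuotientGroup.induction_on with
      | H y =>
        rw [← QuotientGroup.mk_mul, ← QuotientGroup.mk_mul, QuotientGroup.eq, hC',
          Subgroup.mem_subgroupOf]
        have := hab y.1⁻¹ (R.inv_mem y.2) x.1⁻¹ (R.inv_mem x.2)
        simpa [mul_assoc] using this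
  let conjσ : R → R := fun x => ⟨σ * x.1 * σ⁻¹, hσR x.1 x.2⟩
  have hconj_mul : ∀ x y : R, conjσ (x * y) = conjσ x * conjσ y := by
    intro x y
    apply Subtype.ext
    simp [conjσ, mul_assoc]
  let θ : R →* R ⧸ C' :=
    { toFun := fun x => (QuotientGroup.mk (conjσ x) : R ⧸ C') * (QuotientGroup.mk x : R ⧸ C')⁻¹
      map_one' := by
        have : conjσ 1 = 1 := by
          apply Subtype.ext
          simp [conjσ]
        simp [this]
      map_mul' := by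
        intro x y
        rw [hconj_mul, QuotientGroup.mk_mul, QuotientGroup.mk_mul, mul_inv_rev]
        have h1 := hcomm ((QuotientGroup.mk y : R ⧸ C')⁻¹) ((QuotientGroup.mk x : R ⧸ C')⁻¹)
        have h2 := hcomm ((QuotientGroup.mk (conjσ y) : R ⧸ C'))
          ((QuotientGroup.mk x : R ⧸ C')⁻¹)
        calc (QuotientGroup.mk (conjσ x) : R ⧸ C') * QuotientGroup.mk (conjσ y) *
              ((QuotientGroup.mk y : R ⧸ C')⁻¹ * (QuotientGroup.mk x : R ⧸ C')⁻¹)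
            = QuotientGroup.mk (conjσ x) * (QuotientGroup.mk (conjσ y) *
              ((QuotientGroup.mk x : R ⧸ C')⁻¹ * (QuotientGroup.mk y : R ⧸ C')⁻¹)) := by
                rw [h1, mul_assoc]
          _ = QuotientGroup.mk (conjσ x) * ((QuotientGroup.mk (conjσ y) *
              (QuotientGroup.mk x : R ⧸ C')⁻¹) * (QuotientGroup.mk y : R ⧸ C')⁻¹) := by
                rw [mul_assoc]
          _ = QuotientGroup.mk (conjσ x) * (((QuotientGroup.mk x : R ⧸ C')⁻¹ *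
              QuotientGroup.mk (conjσ y)) * (QuotientGroup.mk y : R ⧸ C')⁻¹) := by
                rw [h2]
          _ = _ := by simp only [mul_assoc] }
  have hθ : ∀ x : R, θ x = (QuotientGroup.mk (conjσ x) : R ⧸ C') *
      (QuotientGroup.mk x : R ⧸ C')⁻¹ := fun x => rfl
  have hker : θ.ker ≤ C' := by
    intro x hx
    rw [MonoidHom.mem_ker, hθ, mul_inv_eq_one, QuotientGroup.eq, hC',
      Subgroup.mem_subgroupOf] at hx
    rw [hC', Subgroup.mem_subgroupOf]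
    apply hfpf x.1 x.2
    have h1 : (σ * x.1 * σ⁻¹)⁻¹ * x.1 ∈ C := by simpa [conjσ] using hx
    have h2 := hCn x.1 x.2 _ (C.inv_mem h1)
    have e : x.1 * ((σ * x.1 * σ⁻¹)⁻¹ * x.1)⁻¹ * x.1⁻¹ = σ * x.1 * σ⁻¹ * x.1⁻¹ := by group
    rwa [e] at h2
  have hrange : θ.range = ⊤ := by
    apply Subgroup.eq_top_of_le_card
    rw [← Subgroup.index_ker, ← Subgroup.index_eq_card]
    have hdvd := Subgroup.index_dvd_of_le hker
    exact Nat.le_of_dvd (Nat.pos_of_ne_zero Subgroup.index_ne_zero_of_finite) hdvd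
  intro m hm
  have hmem : (QuotientGroup.mk (⟨m, hm⟩ : R) : R ⧸ C') ∈ θ.range := by
    rw [hrange]; exact Subgroup.mem_top _
  obtain ⟨x, hx⟩ := hmem
  refine ⟨x.1, x.2, ?_⟩
  rw [hθ, ← QuotientGroup.mk_inv, ← QuotientGroup.mk_mul] at hx
  have := (QuotientGroup.eq.1 hx.symm)
  rw [hC', Subgroup.mem_subgroupOf] at this
  simpa [conjσ, mul_assoc] using this


section caseII

variable {α : Equiv.Perm (Fin 3) →* M} {q r : ℕ} {Q R : Subgroup M}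
variable (H : Hyp α q r Q R)
include H

theorem caseII_all (hII : ∀ x ∈ R, α c3 * x * (α c3)⁻¹ * x⁻¹ ∈ CR Q R → x ∈ CR Q R)
    (g : Equiv.Perm (Fin 3)) (hg : g ^ 3 = 1) (h1 : g ≠ 1) {x : M} (hx : x ∈ R)
    (h : α g * x * (α g)⁻¹ * x⁻¹ ∈ CR Q R) : x ∈ CR Q R := by
  rcases s3_three g hg h1 with rfl | rfl
  · exact hII x hx h
  · apply hII x hx
    have := comm_inv_mem H c3⁻¹ h
    rw [map_inv] at this
    simpa using this

theorem alpha_cube {g : Equiv.Perm (Fin 3)} (hg : g ^ 3 = 1) : α g * α g * α g = 1 := by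
  rw [← map_mul, ← map_mul, ← pow_three', hg, map_one]

/-- the norm relation: `x · σ(x) · σ²(x) ∈ C` -/
theorem caseII_norm (hII : ∀ x ∈ R, α c3 * x * (α c3)⁻¹ * x⁻¹ ∈ CR Q R → x ∈ CR Q R)
    (g : Equiv.Perm (Fin 3)) (hg : g ^ 3 = 1) (h1 : g ≠ 1) {x : M} (hx : x ∈ R) :
    x * (α g * x * (α g)⁻¹) * (α g * (α g * x * (α g)⁻¹) * (α g)⁻¹) ∈ CR Q R := by
  set σ := α g with hσ
  have hσ3 : σ * σ * σ = 1 := alpha_cube H hg
  have ha : σ * x * σ⁻¹ ∈ R := H.hRα g x hx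
  have hb : σ * (σ * x * σ⁻¹) * σ⁻¹ ∈ R := H.hRα g _ ha
  have hn : x * (σ * x * σ⁻¹) * (σ * (σ * x * σ⁻¹) * σ⁻¹) ∈ R := R.mul_mem (R.mul_mem hx ha) hb
  apply caseII_all H hII g hg h1 hn
  have e : σ * (x * (σ * x * σ⁻¹) * (σ * (σ * x * σ⁻¹) * σ⁻¹)) * σ⁻¹ *
      (x * (σ * x * σ⁻¹) * (σ * (σ * x * σ⁻¹) * σ⁻¹))⁻¹ =
      ((σ * x * σ⁻¹) * (σ * (σ * x * σ⁻¹) * σ⁻¹)) * ((σ * σ * σ) * x * (σ * σ * σ)⁻¹) *
        ((σ * x * σ⁻¹) * (σ * (σ * x * σ⁻¹) * σ⁻¹))⁻¹ * x⁻¹ := by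
    simp [mul_assoc]
  rw [e, hσ3]
  have := comm_mem_CR H (R.mul_mem ha hb) hx
  simpa using this

/-- `σ` acts fixed-point-freely on `R / N'` -/
theorem caseII_fpf_mod [Finite M]
    (hII : ∀ x ∈ R, α c3 * x * (α c3)⁻¹ * x⁻¹ ∈ CR Q R → x ∈ CR Q R)
    (g : Equiv.Perm (Fin 3)) (hg : g ^ 3 = 1) (h1 : g ≠ 1) (N' : Subgroup M)
    (hCN : CR Q R ≤ N') (hNn : ∀ x ∈ R, ∀ n ∈ N', x * n * x⁻¹ ∈ N')
    (hσN : ∀ n ∈ N', α g * n * (α g)⁻¹ ∈ N') {x : M} (hx : x ∈ R)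
    (h : α g * x * (α g)⁻¹ * x⁻¹ ∈ N') : x ∈ N' := by
  set σ := α g with hσ
  set n₁ := σ * x * σ⁻¹ * x⁻¹ with hn₁
  have hn₂ : σ * n₁ * σ⁻¹ ∈ N' := hσN n₁ h
  have hnorm := hCN (caseII_norm H hII g hg h1 hx)
  have e2 : σ * x * σ⁻¹ = n₁ * x := by rw [hn₁]; group
  have e3 : σ * (n₁ * x) * σ⁻¹ = (σ * n₁ * σ⁻¹) * (σ * x * σ⁻¹) := by group
  rw [← hσ, e2, e3, e2] at hnorm
  have hxx : x * x ∈ R := R.mul_mem hx hx
  have h3 : x * n₁ * x⁻¹ ∈ N' := hNn x hx n₁ h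
  have h4 : (x * x) * (σ * n₁ * σ⁻¹ * n₁) * (x * x)⁻¹ ∈ N' :=
    hNn _ hxx _ (N'.mul_mem hn₂ h)
  have hx3 : x * x * x ∈ N' := by
    have e : x * x * x = ((x * x) * (σ * n₁ * σ⁻¹ * n₁) * (x * x)⁻¹)⁻¹ * (x * n₁ * x⁻¹)⁻¹ *
        (x * (n₁ * x) * (σ * n₁ * σ⁻¹ * (n₁ * x))) := by
      simp [mul_assoc]
    rw [e]
    exact N'.mul_mem (N'.mul_mem (N'.inv_mem h4) (N'.inv_mem h3)) hnorm
  refine mem_of_pow_mem H.hRr hx 3 (coprime_of_prime_ne H.hr Nat.prime_three H.hr3) ?_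
  rw [pow_three']; exact hx3

/-- `x ↦ [σ, x]` is onto `R / C` -/
theorem caseII_onto [Finite M]
    (hII : ∀ x ∈ R, α c3 * x * (α c3)⁻¹ * x⁻¹ ∈ CR Q R → x ∈ CR Q R)
    (g : Equiv.Perm (Fin 3)) (hg : g ^ 3 = 1) (h1 : g ≠ 1) {m : M} (hm : m ∈ R) :
    ∃ x ∈ R, m⁻¹ * (α g * x * (α g)⁻¹ * x⁻¹) ∈ CR Q R :=
  comm_onto R (CR Q R) (fun x hx c hc => CR_normal H hx hc)
    (fun x hx y hy => comm_mem_CR H hx hy) (α g) (fun x hx => H.hRα g x hx)
    (fun x hx h => caseII_all H hII g hg h1 hx h) m hm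

end caseII



section caseII1

variable {α : Equiv.Perm (Fin 3) →* M} {q r : ℕ} {Q R : Subgroup M}
variable (H : Hyp α q r Q R)
include H

/-- (II-1), core form: no subgroup `T'` of the relevant kind contains `s` -/
theorem caseII_core [Finite M]
    (hII : ∀ x ∈ R, α c3 * x * (α c3)⁻¹ * x⁻¹ ∈ CR Q R → x ∈ CR Q R)
    (T' : Subgroup M) (hCT : CR Q R ≤ T') (hN : T' ⊓ R ≠ R)
    (hall : (∀ g, α g ∈ T') → False)
    (hUP : ∀ y ∈ R, ∃ g : Equiv.Perm (Fin 3), g ≠ 1 ∧ y⁻¹ * α g * y ∈ T')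
    (hs : α c3 ∈ T') : False := by
  set N' := T' ⊓ R with hN'
  have hCN : CR Q R ≤ N' := le_inf hCT (CR_le H)
  have hNn : ∀ x ∈ R, ∀ n ∈ N', x * n * x⁻¹ ∈ N' := by
    intro x hx n hn
    have h1 : x * n * x⁻¹ * n⁻¹ ∈ N' := hCN (comm_mem_CR H hx hn.2)
    have e : x * n * x⁻¹ = (x * n * x⁻¹ * n⁻¹) * n := by group
    rw [e]
    exact N'.mul_mem h1 hn
  have h3T : ∀ g : Equiv.Perm (Fin 3), g ^ 3 = 1 → g ≠ 1 → α g ∈ T' := by
    intro g hg h1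
    rw [three_mem_iff H T' g hg h1]; exact hs
  have hσN : ∀ g : Equiv.Perm (Fin 3), g ^ 3 = 1 → g ≠ 1 → ∀ n ∈ N', α g * n * (α g)⁻¹ ∈ N' := by
    intro g hg h1 n hn
    exact ⟨T'.mul_mem (T'.mul_mem (h3T g hg h1) hn.1) (T'.inv_mem (h3T g hg h1)),
      H.hRα g n hn.2⟩
  apply hN
  apply le_antisymm inf_le_right
  intro y hy
  obtain ⟨g, hg1, hgT⟩ := hUP y hy
  rcases s3_order g hg1 with hg2 | hg3
  · -- an involution
    exfalso
    set u := α g with hu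
    set m := u⁻¹ * y⁻¹ * u * y with hm
    have hmR : m ∈ R := by
      have h1 : u⁻¹ * y⁻¹ * u ∈ R := ainv_inv H.hRα g (R.inv_mem hy)
      exact R.mul_mem h1 hy
    have hb : u * m ∈ T' := by
      have e : u * m = y⁻¹ * u * y := by rw [hm]; group
      rw [e]; exact hgT
    have hconj : u⁻¹ * α c3 * u = (α c3)⁻¹ := by
      have h1 := s3_conj g c3 hg2 hg1 c3_pow
      have h2 : g⁻¹ * c3 * g = c3⁻¹ := by
        have := s3_inv_self g hg2
        calc g⁻¹ * c3 * g = g * c3 * g⁻¹ := by rw [this]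
          _ = c3⁻¹ := h1
      rw [hu, ← map_inv, ← map_mul, ← map_mul, h2, map_inv]
    have h1 : (u * m)⁻¹ * α c3 * (u * m) ∈ T' :=
      T'.mul_mem (T'.mul_mem (T'.inv_mem hb) hs) hb
    have e1 : (u * m)⁻¹ * α c3 * (u * m) = m⁻¹ * (u⁻¹ * α c3 * u) * m := by group
    rw [e1, hconj] at h1
    have h2 : α c3 * m⁻¹ * (α c3)⁻¹ * m⁻¹⁻¹ ∈ N' := by
      refine ⟨?_, ?_⟩
      · have e : α c3 * m⁻¹ * (α c3)⁻¹ * m⁻¹⁻¹ = α c3 * (m⁻¹ * (α c3)⁻¹ * m) := by group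
        rw [e]
        exact T'.mul_mem hs h1
      · exact R.mul_mem (H.hRα c3 _ (R.inv_mem hmR)) (by simpa using hmR)
    have h3 : m⁻¹ ∈ N' :=
      caseII_fpf_mod H hII c3 c3_pow c3_ne_one N' hCN hNn (hσN c3 c3_pow c3_ne_one)
        (R.inv_mem hmR) h2
    have h4 : u ∈ T' := by
      have e : u = (u * m) * m⁻¹ := by group
      rw [e]
      exact T'.mul_mem hb h3.1
    exact hall (all_of_gen T' g hg2 hg1 hs h4)
  · -- an element of order three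
    have hg3' : (g⁻¹) ^ 3 = 1 := by rw [inv_pow, hg3, inv_one]
    have hg1' : g⁻¹ ≠ 1 := by
      intro h; apply hg1; rw [← inv_inv g, h, inv_one]
    have hσT := h3T g hg3 hg1
    have h2 : α g⁻¹ * y⁻¹ * (α g⁻¹)⁻¹ * y⁻¹⁻¹ ∈ N' := by
      rw [map_inv]
      refine ⟨?_, ?_⟩
      · have e : (α g)⁻¹ * y⁻¹ * (α g)⁻¹⁻¹ * y⁻¹⁻¹ = (α g)⁻¹ * (y⁻¹ * α g * y) := by group
        rw [e]
        exact T'.mul_mem (T'.inv_mem hσT) hgT
      · have h1 := H.hRα g⁻¹ _ (R.inv_mem hy)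
        rw [map_inv] at h1
        exact R.mul_mem h1 (by simpa using hy)
    have h3 : y⁻¹ ∈ N' :=
      caseII_fpf_mod H hII g⁻¹ hg3' hg1' N' hCN hNn (hσN g⁻¹ hg3' hg1') (R.inv_mem hy) h2
    have h4 : y ∈ N' := by
      have := N'.inv_mem h3
      simpa using this
    exact h4

end caseII1




section caseII2

variable {α : Equiv.Perm (Fin 3) →* M} {q r : ℕ} {Q R : Subgroup M}
variable (H : Hyp α q r Q R)
include H

/-- if a whole `R`-conjugate of `α.range` acts trivially on `Q / K` then `K = Q` -/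
theorem all_mem_false [Finite M] [Fact q.Prime] (K : Subgroup M) (hKQ : K ≤ Q) (hKne : K ≠ Q)
    {x₀ : M} (hx₀ : x₀ ∈ R) (hall : ∀ g, x₀⁻¹ * α g * x₀ ∈ TK Q K) : False := by
  set K' : Subgroup M := K.comap (MulAut.conj x₀⁻¹).toMonoidHom with hK'
  have hmemK' : ∀ k, k ∈ K' ↔ x₀⁻¹ * k * x₀ ∈ K := by
    intro k
    rw [hK', Subgroup.mem_comap]
    simp
  have hK'Q : K' ≤ Q := by
    intro k hk
    rw [hmemK'] at hk
    have := conj_mem_Q H hx₀ (hKQ hk)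
    have e : x₀ * (x₀⁻¹ * k * x₀) * x₀⁻¹ = k := by group
    rwa [e] at this
  have hQn : Q ≤ Subgroup.normalizer (K' : Set M) := by
    intro y hy
    rw [Subgroup.mem_normalizer_iff]
    intro k
    constructor
    · intro hk
      have e : y * k * y⁻¹ = k := by
        rw [H.hQc y hy k (hK'Q hk)]; group
      rw [e]; exact hk
    · intro hk
      have hkQ : k ∈ Q := by
        have := hK'Q hk
        have h2 := Q.mul_mem (Q.mul_mem (Q.inv_mem hy) this) hy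
        have e : y⁻¹ * (y * k * y⁻¹) * y = k := by group
        rwa [e] at h2
      have e : y * k * y⁻¹ = k := by
        rw [H.hQc y hy k hkQ]; group
      rwa [e] at hk
  have hK'inv : AInv α K' := by
    intro g k hk
    rw [hmemK'] at hk ⊢
    have := TK_conj_mem hKQ (hall g) hk
    have e : x₀⁻¹ * (α g * k * (α g)⁻¹) * x₀ =
        (x₀⁻¹ * α g * x₀) * (x₀⁻¹ * k * x₀) * (x₀⁻¹ * α g * x₀)⁻¹ := by group
    rw [e]; exact this
  have hQK' : ∀ y ∈ Q, y ∈ K' := by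
    intro y hy
    apply FS H.hQq H.hq2 H.hq3 H.hQα H.hQfpf K' hK'Q hQn hK'inv hy
    intro g
    rw [hmemK']
    have hy' : x₀⁻¹ * y * x₀ ∈ Q := conj_mem_Q' H hx₀ hy
    have := (hall g).2 _ hy'
    have e : x₀⁻¹ * (α g * y * (α g)⁻¹ * y⁻¹) * x₀ =
        (x₀⁻¹ * α g * x₀) * (x₀⁻¹ * y * x₀) * (x₀⁻¹ * α g * x₀)⁻¹ * (x₀⁻¹ * y * x₀)⁻¹ := by group
    rw [e]; exact this
  apply hKne
  apply le_antisymm hKQ
  intro y hy
  have h1 := hQK' _ (conj_mem_Q H hx₀ hy)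
  rw [hmemK'] at h1
  have e : x₀⁻¹ * (x₀ * y * x₀⁻¹) * x₀ = y := by group
  rwa [e] at h1

/-- (II-1): no `R`-conjugate of an element of order three acts trivially on `Q / K` -/
theorem caseII_no_three [Finite M] [Fact q.Prime] [Fact r.Prime]
    (hII : ∀ x ∈ R, α c3 * x * (α c3)⁻¹ * x⁻¹ ∈ CR Q R → x ∈ CR Q R)
    (K : Subgroup M) (hKQ : K ≤ Q) (hKne : K ≠ Q)
    (hUP : ∀ x ∈ R, ∃ g : Equiv.Perm (Fin 3), g ≠ 1 ∧ x⁻¹ * α g * x ∈ TK Q K)
    {x₀ : M} (hx₀ : x₀ ∈ R) (g : Equiv.Perm (Fin 3)) (hg : g ^ 3 = 1) (h1 : g ≠ 1)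
    (h : x₀⁻¹ * α g * x₀ ∈ TK Q K) : False := by
  set T' : Subgroup M := (TK Q K).comap (MulAut.conj x₀⁻¹).toMonoidHom with hT'
  have hmemT' : ∀ a, a ∈ T' ↔ x₀⁻¹ * a * x₀ ∈ TK Q K := by
    intro a
    rw [hT', Subgroup.mem_comap]
    simp
  apply caseII_core H hII T'
  · intro c hc
    rw [hmemT']
    exact CR_le_TK H K (CR_normal' H hx₀ hc)
  · intro hN
    apply NK_ne H K hKQ hKne
    apply le_antisymm inf_le_right
    intro x hx
    refine ⟨?_, hx⟩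
    have hx' : x₀ * x * x₀⁻¹ ∈ R := R.mul_mem (R.mul_mem hx₀ hx) (R.inv_mem hx₀)
    rw [← hN] at hx'
    have := (hmemT' _).1 hx'.1
    have e : x₀⁻¹ * (x₀ * x * x₀⁻¹) * x₀ = x := by group
    rwa [e] at this
  · intro hall
    exact all_mem_false H K hKQ hKne hx₀ (fun g' => (hmemT' _).1 (hall g'))
  · intro y hy
    obtain ⟨g', hg', hg'T⟩ := hUP (y * x₀) (R.mul_mem hy hx₀)
    refine ⟨g', hg', ?_⟩
    rw [hmemT']
    have e : x₀⁻¹ * (y⁻¹ * α g' * y) * x₀ = (y * x₀)⁻¹ * α g' * (y * x₀) := by group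
    rw [e]; exact hg'T
  · rw [← three_mem_iff H T' g hg h1, hmemT']
    exact h

end caseII2


end Cfsg.Agent.Lib.Helper98.S3B3
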