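import Cfsg.Agent.Lib.Helper98.S3B3c

set_option autoImplicit false
set_option linter.unusedSectionVars false
set_option linter.unusedVariables false
set_option linter.style.haveILetI false

namespace Cfsg.Agent.Lib.Helper98.S3B3

open Cfsg.Agent.Lib.Helper15.S3
open scoped commutatorElement

variable {M : Type*} [Group M]

/-- the elements of `Q` centralized by all `[v, y]`, `y ∈ R` -/
def WS (Q R : Subgroup M) (v : M) : Subgroup M :=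
  Q ⊓ Subgroup.centralizer {h | ∃ y ∈ R, h = v * y * v⁻¹ * y⁻¹}

theorem mem_WS {Q R : Subgroup M} {v w : M} : w ∈ WS Q R v ↔
    w ∈ Q ∧ ∀ y ∈ R, (v * y * v⁻¹ * y⁻¹) * w = w * (v * y * v⁻¹ * y⁻¹) := by
  unfold WS
  rw [Subgroup.mem_inf, Subgroup.mem_centralizer_iff]
  constructor
  · rintro ⟨h1, h2⟩
    exact ⟨h1, fun y hy => h2 _ ⟨y, hy, rfl⟩⟩
  · rintro ⟨h1, h2⟩
    refine ⟨h1, ?_⟩
    rintro _ ⟨y, hy, rfl⟩
    exact h2 y hy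

theorem s3_three_inv1 : ∀ t : Equiv.Perm (Fin 3), t ^ 2 = 1 → t ≠ 1 →
    (c3 * t * c3⁻¹) ^ 2 = 1 ∧ c3 * t * c3⁻¹ ≠ 1 := by
  decide

theorem s3_three_inv2 : ∀ t : Equiv.Perm (Fin 3), t ^ 2 = 1 → t ≠ 1 →
    (c3⁻¹ * t * c3) ^ 2 = 1 ∧ c3⁻¹ * t * c3 ≠ 1 := by
  decide

theorem s3_three_inv3 : ∀ t : Equiv.Perm (Fin 3), t ^ 2 = 1 → t ≠ 1 →
    t ≠ c3 * t * c3⁻¹ ∧ c3 * t * c3⁻¹ ≠ c3⁻¹ * t * c3 := by
  decide

section ws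

variable {α : Equiv.Perm (Fin 3) →* M} {q r : ℕ} {Q R : Subgroup M}
variable (H : Hyp α q r Q R)
include H

/-- two distinct involutions: `WS` meet trivially (Case II) -/
theorem WS_inf [Finite M]
    (hII : ∀ x ∈ R, α c3 * x * (α c3)⁻¹ * x⁻¹ ∈ CR Q R → x ∈ CR Q R)
    (ta tb : Equiv.Perm (Fin 3)) (hta : ta ^ 2 = 1) (htb : tb ^ 2 = 1) (ha1 : ta ≠ 1)
    (hb1 : tb ≠ 1) (hne : ta ≠ tb) {w : M} (hwa : w ∈ WS Q R (α ta)) (hwb : w ∈ WS Q R (α tb)) :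
    w = 1 := by
  obtain ⟨hρ3, hρ1⟩ := s3_inv_prod tb ta htb hta hb1 ha1 (Ne.symm hne)
  rw [mem_WS] at hwa hwb
  have hwQ : w ∈ Q := hwa.1
  have hmem : w ∈ Q ⊓ Subgroup.centralizer (R : Set M) := by
    rw [Subgroup.mem_inf]
    refine ⟨hwQ, ?_⟩
    rw [Subgroup.mem_centralizer_iff]
    intro m hm
    obtain ⟨x, hx, hc⟩ := caseII_onto H hII (tb * ta) hρ3 hρ1 hm
    rw [map_mul] at hc
    set ua := α ta with hua
    set ub := α tb with hub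
    set j := ua * x * ua⁻¹ * x⁻¹ with hj
    have hjR : j ∈ R := R.mul_mem (H.hRα ta x hx) (R.inv_mem hx)
    have e : ub * ua * x * (ub * ua)⁻¹ * x⁻¹ = (ub * j * ub⁻¹ * j⁻¹) * j * (ub * x * ub⁻¹ * x⁻¹) := by
      rw [hj]; group
    have h1 : Commute (ub * j * ub⁻¹ * j⁻¹) w := hwb.2 j hjR
    have h2 : Commute j w := hwa.2 x hx
    have h3 : Commute (ub * x * ub⁻¹ * x⁻¹) w := hwb.2 x hx
    have h4 : Commute (ub * ua * x * (ub * ua)⁻¹ * x⁻¹) w := by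
      rw [e]
      exact (h1.mul_left h2).mul_left h3
    set c' := m⁻¹ * (ub * ua * x * (ub * ua)⁻¹ * x⁻¹) with hc'
    have h5 : Commute c' w := by
      have := CR_comm H hc hwQ
      show c' * w = w * c'
      calc c' * w = (c' * w * c'⁻¹) * c' := by group
        _ = w * c' := by rw [this]
    have h6 : m = (ub * ua * x * (ub * ua)⁻¹ * x⁻¹) * c'⁻¹ := by
      rw [hc']; group
    have h7 : Commute m w := by
      rw [h6]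
      exact h4.mul_left h5.inv_left
    exact h7.eq
  rw [H.hCQR, Subgroup.mem_bot] at hmem
  exact hmem

/-- conjugation by an element of `α.range` -/
theorem WS_conj (g : Equiv.Perm (Fin 3)) {v w : M} (hw : w ∈ WS Q R v) :
    α g * w * (α g)⁻¹ ∈ WS Q R (α g * v * (α g)⁻¹) := by
  rw [mem_WS] at hw ⊢
  refine ⟨H.hQα g w hw.1, fun y hy => ?_⟩
  have hy' : (α g)⁻¹ * y * α g ∈ R := ainv_inv H.hRα g hy
  have h1 := hw.2 _ hy'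
  have e : α g * v * (α g)⁻¹ * y * (α g * v * (α g)⁻¹)⁻¹ * y⁻¹ =
      α g * (v * ((α g)⁻¹ * y * α g) * v⁻¹ * ((α g)⁻¹ * y * α g)⁻¹) * (α g)⁻¹ := by group
  rw [e]
  calc α g * (v * ((α g)⁻¹ * y * α g) * v⁻¹ * ((α g)⁻¹ * y * α g)⁻¹) * (α g)⁻¹ *
        (α g * w * (α g)⁻¹)
      = α g * ((v * ((α g)⁻¹ * y * α g) * v⁻¹ * ((α g)⁻¹ * y * α g)⁻¹) * w) * (α g)⁻¹ := by
        group
    _ = α g * (w * (v * ((α g)⁻¹ * y * α g) * v⁻¹ * ((α g)⁻¹ * y * α g)⁻¹)) * (α g)⁻¹ := by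
        rw [h1]
    _ = _ := by group

/-- invariance under `R` -/
theorem WS_Rinv {v w x : M} (hv : ∀ y ∈ R, v * y * v⁻¹ ∈ R) (hw : w ∈ WS Q R v) (hx : x ∈ R) :
    x * w * x⁻¹ ∈ WS Q R v := by
  rw [mem_WS] at hw ⊢
  refine ⟨conj_mem_Q H hx hw.1, fun y hy => ?_⟩
  set j := v * y * v⁻¹ * y⁻¹ with hj
  have hjR : j ∈ R := R.mul_mem (hv y hy) (R.inv_mem hy)
  -- `x⁻¹ j x = j c'`
  have hc : j⁻¹ * x⁻¹ * j⁻¹⁻¹ * x⁻¹⁻¹ ∈ CR Q R :=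
    comm_mem_CR H (R.inv_mem hjR) (R.inv_mem hx)
  have h1 := hw.2 y hy
  rw [← hj] at h1
  have h2 := CR_comm H hc hw.1
  have e : x⁻¹ * j * x = j * (j⁻¹ * x⁻¹ * j⁻¹⁻¹ * x⁻¹⁻¹) := by group
  have h3 : (x⁻¹ * j * x) * w * (x⁻¹ * j * x)⁻¹ = w := by
    rw [e]
    calc j * (j⁻¹ * x⁻¹ * j⁻¹⁻¹ * x⁻¹⁻¹) * w * (j * (j⁻¹ * x⁻¹ * j⁻¹⁻¹ * x⁻¹⁻¹))⁻¹
        = j * ((j⁻¹ * x⁻¹ * j⁻¹⁻¹ * x⁻¹⁻¹) * w * (j⁻¹ * x⁻¹ * j⁻¹⁻¹ * x⁻¹⁻¹)⁻¹) * j⁻¹ := by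
          group
      _ = j * w * j⁻¹ := by rw [h2]
      _ = w := by rw [h1]; group
  calc j * (x * w * x⁻¹) = x * ((x⁻¹ * j * x) * w * (x⁻¹ * j * x)⁻¹) * x⁻¹ * j := by group
    _ = x * w * x⁻¹ * j := by rw [h3]

end ws

end Cfsg.Agent.Lib.Helper98.S3B3
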