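import Cfsg.Agent.Lib.Helper98.S3B3d

set_option autoImplicit false
set_option linter.unusedSectionVars false
set_option linter.unusedVariables false
set_option linter.style.haveILetI false

namespace Cfsg.Agent.Lib.Helper98.S3B3

open Cfsg.Agent.Lib.Helper15.S3
open scoped commutatorElement

variable {M : Type*} [Group M]

section final

variable {α : Equiv.Perm (Fin 3) →* M} {q r : ℕ} {Q R : Subgroup M}
variable (H : Hyp α q r Q R)
include H

/-- (F1): an element of `Q` centralized by `NK` and by an involution `u` with `[u, R] ≤ NK` is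
trivial (Case II) -/
theorem caseII_F1 [Finite M]
    (hII : ∀ x ∈ R, α c3 * x * (α c3)⁻¹ * x⁻¹ ∈ CR Q R → x ∈ CR Q R)
    (K : Subgroup M) (t : Equiv.Perm (Fin 3)) (ht : t ^ 2 = 1) (ht1 : t ≠ 1)
    (hcomm : ∀ y ∈ R, α t * y * (α t)⁻¹ * y⁻¹ ∈ NK Q R K)
    {c : M} (hcQ : c ∈ Q) (hcN : ∀ n ∈ NK Q R K, n * c = c * n) (hcu : α t * c = c * α t) :
    c = 1 := by
  obtain ⟨ht1sq, ht1ne⟩ := s3_three_inv1 t ht ht1
  obtain ⟨ht2sq, ht2ne⟩ := s3_three_inv2 t ht ht1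
  obtain ⟨hne01, hne12⟩ := s3_three_inv3 t ht ht1
  set s := α c3 with hs
  set u := α t with hu
  have hs3 : s * s * s = 1 := alpha_cube H c3_pow
  have hus : u * s * u⁻¹ = s⁻¹ := by
    rw [hu, hs, ← map_inv, ← map_mul, ← map_mul, s3_conj t c3 ht ht1 c3_pow, map_inv]
  have huc : u * c * u⁻¹ = c := by rw [hcu]; group
  set c₁ := s * c * s⁻¹ with hc₁
  set c₂ := s⁻¹ * c * s with hc₂
  have hc1Q : c₁ ∈ Q := H.hQα c3 c hcQ
  have hc2Q : c₂ ∈ Q := ainv_inv H.hQα c3 hcQ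
  have heQ : c * c₁ * c₂ ∈ Q := Q.mul_mem (Q.mul_mem hcQ hc1Q) hc2Q
  have he : c * c₁ * c₂ = 1 := by
    apply H.hQfpf _ heQ
    intro g
    have hg := all_of_gen (α := α)
      (Subgroup.centralizer ({c * c₁ * c₂} : Set M)) t ht ht1 ?_ ?_ g
    · rw [Subgroup.mem_centralizer_iff] at hg
      exact (hg _ rfl).symm
    · rw [Subgroup.mem_centralizer_iff]
      intro h hh
      rw [Set.mem_singleton_iff] at hh
      rw [hh]
      symm
      have e1 : s * c₁ * s⁻¹ = c₂ := by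
        have : s⁻¹ = s * s := by
          calc s⁻¹ = s⁻¹ * (s * s * s) := by rw [hs3, mul_one]
            _ = s * s := by group
        rw [hc₁, hc₂]
        calc s * (s * c * s⁻¹) * s⁻¹ = (s * s) * c * (s * s)⁻¹ := by group
          _ = s⁻¹ * c * s⁻¹⁻¹ := by rw [← this]
          _ = s⁻¹ * c * s := by rw [inv_inv]
      have e2 : s * c₂ * s⁻¹ = c := by rw [hc₂]; group
      calc s * (c * c₁ * c₂) = (s * c * s⁻¹) * (s * c₁ * s⁻¹) * (s * c₂ * s⁻¹) * s := by group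
        _ = c₁ * c₂ * c * s := by rw [e1, e2]
        _ = c * c₁ * c₂ * s := by
          rw [H.hQc _ (Q.mul_mem hc1Q hc2Q) _ hcQ, mul_assoc c c₁ c₂]
    · rw [Subgroup.mem_centralizer_iff]
      intro h hh
      rw [Set.mem_singleton_iff] at hh
      rw [hh]
      symm
      have e1 : u * c₁ * u⁻¹ = c₂ := by
        rw [hc₁, hc₂]
        calc u * (s * c * s⁻¹) * u⁻¹ = (u * s * u⁻¹) * (u * c * u⁻¹) * (u * s * u⁻¹)⁻¹ := by group
          _ = s⁻¹ * c * s := by rw [hus, huc, inv_inv]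
      have e2 : u * c₂ * u⁻¹ = c₁ := by
        rw [hc₁, hc₂]
        calc u * (s⁻¹ * c * s) * u⁻¹ = (u * s * u⁻¹)⁻¹ * (u * c * u⁻¹) * (u * s * u⁻¹) := by group
          _ = s * c * s⁻¹ := by rw [hus, huc, inv_inv]
      calc u * (c * c₁ * c₂) = (u * c * u⁻¹) * (u * c₁ * u⁻¹) * (u * c₂ * u⁻¹) * u := by group
        _ = c * c₂ * c₁ * u := by rw [e1, e2, huc]
        _ = c * c₁ * c₂ * u := by
          rw [mul_assoc c c₂ c₁, H.hQc _ hc2Q _ hc1Q, ← mul_assoc c c₁ c₂]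
  -- membership in the `WS`
  have hcW : c ∈ WS Q R u := by
    rw [mem_WS]
    exact ⟨hcQ, fun y hy => hcN _ (hcomm y hy)⟩
  have hc1W : c₁ ∈ WS Q R (α (c3 * t * c3⁻¹)) := by
    have := WS_conj H c3 hcW
    rw [map_mul, map_mul, map_inv]
    exact this
  have hc2W : c₂ ∈ WS Q R (α (c3⁻¹ * t * c3)) := by
    have := WS_conj H c3⁻¹ hcW
    rw [map_inv, inv_inv] at this
    rw [map_mul, map_mul, map_inv]
    exact this
  -- `c₁` is centralized by all `[u, y]`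
  have hkey : ∀ y ∈ R, (u * y * u⁻¹ * y⁻¹) * c₁ = c₁ * (u * y * u⁻¹ * y⁻¹) := by
    intro y hy
    set h := u * y * u⁻¹ * y⁻¹ with hh
    have hhN : h ∈ NK Q R K := hcomm y hy
    have hhR : h ∈ R := (Subgroup.mem_inf.1 hhN).2
    have hhc : h * c * h⁻¹ = c := by rw [hcN h hhN]; group
    set a₁ := h * c₁ * h⁻¹ with ha₁
    set a₂ := h * c₂ * h⁻¹ with ha₂
    have hhe : c * a₁ * a₂ = 1 := by
      calc c * a₁ * a₂ = (h * c * h⁻¹) * a₁ * a₂ := by rw [hhc]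
        _ = h * (c * c₁ * c₂) * h⁻¹ := by rw [ha₁, ha₂]; group
        _ = 1 := by rw [he]; group
    have h12 : c₁ * c₂ = a₁ * a₂ := by
      calc c₁ * c₂ = c⁻¹ * (c * c₁ * c₂) := by group
        _ = c⁻¹ * (c * a₁ * a₂) := by rw [he, hhe]
        _ = a₁ * a₂ := by group
    have hd : c₁⁻¹ * a₁ = c₂ * a₂⁻¹ := by
      calc c₁⁻¹ * a₁ = c₁⁻¹ * (a₁ * a₂) * a₂⁻¹ := by group
        _ = c₁⁻¹ * (c₁ * c₂) * a₂⁻¹ := by rw [h12]
        _ = c₂ * a₂⁻¹ := by group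
    have ha1W : a₁ ∈ WS Q R (α (c3 * t * c3⁻¹)) :=
      WS_Rinv H (fun z hz => H.hRα _ z hz) hc1W hhR
    have ha2W : a₂ ∈ WS Q R (α (c3⁻¹ * t * c3)) :=
      WS_Rinv H (fun z hz => H.hRα _ z hz) hc2W hhR
    have hd1 : c₁⁻¹ * a₁ ∈ WS Q R (α (c3 * t * c3⁻¹)) :=
      Subgroup.mul_mem _ (Subgroup.inv_mem _ hc1W) ha1W
    have hd2 : c₁⁻¹ * a₁ ∈ WS Q R (α (c3⁻¹ * t * c3)) := by
      rw [hd]
      exact Subgroup.mul_mem _ hc2W (Subgroup.inv_mem _ ha2W)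
    have hd0 := WS_inf H hII _ _ ht1sq ht2sq ht1ne ht2ne hne12 hd1 hd2
    have : a₁ = c₁ := by
      calc a₁ = c₁ * (c₁⁻¹ * a₁) := by group
        _ = c₁ := by rw [hd0, mul_one]
    calc h * c₁ = (h * c₁ * h⁻¹) * h := by group
      _ = c₁ * h := by rw [← ha₁, this]
  have hc1W0 : c₁ ∈ WS Q R u := by
    rw [mem_WS]
    exact ⟨hc1Q, hkey⟩
  have hc1 : c₁ = 1 := WS_inf H hII _ _ ht ht1sq ht1 ht1ne hne01 hc1W0 hc1W
  calc c = s⁻¹ * c₁ * s := by rw [hc₁]; group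
    _ = 1 := by rw [hc1]; group

end final

end Cfsg.Agent.Lib.Helper98.S3B3
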