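import Mathlib

set_option autoImplicit false

/-! K-SQ (S4625) shared field lemma for the Suzuki-type root groups (Sz, 2F4):
in a field of order `2^(2m+1)`, `m ≥ 1`, every element is a SINGLE value `x θ(y) + y θ(x)`,
for `θ = (·)^(2^(m+1))` (Sz convention) and for `θ = (·)^(2^m)` (2F4 convention).  Mathlib only. -/

namespace Cfsg.Agent.Lib.Helper98.SQ

/-- generic core: `θ = (·)^(2^k)` with `1 < 2^k < |F|`-many roots, and an exponent `r` inverting `x ↦ x^(1+2^k)`. -/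
theorem exists_pair_core (F : Type*) [Field F] [Fintype F] (k r : ℕ) (hk : 1 ≤ k)
    (hlt : 2 ^ k < Fintype.card F) (h2 : (2 : F) = 0)
    (hr : ∀ c : F, c ≠ 0 → (c ^ r) ^ (1 + 2 ^ k) = c) (a : F) :
    ∃ x y : F, a = x * y ^ (2 ^ k) + y * x ^ (2 ^ k) := by
  classical
  have : CharP F 2 := CharTwo.of_one_ne_zero_of_two_eq_zero one_ne_zero h2
  -- an element not fixed by θ
  obtain ⟨z, hz⟩ : ∃ z : F, z ^ (2 ^ k) ≠ z := by
    by_contra hcon
    have hcon : ∀ z : F, z ^ (2 ^ k) = z := by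
      intro z
      by_contra h
      exact hcon ⟨z, h⟩
    have h1 : 1 < 2 ^ k := by
      calc 1 < 2 ^ 1 := by norm_num
        _ ≤ 2 ^ k := Nat.pow_le_pow_right (by norm_num) hk
    have hne : (Polynomial.X ^ (2 ^ k) - Polynomial.X : Polynomial F) ≠ 0 :=
      FiniteField.X_pow_card_sub_X_ne_zero F h1
    have hdeg : (Polynomial.X ^ (2 ^ k) - Polynomial.X : Polynomial F).natDegree = 2 ^ k :=
      FiniteField.X_pow_card_sub_X_natDegree_eq F h1
    have hsub : (Finset.univ : Finset F).val ⊆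
        (Polynomial.X ^ (2 ^ k) - Polynomial.X : Polynomial F).roots := by
      intro z _
      rw [Polynomial.mem_roots hne]
      simp [hcon z]
    have := Polynomial.card_le_degree_of_subset_roots hsub
    rw [hdeg, Finset.card_univ] at this
    omega
  have hh0 : z + z ^ (2 ^ k) ≠ 0 := by
    intro h
    rw [CharTwo.add_eq_zero] at h
    exact hz h.symm
  by_cases ha : a = 0
  · refine ⟨0, 0, ?_⟩
    rw [ha]
    simp
  · set c := a / (z + z ^ (2 ^ k)) with hc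
    have hc0 : c ≠ 0 := div_ne_zero ha hh0
    have hx : c ^ r * (c ^ r) ^ (2 ^ k) = c := by
      have := hr c hc0
      rwa [pow_add, pow_one] at this
    refine ⟨c ^ r, c ^ r * z, ?_⟩
    have e : c ^ r * (c ^ r * z) ^ (2 ^ k) + c ^ r * z * (c ^ r) ^ (2 ^ k)
        = (c ^ r * (c ^ r) ^ (2 ^ k)) * (z + z ^ (2 ^ k)) := by
      rw [mul_pow]; ring
    rw [e, hx, hc, div_mul_cancel₀ _ hh0]

/-- Sz convention: `|F| = 2^(2m+1)`, `θ = (·)^(2^(m+1))`. -/
theorem exists_pair_sz (F : Type*) [Field F] [Fintype F] (m : ℕ) (hm : 1 ≤ m)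
    (hF : Fintype.card F = 2 ^ (2 * m + 1)) (a : F) :
    ∃ x y : F, a = x * y ^ (2 ^ (m + 1)) + y * x ^ (2 ^ (m + 1)) := by
  have h2 : (2 : F) = 0 := by
    have h := Nat.cast_card_eq_zero F
    rw [hF] at h
    push_cast at h
    exact pow_eq_zero_iff (by omega) |>.mp h
  apply exists_pair_core F (m + 1) (2 ^ (m + 1) - 1) (by omega) _ h2
  · intro c hc0
    have hq : c ^ (2 ^ (2 * m + 1) - 1) = 1 := by
      rw [← hF]; exact FiniteField.pow_card_sub_one_eq_one c hc0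
    have h1 : 1 ≤ 2 ^ (m + 1) := Nat.one_le_two_pow
    have h3 : 1 ≤ 2 ^ (2 * m + 1) := Nat.one_le_two_pow
    have hexp : (2 ^ (m + 1) - 1) * (1 + 2 ^ (m + 1)) = 2 * (2 ^ (2 * m + 1) - 1) + 1 := by
      have e1 : (2 : ℕ) ^ (2 * m + 1) * 2 = 2 ^ (m + 1) * 2 ^ (m + 1) := by
        rw [← pow_succ, ← pow_add]; congr 1; omega
      zify [h1, h3]
      zify at e1
      linear_combination (-1 : ℤ) * e1
    rw [← pow_mul, hexp, pow_succ, pow_mul', hq, one_pow, one_mul]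
  · rw [hF]
    exact Nat.pow_lt_pow_right (by norm_num) (by omega)

/-- 2F4 convention: `|K| = 2^(2m+1)`, `θ = (·)^(2^m)`. -/
theorem exists_pair_f4 (F : Type*) [Field F] [Fintype F] (m : ℕ) (hm : 1 ≤ m)
    (hF : Fintype.card F = 2 ^ (2 * m + 1)) (a : F) :
    ∃ x y : F, a = x * y ^ (2 ^ m) + y * x ^ (2 ^ m) := by
  have h2 : (2 : F) = 0 := by
    have h := Nat.cast_card_eq_zero F
    rw [hF] at h
    push_cast at h
    exact pow_eq_zero_iff (by omega) |>.mp h
  -- r = q - 1 - 2 (2^m - 1): then r (1 + 2^m) ≡ 1 mod (q - 1)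
  apply exists_pair_core F m (2 ^ (2 * m + 1) - 1 - 2 * (2 ^ m - 1)) hm _ h2
  · intro c hc0
    have hq : c ^ (2 ^ (2 * m + 1) - 1) = 1 := by
      rw [← hF]; exact FiniteField.pow_card_sub_one_eq_one c hc0
    have h1 : 1 ≤ 2 ^ m := Nat.one_le_two_pow
    have h3 : 1 ≤ 2 ^ (2 * m + 1) := Nat.one_le_two_pow
    have e1 : (2 : ℕ) ^ (2 * m + 1) = 2 * (2 ^ m * 2 ^ m) := by
      rw [← pow_add, ← pow_succ']; congr 1; omega
    have h4 : 2 * (2 ^ m - 1) ≤ 2 ^ (2 * m + 1) - 1 := by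
      have : 2 ^ m ≤ 2 ^ m * 2 ^ m := Nat.le_mul_of_pos_right _ (by positivity)
      omega
    have hexp : (2 ^ (2 * m + 1) - 1 - 2 * (2 ^ m - 1)) * (1 + 2 ^ m)
        = 2 ^ m * (2 ^ (2 * m + 1) - 1) + 1 := by
      zify [h1, h3, h4]
      zify at e1
      rw [e1]
      ring
    rw [← pow_mul, hexp, pow_succ, pow_mul', hq, one_pow, one_mul]
  · rw [hF]
    exact Nat.pow_lt_pow_right (by norm_num) (by omega)

end Cfsg.Agent.Lib.Helper98.SQ

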