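import Cfsg.Agent.Lib.Helper53.StOmDefs
import Cfsg.Agent.Lib.Helper50.MinusTwoB

/-!
# K-StOm pack (S2549), leaf E2: in characteristic two `T ⊓ Ω` has odd order
-/

set_option autoImplicit false
set_option linter.unusedSectionVars false
set_option linter.unusedVariables false

namespace Cfsg.Agent.Lib.Helper98.StOm

open Cfsg Cfsg.Agent.Lib.Helper53.StOm Matrix

variable {m : ℕ} {F : Type*} [Field F] {a b : F}

/-- an isometry whose matrix is a reflection matrix is not in `Ω` -/
theorem refl_not_mem_Omega [Fintype F]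
    (hab : ∀ z₁ z₂ : F, z₁ ^ 2 + a * z₁ * z₂ + b * z₂ ^ 2 = 0 → z₁ = 0 ∧ z₂ = 0)
    (t : OG m F a b) (v : MI m → F) (hv : Cfsg.quadFormMinus m F a b v ≠ 0)
    (ht : mat t = Cfsg.reflectionMatrix (Cfsg.quadFormMinus m F a b) v) :
    t ∉ Cfsg.Omega F (Cfsg.quadFormMinus m F a b) := by
  intro h
  obtain ⟨K, hKf, hKa, hK⟩ := Cfsg.Agent.Lib.Helper50.exists_quadratic_extension a b hab
  obtain ⟨θ, hθ⟩ := Cfsg.Agent.Lib.Helper50.exists_root_quadratic a b hK
  have hd := Cfsg.Agent.Lib.Helper50.disc_ne_zero_of_anis a b hab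
  have h1 : Cfsg.Agent.Lib.Helper50.inclM m a b t ∈
      Cfsg.Agent.Lib.Helper50.pscSub (algebraMap F K) m a b hd θ hθ :=
    Cfsg.Agent.Lib.Helper50.Omega_le_pscSub (algebraMap F K) m a b hd θ hθ ⟨_, h, rfl⟩
  exact Cfsg.Agent.Lib.Helper50.pscK_reflection_not (algebraMap F K) m a b hd θ hθ
    (Cfsg.Agent.Lib.Helper50.inclM m a b t) v hv ht h1

/-- the vector `c₀ z₀ + c₁ z₁` -/
def zvec (m : ℕ) (c0 c1 : F) : MI m → F :=
  fun x => Sum.elim (fun _ => 0) (fun j => if j = 0 then c0 else c1) x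

@[simp] theorem zvec_inl (c0 c1 : F) (y : Fin m ⊕ Fin m) : zvec m c0 c1 (Sum.inl y) = 0 := rfl
@[simp] theorem zvec_z0 (c0 c1 : F) : zvec m c0 c1 (Sum.inr 0) = c0 := rfl
@[simp] theorem zvec_z1 (c0 c1 : F) : zvec m c0 c1 (Sum.inr 1) = c1 := rfl

theorem quad_zvec (c0 c1 : F) :
    Cfsg.quadFormMinus m F a b (zvec m c0 c1) = c0 ^ 2 + a * c0 * c1 + b * c1 ^ 2 := by
  unfold Cfsg.quadFormMinus
  simp

theorem polarVec_zvec_inl (c0 c1 : F) (y : Fin m ⊕ Fin m) :
    Cfsg.polarVec (Cfsg.quadFormMinus m F a b) (zvec m c0 c1) (Sum.inl y) = 0 := by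
  unfold Cfsg.polarVec QuadraticMap.polar Cfsg.quadFormMinus
  rcases y with i | i
  · simp [Pi.single_apply]
  · simp [Pi.single_apply]

theorem polarVec_zvec_z0 [CharP F 2] (c0 c1 : F) :
    Cfsg.polarVec (Cfsg.quadFormMinus m F a b) (zvec m c0 c1) (Sum.inr 0) = a * c1 := by
  have h2 : (2 : F) = 0 := CharTwo.two_eq_zero
  unfold Cfsg.polarVec QuadraticMap.polar Cfsg.quadFormMinus
  simp
  linear_combination c0 * h2

theorem polarVec_zvec_z1 [CharP F 2] (c0 c1 : F) :
    Cfsg.polarVec (Cfsg.quadFormMinus m F a b) (zvec m c0 c1) (Sum.inr 1) = a * c0 := by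
  have h2 : (2 : F) = 0 := CharTwo.two_eq_zero
  unfold Cfsg.polarVec QuadraticMap.polar Cfsg.quadFormMinus
  simp
  linear_combination b * c1 * h2

theorem refl_apply (Q : (MI m → F) → F) (v : MI m → F) (x y : MI m) :
    Cfsg.reflectionMatrix Q v x y =
      (1 : Matrix (MI m) (MI m) F) x y - (Q v)⁻¹ * (v x * Cfsg.polarVec Q v y) := by
  unfold Cfsg.reflectionMatrix
  rw [Matrix.sub_apply, Matrix.smul_apply, Matrix.vecMulVec_apply, smul_eq_mul]

theorem pos_inl_ne (y : Fin m ⊕ Fin m) : pos m (Sum.inl y : MI m) ≠ m := by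
  rcases y with i | i
  · have := i.2; simp only [pos]; omega
  · have := i.2; simp only [pos]; omega

theorem fin2_cases (j : Fin 2) : j = 0 ∨ j = 1 := by
  fin_cases j <;> simp

set_option maxHeartbeats 1600000 in
/-- an involution of `T` lying in `Ω` is trivial (characteristic two) -/
theorem invol_eq_one [Fintype F] [CharP F 2]
    (hab : ∀ z₁ z₂ : F, z₁ ^ 2 + a * z₁ * z₂ + b * z₂ ^ 2 = 0 → z₁ = 0 ∧ z₂ = 0)
    (t : OG m F a b) (hT : t ∈ Tsub m F a b)
    (hΩ : t ∈ Cfsg.Omega F (Cfsg.quadFormMinus m F a b)) (htt : t * t = 1) : t = 1 := by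
  have h2 : (2 : F) = 0 := CharTwo.two_eq_zero
  have hM : mat t * mat t = 1 := by rw [← mat_mul, htt, mat_one]
  rw [mem_Tsub_iff] at hT
  -- rows and columns at the `e_i`, `f_i`
  have hrow : ∀ (y : Fin m ⊕ Fin m) (x : MI m), x ≠ Sum.inl y → mat t (Sum.inl y) x = 0 := by
    intro y x hx
    apply hT
    intro h
    rcases pos_eq_imp m _ _ h with h' | ⟨h', _⟩
    · exact hx h'.symm
    · exact pos_inl_ne y h'
  have hcol : ∀ (y : Fin m ⊕ Fin m) (x : MI m), x ≠ Sum.inl y → mat t x (Sum.inl y) = 0 := by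
    intro y x hx
    apply hT
    intro h
    rcases pos_eq_imp m _ _ h with h' | ⟨_, h'⟩
    · exact hx h'
    · exact pos_inl_ne y h'
  have hdiag : ∀ y : Fin m ⊕ Fin m, mat t (Sum.inl y) (Sum.inl y) = 1 := by
    intro y
    have h1 : (mat t * mat t) (Sum.inl y) (Sum.inl y) =
        mat t (Sum.inl y) (Sum.inl y) * mat t (Sum.inl y) (Sum.inl y) := by
      rw [Matrix.mul_apply]
      apply Finset.sum_eq_single
      · intro x _ hx
        rw [hrow y x hx, zero_mul]
      · intro h; exact absurd (Finset.mem_univ _) h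
    rw [hM, Matrix.one_apply_eq] at h1
    have h3 : (mat t (Sum.inl y) (Sum.inl y) + 1) * (mat t (Sum.inl y) (Sum.inl y) + 1) = 0 := by
      linear_combination (-1 : F) * h1 + (mat t (Sum.inl y) (Sum.inl y) + 1) * h2
    have h4 := mul_self_eq_zero.mp h3
    have h5 : mat t (Sum.inl y) (Sum.inl y) = -1 := eq_neg_of_add_eq_zero_left h4
    rw [h5, CharTwo.neg_eq]
  -- the `z`-block
  have hblock : ∀ i j : Fin 2, (mat t * mat t) (Sum.inr i) (Sum.inr j) =
      mat t (Sum.inr i) (Sum.inr 0) * mat t (Sum.inr 0) (Sum.inr j) +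
        mat t (Sum.inr i) (Sum.inr 1) * mat t (Sum.inr 1) (Sum.inr j) := by
    intro i j
    rw [Matrix.mul_apply, Fintype.sum_sum_type, Fin.sum_univ_two, Finset.sum_eq_zero, zero_add]
    intro y _
    rw [hcol y (Sum.inr i) (by simp), zero_mul]
  have hI : ∀ j : Fin 2, Cfsg.quadFormMinus m F a b (fun x => mat t x (Sum.inr j)) =
      Cfsg.quadFormMinus m F a b (Pi.single (Sum.inr j) 1) := by
    intro j
    have h := quad_mulVec t (Pi.single (Sum.inr j) 1)
    rw [Matrix.mulVec_single_one] at h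
    exact h
  obtain ⟨p, hp⟩ : ∃ p, p = mat t (Sum.inr 0) (Sum.inr 0) := ⟨_, rfl⟩
  obtain ⟨q, hq⟩ : ∃ q, q = mat t (Sum.inr 0) (Sum.inr 1) := ⟨_, rfl⟩
  obtain ⟨r, hr⟩ : ∃ r, r = mat t (Sum.inr 1) (Sum.inr 0) := ⟨_, rfl⟩
  obtain ⟨s, hs⟩ : ∃ s, s = mat t (Sum.inr 1) (Sum.inr 1) := ⟨_, rfl⟩
  have e00 : p * p + q * r = 1 := by
    have h := hblock 0 0
    rw [hM, Matrix.one_apply_eq, ← hp, ← hq, ← hr] at h
    exact h.symm
  have e01 : p * q + q * s = 0 := by
    have h := hblock 0 1
    rw [hM, Matrix.one_apply_ne (by simp), ← hp, ← hq, ← hs] at h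
    exact h.symm
  have e10 : r * p + s * r = 0 := by
    have h := hblock 1 0
    rw [hM, Matrix.one_apply_ne (by simp), ← hp, ← hr, ← hs] at h
    exact h.symm
  have e11 : r * q + s * s = 1 := by
    have h := hblock 1 1
    rw [hM, Matrix.one_apply_eq, ← hq, ← hr, ← hs] at h
    exact h.symm
  have hz : ∀ (y : Fin m ⊕ Fin m) (j : Fin 2), mat t (Sum.inl y) (Sum.inr j) = 0 :=
    fun y j => hrow y _ (by simp)
  have hz' : ∀ (y : Fin m ⊕ Fin m) (j : Fin 2), mat t (Sum.inr j) (Sum.inl y) = 0 :=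
    fun y j => hcol y _ (by simp)
  have I1 : p ^ 2 + a * p * r + b * r ^ 2 = 1 := by
    have h := hI 0
    unfold Cfsg.quadFormMinus at h
    simp only [hz, zero_mul, Finset.sum_const_zero, zero_add, ← hp, ← hr] at h
    simpa using h
  have I2 : q ^ 2 + a * q * s + b * s ^ 2 = b := by
    have h := hI 1
    unfold Cfsg.quadFormMinus at h
    simp only [hz, zero_mul, Finset.sum_const_zero, zero_add, ← hq, ← hs] at h
    simpa using h
  -- if the `z`-block of `mat t` is that of a reflection we have a contradiction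
  have key : ∀ c0 c1 : F, c0 ^ 2 + a * c0 * c1 + b * c1 ^ 2 ≠ 0 →
      (∀ i j : Fin 2, mat t (Sum.inr i) (Sum.inr j) =
        Cfsg.reflectionMatrix (Cfsg.quadFormMinus m F a b) (zvec m c0 c1) (Sum.inr i) (Sum.inr j)) →
      False := by
    intro c0 c1 hc hblk
    refine refl_not_mem_Omega hab t (zvec m c0 c1) (by rw [quad_zvec]; exact hc) ?_ hΩ
    ext x y
    rcases x with x | i
    · rw [refl_apply, zvec_inl, zero_mul, mul_zero, sub_zero]
      by_cases hxy : y = Sum.inl x
      · rw [hxy, hdiag, Matrix.one_apply_eq]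
      · rw [hrow x y hxy, Matrix.one_apply_ne (Ne.symm hxy)]
    · rcases y with y | j
      · rw [refl_apply, polarVec_zvec_inl, mul_zero, mul_zero, sub_zero, hz',
          Matrix.one_apply_ne (by simp)]
      · exact hblk i j
  have ha : a ≠ 0 := Cfsg.Agent.Lib.Helper50.minus_param_ne_zero a b hab
  by_cases hr0 : r = 0
  · have hp1 : p = 1 := by
      have h3 : (p + 1) * (p + 1) = 0 := by
        linear_combination e00 - q * hr0 + (p + 1) * h2
      have h4 := mul_self_eq_zero.mp h3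
      have h5 : p = -1 := eq_neg_of_add_eq_zero_left h4
      rw [h5, CharTwo.neg_eq]
    have hs1 : s = 1 := by
      have h3 : (s + 1) * (s + 1) = 0 := by
        linear_combination e11 - q * hr0 + (s + 1) * h2
      have h4 := mul_self_eq_zero.mp h3
      have h5 : s = -1 := eq_neg_of_add_eq_zero_left h4
      rw [h5, CharTwo.neg_eq]
    have hqq : q * (q + a) = 0 := by
      rw [hs1] at I2
      linear_combination I2
    rcases mul_eq_zero.mp hqq with hq0 | hqa
    · -- `mat t = 1`
      apply mat_injective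
      rw [mat_one]
      ext x y
      rcases x with x | i
      · by_cases hxy : y = Sum.inl x
        · rw [hxy, hdiag, Matrix.one_apply_eq]
        · rw [hrow x y hxy, Matrix.one_apply_ne (Ne.symm hxy)]
      · rcases y with y | j
        · rw [hz', Matrix.one_apply_ne (by simp)]
        · rcases fin2_cases i with rfl | rfl <;> rcases fin2_cases j with rfl | rfl
          · rw [← hp, hp1, Matrix.one_apply_eq]
          · rw [← hq, hq0, Matrix.one_apply_ne (by simp)]
          · rw [← hr, hr0, Matrix.one_apply_ne (by simp)]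
          · rw [← hs, hs1, Matrix.one_apply_eq]
    · exfalso
      have hqa' : q = a := by
        have h5 : q = -a := eq_neg_of_add_eq_zero_left hqa
        rw [h5, CharTwo.neg_eq]
      have hD : (1 : F) ^ 2 + a * 1 * 0 + b * 0 ^ 2 = 1 := by ring
      apply key 1 0 (by rw [hD]; exact one_ne_zero)
      intro i j
      rw [refl_apply, quad_zvec, hD]
      rcases fin2_cases i with rfl | rfl <;> rcases fin2_cases j with rfl | rfl
      · rw [zvec_z0, polarVec_zvec_z0, Matrix.one_apply_eq, ← hp, hp1]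
        ring
      · rw [zvec_z0, polarVec_zvec_z1, Matrix.one_apply_ne (by simp), ← hq, hqa']
        have : (1 : F)⁻¹ * (1 * (a * 1)) = a := by simp
        rw [this]; linear_combination a * h2
      · rw [zvec_z1, polarVec_zvec_z0, Matrix.one_apply_ne (by simp), ← hr, hr0]
        ring
      · rw [zvec_z1, polarVec_zvec_z1, Matrix.one_apply_eq, ← hs, hs1]
        ring
  · have hsp : s = p := by
      have h : r * (p + s) = 0 := by linear_combination e10
      rcases mul_eq_zero.mp h with h | h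
      · exact absurd h hr0
      · have h5 : s = -p := by linear_combination h
        rw [h5, CharTwo.neg_eq]
    exfalso
    have har : a * r ≠ 0 := mul_ne_zero ha hr0
    have hD : (p + 1) ^ 2 + a * (p + 1) * r + b * r ^ 2 = a * r := by
      linear_combination I1 + (p + 1) * h2
    apply key (p + 1) r (by rw [hD]; exact har)
    intro i j
    rw [refl_apply, quad_zvec, hD]
    rcases fin2_cases i with rfl | rfl <;> rcases fin2_cases j with rfl | rfl
    · rw [zvec_z0, polarVec_zvec_z0, Matrix.one_apply_eq, ← hp]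
      have : (a * r)⁻¹ * ((p + 1) * (a * r)) = p + 1 := by field_simp
      rw [this]; linear_combination p * h2
    · rw [zvec_z0, polarVec_zvec_z1, Matrix.one_apply_ne (by simp), ← hq]
      have : (a * r)⁻¹ * ((p + 1) * (a * (p + 1))) = q := by
        rw [inv_mul_eq_iff_eq_mul₀ har]
        linear_combination (-a) * e00 + (a * p * p + a * p) * h2
      rw [this]; linear_combination q * h2
    · rw [zvec_z1, polarVec_zvec_z0, Matrix.one_apply_ne (by simp), ← hr]
      have : (a * r)⁻¹ * (r * (a * r)) = r := by field_simp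
      rw [this]; linear_combination r * h2
    · rw [zvec_z1, polarVec_zvec_z1, Matrix.one_apply_eq, ← hs, hsp]
      have : (a * r)⁻¹ * (r * (a * (p + 1))) = p + 1 := by field_simp
      rw [this]; linear_combination p * h2

/-- **leaf E2**: in characteristic two `T ⊓ Ω` has odd order -/
theorem not_two_dvd_card_T_inf_Omega [Fintype F] [CharP F 2]
    (hab : ∀ z₁ z₂ : F, z₁ ^ 2 + a * z₁ * z₂ + b * z₂ ^ 2 = 0 → z₁ = 0 ∧ z₂ = 0) :
    ¬ 2 ∣ Nat.card ↥(Tsub m F a b ⊓ Cfsg.Omega F (Cfsg.quadFormMinus m F a b)) := by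
  intro h
  have : Fact (Nat.Prime 2) := ⟨Nat.prime_two⟩
  have : Finite ↥(Tsub m F a b ⊓ Cfsg.Omega F (Cfsg.quadFormMinus m F a b)) := inferInstance
  obtain ⟨x, hx⟩ := exists_prime_orderOf_dvd_card' 2 h
  have hx2 : x * x = 1 := by
    have h5 := pow_orderOf_eq_one x
    rw [hx, pow_two] at h5
    exact h5
  have h1 : (x : OG m F a b) = 1 := by
    apply invol_eq_one hab x.1 x.2.1 x.2.2
    have := congrArg Subtype.val hx2
    exact this
  have h3 : x = 1 := Subtype.ext h1
  rw [h3, orderOf_one] at hx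
  exact absurd hx (by norm_num)

end Cfsg.Agent.Lib.Helper98.StOm
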