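import Cfsg.Agent.Lib.Helper49.StSUDefs
import Cfsg.Agent.Lib.Helper21.StSUC8
import Cfsg.Agent.Lib.Helper26.StSUM1

/-!
# K-StSU-F1L (keystone 254606, S2546, architect helper49): decomposition for the last simple root,
both parities at once: `x` = the unitriangular part of the central block of `b`.
-/

set_option autoImplicit false
set_option linter.unusedSectionVars false
set_option linter.unusedVariables false

namespace Cfsg.Agent.Lib.Helper98.StSU

open Cfsg Cfsg.Agent.Lib.Helper49.StSU Cfsg.Agent.Lib.Helper21.StSU Cfsg.Agent.Lib.Helper26.StSU Matrix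

variable {n : ℕ} {F : Type*} [Field F] {q : ℕ}

theorem f1l_q_ne (ok : Ok n F q) : q ≠ 0 := by
  rintro rfl
  have h := ok.frob_frob 0
  simp at h

/-- Frobenius as an additive map -/
def f1lFrob (ok : Ok n F q) : F →+ F where
  toFun x := x ^ q
  map_zero' := zero_pow (f1l_q_ne ok)
  map_add' := ok.frob_add

theorem f1l_frob_sum (ok : Ok n F q) {ι : Type*} (s : Finset ι) (f : ι → F) :
    (∑ i ∈ s, f i) ^ q = ∑ i ∈ s, (f i) ^ q := map_sum (f1lFrob ok) f s

/-- the Gram relations of a group element -/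
theorem f1l_gram (hq : q ≠ 0) (g : GJ n F q) (c d : Fin n) :
    ∑ a, mat g a c * (mat g (Fin.rev a) d) ^ q = if c = Fin.rev d then 1 else 0 := by
  classical
  have h := hJ_mat g (Pi.single c 1) (Pi.single d 1)
  have e1 : ∀ j : Fin n, mat g *ᵥ Pi.single j 1 = fun a => mat g a j := by
    intro j
    ext a
    simp [Matrix.mulVec, dotProduct, Pi.single_apply]
  rw [e1, e1] at h
  unfold hJ at h
  rw [h]
  rw [Finset.sum_eq_single c]
  · rw [Pi.single_eq_same, one_mul]
    by_cases hcd : c = Fin.rev d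
    · rw [if_pos hcd, hcd, Fin.rev_rev, Pi.single_eq_same, one_pow]
    · rw [if_neg hcd, Pi.single_apply, if_neg, zero_pow hq]
      intro h'
      exact hcd (by rw [← h', Fin.rev_rev])
  · intro a _ ha
    rw [Pi.single_apply, if_neg ha, zero_mul]
  · intro h'
    exact absurd (Finset.mem_univ c) h'

/-- a matrix with the Gram relations preserves the form -/
theorem f1l_pres_of_gram (ok : Ok n F q) (M : Matrix (Fin n) (Fin n) F)
    (hM : ∀ c d : Fin n, ∑ a, M a c * (M (Fin.rev a) d) ^ q = if c = Fin.rev d then 1 else 0)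
    (u v : Fin n → F) : hJ n F q (M *ᵥ u) (M *ᵥ v) = hJ n F q u v := by
  unfold hJ
  simp only [Matrix.mulVec, dotProduct]
  calc ∑ a, (∑ c, M a c * u c) * (∑ d, M (Fin.rev a) d * v d) ^ q
      = ∑ a, ∑ c, ∑ d, (u c * (v d) ^ q) * (M a c * (M (Fin.rev a) d) ^ q) := by
        apply Finset.sum_congr rfl; intro a _
        rw [f1l_frob_sum ok, Finset.sum_mul_sum]
        apply Finset.sum_congr rfl; intro c _
        apply Finset.sum_congr rfl; intro d _
        rw [mul_pow]; ring
    _ = ∑ c, ∑ d, (u c * (v d) ^ q) * ∑ a, (M a c * (M (Fin.rev a) d) ^ q) := by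
        rw [Finset.sum_comm]
        apply Finset.sum_congr rfl; intro c _
        rw [Finset.sum_comm]
        apply Finset.sum_congr rfl; intro d _
        rw [Finset.mul_sum]
    _ = ∑ c, u c * (v (Fin.rev c)) ^ q := by
        apply Finset.sum_congr rfl; intro c _
        rw [Finset.sum_eq_single (Fin.rev c)]
        · rw [hM, if_pos (Fin.rev_rev c).symm, mul_one]
        · intro d _ hd
          rw [hM, if_neg, mul_zero]
          intro h; apply hd; rw [h, Fin.rev_rev]
        · intro h'
          exact absurd (Finset.mem_univ _) h'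

/-- central indices -/
def f1lI (n : ℕ) (a : Fin n) : Prop := n / 2 - 1 ≤ a.val ∧ a.val ≤ n - n / 2

instance f1lI_dec (a : Fin n) : Decidable (f1lI n a) := by unfold f1lI; infer_instance

theorem f1lI_rev (hn : 2 ≤ n) (a : Fin n) : f1lI n (Fin.rev a) ↔ f1lI n a := by
  unfold f1lI
  rw [Fin.val_rev]
  have := a.2
  omega

/-- the unitriangular part of the central block of `b` -/
def f1lX (b : GJ n F q) : Matrix (Fin n) (Fin n) F := fun a c =>
  if f1lI n a ∧ f1lI n c then mat b a c * (mat b (Fin.rev a) (Fin.rev a)) ^ q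
  else (1 : Matrix (Fin n) (Fin n) F) a c

theorem f1lX_in (b : GJ n F q) (a c : Fin n) (ha : f1lI n a) (hc : f1lI n c) :
    f1lX b a c = mat b a c * (mat b (Fin.rev a) (Fin.rev a)) ^ q := by
  unfold f1lX
  rw [if_pos ⟨ha, hc⟩]

theorem f1lX_out (b : GJ n F q) (a c : Fin n) (h : ¬ (f1lI n a ∧ f1lI n c)) :
    f1lX b a c = (1 : Matrix (Fin n) (Fin n) F) a c := by
  unfold f1lX
  rw [if_neg h]

theorem f1l_X_gram (ok : Ok n F q) (hn : 2 ≤ n) (b : GJ n F q) (hb : b ∈ Bsub n F q)
    (c d : Fin n) :
    ∑ a, f1lX b a c * (f1lX b (Fin.rev a) d) ^ q = if c = Fin.rev d then 1 else 0 := by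
  have hq := f1l_q_ne ok
  by_cases hc : f1lI n c
  · by_cases hd : f1lI n d
    · rw [← f1l_gram hq b c d]
      apply Finset.sum_congr rfl; intro a _
      by_cases ha : f1lI n a
      · have har : f1lI n (Fin.rev a) := (f1lI_rev hn a).2 ha
        rw [f1lX_in b a c ha hc, f1lX_in b _ d har hd, Fin.rev_rev, mul_pow, ok.frob_frob]
        have h1 := c8_diag_unitary hq b hb a
        calc mat b a c * mat b (Fin.rev a) (Fin.rev a) ^ q * (mat b (Fin.rev a) d ^ q * mat b a a)
            = (mat b a a * mat b (Fin.rev a) (Fin.rev a) ^ q) *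
                (mat b a c * (mat b (Fin.rev a) d) ^ q) := by ring
          _ = _ := by rw [h1, one_mul]
      · have h0 : mat b a c * (mat b (Fin.rev a) d) ^ q = 0 := by
          by_cases h1 : a.val < n / 2 - 1
          · have hlt : d < Fin.rev a := by
              rw [Fin.lt_def, Fin.val_rev]; have := hd.2; have := a.2; omega
            rw [(mem_Bsub_iff b).1 hb _ _ hlt, zero_pow hq, mul_zero]
          · have hlt : c < a := by
              rw [Fin.lt_def]; unfold f1lI at ha hc; omega
            rw [(mem_Bsub_iff b).1 hb _ _ hlt, zero_mul]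
        rw [h0, f1lX_out b a c (fun h => ha h.1)]
        have hac : a ≠ c := fun h => ha (h ▸ hc)
        rw [Matrix.one_apply_ne hac, zero_mul]
    · have hne : c ≠ Fin.rev d := fun h => hd ((f1lI_rev hn d).1 (h ▸ hc))
      rw [if_neg hne]
      apply Finset.sum_eq_zero; intro a _
      rw [f1lX_out b (Fin.rev a) d (fun h => hd h.2)]
      by_cases h : Fin.rev a = d
      · have ha : ¬ f1lI n a := fun h' => hd (h ▸ (f1lI_rev hn a).2 h')
        rw [f1lX_out b a c (fun h' => ha h'.1)]
        have hac : a ≠ c := fun h' => ha (h' ▸ hc)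
        rw [Matrix.one_apply_ne hac, zero_mul]
      · rw [Matrix.one_apply_ne h, zero_pow hq, mul_zero]
  · rw [Finset.sum_eq_single c]
    · rw [f1lX_out b c c (fun h => hc h.1), Matrix.one_apply_eq, one_mul]
      have hrc : ¬ f1lI n (Fin.rev c) := fun h => hc ((f1lI_rev hn c).1 h)
      rw [f1lX_out b _ d (fun h => hrc h.1)]
      by_cases h : c = Fin.rev d
      · rw [if_pos h]
        have h2 : Fin.rev c = d := by rw [h, Fin.rev_rev]
        rw [h2, Matrix.one_apply_eq, one_pow]
      · rw [if_neg h]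
        have h2 : Fin.rev c ≠ d := fun h' => h (by rw [← h', Fin.rev_rev])
        rw [Matrix.one_apply_ne h2, zero_pow hq]
    · intro a _ hac
      rw [f1lX_out b a c (fun h => hc h.2), Matrix.one_apply_ne hac, zero_mul]
    · intro h'
      exact absurd (Finset.mem_univ c) h'

theorem f1l_X_upper (b : GJ n F q) (hb : b ∈ Bsub n F q) (a c : Fin n) (h : c < a) :
    f1lX b a c = 0 := by
  by_cases hI : f1lI n a ∧ f1lI n c
  · rw [f1lX_in b a c hI.1 hI.2, (mem_Bsub_iff b).1 hb _ _ h, zero_mul]
  · rw [f1lX_out b a c hI, Matrix.one_apply_ne (ne_of_gt h)]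

theorem f1l_X_diag (ok : Ok n F q) (b : GJ n F q) (hb : b ∈ Bsub n F q) (a : Fin n) :
    f1lX b a a = 1 := by
  by_cases hI : f1lI n a ∧ f1lI n a
  · rw [f1lX_in b a a hI.1 hI.2]
    exact c8_diag_unitary (f1l_q_ne ok) b hb a
  · rw [f1lX_out b a a hI, Matrix.one_apply_eq]

theorem f1l_X_det (ok : Ok n F q) (b : GJ n F q) (hb : b ∈ Bsub n F q) : (f1lX b).det = 1 := by
  have hbt : (f1lX b).BlockTriangular (fun a : Fin n => a) := fun a c h => f1l_X_upper b hb a c h
  rw [Matrix.det_of_upperTriangular hbt]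
  apply Finset.prod_eq_one
  intro a _
  exact f1l_X_diag ok b hb a

/-- the element `x` -/
def f1lx (ok : Ok n F q) (hn : 2 ≤ n) (b : GJ n F q) (hb : b ∈ Bsub n F q) : GJ n F q :=
  ⟨⟨f1lX b, f1l_X_det ok b hb⟩, f1l_pres_of_gram ok _ (f1l_X_gram ok hn b hb)⟩

theorem f1l_mat_x (ok : Ok n F q) (hn : 2 ≤ n) (b : GJ n F q) (hb : b ∈ Bsub n F q) :
    mat (f1lx ok hn b hb) = f1lX b := rfl

theorem f1l_x_mem_B (ok : Ok n F q) (hn : 2 ≤ n) (b : GJ n F q) (hb : b ∈ Bsub n F q) :
    f1lx ok hn b hb ∈ Bsub n F q := by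
  rw [mem_Bsub_iff]
  intro a c h
  rw [f1l_mat_x]
  exact f1l_X_upper b hb a c h

theorem f1l_x_mem_XL (ok : Ok n F q) (hn : 2 ≤ n) (b : GJ n F q) (hb : b ∈ Bsub n F q) :
    f1lx ok hn b hb ∈ XL n F q := by
  intro a c hA
  rw [f1l_mat_x]
  by_cases hI : f1lI n a ∧ f1lI n c
  · rcases lt_trichotomy a c with h | h | h
    · exfalso
      apply hA
      refine ⟨hI.1.1, h, hI.2.2⟩
    · subst h
      rw [f1l_X_diag ok b hb a, Matrix.one_apply_eq]
    · rw [f1l_X_upper b hb a c h, Matrix.one_apply_ne (ne_of_gt h)]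
  · rw [f1lX_out b a c hI]

/-- the central block of `b'` is diagonal -/
theorem f1l_central_zero (ok : Ok n F q) (b b' : GJ n F q) (hb : b ∈ Bsub n F q)
    (hb' : b' ∈ Bsub n F q)
    (hbx : mat b = mat b' * f1lX b) :
    ∀ m : ℕ, ∀ a c : Fin n, f1lI n a → f1lI n c → a < c → c.val - a.val = m →
      mat b' a c = 0 := by
  have hq := f1l_q_ne ok
  have hU := (mem_Bsub_iff b').1 hb'
  have hdiag : ∀ a : Fin n, mat b' a a = mat b a a := by
    intro a
    have h1 := c8_diag_mul (mat b') (f1lX b) hU (fun a c h => f1l_X_upper b hb a c h) a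
    rw [← hbx, f1l_X_diag ok b hb a, mul_one] at h1
    exact h1.symm
  intro m
  induction m using Nat.strong_induction_on with
  | _ m ih =>
    intro a c ha hc hac hm
    have e := congrFun (congrFun hbx a) c
    rw [Matrix.mul_apply, Finset.sum_eq_add_of_mem a c (Finset.mem_univ _) (Finset.mem_univ _)
      (ne_of_lt hac)] at e
    · rw [hdiag a, f1lX_in b a c ha hc, f1l_X_diag ok b hb c, mul_one] at e
      have h1 := c8_diag_unitary hq b hb a
      have e2 : mat b a a * (mat b a c * mat b (Fin.rev a) (Fin.rev a) ^ q) = mat b a c := by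
        calc _ = (mat b a a * mat b (Fin.rev a) (Fin.rev a) ^ q) * mat b a c := by ring
          _ = _ := by rw [h1, one_mul]
      rw [e2] at e
      exact (left_eq_add.mp e)
    · intro d _ hd
      rcases lt_trichotomy d a with h | h | h
      · rw [hU a d h, zero_mul]
      · exact absurd h hd.1
      · rcases lt_trichotomy d c with h' | h' | h'
        · have hdI : f1lI n d := by
            unfold f1lI at ha hc ⊢
            rw [Fin.lt_def] at h h'
            omega
          have := ih (d.val - a.val) (by rw [Fin.lt_def] at h h'; omega) a d ha hdI h rfl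
          rw [this, zero_mul]
        · exact absurd h' hd.2
        · rw [f1l_X_upper b hb d c h', mul_zero]

theorem f1l_tauL_lt (hn : 2 ≤ n) (v : ℕ) (hv : v < n) : tauL n v < n := by
  unfold tauL
  split_ifs <;> omega

theorem f1l_tauL_tauL (hn : 2 ≤ n) (v : ℕ) (hv : v < n) : tauL n (tauL n v) = v := by
  unfold tauL
  split_ifs <;> omega

theorem f1l_sLast_mon (ok : Ok n F q) (hn : 2 ≤ n) (a b : Fin n) :
    mat (sLast n F q) a b ≠ 0 ↔ a.val = tauL n b.val := by
  have ha : aPar F q ≠ 0 := ok.a_ne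
  rw [ok.last hn]
  unfold sLastMat tauL
  by_cases he : n % 2 = 0
  · rw [if_pos he, if_pos he]
    unfold sEvenMat
    simp only [Fin.ext_iff]
    split_ifs with h1 h2 h3 h4 h5 h4 h5 h4 h5 h4 h5
    all_goals
      constructor
      · intro hh
        first | omega | exact absurd rfl hh
      · intro hh
        first | exact ha | exact one_ne_zero | exact neg_ne_zero.mpr (inv_ne_zero ha) | omega
  · rw [if_neg he, if_neg he]
    unfold sOddMat
    simp only [Fin.ext_iff]
    split_ifs with h1 h2 h3 h4 h5 h4 h5 h4 h5 h4 h5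
    all_goals
      constructor
      · intro hh
        first | omega | exact absurd rfl hh
      · intro hh
        first | exact one_ne_zero | exact neg_ne_zero.mpr one_ne_zero | omega

theorem f1l_conj_mem (ok : Ok n F q) (hn : 2 ≤ n) (b' : GJ n F q) (hb' : b' ∈ Bsub n F q)
    (h0 : ∀ a c : Fin n, f1lI n a → f1lI n c → a < c → mat b' a c = 0) :
    sLast n F q * b' * (sLast n F q)⁻¹ ∈ Bsub n F q := by
  have hU := (mem_Bsub_iff b').1 hb'
  have hS := f1l_sLast_mon (F := F) (q := q) ok hn
  let φ : Fin n → Fin n := fun b => ⟨tauL n b.val, f1l_tauL_lt hn b.val b.2⟩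
  have hφφ : ∀ b, φ (φ b) = b := fun b => Fin.ext (f1l_tauL_tauL hn b.val b.2)
  have hS' : ∀ a b : Fin n, mat (sLast n F q) a b ≠ 0 ↔ a = φ b := by
    intro a b
    rw [hS a b, Fin.ext_iff]
  have hgc : (sLast n F q * b' * (sLast n F q)⁻¹) * sLast n F q = sLast n F q * b' := by group
  have hGS : mat (sLast n F q * b' * (sLast n F q)⁻¹) * mat (sLast n F q) =
      mat (sLast n F q) * mat b' := by
    rw [← mat_mul, hgc, mat_mul]
  rw [mem_Bsub_iff]
  intro a c hca
  have e := congrFun (congrFun hGS a) (φ c)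
  rw [Matrix.mul_apply, Matrix.mul_apply, Finset.sum_eq_single c, Finset.sum_eq_single (φ a)] at e
  · have hz : mat b' (φ a) (φ c) = 0 := by
      by_cases hI : f1lI n a ∧ f1lI n c
      · apply h0
        · have := hI.1; have := hI.2
          unfold f1lI at *
          show n / 2 - 1 ≤ tauL n a.val ∧ tauL n a.val ≤ n - n / 2
          unfold tauL
          split_ifs <;> omega
        · have := hI.1; have := hI.2
          unfold f1lI at *
          show n / 2 - 1 ≤ tauL n c.val ∧ tauL n c.val ≤ n - n / 2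
          unfold tauL
          split_ifs <;> omega
        · have := hI.1; have := hI.2
          rw [Fin.lt_def] at hca ⊢
          unfold f1lI at *
          show tauL n a.val < tauL n c.val
          unfold tauL
          split_ifs <;> omega
      · apply hU
        rw [Fin.lt_def] at hca ⊢
        show tauL n c.val < tauL n a.val
        unfold f1lI at hI
        have := a.2
        have := c.2
        unfold tauL
        split_ifs <;> omega
    rw [hz, mul_zero] at e
    have hne : mat (sLast n F q) c (φ c) ≠ 0 := (hS' c (φ c)).2 (hφφ c).symm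
    exact (mul_eq_zero.mp e).resolve_right hne
  · intro z _ hz
    have : mat (sLast n F q) a z = 0 := by
      by_contra h
      apply hz
      have := (hS' a z).1 h
      rw [this, hφφ]
    rw [this, zero_mul]
  · intro h'
    exact absurd (Finset.mem_univ _) h'
  · intro z _ hz
    have : mat (sLast n F q) z (φ c) = 0 := by
      by_contra h
      apply hz
      have := (hS' z (φ c)).1 h
      rw [this, hφφ]
    rw [this, mul_zero]
  · intro h'
    exact absurd (Finset.mem_univ _) h'

/-- **LEAF F1L (254606).** -/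
theorem decomp_long (ok : Ok n F q) (hn : 2 ≤ n) (b : GJ n F q) (hb : b ∈ Bsub n F q) :
    ∃ b' ∈ Bsub n F q, ∃ x ∈ XL n F q, b = b' * x ∧
      sLast n F q * b' * (sLast n F q)⁻¹ ∈ Bsub n F q := by
  have hxB := f1l_x_mem_B ok hn b hb
  have hb'B : b * (f1lx ok hn b hb)⁻¹ ∈ Bsub n F q :=
    (Bsub n F q).mul_mem hb ((Bsub n F q).inv_mem hxB)
  have hbx : b = b * (f1lx ok hn b hb)⁻¹ * f1lx ok hn b hb := by group
  refine ⟨b * (f1lx ok hn b hb)⁻¹, hb'B, f1lx ok hn b hb, f1l_x_mem_XL ok hn b hb, hbx, ?_⟩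
  apply f1l_conj_mem ok hn _ hb'B
  intro a c ha hc hac
  have hm : mat b = mat (b * (f1lx ok hn b hb)⁻¹) * f1lX b := by
    rw [← f1l_mat_x ok hn b hb, ← mat_mul, ← hbx]
  exact f1l_central_zero ok b _ hb hb'B hm _ a c ha hc hac rfl

end Cfsg.Agent.Lib.Helper98.StSU
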