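import Cfsg.Agent.Lib.Helper49.StSUDefs
import Cfsg.Agent.Lib.Helper93.StSUF1S
import Cfsg.Agent.Lib.Helper98.StSUF1L

/-!
# K-StSU-F3S (keystone 254609, S2546, architect helper49): rank one identity, short simple root
`s x(t) = x(1/t) h y(1/t)`, `h = diag(-1/t, t, 1/t^q, -t^q)`.
-/

set_option autoImplicit false
set_option linter.unusedSectionVars false
set_option linter.unusedVariables false
set_option linter.unusedSimpArgs false

namespace Cfsg.Agent.Lib.Helper98.StSU

open Cfsg Cfsg.Agent.Lib.Helper49.StSU Cfsg.Agent.Lib.Helper93.StSU Matrix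

variable {n : ℕ} {F : Type*} [Field F] {q : ℕ}

/-- `xsM` preserves the form (only inequalities of the indices are used) -/
theorem f3s_xsM_pres (ok : Ok n F q) (I J J' I' : Fin n) (h1 : I' ≠ J') (h2 : I' ≠ I)
    (h3 : J ≠ J') (h4 : J ≠ I) (hrI : Fin.rev I = I') (hrJ : Fin.rev J' = J) (t : F)
    (u v : Fin n → F) :
    hJ n F q (xsM q I J J' I' t *ᵥ u) (xsM q I J J' I' t *ᵥ v) = hJ n F q u v := by
  have e1 : (xsM q I J J' I' t *ᵥ v) I' = v I' := by
    rw [xsM_mulVec]
    simp only [Pi.add_apply]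
    rw [Pi.single_eq_of_ne h2, Pi.single_eq_of_ne h1]
    simp
  have e2 : (xsM q I J J' I' t *ᵥ v) J = v J := by
    rw [xsM_mulVec]
    simp only [Pi.add_apply]
    rw [Pi.single_eq_of_ne h4, Pi.single_eq_of_ne h3]
    simp
  rw [xsM_mulVec I J J' I' t u, f1s_hJ_add_left, f1s_hJ_add_left, f1s_hJ_single_left,
    f1s_hJ_single_left, hrI, hrJ, e1, e2, xsM_mulVec, f1s_hJ_add_right ok, f1s_hJ_add_right ok,
    f1s_hJ_single_right ok, f1s_hJ_single_right ok, hrI, hrJ, mul_pow, mul_pow, f1s_frob_neg ok,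
    ok.frob_frob]
  ring

theorem f3s_xsM_transpose (I J J' I' : Fin n) (t : F) :
    xsM q J I I' J' t = (xsM q I J J' I' t)ᵀ := by
  unfold xsM
  rw [Matrix.transpose_add, Matrix.transpose_add, Matrix.transpose_one, Matrix.transpose_single,
    Matrix.transpose_single]

theorem f3s_xsM_apply (I J J' I' : Fin n) (t : F) (r c : Fin n) :
    xsM q I J J' I' t r c = (1 : Matrix (Fin n) (Fin n) F) r c +
      (if I = r ∧ J = c then t else 0) + (if J' = r ∧ I' = c then -(t ^ q) else 0) := by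
  unfold xsM
  rw [Matrix.add_apply, Matrix.add_apply, Matrix.single_apply, Matrix.single_apply]

/-- the lower root element as an element of the group -/
def f3sY (ok : Ok n F q) (I J J' I' : Fin n) (hIJ : I < J) (hJJ : J < J') (hJI : J' < I')
    (hrI : Fin.rev I = I') (hrJ : Fin.rev J' = J) (t : F) : GJ n F q :=
  ⟨⟨xsM q J I I' J' t, by
      rw [f3s_xsM_transpose, Matrix.det_transpose]
      exact xsM_det I J J' I' hIJ hJI t⟩,
    (mem_SUJ_iff _).2 (fun u v => f3s_xsM_pres ok J I I' J' (ne_of_lt hJI) (ne_of_lt hJJ).symm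
      (ne_of_lt (hIJ.trans (hJJ.trans hJI))) (ne_of_lt hIJ)
      (by rw [← hrJ, Fin.rev_rev]) (by rw [← hrI, Fin.rev_rev]) t u v)⟩

/-- the diagonal part -/
def f3sD (I J J' I' : Fin n) (t : F) : Fin n → F := fun r =>
  if r = I then -t⁻¹ else if r = J then t else if r = J' then (t ^ q)⁻¹
  else if r = I' then -(t ^ q) else 1

theorem f3s_S_mulVec (i : ℕ) (hi : i + 1 < n / 2) (w : Fin n → F) (r : Fin n) :
    (sShortMat n F i *ᵥ w) r = w (tauF i hi r) := by
  simp only [Matrix.mulVec, dotProduct]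
  rw [Finset.sum_eq_single (tauF i hi r)]
  · have h : r.val = tau n i (tauF i hi r).val :=
      (congrArg Fin.val (tauF_tauF i hi r)).symm
    rw [f1s_sShortMat_apply, if_pos h, one_mul]
  · intro x _ hx
    rw [f1s_sShortMat_apply, if_neg, zero_mul]
    intro h
    apply hx
    have : r = tauF i hi x := Fin.ext h
    rw [this, tauF_tauF]
  · intro h
    exact absurd (Finset.mem_univ _) h

/-- the rank one identity at the level of matrices -/
theorem f3s_identity (i : ℕ) (hi : i + 1 < n / 2) (I J J' I' : Fin n)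
    (hI : I.val = i) (hJ : J.val = i + 1) (hJ' : J'.val = n - 2 - i) (hI' : I'.val = n - 1 - i)
    (t : F) (ht : t ≠ 0) :
    xsM q I J J' I' t⁻¹ * Matrix.diagonal (f3sD (q := q) I J J' I' t) * xsM q J I I' J' t⁻¹ =
      sShortMat n F i * xsM q I J J' I' t := by
  have hn := I'.2
  have dIJ : I ≠ J := fun h => by rw [Fin.ext_iff] at h; omega
  have dIJ' : I ≠ J' := fun h => by rw [Fin.ext_iff] at h; omega
  have dII' : I ≠ I' := fun h => by rw [Fin.ext_iff] at h; omega
  have dJJ' : J ≠ J' := fun h => by rw [Fin.ext_iff] at h; omega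
  have dJI' : J ≠ I' := fun h => by rw [Fin.ext_iff] at h; omega
  have dJ'I' : J' ≠ I' := fun h => by rw [Fin.ext_iff] at h; omega
  have tI : tauF i hi I = J := Fin.ext (by show tau n i I.val = J.val; rw [hI, hJ, f1s_tau_i i hi])
  have tJ : tauF i hi J = I := Fin.ext (by show tau n i J.val = I.val; rw [hI, hJ, f1s_tau_i1 i hi])
  have tJ' : tauF i hi J' = I' :=
    Fin.ext (by show tau n i J'.val = I'.val; rw [hI', hJ', f1s_tau_j' i hi])
  have tI' : tauF i hi I' = J' :=
    Fin.ext (by show tau n i I'.val = J'.val; rw [hI', hJ', f1s_tau_i' i hi])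
  have htq : t ^ q ≠ 0 := pow_ne_zero _ ht
  apply Matrix.mulVec_injective
  funext u
  rw [← Matrix.mulVec_mulVec, ← Matrix.mulVec_mulVec, ← Matrix.mulVec_mulVec]
  funext r
  rw [f3s_S_mulVec i hi, xsM_mulVec, xsM_mulVec, xsM_mulVec]
  simp only [Pi.add_apply, Matrix.mulVec_diagonal, Pi.single_apply, f3sD, inv_pow]
  by_cases h1 : r = I
  · subst h1
    rw [tI]
    simp [dIJ, dIJ', dII', dJJ', dJI', dJ'I', dIJ.symm, dIJ'.symm, dII'.symm, dJJ'.symm,
      dJI'.symm, dJ'I'.symm]
    field_simp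
    ring
  · by_cases h2 : r = J
    · subst h2
      rw [tJ]
      simp [dIJ, dIJ', dII', dJJ', dJI', dJ'I', dIJ.symm, dIJ'.symm, dII'.symm, dJJ'.symm,
        dJI'.symm, dJ'I'.symm]
      field_simp
      ring
    · by_cases h3 : r = J'
      · subst h3
        rw [tJ']
        simp [dIJ, dIJ', dII', dJJ', dJI', dJ'I', dIJ.symm, dIJ'.symm, dII'.symm, dJJ'.symm,
          dJI'.symm, dJ'I'.symm]
        field_simp
        ring
      · by_cases h4 : r = I'
        · subst h4
          rw [tI']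
          simp [dIJ, dIJ', dII', dJJ', dJI', dJ'I', dIJ.symm, dIJ'.symm, dII'.symm, dJJ'.symm,
            dJI'.symm, dJ'I'.symm]
          field_simp
          ring
        · have tr : tauF i hi r = r := by
            apply Fin.ext
            show tau n i r.val = r.val
            have e1 : r.val ≠ i := fun h => h1 (Fin.ext (by rw [h, hI]))
            have e2 : r.val ≠ i + 1 := fun h => h2 (Fin.ext (by rw [h, hJ]))
            have e3 : r.val ≠ n - 2 - i := fun h => h3 (Fin.ext (by rw [h, hJ']))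
            have e4 : r.val ≠ n - 1 - i := fun h => h4 (Fin.ext (by rw [h, hI']))
            unfold tau
            split_ifs <;> omega
          rw [tr]
          simp [h1, h2, h3, h4]

theorem f3s_xsM_zero (ok : Ok n F q) (I J J' I' : Fin n) : xsM q I J J' I' (0 : F) = 1 := by
  unfold xsM
  rw [f1s_frob_zero ok, neg_zero, Matrix.single_zero, Matrix.single_zero, add_zero, add_zero]

/-- **LEAF F3S (254609).** -/
theorem rank_one_short (ok : Ok n F q) (i : ℕ) (hi : i + 1 < n / 2) (x : GJ n F q)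
    (hx : x ∈ XS n F q i) (hx1 : x ≠ 1) :
    ∃ x' ∈ XS n F q i, ∃ h ∈ Tsub n F q, ∃ y ∈ YS n F q i,
      sShort n F q i * x = x' * h * y := by
  have hq := f1l_q_ne ok
  have hiI : i < n := by omega
  have hiJ : i + 1 < n := by omega
  have hiJ' : n - 2 - i < n := by omega
  have hiI' : n - 1 - i < n := by omega
  set I : Fin n := ⟨i, hiI⟩ with hIdef
  set J : Fin n := ⟨i + 1, hiJ⟩ with hJdef
  set J' : Fin n := ⟨n - 2 - i, hiJ'⟩ with hJ'def
  set I' : Fin n := ⟨n - 1 - i, hiI'⟩ with hI'def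
  have hIJ : I < J := by rw [Fin.lt_def]; show i < i + 1; omega
  have hJJ : J < J' := by rw [Fin.lt_def]; show i + 1 < n - 2 - i; omega
  have hJI : J' < I' := by rw [Fin.lt_def]; show n - 2 - i < n - 1 - i; omega
  have hrI : Fin.rev I = I' := by
    apply Fin.ext; rw [Fin.val_rev]; show n - (i + 1) = n - 1 - i; omega
  have hrJ : Fin.rev J' = J := by
    apply Fin.ext; rw [Fin.val_rev]; show n - (n - 2 - i + 1) = i + 1; omega
  have hrJ2 : Fin.rev J = J' := by rw [← hrJ, Fin.rev_rev]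
  have hrI2 : Fin.rev I' = I := by rw [← hrI, Fin.rev_rev]
  have dIJ : I ≠ J := ne_of_lt hIJ
  have dJ'I' : J' ≠ I' := ne_of_lt hJI
  have dII' : I ≠ I' := ne_of_lt (hIJ.trans (hJJ.trans hJI))
  have dJJ' : J ≠ J' := ne_of_lt hJJ
  have dIJ' : I ≠ J' := ne_of_lt (hIJ.trans hJJ)
  have dJI' : J ≠ I' := ne_of_lt (hJJ.trans hJI)
  -- entries of `x`
  have hxe : ∀ r c : Fin n, ¬ ((r = I ∧ c = J) ∨ (r = J' ∧ c = I')) →
      mat x r c = (1 : Matrix (Fin n) (Fin n) F) r c := by
    intro r c hrc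
    apply hx r c
    rintro (⟨h1, h2⟩ | ⟨h1, h2⟩)
    · exact hrc (Or.inl ⟨Fin.ext h1, Fin.ext h2⟩)
    · exact hrc (Or.inr ⟨Fin.ext h1, Fin.ext h2⟩)
  set t : F := mat x I J with htdef
  -- unitarity: the second entry
  have ht' : mat x J' I' = -(t ^ q) := by
    have hg := f1l_gram hq x J I'
    rw [if_neg (by rw [hrI2]; exact dIJ.symm),
      Finset.sum_eq_add_of_mem I J (Finset.mem_univ _) (Finset.mem_univ _) dIJ] at hg
    · rw [hrI, hrJ2] at hg
      have e1 : mat x I' I' = 1 := by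
        rw [hxe I' I' (by
          rintro (⟨h1, _⟩ | ⟨h1, _⟩)
          · exact dII' h1.symm
          · exact dJ'I' h1.symm), Matrix.one_apply_eq]
      have e2 : mat x J J = 1 := by
        rw [hxe J J (by
          rintro (⟨h1, _⟩ | ⟨h1, _⟩)
          · exact dIJ h1.symm
          · exact dJJ' h1), Matrix.one_apply_eq]
      rw [e1, e2, one_pow, mul_one, one_mul] at hg
      have e3 : (mat x J' I') ^ q = -t := by
        rw [htdef]
        exact eq_neg_of_add_eq_zero_right hg
      have e4 := ok.frob_frob (mat x J' I')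
      rw [e3, f1s_frob_neg ok] at e4
      exact e4.symm
    · intro a _ ha
      have : mat x a J = 0 := by
        rw [hxe a J (by
          rintro (⟨h1, _⟩ | ⟨_, h2⟩)
          · exact ha.1 h1
          · exact dJI' h2), Matrix.one_apply_ne ha.2]
      rw [this, zero_mul]
  have hmx : mat x = xsM q I J J' I' t := by
    ext r c
    rw [f3s_xsM_apply]
    by_cases h1 : r = I ∧ c = J
    · rw [h1.1, h1.2, if_pos ⟨rfl, rfl⟩, if_neg (fun h => dIJ' h.1.symm), Matrix.one_apply_ne dIJ]
      simp [htdef]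
    · by_cases h2 : r = J' ∧ c = I'
      · rw [h2.1, h2.2, if_neg (fun h => dIJ' h.1), if_pos ⟨rfl, rfl⟩,
          Matrix.one_apply_ne dJ'I', ht']
        simp
      · rw [hxe r c (by rintro (h | h); exact h1 h; exact h2 h),
          if_neg (fun h => h1 ⟨h.1.symm, h.2.symm⟩), if_neg (fun h => h2 ⟨h.1.symm, h.2.symm⟩)]
        simp
  have ht : t ≠ 0 := by
    intro h0
    apply hx1
    apply mat_injective
    rw [hmx, h0, f3s_xsM_zero ok, mat_one]
  -- the three factors
  let x' : GJ n F q := xsG ok I J J' I' hIJ hJJ hJI hrI hrJ t⁻¹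
  let y : GJ n F q := f3sY ok I J J' I' hIJ hJJ hJI hrI hrJ t⁻¹
  have hmx' : mat x' = xsM q I J J' I' t⁻¹ := rfl
  have hmy : mat y = xsM q J I I' J' t⁻¹ := rfl
  have hx' : x' ∈ XS n F q i := by
    intro r c hrc
    rw [hmx', f3s_xsM_apply, if_neg, if_neg]
    · simp
    · rintro ⟨h1, h2⟩
      apply hrc
      right
      rw [← h1, ← h2]
      exact ⟨rfl, rfl⟩
    · rintro ⟨h1, h2⟩
      apply hrc
      left
      rw [← h1, ← h2]
      exact ⟨rfl, rfl⟩
  have hy : y ∈ YS n F q i := by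
    intro r c hrc
    rw [hmy, f3s_xsM_apply, if_neg, if_neg]
    · simp
    · rintro ⟨h1, h2⟩
      apply hrc
      right
      rw [← h1, ← h2]
      exact ⟨rfl, rfl⟩
    · rintro ⟨h1, h2⟩
      apply hrc
      left
      rw [← h1, ← h2]
      exact ⟨rfl, rfl⟩
  have hid := f3s_identity (q := q) i hi I J J' I' rfl rfl rfl rfl t ht
  refine ⟨x', hx', x'⁻¹ * (sShort n F q i * x) * y⁻¹, ?_, y, hy, by group⟩
  have hmh : mat (x'⁻¹ * (sShort n F q i * x) * y⁻¹) =
      Matrix.diagonal (f3sD (q := q) I J J' I' t) := by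
    rw [mat_mul, mat_mul, mat_mul, ok.short i hi, hmx, ← hid, ← hmx', ← hmy]
    calc mat x'⁻¹ * (mat x' * Matrix.diagonal (f3sD (q := q) I J J' I' t) * mat y) * mat y⁻¹
        = (mat x'⁻¹ * mat x') * Matrix.diagonal (f3sD (q := q) I J J' I' t) *
            (mat y * mat y⁻¹) := by simp only [Matrix.mul_assoc]
      _ = _ := by rw [mat_inv_mul, mat_mul_inv, Matrix.one_mul, Matrix.mul_one]
  rw [mem_Tsub_iff]
  intro a b hab
  rw [hmh, Matrix.diagonal_apply_ne _ hab]

end Cfsg.Agent.Lib.Helper98.StSU
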