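import Cfsg.Agent.Lib.Helper98.Sy6
import Cfsg.Agent.Lib.Helper98.Elus19

set_option autoImplicit false
set_option linter.unusedSimpArgs false
set_option linter.unusedSectionVars false
set_option linter.unusedVariables false
set_option linter.style.haveILetI false
set_option maxHeartbeats 1000000

/-!
# S5961 (helper98): counting orthogonal decompositions
-/

namespace Cfsg.Agent.Lib.Helper98.Sy

open Module Cfsg.Agent.Lib.Helper98.Elus

universe u
variable {F : Type u} [Field F] {V : Type u} [AddCommGroup V] [Module F V]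

/-- orthogonal decompositions into nondegenerate subspaces of dimension `a` -/
def IsSDec (B : LinearMap.BilinForm F V) (a : ℕ) {t : ℕ} (D : Fin t → Submodule F V) : Prop :=
  IsDec a D ∧ (∀ j, NonDeg B (D j)) ∧ (∀ j j', j ≠ j' → Ort B (D j) (D j'))

/-- a free action of the symmetric group: `t!` divides the number of ordered families -/
theorem factorial_dvd_card_of_perm [Finite F] [FiniteDimensional F V] (t : ℕ)
    (Pr : (Fin t → Submodule F V) → Prop) (hinj : ∀ D, Pr D → Function.Injective D)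
    (hperm : ∀ D (σ : Equiv.Perm (Fin t)), Pr D → Pr (fun i => D (σ i))) :
    t.factorial ∣ Nat.card {D : Fin t → Submodule F V // Pr D} := by
  classical
  haveI : Finite V := Module.finite_of_finite F
  haveI : Fintype {D : Fin t → Submodule F V // Pr D} := Fintype.ofFinite _
  letI act : MulAction (Equiv.Perm (Fin t)) {D : Fin t → Submodule F V // Pr D} :=
    { smul := fun σ D => ⟨fun i => D.1 (σ⁻¹ i), hperm D.1 σ⁻¹ D.2⟩
      one_smul := by
        rintro ⟨D, hD⟩
        apply Subtype.ext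
        funext i
        show D ((1 : Equiv.Perm (Fin t))⁻¹ i) = D i
        simp
      mul_smul := by
        rintro g h ⟨D, hD⟩
        apply Subtype.ext
        funext i
        show D ((g * h)⁻¹ i) = D (h⁻¹ (g⁻¹ i))
        simp [mul_inv_rev] }
  have hfree : ∀ (σ : Equiv.Perm (Fin t)) (D : {D : Fin t → Submodule F V // Pr D}),
      σ • D = D → σ = 1 := by
    intro σ D h
    have h1 : ∀ i, D.1 (σ⁻¹ i) = D.1 i := by
      intro i
      have := congrArg (fun E : {D : Fin t → Submodule F V // Pr D} => E.1 i) h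
      exact this
    have h2 : ∀ i, σ⁻¹ i = i := fun i => hinj D.1 D.2 (h1 i)
    have h3 : σ⁻¹ = 1 := Equiv.ext h2
    exact inv_eq_one.mp h3
  have hB := MulAction.sum_card_fixedBy_eq_card_orbits_mul_card_group (Equiv.Perm (Fin t))
    {D : Fin t → Submodule F V // Pr D}
  rw [Finset.sum_eq_single (1 : Equiv.Perm (Fin t))] at hB
  · have h1 : Fintype.card ↑(MulAction.fixedBy {D : Fin t → Submodule F V // Pr D}
        (1 : Equiv.Perm (Fin t))) = Fintype.card {D : Fin t → Submodule F V // Pr D} := by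
      apply Fintype.card_congr
      refine ⟨fun D => D.1, fun D => ⟨D, by simp⟩, fun D => rfl, fun D => rfl⟩
    rw [h1, Fintype.card_perm, Fintype.card_fin] at hB
    rw [Nat.card_eq_fintype_card, hB]
    exact Dvd.intro_left _ rfl
  · intro σ _ hσ
    rw [Fintype.card_eq_zero_iff]
    refine ⟨fun D => hσ (hfree σ D.1 D.2)⟩
  · intro h
    exact absurd (Finset.mem_univ _) h

/-- isometries preserve orthogonal decompositions -/
theorem isSDec_map {B : LinearMap.BilinForm F V} [FiniteDimensional F V] {a t : ℕ}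
    (g : V ≃ₗ[F] V) (hg : Iso B (g : V →ₗ[F] V)) (D : Fin t → Submodule F V)
    (hD : IsSDec B a D) : IsSDec B a (fun j => (D j).map (g : V →ₗ[F] V)) := by
  refine ⟨⟨fun i => ?_, ?_, ?_⟩, ?_, ?_⟩
  · rw [LinearEquiv.finrank_map_eq]
    exact hD.1.1 i
  · exact hD.1.2.1.map_orderIso (Submodule.orderIsoMapComap g)
  · show (⨆ i, (D i).map (g : V →ₗ[F] V)) = ⊤
    rw [← Submodule.map_iSup]
    have h3 : (⨆ i, D i) = ⊤ := hD.1.2.2
    rw [h3, Submodule.map_top, LinearEquiv.range]
  · rintro j _ ⟨u, hu, rfl⟩ h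
    have : u = 0 := by
      apply hD.2.1 j u hu
      intro v hv
      have := h (g v) ⟨v, hv, rfl⟩
      rw [← hg u v]
      exact this
    rw [this, map_zero]
  · rintro j j' hjj' _ ⟨u, hu, rfl⟩ _ ⟨v, hv, rfl⟩
    have := hg u v
    rw [LinearEquiv.coe_coe] at this ⊢
    rw [this]
    exact hD.2.2 j j' hjj' u hu v hv

/-- symplectic bases of the summands of an orthogonal decomposition -/
theorem exists_adapted_basis {B : LinearMap.BilinForm F V} (hA : B.IsAlt) [FiniteDimensional F V]
    {a' t : ℕ} (D : Fin t → Submodule F V) (hD : IsSDec B (2 * a') D) :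
    ∃ cb : Basis ((_ : Fin t) × (Fin a' ⊕ Fin a')) F V, (∀ q, cb q ∈ D q.1) ∧
      (∀ j, D j = Submodule.span F (Set.range (fun s => cb ⟨j, s⟩))) ∧
      ∀ q q', B (cb q) (cb q') =
        if q.1 = q'.1 then Matrix.J (Fin a') F q.2 q'.2 else 0 := by
  classical
  have hI := DirectSum.isInternal_submodule_of_iSupIndep_of_iSup_eq_top hD.1.2.1 hD.1.2.2
  have hbasis : ∀ j, ∃ b : Basis (Fin a' ⊕ Fin a') F (D j),
      LinearMap.BilinForm.toMatrix b (B.restrict (D j)) = Matrix.J (Fin a') F := by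
    intro j
    have hAj : (B.restrict (D j)).IsAlt := fun x => hA x
    have hBj : (B.restrict (D j)).Nondegenerate := by
      constructor
      · intro x hx
        have := hD.2.1 j x x.2 (fun v hv => hx ⟨v, hv⟩)
        exact Subtype.ext this
      · intro x hx
        have := hD.2.1 j x x.2 (fun v hv => alt_eq_zero hA (hx ⟨v, hv⟩))
        exact Subtype.ext this
    exact Cfsg.Agent.Lib.Helper20.exists_symplectic_basis (B.restrict (D j)) hAj hBj a' (hD.1.1 j)
  choose β hβ using hbasis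
  refine ⟨hI.collectedBasis β, ?_, ?_, ?_⟩
  · intro q
    exact hI.collectedBasis_mem β q
  · intro j
    have h1 : (fun s : Fin a' ⊕ Fin a' => hI.collectedBasis β ⟨j, s⟩) = (D j).subtype ∘ (β j) := by
      funext s
      simp [DirectSum.IsInternal.collectedBasis_coe]
    rw [h1, Set.range_comp, ← Submodule.map_span, (β j).span_eq, Submodule.map_subtype_top]
  · rintro ⟨j, s⟩ ⟨j', s'⟩
    simp only [DirectSum.IsInternal.collectedBasis_coe]
    by_cases h : j = j'
    · subst h
      rw [if_pos rfl]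
      have := congrFun (congrFun (hβ j) s) s'
      rw [LinearMap.BilinForm.toMatrix_apply] at this
      exact this
    · rw [if_neg h]
      exact hD.2.2 j j' h _ (β j s).2 _ (β j' s').2

/-- the isometry group is transitive on orthogonal decompositions -/
theorem exists_iso_of_isSDec {B : LinearMap.BilinForm F V} (hA : B.IsAlt) [FiniteDimensional F V]
    {a' t : ℕ} (D D' : Fin t → Submodule F V) (hD : IsSDec B (2 * a') D)
    (hD' : IsSDec B (2 * a') D') :
    ∃ g : V ≃ₗ[F] V, Iso B (g : V →ₗ[F] V) ∧ ∀ j, (D j).map (g : V →ₗ[F] V) = D' j := by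
  classical
  obtain ⟨cb, -, hspan, hgram⟩ := exists_adapted_basis hA D hD
  obtain ⟨cb', -, hspan', hgram'⟩ := exists_adapted_basis hA D' hD'
  let g := cb.equiv cb' (Equiv.refl _)
  have hg : ∀ q, g (cb q) = cb' q := by
    intro q
    simp [g]
  refine ⟨g, ?_, ?_⟩
  · have h1 : B.comp (g : V →ₗ[F] V) (g : V →ₗ[F] V) = B := by
      apply LinearMap.BilinForm.ext_basis cb
      intro q q'
      rw [LinearMap.BilinForm.comp_apply, LinearEquiv.coe_coe, hg, hg, hgram, hgram']
    intro u v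
    have := congrArg (fun C : LinearMap.BilinForm F V => C u v) h1
    simpa [LinearMap.BilinForm.comp_apply] using this
  · intro j
    conv_lhs => rw [hspan j]
    rw [hspan' j, Submodule.map_span, ← Set.range_comp]
    congr 2
    funext s
    exact hg ⟨j, s⟩

/-- the linear equivalence of a symplectic matrix -/
noncomputable def spEquiv (d : ℕ) (g : ↥(Matrix.symplecticGroup (Fin d) F)) :
    (Fin d ⊕ Fin d → F) ≃ₗ[F] (Fin d ⊕ Fin d → F) :=
  LinearEquiv.ofLinearMap (Matrix.toLin' (g : Matrix (Fin d ⊕ Fin d) (Fin d ⊕ Fin d) F))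
    (Matrix.toLin' ((g⁻¹ : ↥(Matrix.symplecticGroup (Fin d) F)) :
      Matrix (Fin d ⊕ Fin d) (Fin d ⊕ Fin d) F))
    (by
      rw [← Matrix.toLin'_mul, ← Submonoid.coe_mul, mul_inv_cancel]
      simp)
    (by
      rw [← Matrix.toLin'_mul, ← Submonoid.coe_mul, inv_mul_cancel]
      simp)

theorem spEquiv_coe (d : ℕ) (g : ↥(Matrix.symplecticGroup (Fin d) F)) :
    ((spEquiv d g : (Fin d ⊕ Fin d → F) ≃ₗ[F] (Fin d ⊕ Fin d → F)) :
      (Fin d ⊕ Fin d → F) →ₗ[F] (Fin d ⊕ Fin d → F)) =
      Matrix.toLin' (g : Matrix (Fin d ⊕ Fin d) (Fin d ⊕ Fin d) F) := rfl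

/-- the number of orthogonal decompositions divides the order of the symplectic group -/
theorem card_isSDec_dvd [Finite F] (d a' t : ℕ)
    (D0 : Fin t → Submodule F (Fin d ⊕ Fin d → F)) (hD0 : IsSDec (stdForm d) (2 * a') D0) :
    Nat.card {D : Fin t → Submodule F (Fin d ⊕ Fin d → F) // IsSDec (stdForm d) (2 * a') D} ∣
      Nat.card (Matrix.symplecticGroup (Fin d) F) := by
  classical
  have hiso : ∀ g : ↥(Matrix.symplecticGroup (Fin d) F),
      Iso (stdForm d) ((spEquiv d g : (Fin d ⊕ Fin d → F) ≃ₗ[F] (Fin d ⊕ Fin d → F)) :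
        (Fin d ⊕ Fin d → F) →ₗ[F] (Fin d ⊕ Fin d → F)) := by
    intro g
    rw [spEquiv_coe]
    exact iso_of_mem d _ g.2
  letI act : MulAction ↥(Matrix.symplecticGroup (Fin d) F)
      {D : Fin t → Submodule F (Fin d ⊕ Fin d → F) // IsSDec (stdForm d) (2 * a') D} :=
    { smul := fun g D => ⟨fun i => (D.1 i).map
          (Matrix.toLin' (g : Matrix (Fin d ⊕ Fin d) (Fin d ⊕ Fin d) F)), by
        have := isSDec_map (spEquiv d g) (hiso g) D.1 D.2
        rw [spEquiv_coe] at this
        exact this⟩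
      one_smul := by
        rintro ⟨D, hD⟩
        apply Subtype.ext
        funext i
        show (D i).map (Matrix.toLin' ((1 : ↥(Matrix.symplecticGroup (Fin d) F)) :
          Matrix (Fin d ⊕ Fin d) (Fin d ⊕ Fin d) F)) = D i
        rw [Submonoid.coe_one, Matrix.toLin'_one]
        exact Submodule.map_id _
      mul_smul := by
        rintro g h ⟨D, hD⟩
        apply Subtype.ext
        funext i
        show (D i).map (Matrix.toLin' ((g * h : ↥(Matrix.symplecticGroup (Fin d) F)) :
          Matrix (Fin d ⊕ Fin d) (Fin d ⊕ Fin d) F)) =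
          ((D i).map (Matrix.toLin' (h : Matrix (Fin d ⊕ Fin d) (Fin d ⊕ Fin d) F))).map
            (Matrix.toLin' (g : Matrix (Fin d ⊕ Fin d) (Fin d ⊕ Fin d) F))
        rw [Submonoid.coe_mul, Matrix.toLin'_mul, Submodule.map_comp] }
  haveI : MulAction.IsPretransitive ↥(Matrix.symplecticGroup (Fin d) F)
      {D : Fin t → Submodule F (Fin d ⊕ Fin d → F) // IsSDec (stdForm d) (2 * a') D} := by
    refine ⟨fun D D' => ?_⟩
    obtain ⟨g, hg, hgD⟩ := exists_iso_of_isSDec (stdForm_alt d) D.1 D'.1 D.2 D'.2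
    have hmem := mem_of_iso d (g : (Fin d ⊕ Fin d → F) →ₗ[F] (Fin d ⊕ Fin d → F)) hg
    refine ⟨⟨_, hmem⟩, ?_⟩
    apply Subtype.ext
    funext i
    show (D.1 i).map (Matrix.toLin' (LinearMap.toMatrix'
      (g : (Fin d ⊕ Fin d → F) →ₗ[F] (Fin d ⊕ Fin d → F)))) = D'.1 i
    rw [Matrix.toLin'_toMatrix']
    exact hgD i
  have h1 := MulAction.index_stabilizer ↥(Matrix.symplecticGroup (Fin d) F)
    (⟨D0, hD0⟩ : {D : Fin t → Submodule F (Fin d ⊕ Fin d → F) // IsSDec (stdForm d) (2 * a') D})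
  rw [MulAction.orbit_eq_univ, Set.ncard_univ] at h1
  rw [← h1]
  exact Subgroup.index_dvd_card _

theorem isSDec_perm {B : LinearMap.BilinForm F V} {a t : ℕ} (D : Fin t → Submodule F V)
    (σ : Equiv.Perm (Fin t)) (hD : IsSDec B a D) : IsSDec B a (fun i => D (σ i)) := by
  refine ⟨⟨fun i => hD.1.1 _, hD.1.2.1.comp σ.injective, ?_⟩, fun j => hD.2.1 _, ?_⟩
  · show (⨆ i, D (σ i)) = ⊤
    rw [Equiv.iSup_comp (g := D) σ]
    exact hD.1.2.2
  · intro j j' hjj'
    exact hD.2.2 _ _ (fun h => hjj' (σ.injective h))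

/-- existence of an orthogonal decomposition -/
theorem exists_isSDec [Fintype F] [FiniteDimensional F V] {B : LinearMap.BilinForm F V}
    (hA : B.IsAlt) (hV : NonDeg B ⊤) (p f : ℕ) [Fact p.Prime] (hF : Fintype.card F = p ^ f)
    (a' t : ℕ) (hdim : finrank F V = t * (2 * a')) :
    ∃ D : Fin t → Submodule F V, IsSDec B (2 * a') D := by
  -- use an auxiliary odd prime different from `p`
  obtain ⟨r, hr, hr2, hrp⟩ : ∃ r : ℕ, r.Prime ∧ r ≠ 2 ∧ r ≠ p := by
    by_cases h3 : p = 3
    · exact ⟨5, by norm_num, by norm_num, by omega⟩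
    · exact ⟨3, by norm_num, by norm_num, fun h => h3 h.symm⟩
  haveI : Fact r.Prime := ⟨hr⟩
  have hp : p.Prime := Fact.out
  haveI : CharP F p := by
    have hf0 : f ≠ 0 := by
      rintro rfl
      rw [pow_zero] at hF
      have := Fintype.one_lt_card (α := F)
      omega
    obtain ⟨p', hp'⟩ := CharP.exists F
    haveI := hp'
    haveI : Fact p'.Prime := ⟨CharP.char_is_prime F p'⟩
    obtain ⟨n', hp'n, hn'⟩ := FiniteField.card F p'
    have : p' = p := by
      have h1 : p' ∣ p ^ f := by rw [← hF, hn']; exact dvd_pow_self _ n'.ne_zero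
      have h2 := (Fact.out : p'.Prime).dvd_of_dvd_pow h1
      exact (Nat.prime_dvd_prime_iff_eq Fact.out hp).mp h2
    rw [← this]
    exact hp'
  have hrF : (r : F) ≠ 0 := by
    intro h
    rw [CharP.cast_eq_zero_iff F p] at h
    exact hrp ((Nat.prime_dvd_prime_iff_eq hp hr).mp h).symm
  have hV1 : V1 r (1 : V →ₗ[F] V) = ⊥ := by
    rw [eq_bot_iff]
    intro v hv
    rw [mem_V1, gsum_apply] at hv
    simp only [one_pow, Module.End.one_apply, Finset.sum_const, Finset.card_range] at hv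
    rw [← Nat.cast_smul_eq_nsmul F, smul_eq_zero] at hv
    rcases hv with h | h
    · exact absurd h hrF
    · rw [h]; exact Submodule.zero_mem _
  obtain ⟨D, -, h2, h3, h4, h5, h6⟩ := symp_decomp hA hV p f hF r (Ne.symm hrp) hr2 hrF 1
    (one_pow r) (fun u v => rfl) (2 * a') (even_two_mul a') t ⊤ (fun _ _ => Submodule.mem_top) hV
    (by rw [finrank_top]; exact hdim) (by rw [hV1, inf_bot_eq, finrank_bot]; exact Nat.zero_le _)
  exact ⟨D, ⟨h3, h4, h5⟩, h2, h6⟩

/-- a prime dividing the number of unordered orthogonal decompositions -/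
theorem le_of_dvd_card_isSDec [Fintype F] {p : ℕ} [Fact p.Prime] [CharP F p] (f : ℕ)
    (hF : Fintype.card F = p ^ f) (d a' t : ℕ) (hdt : 2 * d = 2 * a' * t) (ha' : 1 ≤ a')
    (hd : 1 ≤ d) (r : ℕ) [Fact r.Prime] (hrp : r ≠ p)
    (h : r ∣ Nat.card {D : Fin t → Submodule F (Fin d ⊕ Fin d → F) //
      IsSDec (stdForm d) (2 * a') D} / t.factorial) :
    cOf (orderOf ((Fintype.card F : ℕ) : ZMod r)) ≤ 2 * d := by
  classical
  have hr : r.Prime := Fact.out
  have hp : p.Prime := Fact.out
  have hfin : finrank F (Fin d ⊕ Fin d → F) = t * (2 * a') := by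
    rw [Module.finrank_pi, Fintype.card_sum, Fintype.card_fin]
    rw [← two_mul, hdt]
    ring
  obtain ⟨D0, hD0⟩ := exists_isSDec (stdForm_alt (F := F) d) (stdForm_nonDeg d) p f hF a' t hfin
  obtain ⟨M, hM⟩ := factorial_dvd_card_of_perm (F := F) (V := Fin d ⊕ Fin d → F) t
    (fun D => IsSDec (stdForm d) (2 * a') D)
    (fun D hD => IsDec.injective (by omega) hD.1)
    (fun D σ hD => isSDec_perm (B := stdForm d) D σ hD)
  rw [hM, Nat.mul_div_cancel_left _ (Nat.factorial_pos t)] at h
  have h1 : r ∣ Nat.card {D : Fin t → Submodule F (Fin d ⊕ Fin d → F) //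
      IsSDec (stdForm d) (2 * a') D} := by
    rw [hM]
    exact Dvd.dvd.mul_left h _
  have h2 := card_isSDec_dvd (F := F) d a' t D0 hD0
  have h3 := dvd_trans h1 h2
  rw [Cfsg.Agent.Lib.Helper07.card_symplecticGroup (F := F) (q := Fintype.card F) rfl d] at h3
  have hrq : ¬ r ∣ Fintype.card F := by
    rw [hF]
    intro hdiv
    have := hr.dvd_of_dvd_pow hdiv
    rw [Nat.prime_dvd_prime_iff_eq hr hp] at this
    exact hrp this
  have h4 : r ∣ ∏ i ∈ Finset.range d, (Fintype.card F ^ (2 * (i + 1)) - 1) := by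
    rcases (Nat.Prime.dvd_mul hr).mp h3 with h | h
    · exact absurd (hr.dvd_of_dvd_pow h) hrq
    · exact h
  rw [hr.prime.dvd_finsetProd_iff] at h4
  obtain ⟨s, hs, hsd⟩ := h4
  have hs' := Finset.mem_range.mp hs
  have hq1 : 1 ≤ Fintype.card F := Fintype.card_pos
  have h5 : orderOf ((Fintype.card F : ℕ) : ZMod r) ∣ 2 * (s + 1) := by
    rw [orderOf_dvd_iff_pow_eq_one]
    have h6 := (ZMod.natCast_eq_zero_iff _ _).mpr hsd
    rw [Nat.cast_sub (Nat.one_le_pow _ _ hq1)] at h6
    push_cast at h6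
    exact sub_eq_zero.mp h6
  have h6 := cOf_dvd _ _ h5 (even_two_mul (s + 1))
  have := Nat.le_of_dvd (by omega) h6
  omega

end Cfsg.Agent.Lib.Helper98.Sy
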