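import Mathlib

/-!
# Subgroups of index `n` in the symmetric group of degree `n` (helper98)

Main results (all in namespace `Cfsg.Agent.Lib.Helper98.SymIndex`):
* `fact_arith`: class-size arithmetic, `#(2^k) = #(2^1)` forces `k = 1` or `(n,k) = (6,3)`.
* `isSwap_iff_cycleType`, `cycleType_map_swap`, `isSwap_map_of_card_ne_six`:
  an isomorphism of symmetric groups of degree `≠ 6` maps transpositions to transpositions.
* `stabilizer_eq_closure`: a point stabilizer is generated by the transpositions it contains.
* `eq_stabilizer_of_closure_isSwap`: a subgroup of index `n` generated by transpositions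
  is a point stabilizer.
* `exists_mulEquiv_comap_stabilizer`: a subgroup of index `n ≥ 5` is the preimage of a point
  stabilizer under an automorphism of `Perm Ω`.
* `eq_stabilizer_of_index`: for `n ≠ 6`, subgroups of index `n` are point stabilizers.
-/

set_option autoImplicit false
set_option linter.unusedSectionVars false

namespace Cfsg.Agent.Lib.Helper98.SymIndex

open Equiv Equiv.Perm


/-- `(2k-2)! > 2^(k-1) k!` for `k ≥ 4`, shifted. -/
theorem fact_arith_aux (j : ℕ) : 2 ^ (j + 3) * (j + 4).factorial < (2 * j + 6).factorial := by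
  induction j with
  | zero => decide
  | succ j ih =>
    have h1 : (2 * (j + 1) + 6).factorial = (2 * j + 8) * ((2 * j + 7) * (2 * j + 6).factorial) := by
      rw [show 2 * (j + 1) + 6 = (2 * j + 7) + 1 by ring, Nat.factorial_succ,
        show 2 * j + 7 = (2 * j + 6) + 1 by ring, Nat.factorial_succ]
    have h2 : (j + 1 + 4).factorial = (j + 5) * (j + 4).factorial := by
      rw [show j + 1 + 4 = (j + 4) + 1 by ring, Nat.factorial_succ]
    have h4 : 2 ^ (j + 1 + 3) = 2 * 2 ^ (j + 3) := by
      rw [show j + 1 + 3 = (j + 3) + 1 by ring, pow_succ]; ring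
    rw [h1, h2, h4]
    calc 2 * 2 ^ (j + 3) * ((j + 5) * (j + 4).factorial)
        = (2 * (j + 5)) * (2 ^ (j + 3) * (j + 4).factorial) := by ring
      _ ≤ ((2 * j + 8) * (2 * j + 7)) * (2 ^ (j + 3) * (j + 4).factorial) := by
          apply Nat.mul_le_mul_right; nlinarith
      _ < ((2 * j + 8) * (2 * j + 7)) * (2 * j + 6).factorial := by
          apply Nat.mul_lt_mul_of_pos_left ih; positivity
      _ = _ := by ring

/-- The key arithmetic fact: if the number of products of `k` disjoint transpositions
in `S_n` equals the number of transpositions then `k = 1` or `(n, k) = (6, 3)`. -/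
theorem fact_arith (n k : ℕ) (hk : 1 ≤ k) (hkn : 2 * k ≤ n)
    (h : (n - 2).factorial * 2 = (n - 2 * k).factorial * 2 ^ k * k.factorial) :
    k = 1 ∨ (n = 6 ∧ k = 3) := by
  obtain ⟨m, rfl⟩ : ∃ m, n = m + 2 * k := ⟨n - 2 * k, by omega⟩
  rw [show m + 2 * k - 2 * k = m by omega] at h
  have hm := Nat.factorial_pos m
  rcases Nat.lt_or_ge k 4 with hk4 | hk4
  · interval_cases k
    · left; rfl
    · exfalso
      rw [show m + 2 * 2 - 2 = (m + 1) + 1 by omega, Nat.factorial_succ, Nat.factorial_succ] at h
      have h' : (m + 1 + 1) * (m + 1) = 4 := by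
        apply Nat.eq_of_mul_eq_mul_right hm
        norm_num at h
        linarith
      rcases Nat.eq_zero_or_pos m with rfl | hpos
      · omega
      · nlinarith
    · right
      rw [show m + 2 * 3 - 2 = (m + 3) + 1 by omega, Nat.factorial_succ, Nat.factorial_succ,
        Nat.factorial_succ, Nat.factorial_succ] at h
      have h' : (m + 3 + 1) * ((m + 2 + 1) * ((m + 1 + 1) * (m + 1))) = 24 := by
        apply Nat.eq_of_mul_eq_mul_right hm
        norm_num at h
        linarith
      rcases Nat.eq_zero_or_pos m with rfl | hpos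
      · exact ⟨rfl, rfl⟩
      · exfalso
        have : (m + 3 + 1) * ((m + 2 + 1) * ((m + 1 + 1) * ((m + 1)))) ≥ 120 := by
          have : 1 ≤ m := hpos
          calc (m + 3 + 1) * ((m + 2 + 1) * ((m + 1 + 1) * ((m + 1)))) 
              ≥ (1 + 3 + 1) * ((1 + 2 + 1) * ((1 + 1 + 1) * ((1 + 1)))) := by gcongr
            _ = 120 := by norm_num
        omega
  · exfalso
    obtain ⟨j, rfl⟩ : ∃ j, k = j + 4 := ⟨k - 4, by omega⟩
    have h1 : m.factorial * (2 * j + 6).factorial ≤ (m + 2 * (j + 4) - 2).factorial := by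
      rw [show m + 2 * (j + 4) - 2 = m + (2 * j + 6) by omega]
      exact Nat.le_of_dvd (Nat.factorial_pos _) (Nat.factorial_mul_factorial_dvd_factorial_add ..)
    have h2 := fact_arith_aux j
    have h3 : 2 ^ (j + 4) = 2 * 2 ^ (j + 3) := by rw [pow_succ]; ring
    rw [h3] at h
    have h5 : m.factorial * (2 ^ (j + 3) * (j + 4).factorial) < m.factorial * (2 * j + 6).factorial :=
      Nat.mul_lt_mul_of_pos_left h2 hm
    nlinarith




variable {A B : Type*} [Fintype A] [DecidableEq A] [Fintype B] [DecidableEq B]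

theorem isSwap_iff_cycleType {g : Perm A} : g.IsSwap ↔ g.cycleType = {2} := by
  constructor
  · intro h
    rw [h.isCycle.cycleType, card_support_eq_two.mpr h]
  · intro h
    rw [← card_support_eq_two, ← sum_cycleType, h]; rfl

theorem cycleType_mulEquiv_iff (ψ : Perm A ≃* Perm B) (g g' : Perm A) :
    (ψ g').cycleType = (ψ g).cycleType ↔ g'.cycleType = g.cycleType := by
  rw [← isConj_iff_cycleType_eq, ← isConj_iff_cycleType_eq]
  constructor
  · intro h
    have := ψ.symm.toMonoidHom.map_isConj h
    simpa using this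
  · intro h
    exact ψ.toMonoidHom.map_isConj h

/-- The cycle type of the image of a transposition under an isomorphism of symmetric groups. -/
theorem cycleType_map_swap (hAB : Fintype.card A = Fintype.card B) (ψ : Perm A ≃* Perm B)
    {g : Perm A} (hg : g.IsSwap) :
    ∃ k, 1 ≤ k ∧ 2 * k ≤ Fintype.card A ∧ (ψ g).cycleType = Multiset.replicate k 2 ∧
      (Fintype.card A - 2).factorial * 2 =
        (Fintype.card A - 2 * k).factorial * 2 ^ k * k.factorial := by
  have hord : orderOf (ψ g) = 2 := by rw [MulEquiv.orderOf_eq, hg.orderOf]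
  obtain ⟨k0, hk0⟩ := cycleType_prime_order (σ := ψ g) (by rw [hord]; exact Nat.prime_two)
  rw [hord] at hk0
  refine ⟨k0 + 1, by omega, ?_, hk0, ?_⟩
  · have := sum_cycleType (ψ g)
    rw [hk0, Multiset.sum_replicate, smul_eq_mul] at this
    have h2 := (ψ g).support.card_le_univ
    omega
  · have hcard : ({g' : Perm A | g'.cycleType = {2}} : Finset (Perm A)).card =
        ({h : Perm B | h.cycleType = Multiset.replicate (k0 + 1) 2} : Finset (Perm B)).card := by
      apply Finset.card_equiv ψ.toEquiv
      intro g'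
      simp only [Finset.mem_filter, Finset.mem_univ, true_and, MulEquiv.toEquiv_eq_coe,
        EquivLike.coe_coe]
      rw [← hk0, cycleType_mulEquiv_iff, isSwap_iff_cycleType.mp hg]
    have hpos : 0 < ({g' : Perm A | g'.cycleType = {2}} : Finset (Perm A)).card := by
      apply Finset.card_pos.mpr
      exact ⟨g, by simp [isSwap_iff_cycleType.mp hg]⟩
    have h1 := card_of_cycleType_mul_eq A {2}
    have h2 := card_of_cycleType_mul_eq B (Multiset.replicate (k0 + 1) 2)
    rw [← hcard, ← hAB] at h2
    have hn2 : 2 ≤ Fintype.card A := by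
      have := sum_cycleType g
      rw [isSwap_iff_cycleType.mp hg] at this
      have h2 := g.support.card_le_univ
      simp at this
      omega
    simp only [Multiset.sum_singleton, Multiset.prod_singleton, Multiset.toFinset_singleton,
      Finset.prod_singleton, Multiset.count_singleton_self, Nat.factorial_one, mul_one,
      Multiset.mem_singleton, forall_eq, le_refl, and_true, hn2, if_true] at h1
    simp only [Multiset.sum_replicate, smul_eq_mul, Multiset.prod_replicate,
      Multiset.toFinset_replicate, Nat.add_eq_zero_iff, one_ne_zero, and_false, if_false,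
      Finset.prod_singleton, Multiset.count_replicate_self] at h2
    split_ifs at h2 with hc
    · have := h1.trans h2.symm
      have := Nat.eq_of_mul_eq_mul_left hpos this
      rw [this]; ring_nf
    · exfalso
      have : 0 < ((Fintype.card A - (k0 + 1) * 2).factorial * 2 ^ (k0 + 1) * (k0 + 1).factorial) := by
        positivity
      have := Nat.mul_pos hpos this
      omega

theorem isSwap_map_of_card_ne_six (hAB : Fintype.card A = Fintype.card B)
    (h6 : Fintype.card A ≠ 6) (ψ : Perm A ≃* Perm B) {g : Perm A} (hg : g.IsSwap) :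
    (ψ g).IsSwap := by
  obtain ⟨k, hk1, hk2, hk3, hk4⟩ := cycleType_map_swap hAB ψ hg
  rcases fact_arith _ k hk1 hk2 hk4 with rfl | ⟨h, -⟩
  · rw [isSwap_iff_cycleType, hk3]; rfl
  · exact absurd h h6



variable {Ω : Type*} [Fintype Ω] [DecidableEq Ω]

theorem stabilizer_le_closure (x : Ω) :
    MulAction.stabilizer (Perm Ω) x ≤ Subgroup.closure {g : Perm Ω | g.IsSwap ∧ g x = x} := by
  intro g hg
  have hS : ∀ f ∈ {g : Perm Ω | g.IsSwap ∧ g x = x}, f.IsSwap := fun f hf => hf.1
  rw [mem_closure_isSwap hS]
  refine ⟨Set.toFinite _, fun y => ?_⟩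
  by_cases hy : g y = y
  · rw [hy]; exact MulAction.mem_orbit_self y
  · have hgx : g x = x := hg
    have hyx : y ≠ x := fun h => hy (h ▸ hgx)
    have hgyx : g y ≠ x := fun h => hyx (g.injective (h.trans hgx.symm))
    have : swap y (g y) ∈ Subgroup.closure {g : Perm Ω | g.IsSwap ∧ g x = x} :=
      Subgroup.subset_closure ⟨⟨y, g y, Ne.symm hy, rfl⟩,
        swap_apply_of_ne_of_ne (Ne.symm hyx) (Ne.symm hgyx)⟩
    exact ⟨⟨swap y (g y), this⟩, swap_apply_left ..⟩

theorem stabilizer_eq_closure (x : Ω) :
    MulAction.stabilizer (Perm Ω) x = Subgroup.closure {g : Perm Ω | g.IsSwap ∧ g x = x} := by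
  apply le_antisymm (stabilizer_le_closure x)
  rw [Subgroup.closure_le]
  intro g hg
  exact hg.2

theorem fact_lt (c d : ℕ) (hc : 2 ≤ c) (hd : 2 ≤ d) :
    c.factorial * d.factorial < (c + d - 1).factorial := by
  induction d, hd using Nat.le_induction with
  | base =>
    have h2 : Nat.factorial 2 = 2 := rfl
    have h3 : (c + 2 - 1).factorial = (c + 1) * c.factorial := by
      rw [show c + 2 - 1 = c + 1 by omega, Nat.factorial_succ]
    rw [h2, h3, mul_comm]
    exact Nat.mul_lt_mul_of_pos_right (by omega) (Nat.factorial_pos c)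
  | succ d hd ih =>
    rw [show c + (d + 1) - 1 = (c + d - 1) + 1 by omega, Nat.factorial_succ, Nat.factorial_succ]
    calc c.factorial * ((d + 1) * d.factorial) = (d + 1) * (c.factorial * d.factorial) := by ring
      _ < (d + 1) * (c + d - 1).factorial := Nat.mul_lt_mul_of_pos_left ih (by omega)
      _ ≤ (c + d - 1 + 1) * (c + d - 1).factorial := Nat.mul_le_mul_right _ (by omega)

theorem card_of_index_eq (H : Subgroup (Perm Ω)) (hH : H.index = Fintype.card Ω) :
    Nat.card H = (Fintype.card Ω - 1).factorial := by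
  have h1 := H.card_mul_index
  rw [hH, Nat.card_perm, Nat.card_eq_fintype_card (α := Ω)] at h1
  have hpos : 0 < Fintype.card Ω := by
    rw [← hH]; exact Nat.pos_of_ne_zero Subgroup.index_ne_zero_of_finite
  obtain ⟨m, hm⟩ : ∃ m, Fintype.card Ω = m + 1 := ⟨Fintype.card Ω - 1, by omega⟩
  rw [hm, Nat.factorial_succ, mul_comm] at h1
  rw [hm, Nat.add_sub_cancel]
  exact Nat.eq_of_mul_eq_mul_left (by omega) h1

theorem eq_stabilizer_of_le (H : Subgroup (Perm Ω)) (hH : H.index = Fintype.card Ω) (w : Ω)
    (hw : ∀ g ∈ H, g w = w) : H = MulAction.stabilizer (Perm Ω) w := by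
  have hle : H ≤ MulAction.stabilizer (Perm Ω) w := fun g hg => hw g hg
  apply Subgroup.eq_of_le_of_card_ge hle
  have h1 : (MulAction.stabilizer (Perm Ω) w).index = Nat.card Ω :=
    MulAction.index_stabilizer_of_transitive (X := Ω) (Perm Ω) w
  rw [Nat.card_eq_fintype_card] at h1
  rw [card_of_index_eq H hH, card_of_index_eq _ h1]

theorem eq_stabilizer_of_closure_isSwap (H : Subgroup (Perm Ω)) (hH : H.index = Fintype.card Ω)
    (h2 : 2 ≤ Fintype.card Ω) (T : Set (Perm Ω)) (hT : ∀ g ∈ T, g.IsSwap)
    (hHT : H = Subgroup.closure T) : ∃ x : Ω, H = MulAction.stabilizer (Perm Ω) x := by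
  classical
  have hne : H ≠ ⊤ := by
    intro h
    rw [h, Subgroup.index_top] at hH
    omega
  have hnt : ¬ MulAction.IsPretransitive H Ω := by
    intro h
    apply hne
    subst hHT
    exact closure_of_isSwap_of_isPretransitive hT
  have : ∃ y z : Ω, z ∉ MulAction.orbit H y := by
    by_contra hcon
    push Not at hcon
    exact hnt ⟨fun y z => hcon y z⟩
  obtain ⟨y, z, hz⟩ := this
  let f : Ω → Bool := fun a => decide (a ∈ MulAction.orbit H y)
  have hfH : ∀ g ∈ H, ∀ a, f (g a) = f a := by
    intro g hg a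
    simp only [f, decide_eq_decide]
    have : g a = (⟨g, hg⟩ : H) • a := rfl
    rw [this, ← MulAction.orbit_eq_iff, MulAction.orbit_smul, MulAction.orbit_eq_iff]
  -- cardinality bound
  have hcard : Nat.card H ≤ Fintype.card {g : Perm Ω // f ∘ g = f} := by
    rw [← Nat.card_eq_fintype_card]
    apply Nat.card_le_card_of_injective (fun g : H => (⟨g.1, funext (hfH g.1 g.2)⟩ : {g : Perm Ω // f ∘ g = f}))
    intro g g' hgg'
    exact Subtype.ext (Subtype.mk.inj hgg')
  rw [DomMulAct.stabilizer_card, Fintype.prod_bool, card_of_index_eq H hH] at hcard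
  have hsum : Fintype.card {a // f a = true} + Fintype.card {a // f a = false} = Fintype.card Ω := by
    have := Fintype.card_subtype_compl (fun a => f a = true)
    have h3 : Fintype.card {a // f a = false} = Fintype.card {a // ¬ f a = true} := by
      apply Fintype.card_congr
      exact Equiv.subtypeEquivRight (fun a => by simp)
    rw [h3, this]
    have := Fintype.card_subtype_le (fun a => f a = true)
    omega
  have hy1 : 1 ≤ Fintype.card {a // f a = true} :=
    Fintype.card_pos_iff.mpr ⟨⟨y, by simp [f]⟩⟩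
  have hz1 : 1 ≤ Fintype.card {a // f a = false} :=
    Fintype.card_pos_iff.mpr ⟨⟨z, by simp [f, hz]⟩⟩
  have key : ∃ w, Fintype.card {a // f a = f w} = 1 := by
    by_contra hcon
    push Not at hcon
    have hy2 : 2 ≤ Fintype.card {a // f a = true} := by
      have := hcon y
      have hfy : f y = true := by simp [f]
      rw [hfy] at this
      omega
    have hz2 : 2 ≤ Fintype.card {a // f a = false} := by
      have := hcon z
      have hfz : f z = false := by simp [f, hz]
      rw [hfz] at this
      omega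
    have := fact_lt _ _ hy2 hz2
    rw [hsum] at this
    omega
  obtain ⟨w, hw⟩ := key
  refine ⟨w, eq_stabilizer_of_le H hH w fun g hg => ?_⟩
  have hsub : Subsingleton {a // f a = f w} := Fintype.card_le_one_iff_subsingleton.mp hw.le
  have := Subsingleton.elim (⟨g w, hfH g hg w⟩ : {a // f a = f w}) ⟨w, rfl⟩
  exact congrArg Subtype.val this




/-- For `H` of index `card Ω ≥ 5`, the coset action gives an automorphism of `Perm Ω`
under which `H` is the preimage of a point stabilizer. -/
theorem exists_mulEquiv_comap_stabilizer (h5 : 5 ≤ Fintype.card Ω) (H : Subgroup (Perm Ω))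
    (hH : H.index = Fintype.card Ω) (x₀ : Ω) :
    ∃ α : Perm Ω ≃* Perm Ω, ∀ g, g ∈ H ↔ α g x₀ = x₀ := by
  classical
  have hker : (MulAction.toPermHom (Perm Ω) (Perm Ω ⧸ H)).ker = ⊥ := by
    rw [← Subgroup.normalCore_eq_ker]
    by_contra hne
    have hnt : Nontrivial H.normalCore := (Subgroup.nontrivial_iff_ne_bot _).mpr hne
    have hA := alternatingGroup_le_of_normal (by rw [Nat.card_eq_fintype_card]; exact h5) hnt
    have hAH : alternatingGroup Ω ≤ H := hA.trans (Subgroup.normalCore_le H)
    have hdvd := Subgroup.index_dvd_of_le hAH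
    have : Nontrivial Ω := Fintype.one_lt_card_iff_nontrivial.mp (by omega)
    rw [alternatingGroup.index_eq_two, hH] at hdvd
    have := Nat.le_of_dvd (by norm_num) hdvd
    omega
  have hinj : Function.Injective (MulAction.toPermHom (Perm Ω) (Perm Ω ⧸ H)) :=
    (MonoidHom.ker_eq_bot_iff _).mp hker
  have hcardX : Nat.card (Perm Ω ⧸ H) = Nat.card Ω := by
    rw [Nat.card_eq_fintype_card (α := Ω), ← hH]; rfl
  have hbij : Function.Bijective (MulAction.toPermHom (Perm Ω) (Perm Ω ⧸ H)) := by
    rw [Nat.bijective_iff_injective_and_card]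
    refine ⟨hinj, ?_⟩
    rw [Nat.card_perm, Nat.card_perm, hcardX]
  obtain ⟨e₀⟩ : Nonempty ((Perm Ω ⧸ H) ≃ Ω) := by
    have := Finite.equivFinOfCardEq hcardX
    exact ⟨this.trans (Finite.equivFin Ω).symm⟩
  let e : (Perm Ω ⧸ H) ≃ Ω := e₀.trans (swap (e₀ (QuotientGroup.mk 1)) x₀)
  have he : e (QuotientGroup.mk 1) = x₀ := by simp [e]
  refine ⟨(MulEquiv.ofBijective _ hbij).trans (permCongrHom e), fun g => ?_⟩
  have h1 : ((MulEquiv.ofBijective _ hbij).trans (permCongrHom e)) g x₀ =
      e (g • (e.symm x₀)) := rfl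
  have h2 : e.symm x₀ = QuotientGroup.mk 1 := by rw [← he, Equiv.symm_apply_apply]
  rw [h1, h2, ← he, e.apply_eq_iff_eq, MulAction.Quotient.smul_mk, QuotientGroup.eq]
  simp






/-- Degrees 3 and 4 (and in fact any degree `n` with `n - 1` prime and `(n-2)! ≤ 2`). -/
theorem eq_stabilizer_small (q : ℕ) (hq : q.Prime) (hn : Fintype.card Ω = q + 1)
    (hq2 : (q - 1).factorial ≤ 2)
    (H : Subgroup (Perm Ω)) (hH : H.index = Fintype.card Ω) :
    ∃ x : Ω, H = MulAction.stabilizer (Perm Ω) x := by
  classical
  have hcard := card_of_index_eq H hH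
  rw [hn, Nat.add_sub_cancel] at hcard
  have : Fact q.Prime := ⟨hq⟩
  have hqpos := hq.pos
  have hq2' := hq.two_le
  -- element of order q in H
  obtain ⟨⟨g, hgH⟩, hg⟩ := exists_prime_orderOf_dvd_card' (G := H) q
    (by rw [hcard]; exact Nat.dvd_factorial hqpos le_rfl)
  have hgord : orderOf g = q := by
    rw [← hg]; exact (Subgroup.orderOf_mk g hgH).symm
  -- g is a q-cycle
  obtain ⟨k, hk⟩ := cycleType_prime_order (σ := g) (by rw [hgord]; exact hq)
  rw [hgord] at hk
  have hsupp : g.support.card = q := by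
    have h1 := sum_cycleType g
    rw [hk, Multiset.sum_replicate, smul_eq_mul] at h1
    have h2 := g.support.card_le_univ
    rw [hn] at h2
    have : k = 0 := by
      by_contra hk0
      have : 2 ≤ k + 1 := by omega
      nlinarith
    subst this
    omega
  -- unique fixed point
  have hfix : (g.support)ᶜ.card = 1 := by
    rw [Finset.card_compl, hsupp, hn]; omega
  obtain ⟨w, hw⟩ := Finset.card_eq_one.mp hfix
  have hgw : ∀ v, g v = v ↔ v = w := by
    intro v
    have : v ∈ (g.support)ᶜ ↔ v ∈ ({w} : Finset Ω) := by rw [hw]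
    simpa [Finset.mem_compl, mem_support] using this
  -- P = zpowers g is normal in H
  have hPH : Subgroup.zpowers g ≤ H := (Subgroup.zpowers_le).mpr hgH
  have hPcard : Nat.card (Subgroup.zpowers g) = q := by rw [Nat.card_zpowers, hgord]
  have hrel : (Subgroup.zpowers g).relIndex H = (q - 1).factorial := by
    have h1 := Subgroup.relIndex_mul_index hPH
    have h2 := (Subgroup.zpowers g).card_mul_index
    have h3 := H.card_mul_index
    rw [hPcard] at h2
    rw [hcard] at h3
    have h4 : q.factorial = q * (q - 1).factorial := by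
      obtain ⟨m, rfl⟩ : ∃ m, q = m + 1 := ⟨q - 1, by omega⟩
      rw [Nat.factorial_succ, Nat.add_sub_cancel]
    have h5 : 0 < H.index := Nat.pos_of_ne_zero Subgroup.index_ne_zero_of_finite
    have h6 : q * ((Subgroup.zpowers g).relIndex H * H.index) = q * ((q - 1).factorial * H.index) := by
      rw [h1, h2, ← h3, h4]; ring
    have h7 := Nat.eq_of_mul_eq_mul_left hqpos h6
    exact Nat.eq_of_mul_eq_mul_right h5 h7
  have hnormal : ((Subgroup.zpowers g).subgroupOf H).Normal := by
    have hidx : ((Subgroup.zpowers g).subgroupOf H).index = (q - 1).factorial := hrel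
    have hpos := Nat.factorial_pos (q - 1)
    have : (q - 1).factorial = 1 ∨ (q - 1).factorial = 2 := by omega
    rcases this with h1 | h2
    · rw [h1, Subgroup.index_eq_one] at hidx
      rw [hidx]; infer_instance
    · rw [h2] at hidx
      exact Subgroup.normal_of_index_eq_two hidx
  rw [Subgroup.normal_subgroupOf_iff hPH] at hnormal
  refine ⟨w, eq_stabilizer_of_le H hH w fun h hh => ?_⟩
  -- p = h g h⁻¹ ∈ P
  have hp := hnormal g h (Subgroup.mem_zpowers g) hh
  have hp1 : (⟨h * g * h⁻¹, hp⟩ : Subgroup.zpowers g) ≠ 1 := by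
    intro h1
    have h2 : h * g * h⁻¹ = 1 := congrArg Subtype.val h1
    have : g = 1 := by
      have := congrArg (fun x => h⁻¹ * x * h) h2
      simpa [mul_assoc] using this
    rw [this, orderOf_one] at hgord
    omega
  have hmem := mem_zpowers_of_prime_card (G := Subgroup.zpowers g) hPcard hp1
    (g' := ⟨g, Subgroup.mem_zpowers g⟩)
  obtain ⟨j, hj⟩ := Subgroup.mem_zpowers_iff.mp hmem
  have hj' : (h * g * h⁻¹) ^ j = g := by
    have := congrArg Subtype.val hj
    simpa using this
  -- h g h⁻¹ fixes h w
  have hfixhw : (h * g * h⁻¹) (h w) = h w := by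
    simp [Perm.mul_apply, (hgw w).mpr rfl]
  have : g (h w) = h w := by
    rw [← hj']
    exact Equiv.Perm.zpow_apply_eq_self_of_apply_eq_self hfixhw j
  exact (hgw _).mp this

/-- Degrees at most 2. -/
theorem eq_stabilizer_tiny (hn : Fintype.card Ω ≤ 2)
    (H : Subgroup (Perm Ω)) (hH : H.index = Fintype.card Ω) :
    ∃ x : Ω, H = MulAction.stabilizer (Perm Ω) x := by
  have hcard := card_of_index_eq H hH
  have hpos : 0 < Fintype.card Ω := by
    rw [← hH]; exact Nat.pos_of_ne_zero Subgroup.index_ne_zero_of_finite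
  have h1 : (Fintype.card Ω - 1).factorial = 1 := by
    have : Fintype.card Ω - 1 = 0 ∨ Fintype.card Ω - 1 = 1 := by omega
    rcases this with h | h <;> rw [h] <;> rfl
  rw [h1] at hcard
  have hbot := Subgroup.eq_bot_of_card_eq H hcard
  obtain ⟨w⟩ : Nonempty Ω := Fintype.card_pos_iff.mp hpos
  refine ⟨w, eq_stabilizer_of_le H hH w fun g hg => ?_⟩
  rw [hbot, Subgroup.mem_bot] at hg
  rw [hg]; rfl


/-- If `α` is an automorphism of `Perm Ω` whose inverse maps transpositions to transpositions,
and `H` of index `card Ω` is the preimage of a point stabilizer, then `H` is a point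
stabilizer. -/
theorem eq_stabilizer_of_comap (h2 : 2 ≤ Fintype.card Ω) (α : Perm Ω ≃* Perm Ω)
    (hα : ∀ g : Perm Ω, g.IsSwap → (α.symm g).IsSwap) (x₀ : Ω)
    (H : Subgroup (Perm Ω)) (hH : H.index = Fintype.card Ω)
    (hHα : ∀ g, g ∈ H ↔ α g x₀ = x₀) : ∃ x : Ω, H = MulAction.stabilizer (Perm Ω) x := by
  apply eq_stabilizer_of_closure_isSwap H hH h2
    (α.symm '' {g : Perm Ω | g.IsSwap ∧ g x₀ = x₀})
  · rintro _ ⟨g, hg, rfl⟩
    exact hα g hg.1
  · have h1 : H = (MulAction.stabilizer (Perm Ω) x₀).comap α.toMonoidHom := by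
      ext g
      rw [hHα g]
      rfl
    rw [h1, stabilizer_eq_closure x₀]
    have := Subgroup.comap_equiv_eq_map_symm α
      (Subgroup.closure {g : Perm Ω | g.IsSwap ∧ g x₀ = x₀})
    rw [MonoidHom.map_closure] at this
    exact this

/-- For `n ≠ 6`, every subgroup of index `n` of the symmetric group of degree `n` is a point
stabilizer. -/
theorem eq_stabilizer_of_index (h6 : Fintype.card Ω ≠ 6)
    (H : Subgroup (Perm Ω)) (hH : H.index = Fintype.card Ω) :
    ∃ x : Ω, H = MulAction.stabilizer (Perm Ω) x := by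
  rcases Nat.lt_or_ge (Fintype.card Ω) 5 with hlt | h5
  · rcases Nat.lt_or_ge (Fintype.card Ω) 3 with hlt3 | h3
    · exact eq_stabilizer_tiny (by omega) H hH
    · have : Fintype.card Ω = 3 ∨ Fintype.card Ω = 4 := by omega
      rcases this with h | h
      · exact eq_stabilizer_small 2 Nat.prime_two h (by decide) H hH
      · exact eq_stabilizer_small 3 Nat.prime_three h (by decide) H hH
  · obtain ⟨x₀⟩ : Nonempty Ω := Fintype.card_pos_iff.mp (by omega)
    obtain ⟨α, hα⟩ := exists_mulEquiv_comap_stabilizer h5 H hH x₀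
    exact eq_stabilizer_of_comap (by omega) α
      (fun g hg => isSwap_map_of_card_ne_six rfl h6 α.symm hg) x₀ H hH hα

end Cfsg.Agent.Lib.Helper98.SymIndex
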