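import Cfsg.Agent.Lib.Helper98.SymIndex

/-!
# The symmetric group of degree 6: exotic subgroups of index 6 (helper98)

* `exists_transitive_index_six`: a transitive subgroup of index 6 (image of `S₅` acting on its
  six Sylow 5-subgroups).
* `PS α`: the automorphism `α` preserves transpositions; `PS.symm`, `PS.trans`,
  `cycleType_of_not_PS`, `isSwap_of_not_PS`, `PS_trans_of_not`.
* `inner_of_PS`: an automorphism preserving transpositions is inner.
-/

set_option autoImplicit false
set_option linter.unusedSectionVars false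
set_option linter.unusedVariables false

namespace Cfsg.Agent.Lib.Helper98.SymSix

open Equiv Equiv.Perm Cfsg.Agent.Lib.Helper98.SymIndex

instance fact_prime_five : Fact (Nat.Prime 5) := ⟨by norm_num⟩

theorem card_sylow_five : Nat.card (Sylow 5 (Perm (Fin 5))) = 6 := by
  obtain ⟨P⟩ : Nonempty (Sylow 5 (Perm (Fin 5))) := inferInstance
  have hcardG : Nat.card (Perm (Fin 5)) = 120 := by
    rw [Nat.card_perm, Nat.card_eq_fintype_card, Fintype.card_fin]; rfl
  have hP : Nat.card (P : Subgroup (Perm (Fin 5))) = 5 := by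
    rw [Sylow.card_eq_multiplicity, hcardG]
    have : (120 : ℕ).factorization 5 = 1 := by
      rw [Nat.factorization_def _ (by norm_num : Nat.Prime 5)]
      have h120 : (120 : ℕ) = 5 ^ 1 * 24 := by norm_num
      rw [h120, padicValNat.mul (by norm_num) (by norm_num), padicValNat.prime_pow]
      have : padicValNat 5 24 = 0 := padicValNat.eq_zero_of_not_dvd (by norm_num)
      rw [this]
    rw [this]; rfl
  have hidx : (P : Subgroup (Perm (Fin 5))).index = 24 := by
    have := (P : Subgroup (Perm (Fin 5))).card_mul_index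
    rw [hP, hcardG] at this
    omega
  have h1 := card_sylow_modEq_one 5 (Perm (Fin 5))
  have h2 := Sylow.card_dvd_index P
  rw [hidx] at h2
  have h3 := Nat.le_of_dvd (by norm_num) h2
  have hne1 : Nat.card (Sylow 5 (Perm (Fin 5))) ≠ 1 := by
    intro hc
    have hsub : Subsingleton (Sylow 5 (Perm (Fin 5))) :=
      (Nat.card_eq_one_iff_unique.mp hc).1
    have hn : (P : Subgroup (Perm (Fin 5))).Normal := Sylow.normal_of_subsingleton P
    have hnt : Nontrivial (P : Subgroup (Perm (Fin 5))) := by
      rw [← Finite.one_lt_card_iff_nontrivial, hP]; norm_num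
    have hA := alternatingGroup_le_of_normal (α := Fin 5) (by simp) hnt
    have := Subgroup.card_le_of_le hA
    rw [hP] at this
    have h60 : 2 * Nat.card (alternatingGroup (Fin 5)) = 120 := by
      rw [two_mul_nat_card_alternatingGroup, hcardG]
    omega
  unfold Nat.ModEq at h1
  generalize Nat.card (Sylow 5 (Perm (Fin 5))) = c at *
  interval_cases c <;> simp_all




theorem toPermHom_sylow_injective :
    Function.Injective (MulAction.toPermHom (Perm (Fin 5)) (Sylow 5 (Perm (Fin 5)))) := by
  rw [← MonoidHom.ker_eq_bot_iff]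
  by_contra hne
  set K := (MulAction.toPermHom (Perm (Fin 5)) (Sylow 5 (Perm (Fin 5)))).ker with hK
  have hnt : Nontrivial K := (Subgroup.nontrivial_iff_ne_bot _).mpr hne
  have hA := alternatingGroup_le_of_normal (α := Fin 5) (by simp) hnt
  obtain ⟨P⟩ : Nonempty (Sylow 5 (Perm (Fin 5))) := inferInstance
  have hKS : K ≤ MulAction.stabilizer (Perm (Fin 5)) P := by
    intro g hg
    rw [MulAction.mem_stabilizer_iff]
    have : MulAction.toPermHom (Perm (Fin 5)) (Sylow 5 (Perm (Fin 5))) g = 1 := hg
    have := congrArg (fun f => f P) this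
    simpa using this
  have h1 := Subgroup.index_dvd_of_le (hA.trans hKS)
  rw [alternatingGroup.index_eq_two, MulAction.index_stabilizer_of_transitive, card_sylow_five] at h1
  omega

variable {Ω : Type*} [Fintype Ω] [DecidableEq Ω]

/-- A transitive subgroup of index 6 in the symmetric group of degree 6. -/
theorem exists_transitive_index_six (hΩ : Fintype.card Ω = 6) :
    ∃ H₂ : Subgroup (Perm Ω), H₂.index = 6 ∧ ∀ y z : Ω, ∃ g ∈ H₂, g y = z := by
  obtain ⟨e⟩ : Nonempty (Sylow 5 (Perm (Fin 5)) ≃ Ω) := by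
    have h1 : Nat.card (Sylow 5 (Perm (Fin 5))) = Nat.card Ω := by
      rw [card_sylow_five, Nat.card_eq_fintype_card, hΩ]
    exact ⟨(Finite.equivFinOfCardEq h1).trans (Finite.equivFin Ω).symm⟩
  let ι : Perm (Fin 5) →* Perm Ω :=
    (permCongrHom e).toMonoidHom.comp (MulAction.toPermHom (Perm (Fin 5)) (Sylow 5 (Perm (Fin 5))))
  have hι : Function.Injective ι :=
    (permCongrHom e).injective.comp toPermHom_sylow_injective
  refine ⟨ι.range, ?_, ?_⟩
  · have h1 := ι.range.card_mul_index
    have h2 : Nat.card ι.range = 120 := by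
      rw [← Nat.card_congr (MonoidHom.ofInjective hι).toEquiv, Nat.card_perm,
        Nat.card_eq_fintype_card, Fintype.card_fin]; rfl
    rw [h2, Nat.card_perm, Nat.card_eq_fintype_card, hΩ] at h1
    have : (6 : ℕ).factorial = 720 := rfl
    omega
  · intro y z
    obtain ⟨g, hg⟩ := MulAction.exists_smul_eq (Perm (Fin 5)) (e.symm y) (e.symm z)
    refine ⟨ι g, ⟨g, rfl⟩, ?_⟩
    have : ι g y = e (g • e.symm y) := rfl
    rw [this, hg, Equiv.apply_symm_apply]



/-- An automorphism of `Perm Ω` preserves the class of transpositions. -/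
def PS (α : Perm Ω ≃* Perm Ω) : Prop := ∀ g : Perm Ω, g.IsSwap → (α g).IsSwap

theorem isSwap_of_isConj {g h : Perm Ω} (hg : g.IsSwap) (hc : IsConj g h) : h.IsSwap := by
  rw [Perm.isSwap_iff_cycleType] at hg ⊢
  rw [← hg]; exact (isConj_iff_cycleType_eq.mp hc).symm

theorem isConj_of_isSwap {g h : Perm Ω} (hg : g.IsSwap) (hh : h.IsSwap) : IsConj g h := by
  rw [Perm.isSwap_iff_cycleType] at hg hh
  rw [isConj_iff_cycleType_eq, hg, hh]

theorem PS.symm {α : Perm Ω ≃* Perm Ω} (h : PS α) : PS α.symm := by
  intro s hs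
  have h1 : IsConj (α s) s := isConj_of_isSwap (h s hs) hs
  have h2 := α.symm.toMonoidHom.map_isConj h1
  simp only [MulEquiv.toMonoidHom_eq_coe, MonoidHom.coe_coe, MulEquiv.symm_apply_apply] at h2
  exact isSwap_of_isConj hs h2

theorem PS.trans {α β : Perm Ω ≃* Perm Ω} (h : PS α) (h' : PS β) : PS (α.trans β) :=
  fun g hg => h' _ (h g hg)

theorem not_PS_symm {α : Perm Ω ≃* Perm Ω} (h : ¬ PS α) : ¬ PS α.symm :=
  fun h' => h (by simpa using h'.symm)

/-- In degree 6, an automorphism not preserving transpositions maps them to products of three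
disjoint transpositions. -/
theorem cycleType_of_not_PS (hΩ : Fintype.card Ω = 6) {α : Perm Ω ≃* Perm Ω} (h : ¬ PS α)
    {g : Perm Ω} (hg : g.IsSwap) : (α g).cycleType = Multiset.replicate 3 2 := by
  unfold PS at h
  push Not at h
  obtain ⟨g₀, hg₀, hng₀⟩ := h
  obtain ⟨k, hk1, hk2, hk3, hk4⟩ := cycleType_map_swap rfl α hg₀
  rcases fact_arith _ k hk1 hk2 hk4 with rfl | ⟨-, rfl⟩
  · exfalso; apply hng₀
    rw [Perm.isSwap_iff_cycleType, hk3]; rfl
  · rw [← hk3]
    exact isConj_iff_cycleType_eq.mp (α.toMonoidHom.map_isConj (isConj_of_isSwap hg hg₀))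

/-- In degree 6, an automorphism not preserving transpositions maps products of three
disjoint transpositions to transpositions. -/
theorem isSwap_of_not_PS (hΩ : Fintype.card Ω = 6) {α : Perm Ω ≃* Perm Ω} (h : ¬ PS α)
    {u : Perm Ω} (hu : u.cycleType = Multiset.replicate 3 2) : (α u).IsSwap := by
  obtain ⟨a, b, hab⟩ : ∃ a b : Ω, a ≠ b := by
    have : Nontrivial Ω := Fintype.one_lt_card_iff_nontrivial.mp (by omega)
    exact exists_pair_ne Ω
  have hs : (swap a b).IsSwap := ⟨a, b, hab, rfl⟩
  have h1 := cycleType_of_not_PS hΩ (not_PS_symm h) hs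
  have h2 : IsConj (α.symm (swap a b)) u := by
    rw [isConj_iff_cycleType_eq, h1, hu]
  have h3 := α.toMonoidHom.map_isConj h2
  simp only [MulEquiv.toMonoidHom_eq_coe, MonoidHom.coe_coe, MulEquiv.apply_symm_apply] at h3
  exact isSwap_of_isConj hs h3

theorem PS_trans_of_not (hΩ : Fintype.card Ω = 6) {α β : Perm Ω ≃* Perm Ω} (h : ¬ PS α)
    (h' : ¬ PS β) : PS (α.trans β) :=
  fun _ hg => isSwap_of_not_PS hΩ h' (cycleType_of_not_PS hΩ h hg)

theorem stabilizer_injective (h3 : 3 ≤ Fintype.card Ω) {x y : Ω}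
    (h : MulAction.stabilizer (Perm Ω) x = MulAction.stabilizer (Perm Ω) y) : x = y := by
  by_contra hxy
  obtain ⟨z, hz⟩ : ∃ z, z ∉ ({x, y} : Finset Ω) := by
    by_contra hcon
    push Not at hcon
    have : (Finset.univ : Finset Ω) ⊆ {x, y} := fun z _ => hcon z
    have := Finset.card_le_card this
    rw [Finset.card_univ, Finset.card_pair hxy] at this
    omega
  simp only [Finset.mem_insert, Finset.mem_singleton, not_or] at hz
  have h1 : swap y z ∈ MulAction.stabilizer (Perm Ω) x := by
    rw [MulAction.mem_stabilizer_iff]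
    exact swap_apply_of_ne_of_ne hxy (Ne.symm hz.1)
  rw [h] at h1
  rw [MulAction.mem_stabilizer_iff] at h1
  have : swap y z y = z := swap_apply_left y z
  have h2 : swap y z • y = swap y z y := rfl
  rw [h2, this] at h1
  exact hz.2 h1

/-- An automorphism of `Perm Ω` preserving transpositions is inner. -/
theorem inner_of_PS (h3 : 3 ≤ Fintype.card Ω) {β : Perm Ω ≃* Perm Ω} (h : PS β) :
    ∃ π : Perm Ω, ∀ g, β g = π * g * π⁻¹ := by
  classical
  -- the induced map on points
  have hex : ∀ x : Ω, ∃ y : Ω, ∀ g : Perm Ω, g x = x ↔ (β g) y = y := by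
    intro x
    let K : Subgroup (Perm Ω) := (MulAction.stabilizer (Perm Ω) x).comap β.symm.toMonoidHom
    have hKmem : ∀ g, g ∈ K ↔ β.symm g x = x := fun g => Iff.rfl
    have hKidx : K.index = Fintype.card Ω := by
      have h1 : K.index = (MulAction.stabilizer (Perm Ω) x).index :=
        Subgroup.index_comap_of_surjective _ β.symm.surjective
      rw [h1]
      have := MulAction.index_stabilizer_of_transitive (X := Ω) (Perm Ω) x
      rw [this, Nat.card_eq_fintype_card]
    obtain ⟨y, hy⟩ := eq_stabilizer_of_comap (by omega) β.symm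
      (fun g hg => by rw [MulEquiv.symm_symm]; exact h g hg) x K hKidx hKmem
    refine ⟨y, fun g => ?_⟩
    have h1 : β g ∈ K ↔ β g ∈ MulAction.stabilizer (Perm Ω) y := by rw [hy]
    rw [hKmem, MulEquiv.symm_apply_apply] at h1
    exact h1
  choose π₀ hπ₀ using hex
  have hinj : Function.Injective π₀ := by
    intro x x' hxx'
    apply stabilizer_injective h3
    ext g
    rw [MulAction.mem_stabilizer_iff, MulAction.mem_stabilizer_iff]
    show g x = x ↔ g x' = x'
    rw [hπ₀ x g, hπ₀ x' g, hxx']
  have hbij : Function.Bijective π₀ := Finite.injective_iff_bijective.mp hinj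
  let π : Perm Ω := Equiv.ofBijective π₀ hbij
  have hπ : ∀ (x : Ω) (g : Perm Ω), g x = x ↔ (β g) (π x) = π x := hπ₀
  refine ⟨π, fun g => ?_⟩
  -- agree on swaps
  have hswap : ∀ a b : Ω, a ≠ b → β (swap a b) = π * swap a b * π⁻¹ := by
    intro a b hab
    rw [← Equiv.swap_apply_apply]
    have hs : (β (swap a b)).IsSwap := h _ ⟨a, b, hab, rfl⟩
    obtain ⟨c, d, hcd, hcd'⟩ := hs
    have hna : (β (swap a b)) (π a) ≠ π a := by
      rw [Ne, ← hπ a (swap a b), swap_apply_left]; exact Ne.symm hab
    have hnb : (β (swap a b)) (π b) ≠ π b := by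
      rw [Ne, ← hπ b (swap a b), swap_apply_right]; exact hab
    rw [hcd'] at hna hnb ⊢
    have hab' : π a ≠ π b := fun hh => hab (π.injective hh)
    have h1 : π a = c ∨ π a = d := by
      by_contra hcon
      push Not at hcon
      exact hna (swap_apply_of_ne_of_ne hcon.1 hcon.2)
    have h2 : π b = c ∨ π b = d := by
      by_contra hcon
      push Not at hcon
      exact hnb (swap_apply_of_ne_of_ne hcon.1 hcon.2)
    rcases h1 with h1 | h1 <;> rcases h2 with h2 | h2
    · exact absurd (h1.trans h2.symm) hab'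
    · rw [h1, h2]
    · rw [h1, h2, swap_comm]
    · exact absurd (h1.trans h2.symm) hab'
  have hclos : g ∈ Subgroup.closure {σ : Perm Ω | σ.IsSwap} := by
    rw [closure_isSwap]; trivial
  have := MonoidHom.eqOn_closure (f := β.toMonoidHom) (g := (MulAut.conj π).toMonoidHom)
    (s := {σ : Perm Ω | σ.IsSwap}) (by
      rintro _ ⟨a, b, hab, rfl⟩
      exact hswap a b hab)
  exact this hclos


end Cfsg.Agent.Lib.Helper98.SymSix
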