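import Mathlib
import Cfsg.Agent.Lib.Helper94.THDefs
import Cfsg.Agent.Lib.Helper85.THB5a
import Cfsg.Agent.Lib.Helper45.THB1

/-!
# K-TH-B5b (keystone 163208, pack K-TH of helper94, row S1632): norm-summability of the dual theta family

Induction on `n` along the recursive definition of `dq`, with the strengthened claim: for fixed imaginary
part of `z` the sums `∑' k, ‖ThDTerm n A τ z k‖` are bounded uniformly in the real part of `z`.
-/

set_option autoImplicit false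

namespace Cfsg.Agent.Lib.Helper98.TH

open Matrix Complex
open scoped Real
open Cfsg.Agent.Lib.Helper94.TH

/-- unfolding of the dual term along `Fin.cons` -/
theorem ThDTerm_cons {n : ℕ} (A : Matrix (Fin (n + 1)) (Fin (n + 1)) ℝ) (τ : ℂ)
    (z : Fin (n + 1) → ℂ) (k₀ : ℤ) (k' : Fin n → ℤ) :
    ThDTerm (n + 1) A τ z (Fin.cons k₀ k') =
      cexp (-(π * I / τ) * (((k₀ : ℂ) - z 0) ^ 2 / (A 0 0 : ℂ))) *
      ThDTerm n (schur A) τ
        (fun i => z i.succ + ((k₀ : ℂ) - z 0) * (A 0 i.succ : ℂ) / (A 0 0 : ℂ)) k' := by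
  unfold ThDTerm
  rw [← Complex.exp_add, ← mul_add]
  congr 2
  rw [dq]
  simp only [Fin.cons_zero, Fin.cons_succ]
  congr 2
  funext i
  ring

/-- real part of the exponent of the one-dimensional dual term -/
theorem re_formula (c : ℂ) (a : ℝ) (k : ℤ) (z₀ : ℂ) :
    (c * (((k : ℂ) - z₀) ^ 2 / (a : ℂ))).re =
      (c.re * (((k : ℝ) - z₀.re) ^ 2 - z₀.im ^ 2) + 2 * c.im * ((k : ℝ) - z₀.re) * z₀.im) / a := by
  rw [Complex.mul_re, Complex.div_ofReal_re, Complex.div_ofReal_im]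
  simp only [sq, Complex.mul_re, Complex.mul_im, Complex.sub_re, Complex.sub_im,
    Complex.intCast_re, Complex.intCast_im]
  ring

theorem c_re_neg {τ : ℂ} (hτ : 0 < τ.im) : (-(π * I / τ)).re < 0 := by
  have hn : 0 < Complex.normSq τ := by
    apply Complex.normSq_pos.mpr
    intro h
    rw [h] at hτ
    simp at hτ
  rw [Complex.neg_re, Complex.div_re]
  simp only [Complex.mul_re, Complex.mul_im, Complex.ofReal_re, Complex.ofReal_im, Complex.I_re,
    Complex.I_im, mul_zero, zero_mul, sub_zero, mul_one, add_zero]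
  have : 0 < π * τ.im / Complex.normSq τ := by positivity
  rw [zero_div, zero_add]
  linarith

/-- summable Gaussian with a linear term -/
theorem summable_gauss (α β : ℝ) (hα : 0 < α) :
    Summable (fun m : ℤ => Real.exp (-(α * (m : ℝ) ^ 2) + β * (m : ℝ))) := by
  have h := Cfsg.Agent.Lib.Helper85.TH.th5a_summable_one (α / π) (by positivity) (-β / (2 * π))
  refine h.congr (fun m => ?_)
  congr 1
  have hp : π ≠ 0 := Real.pi_ne_zero
  field_simp
  ring

/-- one-dimensional bound, uniform in the real part of `z₀` -/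
theorem one_dim_uniform (a : ℝ) (ha : 0 < a) (τ : ℂ) (hτ : 0 < τ.im) (y₀ : ℝ) :
    ∃ C₁ : ℝ, ∀ z₀ : ℂ, z₀.im = y₀ →
      Summable (fun k : ℤ => ‖cexp (-(π * I / τ) * (((k : ℂ) - z₀) ^ 2 / (a : ℂ)))‖) ∧
      ∑' k : ℤ, ‖cexp (-(π * I / τ) * (((k : ℂ) - z₀) ^ 2 / (a : ℂ)))‖ ≤ C₁ := by
  set c : ℂ := -(π * I / τ) with hc
  have hcre : c.re < 0 := c_re_neg hτ
  set α : ℝ := -c.re / a with hα
  have hαpos : 0 < α := by rw [hα]; exact div_pos (by linarith) ha
  set β : ℝ := |2 * c.im * y₀ / a| with hβ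
  have hβ0 : 0 ≤ β := abs_nonneg _
  set E : ℝ := Real.exp (α + β + α * y₀ ^ 2) with hE
  let M : ℤ → ℝ := fun k => E * (Real.exp (-(α / 2 * (k : ℝ) ^ 2) + β * (k : ℝ)) +
    Real.exp (-(α / 2 * (k : ℝ) ^ 2) + (-β) * (k : ℝ)))
  have hM : Summable M :=
    ((summable_gauss (α / 2) β (by positivity)).add
      (summable_gauss (α / 2) (-β) (by positivity))).mul_left E
  refine ⟨∑' k, M k, ?_⟩
  intro z₀ hz₀
  -- the shift
  set N : ℤ := ⌊z₀.re⌋ with hN
  set x₁ : ℝ := z₀.re - N with hx₁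
  have hx₁0 : 0 ≤ x₁ := by rw [hx₁]; linarith [Int.floor_le z₀.re]
  have hx₁1 : x₁ < 1 := by rw [hx₁]; linarith [Int.lt_floor_add_one z₀.re]
  have hle : ∀ k : ℤ, ‖cexp (c * (((k : ℂ) - z₀) ^ 2 / (a : ℂ)))‖ ≤ M (k - N) := by
    intro k
    rw [Complex.norm_exp, re_formula, hz₀]
    set u : ℝ := (k : ℝ) - z₀.re with hu
    set kk : ℝ := ((k - N : ℤ) : ℝ) with hkk
    have hukk : u = kk - x₁ := by rw [hu, hkk, hx₁]; push_cast; ring
    -- rewrite the exponent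
    have e1 : (c.re * (u ^ 2 - y₀ ^ 2) + 2 * c.im * u * y₀) / a
        = -(α * u ^ 2) + (2 * c.im * y₀ / a) * u + α * y₀ ^ 2 := by
      rw [hα]; field_simp; ring
    have h1 : (2 * c.im * y₀ / a) * u ≤ β * |u| := by
      calc (2 * c.im * y₀ / a) * u ≤ |(2 * c.im * y₀ / a) * u| := le_abs_self _
        _ = β * |u| := by rw [abs_mul]
    have h2 : |u| ≤ |kk| + 1 := by
      rw [hukk]
      calc |kk - x₁| ≤ |kk| + |x₁| := abs_sub _ _
        _ ≤ |kk| + 1 := by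
          have : |x₁| ≤ 1 := by rw [abs_of_nonneg hx₁0]; exact hx₁1.le
          linarith
    have h3 : kk ^ 2 / 2 - 1 ≤ u ^ 2 := by
      rw [hukk]
      nlinarith [sq_nonneg (kk - 2 * x₁), hx₁0, hx₁1]
    have h4 : (c.re * (u ^ 2 - y₀ ^ 2) + 2 * c.im * u * y₀) / a
        ≤ (α + β + α * y₀ ^ 2) + (-(α / 2 * kk ^ 2) + β * |kk|) := by
      rw [e1]
      have h5 : β * |u| ≤ β * (|kk| + 1) := mul_le_mul_of_nonneg_left h2 hβ0
      have h6 : α * (kk ^ 2 / 2 - 1) ≤ α * u ^ 2 := mul_le_mul_of_nonneg_left h3 hαpos.le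
      linarith
    calc Real.exp ((c.re * (u ^ 2 - y₀ ^ 2) + 2 * c.im * u * y₀) / a)
        ≤ Real.exp ((α + β + α * y₀ ^ 2) + (-(α / 2 * kk ^ 2) + β * |kk|)) :=
          Real.exp_le_exp.mpr h4
      _ = E * Real.exp (-(α / 2 * kk ^ 2) + β * |kk|) := by rw [Real.exp_add]
      _ ≤ E * (Real.exp (-(α / 2 * kk ^ 2) + β * kk) + Real.exp (-(α / 2 * kk ^ 2) + (-β) * kk)) := by
          apply mul_le_mul_of_nonneg_left _ (Real.exp_pos _).le
          rcases abs_cases kk with ⟨h, _⟩ | ⟨h, _⟩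
          · rw [h]
            linarith [Real.exp_pos (-(α / 2 * kk ^ 2) + (-β) * kk)]
          · rw [h]
            have : -(α / 2 * kk ^ 2) + β * -kk = -(α / 2 * kk ^ 2) + (-β) * kk := by ring
            rw [this]
            linarith [Real.exp_pos (-(α / 2 * kk ^ 2) + β * kk)]
  have hMs : Summable (fun k : ℤ => M (k - N)) :=
    (Equiv.subRight N).summable_iff.mpr hM
  have hsum : Summable (fun k : ℤ => ‖cexp (c * (((k : ℂ) - z₀) ^ 2 / (a : ℂ)))‖) :=
    Summable.of_nonneg_of_le (fun k => norm_nonneg _) hle hMs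
  refine ⟨hsum, ?_⟩
  calc ∑' k : ℤ, ‖cexp (c * (((k : ℂ) - z₀) ^ 2 / (a : ℂ)))‖
      ≤ ∑' k : ℤ, M (k - N) := hsum.tsum_le_tsum hle hMs
    _ = ∑' k, M k := (Equiv.subRight N).tsum_eq M

/-- the strengthened induction: a bound uniform in the real part of `z`; `B1` (`schur_isPD`) is a hypothesis -/
theorem summable_ThDTerm_uniform
    (hB1 : ∀ (n : ℕ) (A : Matrix (Fin (n + 1)) (Fin (n + 1)) ℝ), IsPD A → 0 < A 0 0 ∧ IsPD (schur A)) :
    ∀ (n : ℕ) (A : Matrix (Fin n) (Fin n) ℝ), IsPD A → ∀ (τ : ℂ), 0 < τ.im → ∀ y : Fin n → ℝ,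
      ∃ C : ℝ, ∀ z : Fin n → ℂ, (∀ i, (z i).im = y i) →
        Summable (fun k : Fin n → ℤ => ‖ThDTerm n A τ z k‖) ∧
        ∑' k : Fin n → ℤ, ‖ThDTerm n A τ z k‖ ≤ C := by
  intro n
  induction n with
  | zero =>
    intro A _ τ _ y
    refine ⟨1, fun z _ => ⟨Summable.of_finite, ?_⟩⟩
    rw [tsum_fintype]
    simp [ThDTerm, dq]
  | succ n ih =>
    intro A hA τ hτ y
    obtain ⟨ha, hS⟩ := hB1 n A hA
    obtain ⟨C', hC'⟩ := ih (schur A) hS τ hτ (fun i => y i.succ - y 0 * A 0 i.succ / A 0 0)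
    obtain ⟨C₁, hC₁⟩ := one_dim_uniform (A 0 0) ha τ hτ (y 0)
    refine ⟨C₁ * C', ?_⟩
    intro z hz
    set g : ℤ → ℝ := fun k₀ => ‖cexp (-(π * I / τ) * (((k₀ : ℂ) - z 0) ^ 2 / (A 0 0 : ℂ)))‖ with hgdef
    set ζ : ℤ → Fin n → ℂ :=
      fun k₀ i => z i.succ + ((k₀ : ℂ) - z 0) * (A 0 i.succ : ℂ) / (A 0 0 : ℂ) with hζdef
    have hζ : ∀ k₀ i, (ζ k₀ i).im = y i.succ - y 0 * A 0 i.succ / A 0 0 := by
      intro k₀ i
      simp only [hζdef, Complex.add_im, Complex.div_ofReal_im, Complex.mul_im, Complex.sub_re,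
        Complex.sub_im, Complex.intCast_re, Complex.intCast_im, Complex.ofReal_re,
        Complex.ofReal_im, hz]
      ring
    obtain ⟨hg, hgC⟩ := hC₁ (z 0) (hz 0)
    have hF : ∀ (k₀ : ℤ) (k' : Fin n → ℤ), ‖ThDTerm (n + 1) A τ z (Fin.cons k₀ k')‖ =
        g k₀ * ‖ThDTerm n (schur A) τ (ζ k₀) k'‖ := by
      intro k₀ k'
      rw [ThDTerm_cons, norm_mul]
    have hC'0 : 0 ≤ C' :=
      le_trans (tsum_nonneg (fun _ => norm_nonneg _)) (hC' (ζ 0) (hζ 0)).2
    have hprod : Summable (fun p : ℤ × (Fin n → ℤ) =>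
        ‖ThDTerm (n + 1) A τ z (Fin.cons p.1 p.2)‖) := by
      rw [summable_prod_of_nonneg (fun p => norm_nonneg _)]
      constructor
      · intro k₀
        simp only [hF]
        exact (hC' (ζ k₀) (hζ k₀)).1.mul_left _
      · simp only [hF]
        refine Summable.of_nonneg_of_le
          (fun k₀ => tsum_nonneg (fun k' => mul_nonneg (norm_nonneg _) (norm_nonneg _)))
          (fun k₀ => ?_) (hg.mul_right C')
        rw [tsum_mul_left]
        exact mul_le_mul_of_nonneg_left (hC' (ζ k₀) (hζ k₀)).2 (norm_nonneg _)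
    constructor
    · rw [← (Fin.consEquiv (fun _ : Fin (n + 1) => ℤ)).summable_iff]
      exact hprod.congr (fun p => rfl)
    · rw [← (Fin.consEquiv (fun _ : Fin (n + 1) => ℤ)).tsum_eq]
      have e0 : ∑' p : ℤ × (Fin n → ℤ),
          ‖ThDTerm (n + 1) A τ z ((Fin.consEquiv (fun _ : Fin (n + 1) => ℤ)) p)‖
          = ∑' p : ℤ × (Fin n → ℤ), ‖ThDTerm (n + 1) A τ z (Fin.cons p.1 p.2)‖ := by
        apply tsum_congr
        intro p
        rfl
      rw [e0, hprod.tsum_prod]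
      calc ∑' k₀ : ℤ, ∑' k' : Fin n → ℤ, ‖ThDTerm (n + 1) A τ z (Fin.cons k₀ k')‖
          = ∑' k₀ : ℤ, g k₀ * ∑' k' : Fin n → ℤ, ‖ThDTerm n (schur A) τ (ζ k₀) k'‖ := by
            apply tsum_congr
            intro k₀
            simp only [hF]
            rw [tsum_mul_left]
        _ ≤ ∑' k₀ : ℤ, g k₀ * C' := by
            refine Summable.tsum_le_tsum (fun k₀ => ?_) ?_ (hg.mul_right C')
            · exact mul_le_mul_of_nonneg_left (hC' (ζ k₀) (hζ k₀)).2 (norm_nonneg _)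
            · refine Summable.of_nonneg_of_le
                (fun k₀ => mul_nonneg (norm_nonneg _) (tsum_nonneg (fun k' => norm_nonneg _)))
                (fun k₀ => ?_) (hg.mul_right C')
              exact mul_le_mul_of_nonneg_left (hC' (ζ k₀) (hζ k₀)).2 (norm_nonneg _)
        _ = (∑' k₀ : ℤ, g k₀) * C' := tsum_mul_right
        _ ≤ C₁ * C' := mul_le_mul_of_nonneg_right hgC hC'0

/-- LEAF B5b (163208), with B1 as a hypothesis. -/
theorem summable_ThDTerm_of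
    (hB1 : ∀ (n : ℕ) (A : Matrix (Fin (n + 1)) (Fin (n + 1)) ℝ), IsPD A → 0 < A 0 0 ∧ IsPD (schur A))
    {n : ℕ} {A : Matrix (Fin n) (Fin n) ℝ} (hA : IsPD A) {τ : ℂ}
    (hτ : 0 < τ.im) (z : Fin n → ℂ) : Summable (fun k : Fin n → ℤ => ‖ThDTerm n A τ z k‖) := by
  obtain ⟨C, hC⟩ := summable_ThDTerm_uniform hB1 n A hA τ hτ (fun i => (z i).im)
  exact (hC z (fun i => rfl)).1

/-- LEAF B5b (163208): norm-summability of the dual theta family. -/
theorem summable_ThDTerm {n : ℕ} {A : Matrix (Fin n) (Fin n) ℝ} (hA : IsPD A) {τ : ℂ}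
    (hτ : 0 < τ.im) (z : Fin n → ℂ) : Summable (fun k : Fin n → ℤ => ‖ThDTerm n A τ z k‖) :=
  summable_ThDTerm_of (fun _ _ h => Cfsg.Agent.Lib.Helper45.TH.schur_isPD h) hA hτ z

end Cfsg.Agent.Lib.Helper98.TH
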