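import Mathlib

set_option autoImplicit false

/-! Keystone 163217 (K-TH-E2) of helper94's pack for S1632: the first five `q`-coefficients of `E₆`. -/

namespace Cfsg.Agent.Lib.Helper98.TH

open Matrix Complex ModularForm
open UpperHalfPlane hiding I
open scoped Real MatrixGroups

theorem sigma_five_one : ArithmeticFunction.sigma 5 1 = 1 := by decide
theorem sigma_five_two : ArithmeticFunction.sigma 5 2 = 33 := by decide
theorem sigma_five_three : ArithmeticFunction.sigma 5 3 = 244 := by decide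
theorem sigma_five_four : ArithmeticFunction.sigma 5 4 = 1057 := by decide

theorem E6_coeffs :
    (qExpansion 1 E₆).coeff 0 = 1 ∧ (qExpansion 1 E₆).coeff 1 = -504 ∧
    (qExpansion 1 E₆).coeff 2 = -16632 ∧ (qExpansion 1 E₆).coeff 3 = -122976 ∧
    (qExpansion 1 E₆).coeff 4 = -532728 := by
  have hb : bernoulli 6 = 1 / 42 := by decide +kernel
  refine ⟨EisensteinSeries.E_qExpansion_coeff_zero _ ⟨3, rfl⟩, ?_, ?_, ?_, ?_⟩
  · rw [EisensteinSeries.E_qExpansion_coeff _ ⟨3, rfl⟩]
    norm_num [hb, sigma_five_one]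
  · rw [EisensteinSeries.E_qExpansion_coeff _ ⟨3, rfl⟩]
    norm_num [hb, sigma_five_two]
  · rw [EisensteinSeries.E_qExpansion_coeff _ ⟨3, rfl⟩]
    norm_num [hb, sigma_five_three]
  · rw [EisensteinSeries.E_qExpansion_coeff _ ⟨3, rfl⟩]
    norm_num [hb, sigma_five_four]

end Cfsg.Agent.Lib.Helper98.TH

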