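import Cfsg.Agent.Lib.Helper98.Sy4
import Cfsg.Agent.Lib.Helper98.Elus9

set_option autoImplicit false
set_option linter.unusedSimpArgs false
set_option linter.unusedSectionVars false
set_option linter.unusedVariables false
set_option linter.style.haveILetI false

/-!
# S5955 (helper98): totally isotropic subspaces for alternating forms
-/

namespace Cfsg.Agent.Lib.Helper98.Ti

open Module Cfsg.Agent.Lib.Helper98.Elus Cfsg.Agent.Lib.Helper98.Sy

universe u
variable {F : Type u} [Field F] {V : Type u} [AddCommGroup V] [Module F V]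
variable {B : LinearMap.BilinForm F V} (hA : B.IsAlt)
include hA

/-- a totally isotropic subspace of a nondegenerate subspace has at most half the dimension -/
theorem two_mul_finrank_le [FiniteDimensional F V] (hV : NonDeg B ⊤) (U Z : Submodule F V)
    (hU : NonDeg B U) (hZU : Z ≤ U) (hZ : Ort B Z Z) : 2 * finrank F Z ≤ finrank F U := by
  have h1 := finrank_orth_inf hA hV Z U hZU hU
  have h2 : Z ≤ B.orthogonal Z ⊓ U := le_inf ((ort_iff_le_orthogonal hA Z Z).mp hZ) hZU
  have h3 := Submodule.finrank_mono h2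
  omega

/-- totally isotropic subspaces of every admissible dimension -/
theorem exists_ti [FiniteDimensional F V] : ∀ (s : ℕ) (U : Submodule F V), NonDeg B U →
    2 * s ≤ finrank F U → ∃ Z : Submodule F V, Z ≤ U ∧ Ort B Z Z ∧ finrank F Z = s := by
  intro s
  induction s with
  | zero =>
    intro U _ _
    refine ⟨⊥, bot_le, fun u hu v hv => ?_, finrank_bot F V⟩
    rw [(Submodule.mem_bot F).mp hu, map_zero, LinearMap.zero_apply]
  | succ s ih =>
    intro U hU hs
    have hne : U ≠ ⊥ := by
      rintro rfl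
      rw [finrank_bot] at hs
      omega
    obtain ⟨H, hHle, hH, hHd⟩ := exists_plane hA U hU hne
    obtain ⟨h1, h2, h3, h4⟩ := compl_props hA H U hH hHle hU
    obtain ⟨Z', hZ'le, hZ', hZ'd⟩ := ih (B.orthogonal H ⊓ U) h3 (by omega)
    have hHne : H ≠ ⊥ := by
      rintro rfl
      rw [finrank_bot] at hHd
      omega
    obtain ⟨u, hu, hu0⟩ := Submodule.exists_mem_ne_zero_of_ne_bot hHne
    have huZ : ∀ z ∈ Z', B u z = 0 := fun z hz =>
      LinearMap.BilinForm.mem_orthogonal_iff.mp (Submodule.mem_inf.mp (hZ'le hz)).1 u hu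
    refine ⟨Submodule.span F {u} ⊔ Z', ?_, ?_, ?_⟩
    · apply sup_le
      · rw [Submodule.span_singleton_le_iff_mem]
        exact hHle hu
      · exact le_trans hZ'le inf_le_right
    · intro a ha b hb
      obtain ⟨a1, ha1, a2, ha2, rfl⟩ := Submodule.mem_sup.mp ha
      obtain ⟨b1, hb1, b2, hb2, rfl⟩ := Submodule.mem_sup.mp hb
      obtain ⟨α, rfl⟩ := Submodule.mem_span_singleton.mp ha1
      obtain ⟨β, rfl⟩ := Submodule.mem_span_singleton.mp hb1
      simp only [map_add, LinearMap.add_apply, map_smul, LinearMap.smul_apply, smul_eq_mul]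
      rw [hA u, huZ b2 hb2, alt_eq_zero hA (huZ a2 ha2), hZ' a2 ha2 b2 hb2]
      ring
    · have hinf : Submodule.span F {u} ⊓ Z' = ⊥ := by
        rw [eq_bot_iff, ← h2]
        apply inf_le_inf
        · rw [Submodule.span_singleton_le_iff_mem]
          exact hu
        · exact hZ'le
      have h := Submodule.finrank_sup_add_finrank_inf_eq (Submodule.span F {u}) Z'
      rw [hinf, finrank_bot, finrank_span_singleton hu0, hZ'd] at h
      omega

/-- sums of mutually orthogonal totally isotropic subspaces -/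
theorem ort_sup_self (L W : Submodule F V) (hL : Ort B L L) (hW : Ort B W W)
    (hLW : Ort B L W) : Ort B (L ⊔ W) (L ⊔ W) := by
  intro a ha b hb
  obtain ⟨a1, ha1, a2, ha2, rfl⟩ := Submodule.mem_sup.mp ha
  obtain ⟨b1, hb1, b2, hb2, rfl⟩ := Submodule.mem_sup.mp hb
  simp only [map_add, LinearMap.add_apply]
  rw [hL a1 ha1 b1 hb1, hLW a1 ha1 b2 hb2, alt_eq_zero hA (hLW b1 hb1 a2 ha2), hW a2 ha2 b2 hb2]
  ring

/-- splitting off a totally isotropic invariant subspace: a nondegenerate invariant complement of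
`L` inside `L^⊥ ∩ M` -/
theorem exists_compl_of_ti [FiniteDimensional F V] (hV : NonDeg B ⊤) (N : ℕ) (hNF : (N : F) ≠ 0)
    (y : V →ₗ[F] V) (hy : y ^ N = 1) (hiso : Iso B y) (M L : Submodule F V) (hM : NonDeg B M)
    (hMinv : Inv y M) (hLM : L ≤ M) (hL : Ort B L L) (hLinv : Inv y L) :
    ∃ M' : Submodule F V, M' ≤ M ∧ Inv y M' ∧ NonDeg B M' ∧ Ort B L M' ∧ L ⊓ M' = ⊥ ∧
      finrank F M' + 2 * finrank F L = finrank F M := by
  have hN : 0 < N := by
    rcases Nat.eq_zero_or_pos N with h | h
    · rw [h] at hNF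
      simp at hNF
    · exact h
  set K : Submodule F V := B.orthogonal L ⊓ M with hK
  have hKinv : Inv y K := (inv_orth N hN y hy hiso L hLinv).inf hMinv
  have hLK : L ≤ K := le_inf ((ort_iff_le_orthogonal hA L L).mp hL) hLM
  have hKM : K ≤ M := inf_le_right
  have hKd : finrank F K + finrank F L = finrank F M := finrank_orth_inf hA hV L M hLM hM
  obtain ⟨C, hCinv, hC⟩ := exists_inv_compl N hNF 1 one_ne_zero y (by rw [hy, one_smul]) L hLinv
  have hinf : L ⊓ (C ⊓ K) = ⊥ := by
    rw [eq_bot_iff, ← hC.inf_eq_bot]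
    exact inf_le_inf le_rfl inf_le_left
  have hsup : L ⊔ (C ⊓ K) = K := by
    rw [← sup_inf_assoc_of_le C hLK, hC.sup_eq_top, top_inf_eq]
  have hd := Submodule.finrank_sup_add_finrank_inf_eq L (C ⊓ K)
  rw [hinf, hsup, finrank_bot] at hd
  have hrad : L = B.orthogonal K ⊓ M := by
    apply Submodule.eq_of_le_of_finrank_eq
    · intro l hl
      refine Submodule.mem_inf.mpr ⟨?_, hLM hl⟩
      rw [LinearMap.BilinForm.mem_orthogonal_iff]
      intro k hk
      apply alt_eq_zero hA
      exact LinearMap.BilinForm.mem_orthogonal_iff.mp (Submodule.mem_inf.mp hk).1 l hl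
    · have := finrank_orth_inf hA hV K M hKM hM
      omega
  refine ⟨C ⊓ K, le_trans inf_le_right hKM, hCinv.inf hKinv, ?_, ?_, hinf, by omega⟩
  · intro u hu hall
    have huK : u ∈ K := (Submodule.mem_inf.mp hu).2
    have huL : u ∈ L := by
      rw [hrad]
      refine Submodule.mem_inf.mpr ⟨?_, hKM huK⟩
      rw [LinearMap.BilinForm.mem_orthogonal_iff]
      intro k hk
      rw [← hsup] at hk
      obtain ⟨l, hl, m', hm', rfl⟩ := Submodule.mem_sup.mp hk
      rw [map_add, LinearMap.add_apply,
        LinearMap.BilinForm.mem_orthogonal_iff.mp (Submodule.mem_inf.mp huK).1 l hl,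
        alt_eq_zero hA (hall m' hm'), add_zero]
    have : u ∈ L ⊓ C := Submodule.mem_inf.mpr ⟨huL, (Submodule.mem_inf.mp hu).1⟩
    rw [hC.inf_eq_bot] at this
    exact (Submodule.mem_bot F).mp this
  · rw [ort_iff_le_orthogonal hA]
    exact le_trans inf_le_right inf_le_left

end Cfsg.Agent.Lib.Helper98.Ti
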