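import Cfsg.Agent.Lib.Helper98.Ti2

set_option autoImplicit false
set_option linter.unusedSimpArgs false
set_option linter.unusedSectionVars false
set_option linter.unusedVariables false
set_option linter.style.haveILetI false

/-!
# S5955 (helper98): totally isotropic cyclic subspaces
-/

namespace Cfsg.Agent.Lib.Helper98.Ti

open Module Polynomial Cfsg.Agent.Lib.Helper98.Elus Cfsg.Agent.Lib.Helper98.Sy

universe u
variable {F : Type u} [Field F] {V : Type u} [AddCommGroup V] [Module F V]
variable {B : LinearMap.BilinForm F V}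

/-- a vector `u` killed by `P(y)` with `B(y^e u, u) = 0` for `1 ≤ e ≤ deg P / 2` spans a totally
isotropic invariant subspace -/
theorem ti_cyclic (hA : B.IsAlt) (r : ℕ) (hr : 0 < r) (y : V →ₗ[F] V) (hy : y ^ r = 1)
    (hiso : Iso B y) (P : F[X]) (hP : P.Monic) (i : ℕ) (hdeg : P.natDegree = i) (hi : 1 ≤ i)
    (u : V) (hPu : aeval y P u = 0)
    (hφ : ∀ e, 1 ≤ e → e ≤ i / 2 → B ((y ^ e) u) u = 0) :
    ∃ Z : Submodule F V, Inv y Z ∧ Ort B Z Z ∧ u ∈ Z ∧ finrank F Z ≤ i := by
  set h := i / 2 with hh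
  have hhi : h < i := Nat.div_lt_self (by omega) (by norm_num)
  have hi2 : i ≤ 2 * h + 1 := by omega
  have hrh : h ≤ r * h := Nat.le_mul_of_pos_left h hr
  set N := r * h - h with hN
  set w := (y ^ N) u with hw
  have hyra : ∀ a : ℕ, y ^ (r * a) = 1 := by
    intro a
    rw [pow_mul, hy, one_pow]
  have hpowu : ∀ a e : ℕ, (y ^ (e + r * a)) u = (y ^ e) u := by
    intro a e
    rw [pow_add, hyra, mul_one]
  have hwu : (y ^ h) w = u := by
    rw [hw, ← Module.End.mul_apply, ← pow_add]
    have : h + N = r * h := by omega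
    rw [this, hyra, Module.End.one_apply]
  have hPw : aeval y P w = 0 := by
    have h1 : y ^ N = aeval y (X ^ N : F[X]) := by simp
    rw [hw, ← Module.End.mul_apply, h1, ← map_mul, mul_comm, map_mul, Module.End.mul_apply, hPu,
      map_zero]
  set Z : Submodule F V :=
    Submodule.span F (Set.range (fun k : Fin P.natDegree => (y ^ (k : ℕ)) w)) with hZ
  have hZinv : Inv y Z := inv_span_of_aeval_eq_zero y P hP w hPw
  have hZmem : ∀ k, k < i → (y ^ k) w ∈ Z := by
    intro k hk
    exact Submodule.subset_span ⟨⟨k, by rw [hdeg]; exact hk⟩, rfl⟩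
  have huZ : u ∈ Z := by
    rw [← hwu]
    exact hZmem h hhi
  have hneg : ∀ a e : ℕ, e ≤ r * a → B ((y ^ (r * a - e)) u) u = - B ((y ^ e) u) u := by
    intro a e he
    have h1 : u = (y ^ (r * a - e)) ((y ^ e) u) := by
      rw [← Module.End.mul_apply, ← pow_add, Nat.sub_add_cancel he, hyra, Module.End.one_apply]
    conv_lhs => rw [h1]
    have h2 := iso_pow y hiso (r * a - e) u ((y ^ e) u)
    rw [← h1] at h2 ⊢
    rw [h2, alt_swap hA]
  have hgen : ∀ k, k < i → B ((y ^ k) w) u = 0 := by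
    intro k hk
    have h1 : (y ^ k) w = (y ^ (k + N)) u := by
      rw [hw, ← Module.End.mul_apply, ← pow_add]
    rw [h1]
    rcases Nat.lt_or_ge k h with hkh | hkh
    · have h2 : k + N = r * h - (h - k) := by omega
      rw [h2, hneg h (h - k) (by omega), hφ (h - k) (by omega) (by omega), neg_zero]
    · have h2 : k + N = (k - h) + r * h := by omega
      rw [h2, hpowu]
      rcases Nat.eq_zero_or_pos (k - h) with h0 | h0
      · rw [h0, pow_zero, Module.End.one_apply]
        exact hA u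
      · exact hφ (k - h) h0 (by omega)
  have hlam : ∀ z ∈ Z, B z u = 0 := by
    have hle : Z ≤ LinearMap.ker (B.flip u) := by
      rw [hZ]
      apply Submodule.span_le.mpr
      rintro _ ⟨k, rfl⟩
      show (y ^ (k : ℕ)) w ∈ LinearMap.ker (B.flip u)
      rw [LinearMap.mem_ker, LinearMap.BilinForm.flip_apply]
      exact hgen k (by rw [← hdeg]; exact k.2)
    intro z hz
    have := hle hz
    rw [LinearMap.mem_ker, LinearMap.BilinForm.flip_apply] at this
    exact this
  have hort : ∀ z ∈ Z, ∀ z' ∈ Z, B z z' = 0 := by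
    intro z hz
    have hle : Z ≤ LinearMap.ker (B z) := by
      rw [hZ]
      apply Submodule.span_le.mpr
      rintro _ ⟨k, rfl⟩
      show (y ^ (k : ℕ)) w ∈ LinearMap.ker (B z)
      rw [LinearMap.mem_ker]
      have h1 : (y ^ (k : ℕ)) w = (y ^ ((k : ℕ) + N)) u := by
        rw [hw, ← Module.End.mul_apply, ← pow_add]
      rw [h1]
      set E := (k : ℕ) + N with hE
      have h2 := iso_pow y hiso ((r - 1) * E) z ((y ^ E) u)
      rw [← h2, ← Module.End.mul_apply, ← pow_add]
      have h3 : (r - 1) * E + E = r * E := by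
        have : r = (r - 1) + 1 := by omega
        conv_rhs => rw [this]
        ring
      rw [h3, hyra, Module.End.one_apply]
      exact hlam _ (hZinv.pow_mem _ z hz)
    intro z' hz'
    have := hle hz'
    rw [LinearMap.mem_ker] at this
    exact this
  refine ⟨Z, hZinv, hort, huZ, ?_⟩
  have := finrank_range_le_card (R := F) (fun k : Fin P.natDegree => (y ^ (k : ℕ)) w)
  rw [Fintype.card_fin] at this
  rw [hZ]
  unfold Set.finrank at this
  exact le_trans this (le_of_eq hdeg)

/-- a nondegenerate... any invariant subspace of `V1` of large dimension killed by one factor `P`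
contains a totally isotropic invariant subspace of dimension `i` -/
theorem exists_ti_inv_of_homog [Fintype F] [FiniteDimensional F V] (hA : B.IsAlt) (r : ℕ)
    [Fact r.Prime] (hrF : (r : F) ≠ 0) (y : V →ₗ[F] V) (hy : y ^ r = 1) (hiso : Iso B y)
    (P : F[X]) (hP : P.Monic)
    (hdeg : P.natDegree = orderOf ((Fintype.card F : ℕ) : ZMod r))
    (hi : 1 ≤ orderOf ((Fintype.card F : ℕ) : ZMod r))
    (U : Submodule F V) (hUV1 : U ≤ V1 r y) (hUinv : Inv y U)
    (hkill : ∀ v ∈ U, aeval y P v = 0)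
    (hdim : 2 * (orderOf ((Fintype.card F : ℕ) : ZMod r) / 2) < finrank F U) :
    ∃ Z : Submodule F V, Z ≤ U ∧ Inv y Z ∧ Ort B Z Z ∧
      finrank F Z = orderOf ((Fintype.card F : ℕ) : ZMod r) := by
  have hr : r.Prime := Fact.out
  set i := orderOf ((Fintype.card F : ℕ) : ZMod r) with hi'
  let β : Fin (i / 2) → LinearMap.BilinForm F V := fun s =>
    B.compl₁₂ (y ^ ((s : ℕ) + 1)) LinearMap.id
  obtain ⟨u, huU, hu0, hβ⟩ := exists_common_isotropic U (i / 2) β hdim
  have hφ : ∀ e, 1 ≤ e → e ≤ i / 2 → B ((y ^ e) u) u = 0 := by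
    intro e he1 he2
    have := hβ ⟨e - 1, by omega⟩
    simp only [β, LinearMap.compl₁₂_apply, LinearMap.id_apply] at this
    rw [show e - 1 + 1 = e by omega] at this
    exact this
  obtain ⟨Z, hZinv, hZort, huZ, hZd⟩ := ti_cyclic hA r hr.pos y hy hiso P hP i hdeg hi u
    (hkill u huU) hφ
  refine ⟨Z ⊓ U, inf_le_right, hZinv.inf hUinv, fun a ha b hb =>
    hZort a (Submodule.mem_inf.mp ha).1 b (Submodule.mem_inf.mp hb).1, ?_⟩
  have h1 : finrank F ↥(Z ⊓ U) ≤ i := le_trans (Submodule.finrank_mono inf_le_left) hZd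
  obtain ⟨c, hc⟩ := dvd_finrank_of_le_V1 r hrF y hy (Z ⊓ U) (hZinv.inf hUinv)
    (le_trans inf_le_right hUV1)
  have hne : Z ⊓ U ≠ ⊥ := by
    intro h
    have : u ∈ Z ⊓ U := Submodule.mem_inf.mpr ⟨huZ, huU⟩
    rw [h] at this
    exact hu0 ((Submodule.mem_bot F).mp this)
  have hpos : 0 < finrank F ↥(Z ⊓ U) := Nat.pos_of_ne_zero (fun h => hne (Submodule.finrank_eq_zero.mp h))
  rw [← hi'] at hc
  rcases Nat.eq_zero_or_pos c with h0 | h0
  · rw [h0, mul_zero] at hc
    omega
  · have := Nat.mul_le_mul_left i h0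
    omega

end Cfsg.Agent.Lib.Helper98.Ti
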