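import Cfsg.Agent.Lib.Helper98.Ti4

set_option autoImplicit false
set_option linter.unusedSimpArgs false
set_option linter.unusedSectionVars false
set_option linter.unusedVariables false
set_option linter.style.haveILetI false
set_option maxHeartbeats 800000

/-!
# S5955 (helper98): existence of a fixed totally isotropic subspace
-/

namespace Cfsg.Agent.Lib.Helper98.Ti

open Module Polynomial Cfsg.Agent.Lib.Helper98.Elus Cfsg.Agent.Lib.Helper98.Sy

universe u
variable {F : Type u} [Field F] {V : Type u} [AddCommGroup V] [Module F V]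
variable {B : LinearMap.BilinForm F V}

/-- subspaces of the fixed space are invariant -/
theorem inv_of_le_V0 (y : V →ₗ[F] V) (Z : Submodule F V) (hZ : Z ≤ V0 y) : Inv y Z := by
  intro v hv
  rw [(mem_V0 y v).mp (hZ hv)]
  exact hv

theorem exists_fixed_ti [Fintype F] [FiniteDimensional F V]
    (hA : B.IsAlt) (hV : NonDeg B ⊤) (p f : ℕ) [Fact p.Prime] (hF : Fintype.card F = p ^ f)
    (r : ℕ) [Fact r.Prime] (hpr : p ≠ r) (hr2 : r ≠ 2) (hrF : (r : F) ≠ 0) (y : V →ₗ[F] V)
    (hy : y ^ r = 1) (hiso : Iso B y) (d m : ℕ) (hd : finrank F V = 2 * d) (hmd : m ≤ d)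
    (hk : 2 * (m % orderOf ((Fintype.card F : ℕ) : ZMod r)) ≤
      (2 * d) % cOf (orderOf ((Fintype.card F : ℕ) : ZMod r)))
    (hcase : Odd (orderOf ((Fintype.card F : ℕ) : ZMod r)) ∨
      (r - 1) / orderOf ((Fintype.card F : ℕ) : ZMod r) +
        2 * (m / orderOf ((Fintype.card F : ℕ) : ZMod r)) ≤
        (2 * d) / orderOf ((Fintype.card F : ℕ) : ZMod r)) :
    ∃ W : Submodule F V, Inv y W ∧ Ort B W W ∧ finrank F W = m := by
  have hr : r.Prime := Fact.out
  set i := orderOf ((Fintype.card F : ℕ) : ZMod r) with hi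
  have hi1 : 1 ≤ i := orderOf_card_pos p f hF r hpr
  obtain ⟨hnd0, hnd1⟩ := nonDeg_inf_parts hA r hrF y hy hiso ⊤ hV (fun _ _ => Submodule.mem_top)
  rw [top_inf_eq] at hnd0 hnd1
  obtain ⟨j', hj'⟩ := cOf_dvd_finrank hA hV p f hF r hpr hr2 hrF y hy hiso (V1 r y) le_rfl
    (inv_V1 r y) hnd1
  rw [← hi] at hj'
  have hsum := finrank_V0_add_V1 r hrF y hy
  rw [hd] at hsum
  set e0 := finrank F (V0 y) with he0
  have hmod : (2 * d) % cOf i = e0 % cOf i := by
    rw [← hsum, hj', Nat.add_mul_mod_self_left]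
  have hke0 : (2 * d) % cOf i ≤ e0 := by
    rw [hmod]
    exact Nat.mod_le _ _
  have hm := Nat.div_add_mod m i
  -- reduce to the numerical choice of `b`
  suffices hmain : ∃ b : ℕ, i * b ≤ m ∧ 2 * (m - i * b) ≤ e0 ∧
      ∃ Z1 : Submodule F V, Z1 ≤ V1 r y ∧ Inv y Z1 ∧ Ort B Z1 Z1 ∧ finrank F Z1 = i * b by
    obtain ⟨b, hb1, hb2, Z1, hZ1V, hZ1inv, hZ1, hZ1d⟩ := hmain
    obtain ⟨Z0, hZ0V, hZ0, hZ0d⟩ := exists_ti hA (m - i * b) (V0 y) hnd0 hb2
    refine ⟨Z0 ⊔ Z1, (inv_of_le_V0 y Z0 hZ0V).sup hZ1inv,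
      ort_sup_self hA Z0 Z1 hZ0 hZ1
        (fun a ha c hc => ort_V0_V1 r hrF y hy hiso a (hZ0V ha) c (hZ1V hc)), ?_⟩
    have hinf : Z0 ⊓ Z1 = ⊥ := by
      rw [eq_bot_iff, ← V0_inf_V1 r hrF y]
      exact inf_le_inf hZ0V hZ1V
    have h := Submodule.finrank_sup_add_finrank_inf_eq Z0 Z1
    rw [hinf, finrank_bot, hZ0d, hZ1d, add_zero] at h
    omega
  by_cases hodd : Odd i
  · -- `c = 2 i`
    have hc : cOf i = 2 * i := by
      unfold cOf
      rw [if_neg (Nat.not_even_iff_odd.mpr hodd)]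
    rw [hc] at hj' hke0 hk
    have hij : 2 * i * j' = 2 * (i * j') := by ring
    rw [hij] at hj'
    rcases le_or_gt (m / i) j' with hle | hgt
    · refine ⟨m / i, by omega, by omega, ?_⟩
      have h1 : i * (m / i) ≤ i * j' := Nat.mul_le_mul_left i hle
      exact exists_ti_odd hA hV p f hF r hpr hr2 hrF y hy hiso hodd (m / i) (V1 r y) le_rfl
        (inv_V1 r y) hnd1 (by rw [← hi, hj']; omega)
    · have h1 : i * j' ≤ i * (m / i) := Nat.mul_le_mul_left i (le_of_lt hgt)
      refine ⟨j', by omega, by omega, ?_⟩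
      exact exists_ti_odd hA hV p f hF r hpr hr2 hrF y hy hiso hodd j' (V1 r y) le_rfl
        (inv_V1 r y) hnd1 (by rw [← hi, hj'])
  · -- `c = i`
    have heven : Even i := Nat.not_odd_iff_even.mp hodd
    have hc : cOf i = i := by
      unfold cOf
      rw [if_pos heven]
    rw [hc] at hj' hke0 hk
    have hcond : (r - 1) / i + 2 * (m / i) ≤ (2 * d) / i := by
      rcases hcase with h | h
      · exact absurd h hodd
      · exact h
    set T := (r - 1) / i with hT
    have hn := Nat.div_add_mod (2 * d) i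
    have h3 : i * (T + 2 * (m / i)) ≤ i * ((2 * d) / i) := Nat.mul_le_mul_left i hcond
    have h3' : i * (T + 2 * (m / i)) = i * T + 2 * (i * (m / i)) := by ring
    set b := min (m / i) ((j' + 1 - T) / 2) with hb
    have hb1 : b ≤ m / i := min_le_left _ _
    have hb2 : b ≤ (j' + 1 - T) / 2 := min_le_right _ _
    have hib : i * b ≤ i * (m / i) := Nat.mul_le_mul_left i hb1
    have hV1cond : b = 0 ∨ i * (2 * b + T) ≤ finrank F (V1 r y) + i := by
      rcases Nat.eq_zero_or_pos b with h0 | h0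
      · left; exact h0
      · right
        have h4 : 2 * b + T ≤ j' + 1 := by omega
        have h5 : i * (2 * b + T) ≤ i * (j' + 1) := Nat.mul_le_mul_left i h4
        have h6 : i * (j' + 1) = i * j' + i := by ring
        rw [hj']
        omega
    refine ⟨b, by omega, ?_, ?_⟩
    · rcases le_or_gt (m / i) ((j' + 1 - T) / 2) with hle | hgt
      · have hbb : b = m / i := min_eq_left hle
        rw [hbb]
        omega
      · have hbb : b = (j' + 1 - T) / 2 := min_eq_right (le_of_lt hgt)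
        have h4 : j' ≤ 2 * b + T := by omega
        have h5 : i * j' ≤ i * (2 * b + T) := Nat.mul_le_mul_left i h4
        have h6 : i * (2 * b + T) = 2 * (i * b) + i * T := by ring
        omega
    · exact exists_ti_even hA hV p f hF r hpr hr2 hrF y hy hiso heven b (V1 r y) le_rfl
        (inv_V1 r y) hnd1 (by rw [← hi, ← hT]; exact hV1cond)

end Cfsg.Agent.Lib.Helper98.Ti
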