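import Cfsg.Agent.Lib.Helper65.UNdBA1
import Cfsg.Agent.Lib.Helper98.Sy2

set_option autoImplicit false
set_option linter.unusedSimpArgs false
set_option linter.unusedSectionVars false
set_option linter.unusedVariables false
set_option linter.style.haveILetI false
set_option maxHeartbeats 1000000

/-!
# K-UNd-SB (helper98), part 0: Frobenius twists of polynomials in an endomorphism, adjoints for
hermitian forms
-/

namespace Cfsg.Agent.Lib.Helper98.UNd

open Module Polynomial Cfsg.Agent.Lib.Helper99.HermONB Cfsg.Agent.Lib.Helper98.Elus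
  Cfsg.Agent.Lib.Helper73.UNd

universe u
variable {F : Type u} [Field F] {V : Type u} [AddCommGroup V] [Module F V]
variable {q : ℕ} {h : V → V → F}

/-- Frobenius twist: `g(y)^(p^e) = (σ^e g)(y^(p^e))` -/
theorem aeval_pow_char_pow (p : ℕ) [Fact p.Prime] [CharP F p] (e : ℕ) (y : V →ₗ[F] V) (g : F[X]) :
    (aeval y g) ^ (p ^ e) = aeval (y ^ (p ^ e)) (g.map (iterateFrobenius F p e)) := by
  have h1 := map_iterateFrobenius_expand p g e
  have h2 : aeval y (g ^ p ^ e) = (aeval y g) ^ (p ^ e) := map_pow _ _ _
  rw [← h2, ← h1, Polynomial.map_expand, expand_aeval]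

/-- the characteristic and `q` as a power of it -/
theorem exists_char_pow [Fintype F] (hF : Fintype.card F = q ^ 2) (p f : ℕ) [Fact p.Prime]
    (hFp : Fintype.card F = p ^ f) : CharP F p ∧ ∃ e : ℕ, q = p ^ e := by
  have hp : p.Prime := Fact.out
  have hf0 : f ≠ 0 := by
    rintro rfl
    have := Fintype.one_lt_card (α := F)
    rw [hFp, pow_zero] at this
    omega
  constructor
  · obtain ⟨n, hprime, hcard⟩ := FiniteField.card F (ringChar F)
    have h1 : p ∣ (ringChar F) ^ (n : ℕ) := by
      rw [← hcard, hFp]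
      exact dvd_pow_self p hf0
    have h2 : p = ringChar F := (Nat.prime_dvd_prime_iff_eq hp hprime).mp (hp.dvd_of_dvd_pow h1)
    rw [h2]
    exact ringChar.charP F
  · have h1 : q ∣ p ^ f := by
      rw [← hFp, hF]
      exact dvd_pow_self q (by norm_num)
    obtain ⟨e, _, he⟩ := (Nat.dvd_prime_pow hp).mp h1
    exact ⟨e, he⟩

/-- adjoint of a polynomial in an isometry of a hermitian form -/
theorem adjoint_aeval_u [Fintype F] (hF : Fintype.card F = q ^ 2) (hh : HForm q h)
    (σ : F →+* F) (hσ : ∀ a, σ a = a ^ q) (y yi : V →ₗ[F] V) (hiso : Isom h y)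
    (hyi : ∀ v, y (yi v) = v) (g : F[X]) (u v : V) :
    h (aeval y g u) v = h u (aeval yi (g.map σ) v) := by
  have h1 : ∀ u v, h (y u) v = h u (yi v) := by
    intro u v
    conv_lhs => rw [← hyi v]
    exact hiso u (yi v)
  have hk : ∀ k : ℕ, ∀ u v, h ((y ^ k) u) v = h u ((yi ^ k) v) := by
    intro k
    induction k with
    | zero => intro u v; simp
    | succ k ih =>
      intro u v
      rw [pow_succ', Module.End.mul_apply, h1, ih, pow_succ, Module.End.mul_apply]
  have hsr : ∀ (s : Finset ℕ) (c : ℕ → F) (w : ℕ → V) (x : V),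
      h x (∑ k ∈ s, c k • w k) = ∑ k ∈ s, (c k) ^ q * h x (w k) := by
    intro s c w x
    classical
    induction s using Finset.induction_on with
    | empty => simp [hh.zero_right hF]
    | insert a s ha ih =>
      rw [Finset.sum_insert ha, Finset.sum_insert ha, hh.add_right hF, hh.smul_right, ih]
  set n := g.natDegree + 1 with hn
  have hd1 : g.natDegree < n := by omega
  have hd2 : (g.map σ).natDegree < n := lt_of_le_of_lt natDegree_map_le hd1
  rw [aeval_eq_sum_range' hd1, aeval_eq_sum_range' hd2, LinearMap.sum_apply, LinearMap.sum_apply]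
  simp only [LinearMap.smul_apply]
  rw [hh.sum_left, hsr]
  apply Finset.sum_congr rfl
  intro k _
  rw [coeff_map, hσ, Cfsg.Agent.Lib.Helper19.pow_q_pow_q hF, hk]

/-- the orthogonal complement of an invariant subspace of an isometry of finite order -/
theorem inv_perp_one [Fintype F] (hF : Fintype.card F = q ^ 2) (hh : HForm q h) (N : ℕ)
    (hN : 0 < N) (y : V →ₗ[F] V) (hy : y ^ N = 1) (hiso : Isom h y) (W : Submodule F V)
    (hW : Inv y W) : Inv y (perp hh W) := by
  intro v hv w hw
  have h1 : y ((y ^ (N - 1)) w) = w := by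
    rw [← Module.End.mul_apply, ← pow_succ', Nat.sub_add_cancel hN, hy, Module.End.one_apply]
  rw [← h1, hiso]
  exact hv _ (hW.pow_mem (N - 1) w hw)

end Cfsg.Agent.Lib.Helper98.UNd
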