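import Cfsg.Agent.Lib.Helper98.UNdSB
import Cfsg.Agent.Lib.Helper64.UNdBA2
import Cfsg.Agent.Lib.Helper77.UNdAR1
import Cfsg.Agent.Lib.Helper10.UNdSA

set_option autoImplicit false
set_option linter.unusedSimpArgs false
set_option linter.unusedSectionVars false
set_option linter.unusedVariables false
set_option linter.style.haveILetI false

/-!
# K-UNd-SB (helper98): exact spec signature
-/

namespace Cfsg.Agent.Lib.Helper98.UNd

open Module Polynomial Cfsg.Agent.Lib.Helper99.HermONB Cfsg.Agent.Lib.Helper98.Elus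
  Cfsg.Agent.Lib.Helper73.UNd

universe u
variable {F : Type u} [Field F] {V : Type u} [AddCommGroup V] [Module F V]
variable {q : ℕ} {h : V → V → F}

/-- **K-UNd-SB** -/
theorem exists_min_nd_u [Fintype F] [FiniteDimensional F V] (hF : Fintype.card F = q ^ 2)
    (hh : HForm q h) (p f : ℕ) [Fact p.Prime] (hFp : Fintype.card F = p ^ f) (r : ℕ)
    [Fact r.Prime] (hpr : p ≠ r) (hr2 : r ≠ 2) (hrF : (r : F) ≠ 0) (y : V →ₗ[F] V)
    (hy : y ^ r = 1) (hiso : Isom h y) (U : Submodule F V) (hUV1 : U ≤ V1 r y) (hU : Inv y U)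
    (hUnd : ND h U) (hUne : U ≠ ⊥) :
    ∃ W : Submodule F V, W ≤ U ∧ Inv y W ∧ ND h W ∧ finrank F W = cU (orderOf (q : ZMod r)) := by
  have hr : r.Prime := Fact.out
  have hp : p.Prime := Fact.out
  obtain ⟨_, e, hqe⟩ := exists_char_pow hF p f hFp
  have hrq : ¬ r ∣ q := by
    rw [hqe]
    intro hd
    exact hpr ((Nat.prime_dvd_prime_iff_eq hr hp).mp (hr.dvd_of_dvd_pow hd)).symm
  exact exists_min_nd_u_of hF hh p f hFp r hpr hr2 hrF y hy hiso U hUV1 hU hUnd hUne
    (fun W hW hWnd hWV1 hWne =>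
      Cfsg.Agent.Lib.Helper10.UNd.cU_le_finrank_of_nd hF hh r hr2 hrF y hy hiso W hW hWnd hWV1 hWne)
    (Cfsg.Agent.Lib.Helper77.UNd.cU_eq r hrq)
    (fun W hW hWne => Cfsg.Agent.Lib.Helper64.UNd.exists_nonisotropic hF hh W hW hWne)


end Cfsg.Agent.Lib.Helper98.UNd
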