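import Cfsg.Agent.Lib.Helper46.UTiDefs
import Cfsg.Agent.Lib.Helper98.Sy2
import Cfsg.Agent.Lib.Helper03.UTiB6

set_option autoImplicit false
set_option linter.unusedSimpArgs false
set_option linter.unusedSectionVars false
set_option linter.unusedVariables false
set_option linter.style.haveILetI false

/-!
# K-UTi-S3 (helper98): cyclic totally isotropic invariant subspaces of a hermitian isometry
-/

namespace Cfsg.Agent.Lib.Helper98.UTi

open Module Polynomial Cfsg.Agent.Lib.Helper98.Elus Cfsg.Agent.Lib.Helper46.UTi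

universe u
variable {F : Type u} [Field F] [Fintype F] {V : Type u} [AddCommGroup V] [Module F V]
  [FiniteDimensional F V] {q : ℕ} {H : V → V → F}

/-- a vector `v` killed by `P(y)` (`P` monic of degree `b ≥ 1`) with `H (y^j v) v = 0` for all
`j < b` spans a totally isotropic invariant subspace of dimension at most `b` -/
theorem ti_cyclic (hF : Fintype.card F = q ^ 2) (hH : IsHerm q H) (N : ℕ) (hN : 0 < N)
    (y : V →ₗ[F] V) (hy : y ^ N = 1) (hiso : Iso H y) (P : F[X]) (hP : P.Monic) (b : ℕ)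
    (hb : P.natDegree = b) (hb1 : 1 ≤ b) (v : V) (hPv : aeval y P v = 0)
    (hφ : ∀ j, j < b → H ((y ^ j) v) v = 0) :
    ∃ Z : Submodule F V, Inv y Z ∧ Ort H Z Z ∧ v ∈ Z ∧ finrank F Z ≤ b := by
  set Z : Submodule F V :=
    Submodule.span F (Set.range (fun k : Fin P.natDegree => (y ^ (k : ℕ)) v)) with hZ
  have hZinv : Inv y Z := Cfsg.Agent.Lib.Helper98.Sy.inv_span_of_aeval_eq_zero y P hP v hPv
  have hyN : ∀ a : ℕ, y ^ (N * a) = 1 := by
    intro a
    rw [pow_mul, hy, one_pow]
  have hvZ : v ∈ Z := by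
    have : (y ^ ((⟨0, by omega⟩ : Fin P.natDegree) : ℕ)) v ∈ Z :=
      Submodule.subset_span ⟨⟨0, by omega⟩, rfl⟩
    simpa using this
  have hlam : ∀ z ∈ Z, H z v = 0 := by
    intro z hz
    rw [hZ] at hz
    induction hz using Submodule.span_induction with
    | mem x hx =>
      obtain ⟨k, rfl⟩ := hx
      exact hφ k (by rw [← hb]; exact k.2)
    | zero => exact hH.zero_left v
    | add x x' _ _ hx hx' => rw [hH.add_left, hx, hx', add_zero]
    | smul c x _ hx => rw [hH.smul_left, hx, mul_zero]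
  have hort : Ort H Z Z := by
    intro z hz z' hz'
    rw [hZ] at hz'
    induction hz' using Submodule.span_induction with
    | mem x hx =>
      obtain ⟨k, rfl⟩ := hx
      set a := (N - 1) * (k : ℕ) with ha
      have h1 := iso_pow y hiso a z ((y ^ (k : ℕ)) v)
      rw [← h1, ← Module.End.mul_apply (y ^ a) (y ^ (k : ℕ)), ← pow_add]
      have h3 : a + (k : ℕ) = N * (k : ℕ) := by
        have : N = (N - 1) + 1 := by omega
        conv_rhs => rw [this]
        rw [ha]; ring
      rw [h3, hyN, Module.End.one_apply]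
      exact hlam _ (hZinv.pow_mem _ z hz)
    | zero => exact hH.zero_right hF z
    | add x x' _ _ hx hx' => rw [hH.add_right hF, hx, hx', add_zero]
    | smul c x _ hx => rw [hH.smul_right, hx, mul_zero]
  refine ⟨Z, hZinv, hort, hvZ, ?_⟩
  have := finrank_range_le_card (R := F) (fun k : Fin P.natDegree => (y ^ (k : ℕ)) v)
  rw [Fintype.card_fin] at this
  rw [hZ]
  unfold Set.finrank at this
  exact le_trans this (le_of_eq hb)

/-- **K-UTi-S3** cyclic t.i. subspaces from Chevalley-Warning -/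
theorem exists_ti_cyclic (hF : Fintype.card F = q ^ 2) (hH : IsHerm q H) (N : ℕ) (hN : 0 < N)
    (y : V →ₗ[F] V) (hy : y ^ N = 1) (hiso : Iso H y) (U : Submodule F V) (hUinv : Inv y U)
    (P : F[X]) (hP : P.Monic) (hPU : ∀ u ∈ U, aeval y P u = 0) (b : ℕ) (hb : P.natDegree = b)
    (hb1 : 1 ≤ b) (hd : 2 * b ≤ finrank F U) :
    ∃ L : Submodule F V, L ≤ U ∧ L ≠ ⊥ ∧ Inv y L ∧ Ort H L L ∧ finrank F L ≤ b := by
  let S : Fin (b - 1) → V → V → F := fun j u w => H ((y ^ ((j : ℕ) + 1)) u) w
  obtain ⟨v, hvU, hv0, hvv, hS⟩ := Cfsg.Agent.Lib.Helper03.UTi.exists_common_isotropic hF hH U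
    (b - 1) S
    (fun j x x' w => by simp only [S]; rw [map_add, hH.add_left])
    (fun j c x w => by simp only [S]; rw [map_smul, hH.smul_left])
    (fun j x w w' => by simp only [S]; rw [hH.add_right hF])
    (fun j c x w => by simp only [S]; rw [hH.smul_right])
    (by omega)
  have hφ : ∀ j, j < b → H ((y ^ j) v) v = 0 := by
    intro j hj
    rcases Nat.eq_zero_or_pos j with h0 | h0
    · rw [h0, pow_zero, Module.End.one_apply]; exact hvv
    · have := hS ⟨j - 1, by omega⟩
      simp only [S] at this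
      rwa [show j - 1 + 1 = j by omega] at this
  obtain ⟨Z, hZinv, hZort, hvZ, hZd⟩ := ti_cyclic hF hH N hN y hy hiso P hP b hb hb1 v
    (hPU v hvU) hφ
  refine ⟨Z ⊓ U, inf_le_right, ?_, hZinv.inf hUinv, fun a ha c hc =>
    hZort a (Submodule.mem_inf.mp ha).1 c (Submodule.mem_inf.mp hc).1,
    le_trans (Submodule.finrank_mono inf_le_left) hZd⟩
  intro h
  have : v ∈ Z ⊓ U := Submodule.mem_inf.mpr ⟨hvZ, hvU⟩
  rw [h] at this
  exact hv0 ((Submodule.mem_bot F).mp this)

end Cfsg.Agent.Lib.Helper98.UTi
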