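import Mathlib

set_option autoImplicit false
set_option linter.unusedSimpArgs false
set_option linter.unusedVariables false

/-!
# S3575 (helper98): arithmetic of covering intervals for uniform partitions
-/

namespace Cfsg.Agent.Lib.Helper98.Unif

/-- the covering condition: `j` cycles of length `r` can be distributed -/
def Cov (a b r j : ℕ) : Prop :=
  ∃ s, r * s ≤ b ∧ a * s ≤ j ∧ j ≤ a * s + (b - r * s) * (a / r)

theorem rhs_iff_aux (a b r A l B k : ℕ) (ha : 2 ≤ a) (hb : 2 ≤ b) (hr0 : 0 < r)
    (hamod : r * A + l = a) (hl : l < r) (hbmod : r * B + k = b) (hk : k < r) :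
    (r ≤ a ∧ (l = 0 ∨ (k = 0 ∧ l = 1) ∨
        (l ≠ 0 ∧ k ≠ 0 ∧ k * l < r ∧
          (b < r ∨ (k + r) * l ≤ k * a + r)))) ↔
    (1 ≤ A ∧ l * k < r ∧ (B = 0 ∨ l ≤ k * A + 1)) := by
  have hA : r ≤ a ↔ 1 ≤ A := by
    constructor
    · intro h
      by_contra h0
      have : A = 0 := by omega
      rw [this] at hamod
      omega
    · intro h
      have : r ≤ r * A := Nat.le_mul_of_pos_right r h
      omega
  have hB : b < r ↔ B = 0 := by
    constructor
    · intro h
      by_contra h0
      have : r ≤ r * B := Nat.le_mul_of_pos_right r (Nat.pos_of_ne_zero h0)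
      omega
    · intro h
      rw [h] at hbmod
      omega
  have hineq : (k + r) * l ≤ k * a + r ↔ l ≤ k * A + 1 := by
    rw [← hamod]
    constructor
    · intro h
      have h1 : r * l ≤ r * (k * A + 1) := by nlinarith
      exact Nat.le_of_mul_le_mul_left h1 hr0
    · intro h
      have h1 : r * l ≤ r * (k * A + 1) := Nat.mul_le_mul_left r h
      nlinarith
  rw [hA, hB, hineq]
  constructor
  · rintro ⟨h1, h2 | ⟨h2, h3⟩ | ⟨h2, h3, h4, h5⟩⟩
    · refine ⟨h1, by rw [h2, zero_mul]; exact hr0, Or.inr (by rw [h2]; exact Nat.zero_le _)⟩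
    · refine ⟨h1, by rw [h2, mul_zero]; exact hr0, Or.inr (by rw [h3]; omega)⟩
    · refine ⟨h1, by rw [mul_comm]; exact h4, h5⟩
  · rintro ⟨h1, h2, h3⟩
    refine ⟨h1, ?_⟩
    by_cases hl0 : l = 0
    · exact Or.inl hl0
    · by_cases hk0 : k = 0
      · right; left
        refine ⟨hk0, ?_⟩
        rcases h3 with h3 | h3
        · exfalso
          rw [h3, hk0] at hbmod
          omega
        · rw [hk0, zero_mul] at h3
          omega
      · right; right
        exact ⟨hl0, hk0, by rw [mul_comm]; exact h2, h3⟩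

theorem cov_iff_aux (a b r A l B k : ℕ) (ha : 2 ≤ a) (hb : 2 ≤ b) (hr0 : 0 < r)
    (hrab : r ≤ a * b)
    (hamod : r * A + l = a) (hl : l < r) (hbmod : r * B + k = b) (hk : k < r) :
    (∀ j, 1 ≤ j → r * j ≤ a * b →
      ∃ s, r * s ≤ b ∧ a * s ≤ j ∧ j ≤ a * s + (b - r * s) * A) ↔
    (1 ≤ A ∧ l * k < r ∧ (B = 0 ∨ l ≤ k * A + 1)) := by
  have hab : a * b = r * (A * b + B * l) + l * k := by
    calc a * b = (r * A + l) * b := by rw [hamod]
      _ = r * (A * b) + l * b := by ring
      _ = r * (A * b) + l * (r * B + k) := by rw [hbmod]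
      _ = r * (A * b + B * l) + l * k := by ring
  -- for `s` with `r s ≤ b`: the right end of the interval
  have hright : ∀ s, r * s ≤ b → a * s + (b - r * s) * A = b * A + s * l := by
    intro s hs
    obtain ⟨c, hc⟩ := Nat.exists_eq_add_of_le hs
    rw [hc, Nat.add_sub_cancel_left, ← hamod]
    ring
  have hsB : ∀ s, r * s ≤ b → s ≤ B := by
    intro s hs
    by_contra h
    push Not at h
    have : r * (B + 1) ≤ r * s := Nat.mul_le_mul_left r h
    rw [← hbmod] at hs
    nlinarith
  constructor
  · intro hcov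
    by_contra hC
    by_cases hA0 : A = 0
    · -- `r > a`
      obtain ⟨s, hs1, hs2, hs3⟩ := hcov 1 le_rfl (by omega)
      rw [hA0, mul_zero, add_zero] at hs3
      have : a * s = 1 := by omega
      have h2 : a ∣ 1 := Dvd.intro _ this
      have := Nat.le_of_dvd one_pos h2
      omega
    · have hA1 : 1 ≤ A := Nat.one_le_iff_ne_zero.mpr hA0
      by_cases hlk : l * k < r
      · have hB1 : B ≠ 0 := fun h => hC ⟨hA1, hlk, Or.inl h⟩
        have hlk2 : k * A + 2 ≤ l := by
          by_contra h
          exact hC ⟨hA1, hlk, Or.inr (by omega)⟩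
        obtain ⟨B', hB'⟩ : ∃ B', B = B' + 1 := ⟨B - 1, by omega⟩
        obtain ⟨s, hs1, hs2, hs3⟩ := hcov (b * A + B' * l + 1) (by omega) (by
          rw [hab, hB']
          have h1 : r ≤ r * l := Nat.le_mul_of_pos_right r (by omega)
          nlinarith)
        rw [hright s hs1] at hs3
        have hsB' := hsB s hs1
        rcases Nat.lt_or_ge s B with h | h
        · have : s ≤ B' := by omega
          have : s * l ≤ B' * l := Nat.mul_le_mul_right l this
          omega
        · have hsB2 : s = B := le_antisymm hsB' h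
          rw [hsB2, hB'] at hs2
          rw [← hamod, ← hbmod, hB'] at hs2
          nlinarith
      · -- `l k ≥ r`
        push Not at hlk
        obtain ⟨s, hs1, hs2, hs3⟩ := hcov (A * b + B * l + 1) (by omega) (by
          rw [hab]
          nlinarith)
        rw [hright s hs1] at hs3
        have hsB' := hsB s hs1
        have : s * l ≤ B * l := Nat.mul_le_mul_right l hsB'
        have : b * A = A * b := mul_comm _ _
        omega
  · rintro ⟨hA1, hlk, hC⟩ j hj1 hj2
    have hjle : j ≤ A * b + B * l := by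
      rw [hab] at hj2
      by_contra h
      push Not at h
      have : r * (A * b + B * l + 1) ≤ r * j := Nat.mul_le_mul_left r h
      nlinarith
    have ha0 : 0 < a := by omega
    rcases Nat.lt_or_ge (j / a) B with h | h
    · have hs1 : r * (j / a) ≤ b := by
        have : r * (j / a) ≤ r * B := Nat.mul_le_mul_left r h.le
        omega
      refine ⟨j / a, hs1, Nat.mul_div_le j a, ?_⟩
      have hlt : j < a * (j / a) + a := by
        have := Nat.div_add_mod j a
        have := Nat.mod_lt j ha0
        omega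
      have hB0 : B ≠ 0 := by
        intro h0
        rw [h0] at h
        exact Nat.not_lt_zero _ h
      have hlkA : l ≤ k * A + 1 := by
        rcases hC with h1 | h1
        · exact absurd h1 hB0
        · exact h1
      obtain ⟨c, hc⟩ := Nat.exists_eq_add_of_le hs1
      have hcr : r + k ≤ c := by
        have : r * (j / a + 1) ≤ r * B := Nat.mul_le_mul_left r h
        rw [← hbmod] at hc
        nlinarith
      have : (r + k) * A ≤ c * A := Nat.mul_le_mul_right A hcr
      rw [hc, Nat.add_sub_cancel_left]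
      rw [← hamod] at hlt ⊢
      nlinarith
    · refine ⟨B, by omega, ?_, ?_⟩
      · calc a * B ≤ a * (j / a) := Nat.mul_le_mul_left a h
          _ ≤ j := Nat.mul_div_le j a
      · rw [hright B (by omega)]
        have : b * A = A * b := mul_comm _ _
        omega

/-- the arithmetic heart of S3575 -/
theorem cov_iff (a b r : ℕ) (ha : 2 ≤ a) (hb : 2 ≤ b) (hr : r.Prime) (hrab : r ≤ a * b) :
    (∀ j, 1 ≤ j → r * j ≤ a * b → Cov a b r j) ↔
    (r ≤ a ∧ (a % r = 0 ∨ (b % r = 0 ∧ a % r = 1) ∨
        (a % r ≠ 0 ∧ b % r ≠ 0 ∧ (b % r) * (a % r) < r ∧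
          (b < r ∨ (b % r + r) * (a % r) ≤ (b % r) * a + r)))) := by
  have hr0 : 0 < r := hr.pos
  rw [rhs_iff_aux a b r (a / r) (a % r) (b / r) (b % r) ha hb hr0 (Nat.div_add_mod a r)
    (Nat.mod_lt a hr0) (Nat.div_add_mod b r) (Nat.mod_lt b hr0)]
  exact cov_iff_aux a b r (a / r) (a % r) (b / r) (b % r) ha hb hr0 hrab (Nat.div_add_mod a r)
    (Nat.mod_lt a hr0) (Nat.div_add_mod b r) (Nat.mod_lt b hr0)

end Cfsg.Agent.Lib.Helper98.Unif
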