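import Cfsg.Agent.Lib.Helper98.Unif1

set_option autoImplicit false
set_option linter.unusedSimpArgs false
set_option linter.unusedVariables false

/-!
# S3575 (helper98): numerical data extracted from a permuted uniform partition
-/

namespace Cfsg.Agent.Lib.Helper98.Unif

open Equiv

/-- numerical data of a uniform partition permuted by a permutation of prime order -/
theorem extract {n a b r : ℕ} [hrp : Fact r.Prime] (σ : Perm (Fin n)) (hσ : σ ^ r = 1)
    (hn : n = a * b) (ha : 1 ≤ a)
    (f : Fin n → Fin b) (hf : ∀ i : Fin b, Nat.card {x : Fin n // f x = i} = a)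
    (π : Perm (Fin b)) (hπ : ∀ x, f (σ x) = π (f x)) :
    ∃ s, r * s ≤ b ∧ a * s * r ≤ σ.support.card ∧
      σ.support.card + (b - r * s) * (a % r) ≤ a * b := by
  classical
  have hr : r.Prime := hrp.out
  have hfib : ∀ i : Fin b, (Finset.univ.filter (fun x => f x = i)).card = a := by
    intro i
    rw [← hf i, Nat.card_eq_fintype_card, Fintype.card_subtype]
  have hsurj : ∀ i : Fin b, ∃ x, f x = i := by
    intro i
    have h := hfib i
    have hpos : 0 < (Finset.univ.filter (fun x => f x = i)).card := by omega
    obtain ⟨x, hx⟩ := Finset.card_pos.mp hpos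
    exact ⟨x, (Finset.mem_filter.mp hx).2⟩
  have hπk : ∀ k : ℕ, ∀ x, f ((σ ^ k) x) = (π ^ k) (f x) := by
    intro k
    induction k with
    | zero => intro x; simp
    | succ k ih =>
      intro x
      rw [pow_succ', pow_succ', Perm.mul_apply, Perm.mul_apply, hπ, ih]
  have hπr : π ^ r = 1 := by
    ext i
    obtain ⟨x, rfl⟩ := hsurj i
    rw [← hπk, hσ]
    rfl
  set M := π.support.card with hM
  have hMb : M ≤ b := by
    have := Finset.card_le_univ π.support
    rwa [Fintype.card_fin] at this
  have hrM : r ∣ M := by
    have h1 := Perm.card_compl_support_modEq (p := r) (n := 1) (σ := π) (by rwa [pow_one])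
    rw [Finset.card_compl, Fintype.card_fin] at h1
    have h2 := (Nat.modEq_iff_dvd' (Nat.sub_le b M)).mp h1
    have : b - (b - M) = M := by omega
    rwa [this] at h2
  obtain ⟨s, hs⟩ := hrM
  refine ⟨s, by omega, ?_, ?_⟩
  · -- lower bound
    have hsub : Finset.univ.filter (fun x => f x ∈ π.support) ⊆ σ.support := by
      intro x hx
      rw [Finset.mem_filter] at hx
      rw [Perm.mem_support] at hx ⊢
      intro h
      apply hx.2
      rw [← hπ, h]
    have hcard : (Finset.univ.filter (fun x => f x ∈ π.support)).card = M * a := by
      rw [Finset.card_eq_sum_card_fiberwise (f := f)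
        (s := Finset.univ.filter (fun x => f x ∈ π.support)) (t := π.support)
        (fun x hx => (Finset.mem_filter.mp hx).2)]
      have : ∀ i ∈ π.support,
          ((Finset.univ.filter (fun x => f x ∈ π.support)).filter (fun x => f x = i)).card = a := by
        intro i hi
        rw [← hfib i]
        congr 1
        ext x
        simp only [Finset.mem_filter, Finset.mem_univ, true_and]
        constructor
        · rintro ⟨_, h⟩; exact h
        · intro h; exact ⟨h ▸ hi, h⟩
      rw [Finset.sum_congr rfl this, Finset.sum_const, smul_eq_mul]
    have := Finset.card_le_card hsub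
    rw [hcard, hs] at this
    calc a * s * r = r * s * a := by ring
      _ ≤ σ.support.card := this
  · -- upper bound
    set Fix := Finset.univ.filter (fun x => σ x = x) with hFix
    have hFixc : Fix = σ.supportᶜ := by
      ext x
      simp [hFix, Perm.mem_support]
    have hcardFix : Fix.card + σ.support.card = a * b := by
      rw [hFixc, Finset.card_compl, Fintype.card_fin, ← hn]
      have := Finset.card_le_univ σ.support
      rw [Fintype.card_fin] at this
      omega
    have hblock : ∀ i ∈ π.supportᶜ, a % r ≤ (Fix.filter (fun x => f x = i)).card := by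
      intro i hi
      rw [Finset.mem_compl, Perm.mem_support, not_not] at hi
      have hinv : ∀ x, f (σ x) = i ↔ f x = i := by
        intro x
        rw [hπ]
        constructor
        · intro h
          apply π.injective
          rw [h, hi]
        · intro h
          rw [h, hi]
      set σi : Perm {x // f x = i} := σ.subtypePerm hinv with hσi
      have hσir : σi ^ r ^ 1 = 1 := by
        rw [pow_one, hσi, Perm.subtypePerm_pow]
        ext x
        simp [hσ]
      have h1 := Perm.card_compl_support_modEq (p := r) (n := 1) (σ := σi) hσir
      have h2 : Fintype.card {x // f x = i} = a := by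
        rw [Fintype.card_subtype]; exact hfib i
      have h3 : σi.supportᶜ = Fix.subtype (fun x => f x = i) := by
        ext x
        simp only [Finset.mem_compl, Perm.mem_support, not_not, Finset.mem_subtype, hFix,
          Finset.mem_filter, Finset.mem_univ, true_and, hσi, Perm.subtypePerm_apply]
        rw [Subtype.ext_iff]
      rw [h3, Finset.card_subtype, h2] at h1
      have h4 : (Fix.filter (fun x => f x = i)).card % r = a % r := h1
      rw [← h4]
      exact Nat.mod_le _ _
    have hsum : (b - M) * (a % r) ≤ Fix.card := by
      have h1 : (Fix.filter (fun x => f x ∈ π.supportᶜ)).card =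
          ∑ i ∈ π.supportᶜ, ((Fix.filter (fun x => f x ∈ π.supportᶜ)).filter
            (fun x => f x = i)).card :=
        Finset.card_eq_sum_card_fiberwise (f := f)
          (s := Fix.filter (fun x => f x ∈ π.supportᶜ)) (t := π.supportᶜ)
          (fun x hx => (Finset.mem_filter.mp hx).2)
      have h2 : ∀ i ∈ π.supportᶜ, ((Fix.filter (fun x => f x ∈ π.supportᶜ)).filter
            (fun x => f x = i)).card = (Fix.filter (fun x => f x = i)).card := by
        intro i hi
        congr 1
        ext x
        simp only [Finset.mem_filter]
        constructor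
        · rintro ⟨⟨h1, _⟩, h2⟩; exact ⟨h1, h2⟩
        · rintro ⟨h1, h2⟩; exact ⟨⟨h1, h2 ▸ hi⟩, h2⟩
      rw [Finset.sum_congr rfl h2] at h1
      have h3 : ∑ i ∈ π.supportᶜ, (a % r) ≤
          ∑ i ∈ π.supportᶜ, (Fix.filter (fun x => f x = i)).card :=
        Finset.sum_le_sum hblock
      rw [Finset.sum_const, smul_eq_mul, Finset.card_compl, Fintype.card_fin, ← hM] at h3
      calc (b - M) * (a % r) ≤ _ := h3
        _ = (Fix.filter (fun x => f x ∈ π.supportᶜ)).card := h1.symm
        _ ≤ Fix.card := Finset.card_filter_le _ _
    rw [← hs]
    omega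

end Cfsg.Agent.Lib.Helper98.Unif
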