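import Cfsg.Agent.Lib.Helper98.Unif2

set_option autoImplicit false
set_option linter.unusedSimpArgs false
set_option linter.unusedVariables false

/-!
# S3575 (helper98): a model permutation with a permuted uniform partition
-/

namespace Cfsg.Agent.Lib.Helper98.Unif

open Equiv

/-- lexicographic count -/
theorem card_lex (t A J : ℕ) (hJ : J ≤ t * A) :
    (Finset.univ.filter (fun p : Fin t × Fin A => (p.1 : ℕ) * A + (p.2 : ℕ) < J)).card = J := by
  classical
  have h1 : (Finset.univ.filter (fun p : Fin t × Fin A => (p.1 : ℕ) * A + (p.2 : ℕ) < J)).card =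
      (Finset.univ.filter (fun w : Fin (t * A) => (w : ℕ) < J)).card := by
    apply Finset.card_bij (fun p _ => finProdFinEquiv p)
    · intro p hp
      rw [Finset.mem_filter] at hp ⊢
      refine ⟨Finset.mem_univ _, ?_⟩
      rw [finProdFinEquiv_apply_val]
      have := hp.2
      rw [mul_comm] at this
      omega
    · intro p _ q _ h
      exact finProdFinEquiv.injective h
    · intro w hw
      refine ⟨finProdFinEquiv.symm w, ?_, Equiv.apply_symm_apply _ _⟩
      rw [Finset.mem_filter] at hw ⊢
      refine ⟨Finset.mem_univ _, ?_⟩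
      have h2 := finProdFinEquiv_apply_val (finProdFinEquiv.symm w)
      rw [Equiv.apply_symm_apply] at h2
      have := hw.2
      rw [mul_comm]
      omega
  rw [h1, ← Fintype.card_subtype]
  exact Fintype.card_fin_lt_of_le hJ

section model

variable (r A l s t J : ℕ) [Fact r.Prime]

/-- the underlying set of the model -/
abbrev MX : Type :=
  (Fin s × ZMod r × Fin (r * A + l)) ⊕ ((Fin t × Fin A × ZMod r) ⊕ (Fin t × Fin l))

/-- the index set of blocks of the model -/
abbrev MY : Type := (Fin s × ZMod r) ⊕ Fin t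

/-- the model permutation -/
def mτ : Perm (MX r A l s t) where
  toFun x := match x with
    | Sum.inl (s', z, u) => Sum.inl (s', z + 1, u)
    | Sum.inr (Sum.inl (i, g, z)) =>
        Sum.inr (Sum.inl (i, g, if (i : ℕ) * A + (g : ℕ) < J then z + 1 else z))
    | Sum.inr (Sum.inr y) => Sum.inr (Sum.inr y)
  invFun x := match x with
    | Sum.inl (s', z, u) => Sum.inl (s', z - 1, u)
    | Sum.inr (Sum.inl (i, g, z)) =>
        Sum.inr (Sum.inl (i, g, if (i : ℕ) * A + (g : ℕ) < J then z - 1 else z))
    | Sum.inr (Sum.inr y) => Sum.inr (Sum.inr y)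
  left_inv x := by
    rcases x with ⟨s', z, u⟩ | ⟨i, g, z⟩ | y
    · simp
    · simp only
      split_ifs <;> simp
    · rfl
  right_inv x := by
    rcases x with ⟨s', z, u⟩ | ⟨i, g, z⟩ | y
    · simp
    · simp only
      split_ifs <;> simp
    · rfl

/-- the block map of the model -/
def mF : MX r A l s t → MY r s t
  | Sum.inl (s', z, _) => Sum.inl (s', z)
  | Sum.inr (Sum.inl (i, _, _)) => Sum.inr i
  | Sum.inr (Sum.inr (i, _)) => Sum.inr i

/-- the block permutation of the model -/
def mπ : Perm (MY r s t) :=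
  Equiv.sumCongr (Equiv.prodCongr (Equiv.refl _) (Equiv.addRight 1)) (Equiv.refl _)

theorem mF_mτ (x : MX r A l s t) : mF r A l s t (mτ r A l s t J x) = mπ r s t (mF r A l s t x) := by
  rcases x with ⟨s', z, u⟩ | ⟨i, g, z⟩ | ⟨i, y⟩ <;> rfl

theorem mτ_pow (k : ℕ) (x : MX r A l s t) :
    (mτ r A l s t J ^ k) x = match x with
      | Sum.inl (s', z, u) => Sum.inl (s', z + k, u)
      | Sum.inr (Sum.inl (i, g, z)) =>
          Sum.inr (Sum.inl (i, g, if (i : ℕ) * A + (g : ℕ) < J then z + k else z))
      | Sum.inr (Sum.inr y) => Sum.inr (Sum.inr y) := by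
  induction k with
  | zero =>
    rcases x with ⟨s', z, u⟩ | ⟨i, g, z⟩ | y <;> simp
  | succ k ih =>
    rw [pow_succ', Perm.mul_apply, ih]
    rcases x with ⟨s', z, u⟩ | ⟨i, g, z⟩ | y
    · simp only [mτ, Equiv.coe_fn_mk]
      push_cast
      rw [add_assoc]
    · simp only [mτ, Equiv.coe_fn_mk]
      split_ifs
      · push_cast
        rw [add_assoc]
      · rfl
    · rfl

theorem mτ_pow_r : mτ r A l s t J ^ r = 1 := by
  ext x
  rw [mτ_pow]
  rcases x with ⟨s', z, u⟩ | ⟨i, g, z⟩ | y <;> simp

theorem mτ_support_card (hJ : J ≤ t * A) :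
    (mτ r A l s t J).support.card = r * ((r * A + l) * s + J) := by
  classical
  have h1 : (mτ r A l s t J).support = Finset.univ.filter (fun x => mτ r A l s t J x ≠ x) := by
    ext x; simp [Perm.mem_support]
  rw [h1, Finset.card_filter, Fintype.sum_sum_type, Fintype.sum_sum_type]
  have h10 : (1 : ZMod r) ≠ 0 := one_ne_zero
  have e1 : ∀ x : Fin s × ZMod r × Fin (r * A + l),
      (if mτ r A l s t J (Sum.inl x) ≠ Sum.inl x then 1 else 0) = 1 := by
    rintro ⟨s', z, u⟩
    rw [if_pos]
    simp [mτ, h10]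
  have e2 : ∀ x : Fin t × Fin A × ZMod r,
      (if mτ r A l s t J (Sum.inr (Sum.inl x)) ≠ Sum.inr (Sum.inl x) then 1 else 0) =
        if (x.1 : ℕ) * A + (x.2.1 : ℕ) < J then 1 else 0 := by
    rintro ⟨i, g, z⟩
    by_cases h : (i : ℕ) * A + (g : ℕ) < J
    · rw [if_pos h, if_pos]
      simp [mτ, h, h10]
    · rw [if_neg h, if_neg]
      simp [mτ, h]
  have e3 : ∀ x : Fin t × Fin l,
      (if mτ r A l s t J (Sum.inr (Sum.inr x)) ≠ Sum.inr (Sum.inr x) then 1 else 0) = 0 := by
    intro x
    rw [if_neg]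
    simp [mτ]
  rw [Finset.sum_congr rfl (fun x _ => e1 x), Finset.sum_congr rfl (fun x _ => e2 x),
    Finset.sum_congr rfl (fun x _ => e3 x)]
  have h2 : ∑ x : Fin t × Fin A × ZMod r, (if (x.1 : ℕ) * A + (x.2.1 : ℕ) < J then 1 else 0) =
      r * J := by
    rw [Fintype.sum_prod_type]
    simp only [Fintype.sum_prod_type]
    have h3 := card_lex t A J hJ
    rw [Finset.card_filter, Fintype.sum_prod_type] at h3
    dsimp only at h3
    have h4 : ∀ (x : Fin t) (g : Fin A),
        (∑ z : ZMod r, if (x : ℕ) * A + (g : ℕ) < J then 1 else 0) =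
          r * (if (x : ℕ) * A + (g : ℕ) < J then 1 else 0) := by
      intro x g
      rw [Finset.sum_const, Finset.card_univ, ZMod.card, smul_eq_mul]
    simp only [h4, ← Finset.mul_sum]
    rw [h3]
  rw [h2]
  simp only [Finset.sum_const, Finset.card_univ, Fintype.card_prod, Fintype.card_fin, ZMod.card,
    smul_eq_mul, mul_one, mul_zero, add_zero]
  ring

theorem mF_fiber (y : MY r s t) :
    Fintype.card {x : MX r A l s t // mF r A l s t x = y} = r * A + l := by
  classical
  rw [Fintype.card_subtype, Finset.card_filter, Fintype.sum_sum_type, Fintype.sum_sum_type]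
  rcases y with ⟨s0, z0⟩ | i0
  · have e1 : ∀ x : Fin s × ZMod r × Fin (r * A + l),
        (if mF r A l s t (Sum.inl x) = Sum.inl (s0, z0) then 1 else 0) =
          if x.1 = s0 ∧ x.2.1 = z0 then 1 else 0 := by
      rintro ⟨s', z, u⟩
      simp [mF]
    have e2 : ∀ x : Fin t × Fin A × ZMod r,
        (if mF r A l s t (Sum.inr (Sum.inl x)) = Sum.inl (s0, z0) then 1 else 0) = 0 := by
      rintro ⟨i, g, z⟩
      simp [mF]
    have e3 : ∀ x : Fin t × Fin l,
        (if mF r A l s t (Sum.inr (Sum.inr x)) = Sum.inl (s0, z0) then 1 else 0) = 0 := by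
      rintro ⟨i, y⟩
      simp [mF]
    rw [Finset.sum_congr rfl (fun x _ => e1 x), Finset.sum_congr rfl (fun x _ => e2 x),
      Finset.sum_congr rfl (fun x _ => e3 x)]
    simp only [Fintype.sum_prod_type, Finset.sum_const_zero, add_zero]
    have : ∀ (x : Fin s) (z : ZMod r), (∑ u : Fin (r * A + l), if x = s0 ∧ z = z0 then 1 else 0) =
        if x = s0 ∧ z = z0 then r * A + l else 0 := by
      intro x z
      split_ifs <;> simp
    simp only [this]
    have h4 : ∀ x : Fin s, (∑ z : ZMod r, if x = s0 ∧ z = z0 then r * A + l else 0) =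
        if x = s0 then r * A + l else 0 := by
      intro x
      by_cases hx : x = s0
      · simp [hx]
      · simp [hx]
    simp only [h4]
    simp
  · have e1 : ∀ x : Fin s × ZMod r × Fin (r * A + l),
        (if mF r A l s t (Sum.inl x) = Sum.inr i0 then 1 else 0) = 0 := by
      rintro ⟨s', z, u⟩
      simp [mF]
    have e2 : ∀ x : Fin t × Fin A × ZMod r,
        (if mF r A l s t (Sum.inr (Sum.inl x)) = Sum.inr i0 then 1 else 0) =
          if x.1 = i0 then 1 else 0 := by
      rintro ⟨i, g, z⟩
      simp [mF]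
    have e3 : ∀ x : Fin t × Fin l,
        (if mF r A l s t (Sum.inr (Sum.inr x)) = Sum.inr i0 then 1 else 0) =
          if x.1 = i0 then 1 else 0 := by
      rintro ⟨i, y⟩
      simp [mF]
    rw [Finset.sum_congr rfl (fun x _ => e1 x), Finset.sum_congr rfl (fun x _ => e2 x),
      Finset.sum_congr rfl (fun x _ => e3 x)]
    simp only [Fintype.sum_prod_type, Finset.sum_const_zero, zero_add]
    have h5 : ∀ x : Fin t, (∑ g : Fin A, ∑ z : ZMod r, if x = i0 then 1 else 0) =
        if x = i0 then A * r else 0 := by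
      intro x
      split_ifs <;> simp
    have h6 : ∀ x : Fin t, (∑ y : Fin l, if x = i0 then 1 else 0) =
        if x = i0 then l else 0 := by
      intro x
      split_ifs <;> simp
    simp only [h5, h6]
    simp
    ring

end model

end Cfsg.Agent.Lib.Helper98.Unif
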