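import Cfsg.Agent.Lib.Helper98.Unif3

set_option autoImplicit false
set_option linter.unusedSimpArgs false
set_option linter.unusedVariables false
set_option linter.style.haveILetI false

/-!
# S3575 (helper98): transport to `Fin n`, conjugacy of prime order permutations, the denominator
-/

namespace Cfsg.Agent.Lib.Helper98.Unif

open Equiv

theorem transport_model {X Y : Type} [Fintype X] [DecidableEq X] [Fintype Y] [DecidableEq Y]
    (n b a r : ℕ) (hX : Fintype.card X = n) (hY : Fintype.card Y = b)
    (τ : Perm X) (F : X → Y) (hF : ∀ y, Fintype.card {x // F x = y} = a)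
    (π : Perm Y) (hπ : ∀ x, F (τ x) = π (F x)) (hτ : τ ^ r = 1) :
    ∃ τ' : Perm (Fin n), τ' ^ r = 1 ∧ τ'.support.card = τ.support.card ∧
      ∃ f : Fin n → Fin b, (∀ i, Nat.card {x // f x = i} = a) ∧
        ∃ π' : Perm (Fin b), ∀ x, f (τ' x) = π' (f x) := by
  classical
  set e := Fintype.equivFinOfCardEq hX with he
  set e' := Fintype.equivFinOfCardEq hY with he'
  refine ⟨e.permCongr τ, ?_, ?_, fun x => e' (F (e.symm x)), ?_, e'.permCongr π, ?_⟩
  · have h1 : (e.permCongrHom τ) ^ r = 1 := by rw [← map_pow, hτ, map_one]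
    exact h1
  · have h1 : (e.permCongr τ).support = τ.support.map e.toEmbedding := by
      ext y
      rw [Finset.mem_map_equiv, Perm.mem_support, Perm.mem_support, Equiv.permCongr_apply]
      constructor
      · intro h h2
        apply h
        rw [h2, Equiv.apply_symm_apply]
      · intro h h2
        apply h
        have h3 := congrArg e.symm h2
        rwa [Equiv.symm_apply_apply] at h3
    rw [h1, Finset.card_map]
  · intro i
    rw [← hF (e'.symm i), ← Nat.card_eq_fintype_card]
    apply Nat.card_congr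
    refine Equiv.subtypeEquiv e.symm ?_
    intro x
    constructor
    · intro h
      have h' : e' (F (e.symm x)) = i := h
      rw [← h', Equiv.symm_apply_apply]
    · intro h
      show e' (F (e.symm x)) = i
      rw [h, Equiv.apply_symm_apply]
  · intro x
    simp [Equiv.permCongr_apply, hπ]

theorem isConj_of_prime_order {n r : ℕ} (hr : r.Prime) (σ τ : Perm (Fin n)) (hσ : orderOf σ = r)
    (hτ : τ ^ r = 1) (hc : σ.support.card = τ.support.card) : IsConj σ τ := by
  have hσ1 : σ ≠ 1 := by
    intro h
    rw [h, orderOf_one] at hσ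
    exact hr.ne_one hσ.symm
  have hτ1 : τ ≠ 1 := by
    intro h
    rw [h, Perm.support_one, Finset.card_empty, Finset.card_eq_zero, Perm.support_eq_empty_iff] at hc
    exact hσ1 hc
  haveI : Fact r.Prime := ⟨hr⟩
  have hτo : orderOf τ = r := orderOf_eq_prime hτ hτ1
  obtain ⟨k, hk⟩ := Perm.cycleType_prime_order (σ := σ) (by rw [hσ]; exact hr)
  obtain ⟨k', hk'⟩ := Perm.cycleType_prime_order (σ := τ) (by rw [hτo]; exact hr)
  have h1 := Perm.sum_cycleType σ
  have h2 := Perm.sum_cycleType τ
  rw [hk, Multiset.sum_replicate, smul_eq_mul, hσ] at h1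
  rw [hk', Multiset.sum_replicate, smul_eq_mul, hτo] at h2
  rw [Perm.isConj_iff_cycleType_eq, hk, hk', hσ, hτo]
  have h3 : (k + 1) * r = (k' + 1) * r := by rw [h1, h2, hc]
  have h4 := Nat.eq_of_mul_eq_mul_right hr.pos h3
  rw [h4]

/-- the denominator divides: the number of uniform partitions is an honest quotient -/
theorem denom_dvd (a b : ℕ) (ha : 1 ≤ a) : a.factorial ^ b * b.factorial ∣ (a * b).factorial := by
  induction b with
  | zero => simp
  | succ b ih =>
    obtain ⟨P, hP⟩ := ih
    obtain ⟨a', rfl⟩ : ∃ a', a = a' + 1 := ⟨a - 1, by omega⟩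
    have h1 : ((a' + 1) * (b + 1)).choose (a' + 1) * (a' + 1).factorial *
        ((a' + 1) * b).factorial = ((a' + 1) * (b + 1)).factorial := by
      have h := Nat.choose_mul_factorial_mul_factorial
        (n := (a' + 1) * (b + 1)) (k := a' + 1) (by nlinarith)
      have h2 : (a' + 1) * (b + 1) - (a' + 1) = (a' + 1) * b := by
        rw [Nat.mul_succ, Nat.add_sub_cancel]
      rw [h2] at h
      exact h
    have h3 : ((a' + 1) * (b + 1)).choose (a' + 1) =
        (b + 1) * ((a' + 1) * (b + 1) - 1).choose a' := by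
      have hpos : (a' + 1) * (b + 1) = ((a' + 1) * (b + 1) - 1) + 1 := by
        have : 1 ≤ (a' + 1) * (b + 1) := Nat.mul_pos (by omega) (by omega)
        omega
      have h := Nat.add_one_mul_choose_eq ((a' + 1) * (b + 1) - 1) a'
      rw [← hpos] at h
      have h5 : (a' + 1) * ((b + 1) * ((a' + 1) * (b + 1) - 1).choose a') =
          (a' + 1) * ((a' + 1) * (b + 1)).choose (a' + 1) := by
        calc (a' + 1) * ((b + 1) * ((a' + 1) * (b + 1) - 1).choose a')
            = (a' + 1) * (b + 1) * ((a' + 1) * (b + 1) - 1).choose a' := by ring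
          _ = ((a' + 1) * (b + 1)).choose (a' + 1) * (a' + 1) := h
          _ = (a' + 1) * ((a' + 1) * (b + 1)).choose (a' + 1) := by ring
      exact (Nat.eq_of_mul_eq_mul_left (by omega) h5).symm
    refine ⟨P * ((a' + 1) * (b + 1) - 1).choose a', ?_⟩
    rw [← h1, h3, hP, pow_succ, Nat.factorial_succ b]
    ring

theorem prime_le_of_dvd (a b r : ℕ) (ha : 1 ≤ a) (hr : r.Prime)
    (hrd : r ∣ (a * b).factorial / (a.factorial ^ b * b.factorial)) : r ≤ a * b := by
  obtain ⟨P, hP⟩ := denom_dvd a b ha
  have hpos : 0 < a.factorial ^ b * b.factorial :=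
    Nat.mul_pos (pow_pos (Nat.factorial_pos a) b) (Nat.factorial_pos b)
  rw [hP, Nat.mul_div_cancel_left P hpos] at hrd
  have : r ∣ (a * b).factorial := by
    rw [hP]
    exact Dvd.dvd.mul_left hrd _
  exact (Nat.Prime.dvd_factorial hr).mp this

end Cfsg.Agent.Lib.Helper98.Unif
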